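import Mathlib.RingTheory.AdicCompletion.Basic
import Mathlib.RingTheory.AdicCompletion.Noetherian

set_option autoImplicit false
open Function

namespace Groth.Agent.Lib.Helper44

section Precomplete

variable {R : Type*} [CommRing R] (I : Ideal R) {M N : Type*} [AddCommGroup M] [Module R M]
  [AddCommGroup N] [Module R N]

theorem map_pow_smul_top_of_surjective (π : M →ₗ[R] N) (hπ : Surjective π) (n : ℕ) :
    (I ^ n • ⊤ : Submodule R M).map π = (I ^ n • ⊤ : Submodule R N) := by
  rw [Submodule.map_smul'', Submodule.map_top, LinearMap.range_eq_top.mpr hπ]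

/-- A quotient of a precomplete module is precomplete. -/
theorem isPrecomplete_of_surjective [IsPrecomplete I M] (π : M →ₗ[R] N) (hπ : Surjective π) :
    IsPrecomplete I N := by
  refine ⟨fun f hf => ?_⟩
  -- successive differences lift
  have hstep : ∀ n, ∃ d : M, d ∈ (I ^ n • ⊤ : Submodule R M) ∧ π d = f (n + 1) - f n := by
    intro n
    have h1 : f (n + 1) - f n ∈ (I ^ n • ⊤ : Submodule R N) := by
      have := (hf (Nat.le_succ n)).symm
      rwa [SModEq.sub_mem] at this
    rw [← map_pow_smul_top_of_surjective I π hπ n] at h1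
    obtain ⟨d, hd, hd'⟩ := h1
    exact ⟨d, hd, hd'⟩
  choose d hd hdπ using hstep
  obtain ⟨g0, hg0⟩ := hπ (f 0)
  let g : ℕ → M := fun n => Nat.rec g0 (fun k gk => gk + d k) n
  have hgs : ∀ n, g (n + 1) = g n + d n := fun n => rfl
  have hgπ : ∀ n, π (g n) = f n := by
    intro n
    induction n with
    | zero => exact hg0
    | succ n ih => rw [hgs, map_add, ih, hdπ]; abel
  have hgc : ∀ {m n}, m ≤ n → g m ≡ g n [SMOD (I ^ m • ⊤ : Submodule R M)] := by
    intro m n hmn
    induction n, hmn using Nat.le_induction with
    | base => rfl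
    | succ n hmn ih =>
      refine ih.trans ?_
      rw [hgs, SModEq.sub_mem]
      have : g n - (g n + d n) = - d n := by abel
      rw [this]
      exact Submodule.neg_mem _ (Submodule.smul_mono_left (Ideal.pow_le_pow_right hmn) (hd n))
  obtain ⟨L, hL⟩ := IsPrecomplete.prec' (I := I) g hgc
  refine ⟨π L, fun n => ?_⟩
  have h1 := hL n
  rw [SModEq.sub_mem] at h1 ⊢
  rw [← hgπ n, ← map_sub, ← map_pow_smul_top_of_surjective I π hπ n]
  exact Submodule.mem_map_of_mem h1

end Precomplete

section Quotient

variable {R : Type*} [CommRing R] [IsNoetherianRing R] (I : Ideal R) [IsAdicComplete I R]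

/-- A finite module over a complete Noetherian ring is complete, provided it is a quotient of a
precomplete module (here: a quotient of the ring). -/
theorem isAdicComplete_quotient_module (J : Ideal R) : IsAdicComplete I (R ⧸ J) := by
  have : IsHausdorff I (R ⧸ J) :=
    IsHausdorff.of_le_jacobson I (R ⧸ J) (IsAdicComplete.le_jacobson_bot I)
  have : IsPrecomplete I (R ⧸ J) :=
    isPrecomplete_of_surjective I (Submodule.mkQ J) (Submodule.mkQ_surjective J)
  exact {}

/-- A quotient ring of a complete Noetherian ring is complete for the image ideal. -/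
theorem isAdicComplete_quotient_ring (J : Ideal R) :
    IsAdicComplete (I.map (algebraMap R (R ⧸ J))) (R ⧸ J) := by
  have := isAdicComplete_quotient_module I J
  have : IsHausdorff (I.map (algebraMap R (R ⧸ J))) (R ⧸ J) :=
    IsHausdorff.map_algebraMap_iff.mpr inferInstance
  have : IsPrecomplete (I.map (algebraMap R (R ⧸ J))) (R ⧸ J) :=
    IsPrecomplete.map_algebraMap_iff.mpr inferInstance
  exact {}

end Quotient

end Groth.Agent.Lib.Helper44
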