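import Groth.Agent.Lib.Helper44.AdicQuot
import Mathlib.RingTheory.Ideal.KrullsHeightTheorem
import Mathlib.RingTheory.Ideal.MinimalPrime.Noetherian
import Mathlib.RingTheory.KrullDimension.Field
import Mathlib.RingTheory.KrullDimension.Zero
import Mathlib.RingTheory.Henselian

set_option autoImplicit false
open Function

namespace Groth.Agent.Lib.Helper44

section ChangeIdeal

variable {R : Type*} [CommRing R] (J N : Ideal R)

/-- Completeness only depends on the topology: if `J ≤ N` and `N ^ r ≤ J` then `J`-adic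
completeness implies `N`-adic completeness. -/
theorem isAdicComplete_of_le_of_pow_le [IsAdicComplete J R] (hJN : J ≤ N) (r : ℕ)
    (hNJ : N ^ r ≤ J) : IsAdicComplete N R := by
  have hNJ' : N ^ (r + 1) ≤ J := le_trans (Ideal.pow_le_pow_right (Nat.le_succ r)) hNJ
  have h1 : ∀ n : ℕ, (N ^ ((r + 1) * n) • ⊤ : Submodule R R) ≤ J ^ n • ⊤ := fun n =>
    Submodule.smul_mono_left (by rw [pow_mul]; exact Ideal.pow_right_mono hNJ' n)
  have h2 : ∀ n : ℕ, (J ^ n • ⊤ : Submodule R R) ≤ N ^ n • ⊤ := fun n =>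
    Submodule.smul_mono_left (Ideal.pow_right_mono hJN n)
  have h3 : ∀ n : ℕ, n ≤ (r + 1) * n := fun n => Nat.le_mul_of_pos_left n (Nat.succ_pos r)
  have hH : IsHausdorff N R := by
    refine ⟨fun x hx => ?_⟩
    apply IsHausdorff.haus' (I := J) x
    intro n
    exact (hx ((r + 1) * n)).mono (h1 n)
  have hP : IsPrecomplete N R := by
    refine ⟨fun f hf => ?_⟩
    obtain ⟨L, hL⟩ := IsPrecomplete.prec' (I := J) (fun k => f ((r + 1) * k))
      (fun {k l} hkl => (hf (Nat.mul_le_mul_left (r + 1) hkl)).mono (h1 k))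
    refine ⟨L, fun n => ?_⟩
    exact (hf (h3 n)).trans ((hL n).mono (h2 n))
  exact {}

end ChangeIdeal

section GDomain

variable {B : Type*} [CommRing B] [IsDomain B] [IsNoetherianRing B]

omit [IsNoetherianRing B] in
theorem two_le_height_of_lt_of_lt {p₁ p₂ : Ideal B} [p₁.IsPrime] [p₂.IsPrime]
    (h0 : p₁ ≠ ⊥) (h12 : p₁ < p₂) : 2 ≤ p₂.height := by
  have hb : (⊥ : Ideal B) < p₁ := bot_lt_iff_ne_bot.mpr h0
  have e1 := Ideal.height_add_one_le_of_lt_of_isPrime hb
  have e2 := Ideal.height_add_one_le_of_lt_of_isPrime h12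
  have e3 : (1 : ℕ∞) ≤ p₁.height := le_trans (by simp) e1
  calc (2 : ℕ∞) = 1 + 1 := by norm_num
    _ ≤ p₁.height + 1 := by gcongr
    _ ≤ p₂.height := e2

/-- A Noetherian domain in which some nonzero element lies in every nonzero prime has Krull
dimension at most one. -/
theorem krullDimLE_one_of_forall_mem (x : B) (hx : x ≠ 0)
    (h : ∀ p : Ideal B, p.IsPrime → p ≠ ⊥ → x ∈ p) : Ring.KrullDimLE 1 B := by
  classical
  apply Ring.KrullDimLE.mk₁'
  intro p hp0 hp
  by_contra hpm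
  obtain ⟨m, hm, hpm'⟩ := Ideal.exists_le_maximal p hp.ne_top
  have hlt : p < m := lt_of_le_of_ne hpm' (fun e => hpm (e ▸ hm))
  have := hm.isPrime
  have hfin := Ideal.finite_minimalPrimes_of_isNoetherianRing B (Ideal.span {x})
  -- prime avoidance
  have hnot : ¬ ((m : Set B) ⊆ ⋃ q ∈ (hfin.toFinset : Set (Ideal B)), (q : Set B)) := by
    intro hsub
    rw [Ideal.subset_union_prime (f := fun q : Ideal B => q) ⊥ ⊥
      (fun q hq _ _ => (hfin.mem_toFinset.mp hq).1.1)] at hsub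
    obtain ⟨q, hq, hmq⟩ := hsub
    have hq' := hfin.mem_toFinset.mp hq
    have := hq'.1.1
    have h1 : q.height ≤ 1 :=
      Ideal.height_le_one_of_isPrincipal_of_mem_minimalPrimes (Ideal.span {x}) q hq'
    have h2 : 2 ≤ q.height := two_le_height_of_lt_of_lt hp0 (lt_of_lt_of_le hlt hmq)
    have : (2 : ℕ∞) ≤ 1 := le_trans h2 h1
    exact absurd this (by norm_num)
  rw [Set.not_subset] at hnot
  obtain ⟨y, hym, hy⟩ := hnot
  -- minimal prime over y inside m
  obtain ⟨p'', hp''min, hp''m⟩ := Ideal.exists_minimalPrimes_le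
    (show Ideal.span {y} ≤ m from (Ideal.span_singleton_le_iff_mem m).mpr hym)
  have := hp''min.1.1
  have hyp'' : y ∈ p'' := hp''min.1.2 (Ideal.mem_span_singleton_self y)
  have hp''0 : p'' ≠ ⊥ := by
    rintro rfl
    have hy0 : y = 0 := by simpa using hyp''
    -- then y = 0 lies in every minimal prime over x, which is nonempty
    obtain ⟨p₀, hp₀, -⟩ := Ideal.exists_minimalPrimes_le
      (show Ideal.span {x} ≤ p from (Ideal.span_singleton_le_iff_mem p).mpr (h p hp hp0))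
    apply hy
    simp only [Set.mem_iUnion]
    exact ⟨p₀, hfin.mem_toFinset.mpr hp₀, by rw [hy0]; exact p₀.zero_mem⟩
  have hxp'' : x ∈ p'' := h p'' inferInstance hp''0
  obtain ⟨p₀, hp₀, hp₀le⟩ := Ideal.exists_minimalPrimes_le
    (show Ideal.span {x} ≤ p'' from (Ideal.span_singleton_le_iff_mem p'').mpr hxp'')
  have := hp₀.1.1
  have hp₀0 : p₀ ≠ ⊥ := by
    rintro rfl
    have : x ∈ (⊥ : Ideal B) := hp₀.1.2 (Ideal.mem_span_singleton_self x)
    exact hx (by simpa using this)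
  have heq : p₀ = p'' := by
    by_contra hne
    have h1 : p''.height ≤ 1 :=
      Ideal.height_le_one_of_isPrincipal_of_mem_minimalPrimes (Ideal.span {y}) p'' hp''min
    have h2 : 2 ≤ p''.height := two_le_height_of_lt_of_lt hp₀0 (lt_of_le_of_ne hp₀le hne)
    have : (2 : ℕ∞) ≤ 1 := le_trans h2 h1
    exact absurd this (by norm_num)
  apply hy
  simp only [Set.mem_iUnion]
  exact ⟨p₀, hfin.mem_toFinset.mpr hp₀, by rw [heq]; exact hyp''⟩

end GDomain

section LocalOfComplete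

open Polynomial

variable {B : Type*} [CommRing B] [IsDomain B] [IsNoetherianRing B] [Ring.KrullDimLE 1 B]
  (J : Ideal B) [IsAdicComplete J B]

omit [IsDomain B] [IsNoetherianRing B] [Ring.KrullDimLE 1 B] in
theorem le_of_isMaximal_of_isAdicComplete (m : Ideal B) (hm : m.IsMaximal) : J ≤ m :=
  le_trans (IsAdicComplete.le_jacobson_bot J) (sInf_le ⟨bot_le, hm⟩)

/-- A one-dimensional Noetherian domain which is complete for a nonzero ideal has only one
maximal ideal (idempotents lift). -/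
theorem maximal_unique_of_isAdicComplete (hJ : J ≠ ⊥) (m₁ m₂ : Ideal B) (h₁ : m₁.IsMaximal)
    (h₂ : m₂.IsMaximal) : m₁ = m₂ := by
  classical
  by_contra hne
  have hJ₁ := le_of_isMaximal_of_isAdicComplete J m₁ h₁
  have hJ₂ := le_of_isMaximal_of_isAdicComplete J m₂ h₂
  have hfin := Ideal.finite_minimalPrimes_of_isNoetherianRing B J
  have hPmax : ∀ p ∈ J.minimalPrimes, p.IsMaximal := by
    intro p hp
    refine Ideal.IsPrime.isMaximal_of_ne_bot hp.1.1 ?_
    rintro rfl
    exact hJ (le_bot_iff.mp hp.1.2)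
  have hmem : ∀ m : Ideal B, m.IsMaximal → m ∈ J.minimalPrimes := by
    intro m hm
    refine ⟨⟨hm.isPrime, le_of_isMaximal_of_isAdicComplete J m hm⟩, fun q hq hqm => ?_⟩
    have hq0 : q ≠ ⊥ := by
      rintro rfl
      exact hJ (le_bot_iff.mp hq.2)
    have hqmax : q.IsMaximal := Ideal.IsPrime.isMaximal_of_ne_bot hq.1 hq0
    exact (hqmax.eq_of_le hm.ne_top hqm).ge
  set S : Finset (Ideal B) := hfin.toFinset.erase m₁ with hS
  set b : Ideal B := S.inf id with hb
  have hm₂S : m₂ ∈ S := Finset.mem_erase.mpr ⟨fun e => hne e.symm, hfin.mem_toFinset.mpr (hmem m₂ h₂)⟩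
  have hbm₂ : b ≤ m₂ := Finset.inf_le (f := id) hm₂S
  have hsup : m₁ ⊔ b = ⊤ := by
    by_contra hns
    obtain ⟨m, hm, hle⟩ := Ideal.exists_le_maximal _ hns
    have hm₁m : m₁ = m := h₁.eq_of_le hm.ne_top (le_trans le_sup_left hle)
    have hbm₁ : b ≤ m₁ := hm₁m ▸ le_trans le_sup_right hle
    obtain ⟨q, hqS, hqm₁⟩ := (Ideal.IsPrime.inf_le' h₁.isPrime).mp hbm₁
    have hq := Finset.mem_erase.mp hqS
    have hqmax := hPmax q (hfin.mem_toFinset.mp hq.2)
    exact hq.1 (hqmax.eq_of_le h₁.ne_top hqm₁)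
  have hrad : m₁ ⊓ b ≤ J.radical := by
    rw [← Ideal.sInf_minimalPrimes]
    refine le_sInf fun p hp => ?_
    by_cases hpm : p = m₁
    · rw [hpm]; exact inf_le_left
    · exact le_trans inf_le_right
        (Finset.inf_le (f := id) (Finset.mem_erase.mpr ⟨hpm, hfin.mem_toFinset.mpr hp⟩))
  obtain ⟨r, hr⟩ := Ideal.exists_radical_pow_le_of_fg J (IsNoetherian.noetherian J.radical)
  have hpow : m₁ ^ (r + 1) ⊔ b ^ (r + 1) = ⊤ := Ideal.pow_sup_pow_eq_top hsup
  have h1mem : (1 : B) ∈ m₁ ^ (r + 1) ⊔ b ^ (r + 1) := by rw [hpow]; trivial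
  obtain ⟨a₀, ha₀, c, hc, hac⟩ := Submodule.mem_sup.mp h1mem
  have hacJ : a₀ * c ∈ J := by
    apply hr
    apply Ideal.pow_le_pow_right (Nat.le_succ r)
    have h2 : a₀ * c ∈ (m₁ * b) ^ (r + 1) := by
      rw [mul_pow]; exact Ideal.mul_mem_mul ha₀ hc
    exact Ideal.pow_right_mono (le_trans Ideal.mul_le_inf hrad) (r + 1) h2
  have ha₀m₁ : a₀ ∈ m₁ := Ideal.pow_le_self (Nat.succ_ne_zero r) ha₀
  have hcb : c ∈ b := Ideal.pow_le_self (Nat.succ_ne_zero r) hc
  -- Hensel
  have hc' : c = 1 - a₀ := by rw [← hac]; ring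
  have hf_monic : (X * (X - C (1 : B))).Monic := monic_X.mul (monic_X_sub_C 1)
  have hf_eval : (X * (X - C (1 : B))).eval a₀ ∈ J := by
    have : (X * (X - C (1 : B))).eval a₀ = - (a₀ * c) := by
      rw [hc']; simp; ring
    rw [this]
    exact J.neg_mem hacJ
  have hf_der : IsUnit (Ideal.Quotient.mk J ((X * (X - C (1 : B))).derivative.eval a₀)) := by
    have hd : (X * (X - C (1 : B))).derivative.eval a₀ = 2 * a₀ - 1 := by
      simp; ring
    rw [hd]
    apply IsUnit.of_mul_eq_one (Ideal.Quotient.mk J (2 * a₀ - 1))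
    rw [← map_mul, ← map_one (Ideal.Quotient.mk J), Ideal.Quotient.eq]
    have : (2 * a₀ - 1) * (2 * a₀ - 1) - 1 = - (4 * (a₀ * c)) := by rw [hc']; ring
    rw [this]
    exact J.neg_mem (J.mul_mem_left _ hacJ)
  obtain ⟨e, he, heJ⟩ := HenselianRing.is_henselian (I := J) _ hf_monic a₀ hf_eval hf_der
  have he' : e * (e - 1) = 0 := by
    have := he
    simpa [Polynomial.IsRoot] using this
  rcases mul_eq_zero.mp he' with h0 | h1
  · -- e = 0
    have ha₀J : a₀ ∈ J := by
      have := J.neg_mem heJ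
      rwa [h0, zero_sub, neg_neg] at this
    have : (1 : B) ∈ m₂ := by
      rw [← hac]
      exact m₂.add_mem (hJ₂ ha₀J) (hbm₂ hcb)
    exact h₂.ne_top ((Ideal.eq_top_iff_one m₂).mpr this)
  · have he1 : e = 1 := sub_eq_zero.mp h1
    have : (1 : B) ∈ m₁ := by
      have h3 : 1 - a₀ ∈ m₁ := by
        rw [he1] at heJ
        exact hJ₁ heJ
      have : (1 : B) = (1 - a₀) + a₀ := by ring
      rw [this]
      exact m₁.add_mem h3 ha₀m₁
    exact h₁.ne_top ((Ideal.eq_top_iff_one m₁).mpr this)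

end LocalOfComplete

end Groth.Agent.Lib.Helper44
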