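import Groth.Prelude.Def_LambdaRing

set_option autoImplicit false
universe u
open Finset PowerSeries

namespace Groth.Agent.Lib.Helper44

open LambdaRing

variable {K : Type u} [CommRing K] [LambdaOps K]

theorem coeff_lamSeries (n : ℕ) (x : K) : coeff n (lamSeries x) = LambdaOps.lam n x := by
  simp [lamSeries]

theorem lamSeries_add (x y : K) : lamSeries (x + y) = lamSeries x * lamSeries y := by
  ext n
  rw [coeff_lamSeries, coeff_mul, LambdaOps.lam_add,
    Finset.Nat.sum_antidiagonal_eq_sum_range_succ (fun i j => coeff i (lamSeries x) * coeff j (lamSeries y))]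
  simp [coeff_lamSeries]

theorem constantCoeff_lamSeries (x : K) : constantCoeff (lamSeries x) = 1 := by
  rw [← coeff_zero_eq_constantCoeff_apply, coeff_lamSeries, LambdaOps.lam_zero]

theorem isUnit_lamSeries (x : K) : IsUnit (lamSeries x) := by
  rw [PowerSeries.isUnit_iff_constantCoeff, constantCoeff_lamSeries]
  exact isUnit_one

theorem lamSeries_zero : lamSeries (0 : K) = 1 := by
  have h := lamSeries_add (0 : K) 0
  rw [add_zero] at h
  have hu := isUnit_lamSeries (0 : K)
  have : lamSeries (0 : K) * 1 = lamSeries (0 : K) * lamSeries (0 : K) := by rw [mul_one]; exact h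
  exact (hu.mul_left_cancel this).symm

theorem lamSeries_one (h1 : ∀ k : ℕ, 2 ≤ k → LambdaOps.lam k (1 : K) = 0) :
    lamSeries (1 : K) = 1 + X := by
  ext n
  rw [coeff_lamSeries]
  rcases n with _ | _ | n
  · simp [LambdaOps.lam_zero]
  · simp [LambdaOps.lam_one]
  · rw [h1 _ (by omega)]
    simp [coeff_X, coeff_one]

theorem lamSeries_natCast (h1 : ∀ k : ℕ, 2 ≤ k → LambdaOps.lam k (1 : K) = 0) (n : ℕ) :
    lamSeries ((n : K)) = (1 + X) ^ n := by
  induction n with
  | zero => simp [lamSeries_zero]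
  | succ n ih => rw [Nat.cast_succ, lamSeries_add, ih, lamSeries_one h1, pow_succ]

/-- `λ_t(x+1) = λ_t(x) (1+t)` coefficientwise. -/
theorem lam_succ_add_one (h1 : ∀ k : ℕ, 2 ≤ k → LambdaOps.lam k (1 : K) = 0) (n : ℕ) (x : K) :
    LambdaOps.lam (n + 1) (x + 1) = LambdaOps.lam (n + 1) x + LambdaOps.lam n x := by
  rw [← coeff_lamSeries, lamSeries_add, lamSeries_one h1, mul_add, mul_one, map_add,
    coeff_succ_mul_X, coeff_lamSeries, coeff_lamSeries]

theorem lam_natCast (h1 : ∀ k : ℕ, 2 ≤ k → LambdaOps.lam k (1 : K) = 0) (n j : ℕ) :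
    LambdaOps.lam j (n : K) = (Nat.choose n j : K) := by
  rw [← coeff_lamSeries, lamSeries_natCast h1]
  have : ((1 + X : PowerSeries K)) ^ n = (((1 + Polynomial.X : Polynomial K) ^ n : Polynomial K) : PowerSeries K) := by
    simp
  rw [this, Polynomial.coeff_coe, Polynomial.coeff_one_add_X_pow]

/-- Telescoping: `Σ_{i ≤ m} (-1)^i λ^i(y+1) = (-1)^m λ^m(y)`. -/
theorem sum_alt_lam_add_one (h1 : ∀ k : ℕ, 2 ≤ k → LambdaOps.lam k (1 : K) = 0) (m : ℕ) (y : K) :
    ∑ i ∈ range (m + 1), (-1 : K) ^ i * LambdaOps.lam i (y + 1) = (-1 : K) ^ m * LambdaOps.lam m y := by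
  induction m with
  | zero => simp [LambdaOps.lam_zero]
  | succ m ih =>
    rw [Finset.sum_range_succ, ih, lam_succ_add_one h1]
    ring

/-- A "line element" (all `λ^j` vanish for `j ≥ 2`) has `λ_t(L) = 1 + L t`. -/
theorem lamSeries_of_line (L : K) (hL : ∀ j : ℕ, 2 ≤ j → LambdaOps.lam j L = 0) :
    lamSeries L = 1 + C L * X := by
  ext n
  rw [coeff_lamSeries]
  rcases n with _ | _ | n
  · simp [LambdaOps.lam_zero]
  · simp [LambdaOps.lam_one]
  · rw [hL _ (by omega)]
    simp [coeff_one]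

/-- Generic telescoping: `Σ_{i ≤ m} (-1)^i (a_i + a_{i-1}) = (-1)^m a_m` (with `a_{-1} = 0`). -/
theorem sum_alt_telescope {R : Type*} [CommRing R] (a : ℕ → R) (m : ℕ) :
    ∑ i ∈ range (m + 1), (-1 : R) ^ i * (a i + if i = 0 then 0 else a (i - 1)) = (-1 : R) ^ m * a m := by
  induction m with
  | zero => simp
  | succ m ih =>
    rw [Finset.sum_range_succ, ih]
    simp only [Nat.succ_ne_zero, if_false, Nat.add_sub_cancel]
    ring

end Groth.Agent.Lib.Helper44
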