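import Groth.Agent.Lib.Helper44.LambdaBasic
import Mathlib.RingTheory.PowerSeries.Substitution
import Mathlib.RingTheory.PowerSeries.WellKnown

set_option autoImplicit false
universe u
open Finset PowerSeries

namespace Groth.Agent.Lib.Helper44

open LambdaRing

variable {K : Type u} [CommRing K]

/-- `t/(1-t)` as a power series. -/
noncomputable def tOverOneSub (K : Type u) [CommRing K] : PowerSeries K :=
  PowerSeries.X * PowerSeries.mk 1

theorem constantCoeff_tOverOneSub : constantCoeff (tOverOneSub K) = 0 := by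
  simp [tOverOneSub]

theorem hasSubst_tOverOneSub : PowerSeries.HasSubst (tOverOneSub K) :=
  PowerSeries.HasSubst.of_constantCoeff_zero' constantCoeff_tOverOneSub

theorem coeff_tOverOneSub_pow_zero (k : ℕ) :
    PowerSeries.coeff k ((tOverOneSub K) ^ 0) = if k = 0 then 1 else 0 := by
  rw [pow_zero, PowerSeries.coeff_one]

theorem coeff_tOverOneSub_pow_succ (j k : ℕ) :
    PowerSeries.coeff k ((tOverOneSub K) ^ (j + 1)) =
      if j + 1 ≤ k then ((Nat.choose (k - 1) j : ℕ) : K) else 0 := by
  rw [tOverOneSub, mul_pow, PowerSeries.mk_one_pow_eq_mk_choose_add, PowerSeries.coeff_X_pow_mul']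
  split_ifs with h
  · rw [PowerSeries.coeff_mk]
    congr 2
    omega
  · rfl

/-- `(1 - X) * (1 + y * t/(1-t)) = 1 + (y - 1) X`. -/
theorem one_sub_X_mul (y : K) :
    (1 - PowerSeries.X) * (1 + PowerSeries.C y * tOverOneSub K)
      = 1 + PowerSeries.C (y - 1) * PowerSeries.X := by
  have h : (PowerSeries.mk 1 : PowerSeries K) * (1 - PowerSeries.X) = 1 :=
    PowerSeries.mk_one_mul_one_sub_eq_one K
  calc (1 - PowerSeries.X) * (1 + PowerSeries.C y * tOverOneSub K)
      = (1 - PowerSeries.X) + PowerSeries.C y * PowerSeries.X * (PowerSeries.mk 1 * (1 - PowerSeries.X)) := by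
        rw [tOverOneSub]; ring
    _ = 1 + PowerSeries.C (y - 1) * PowerSeries.X := by
        rw [h, map_sub, map_one]; ring

variable [LambdaOps K]

/-- The series `γ_t(z) = Σ γ^k(z) t^k`. -/
noncomputable def gammaSeries (z : K) : PowerSeries K := PowerSeries.mk fun k => gamma k z

theorem coeff_gammaSeries (k : ℕ) (z : K) : PowerSeries.coeff k (gammaSeries z) = gamma k z := by
  simp [gammaSeries]

theorem gammaSeries_eq_subst (z : K) :
    gammaSeries z = (lamSeries z).subst (tOverOneSub K) := by
  ext k
  rw [coeff_gammaSeries, PowerSeries.coeff_subst' hasSubst_tOverOneSub]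
  have hsupp : (Function.support fun d => PowerSeries.coeff d (lamSeries z) •
      PowerSeries.coeff k ((tOverOneSub K) ^ d)) ⊆ ((Finset.range (k + 1) : Finset ℕ) : Set ℕ) := by
    intro d hd
    simp only [Function.mem_support] at hd
    simp only [Finset.coe_range, Set.mem_Iio]
    by_contra hlt
    apply hd
    rcases d with _ | d
    · omega
    · rw [coeff_tOverOneSub_pow_succ, if_neg (by omega), smul_zero]
  rw [finsum_eq_sum_of_support_subset _ hsupp]
  rcases k with _ | k
  · simp [gamma, coeff_lamSeries, LambdaOps.lam_zero]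
  · rw [gamma, if_neg (Nat.succ_ne_zero k)]
    refine Finset.sum_congr rfl fun j hj => ?_
    rcases j with _ | j
    · simp
    · have hj' : j + 1 ≤ k + 1 := by
        have := Finset.mem_range.mp hj; omega
      rw [coeff_tOverOneSub_pow_succ, if_pos hj', coeff_lamSeries, smul_eq_mul]
      simp only [Nat.add_sub_cancel, Nat.succ_ne_zero, if_false]
      ring

theorem gammaSeries_add (a b : K) : gammaSeries (a + b) = gammaSeries a * gammaSeries b := by
  rw [gammaSeries_eq_subst, gammaSeries_eq_subst, gammaSeries_eq_subst, lamSeries_add,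
    PowerSeries.subst_mul hasSubst_tOverOneSub]

theorem gammaSeries_zero : gammaSeries (0 : K) = 1 := by
  rw [gammaSeries_eq_subst, lamSeries_zero]
  have : (1 : PowerSeries K) = PowerSeries.C (1 : K) := by simp
  rw [this, PowerSeries.subst_C]
  simp

omit [LambdaOps K] in
theorem subst_X_tOverOneSub : (PowerSeries.X : PowerSeries K).subst (tOverOneSub K) = tOverOneSub K :=
  PowerSeries.subst_X hasSubst_tOverOneSub

omit [LambdaOps K] in
theorem subst_one_add_C_mul_X (y : K) :
    (1 + PowerSeries.C y * PowerSeries.X : PowerSeries K).subst (tOverOneSub K)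
      = 1 + PowerSeries.C y * tOverOneSub K := by
  have h1 : (1 : PowerSeries K) = PowerSeries.C (1 : K) := by simp
  rw [PowerSeries.subst_add hasSubst_tOverOneSub, PowerSeries.subst_mul hasSubst_tOverOneSub,
    subst_X_tOverOneSub]
  conv_lhs => rw [h1]
  rw [PowerSeries.subst_C, PowerSeries.subst_C]
  simp only [map_one]
  rfl

theorem gammaSeries_of_line (y : K) (hy : ∀ j : ℕ, 2 ≤ j → LambdaOps.lam j y = 0) :
    gammaSeries y = 1 + PowerSeries.C y * tOverOneSub K := by
  rw [gammaSeries_eq_subst, lamSeries_of_line y hy, subst_one_add_C_mul_X]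

theorem gammaSeries_one (h1 : ∀ k : ℕ, 2 ≤ k → LambdaOps.lam k (1 : K) = 0) :
    gammaSeries (1 : K) = 1 + tOverOneSub K := by
  rw [gammaSeries_of_line 1 h1]
  simp

/-- For a line element `y` (and `λ_t(1) = 1 + t`): `γ_t(y - 1) = 1 + (y - 1) t`. -/
theorem gammaSeries_line_sub_one (h1 : ∀ k : ℕ, 2 ≤ k → LambdaOps.lam k (1 : K) = 0)
    (y : K) (hy : ∀ j : ℕ, 2 ≤ j → LambdaOps.lam j y = 0) :
    gammaSeries (y - 1) = 1 + PowerSeries.C (y - 1) * PowerSeries.X := by
  have hadd : gammaSeries (y - 1) * gammaSeries (1 : K) = gammaSeries y := by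
    rw [← gammaSeries_add, sub_add_cancel]
  rw [gammaSeries_one h1, gammaSeries_of_line y hy] at hadd
  have h1X : (1 - PowerSeries.X) * (1 + tOverOneSub K) = (1 : PowerSeries K) := by
    have := one_sub_X_mul (1 : K)
    simpa using this
  calc gammaSeries (y - 1) = gammaSeries (y - 1) * ((1 - PowerSeries.X) * (1 + tOverOneSub K)) := by
        rw [h1X, mul_one]
    _ = (1 - PowerSeries.X) * (gammaSeries (y - 1) * (1 + tOverOneSub K)) := by ring
    _ = 1 + PowerSeries.C (y - 1) * PowerSeries.X := by rw [hadd, one_sub_X_mul]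

theorem gammaSeries_sum {ι : Type*} (s : Finset ι) (f : ι → K) :
    gammaSeries (∑ i ∈ s, f i) = ∏ i ∈ s, gammaSeries (f i) := by
  classical
  induction s using Finset.induction_on with
  | empty => simp [gammaSeries_zero]
  | insert a s ha ih => rw [Finset.sum_insert ha, Finset.prod_insert ha, gammaSeries_add, ih]

end Groth.Agent.Lib.Helper44
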