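import Groth.Agent.Lib.Helper44.Adams
import Mathlib.RingTheory.PowerSeries.Basic

set_option autoImplicit false
open Finset PowerSeries

namespace Groth.Agent.Lib.Helper44

open LambdaRing

section LogD

variable {R : Type*} [CommRing R]

/-- Logarithmic derivative `A' / A` of a power series with constant coefficient `1`. -/
noncomputable def logD (A : PowerSeries R) : PowerSeries R :=
  PowerSeries.derivative R A * A.invOfUnit 1

/-- The `k`-th Newton (power-sum) coefficient of a series `A = Σ e_i t^i`. -/
noncomputable def newton (k : ℕ) (A : PowerSeries R) : R :=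
  match k with
  | 0 => 0
  | k + 1 => (-1) ^ k * PowerSeries.coeff k (logD A)

theorem newton_succ (k : ℕ) (A : PowerSeries R) :
    newton (k + 1) A = (-1) ^ k * PowerSeries.coeff k (logD A) := rfl

theorem mul_invOfUnit_one {A : PowerSeries R} (hA : constantCoeff A = 1) : A * A.invOfUnit 1 = 1 :=
  PowerSeries.mul_invOfUnit _ _ (by simp [hA])

theorem invOfUnit_one_mul {A : PowerSeries R} (hA : constantCoeff A = 1) : A.invOfUnit 1 * A = 1 := by
  rw [mul_comm]; exact mul_invOfUnit_one hA

theorem logD_mul_self {A : PowerSeries R} (hA : constantCoeff A = 1) :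
    logD A * A = PowerSeries.derivative R A := by
  rw [logD, mul_assoc, invOfUnit_one_mul hA, mul_one]

theorem eq_logD {A : PowerSeries R} (hA : constantCoeff A = 1) (L : PowerSeries R)
    (h : L * A = PowerSeries.derivative R A) : L = logD A := by
  rw [logD, ← h, mul_assoc, mul_invOfUnit_one hA, mul_one]

theorem logD_mul {A B : PowerSeries R} (hA : constantCoeff A = 1) (hB : constantCoeff B = 1) :
    logD (A * B) = logD A + logD B := by
  symm
  apply eq_logD (by rw [map_mul, hA, hB, mul_one])
  rw [Derivation.leibniz, add_mul, smul_eq_mul, smul_eq_mul, ← logD_mul_self hA, ← logD_mul_self hB]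
  ring

theorem logD_one : logD (1 : PowerSeries R) = 0 := by
  symm
  apply eq_logD (by simp)
  simp

theorem constantCoeff_prod_eq_one {ι : Type*} (s : Finset ι) (A : ι → PowerSeries R)
    (hA : ∀ i ∈ s, constantCoeff (A i) = 1) : constantCoeff (∏ i ∈ s, A i) = 1 := by
  rw [map_prod]
  exact Finset.prod_eq_one hA

theorem logD_prod {ι : Type*} (s : Finset ι) (A : ι → PowerSeries R)
    (hA : ∀ i ∈ s, constantCoeff (A i) = 1) : logD (∏ i ∈ s, A i) = ∑ i ∈ s, logD (A i) := by
  classical
  induction s using Finset.induction_on with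
  | empty => simp [logD_one]
  | insert a s ha ih =>
    rw [Finset.prod_insert ha, Finset.sum_insert ha,
      logD_mul (hA a (Finset.mem_insert_self a s))
        (constantCoeff_prod_eq_one s A fun i hi => hA i (Finset.mem_insert_of_mem hi)),
      ih fun i hi => hA i (Finset.mem_insert_of_mem hi)]

theorem map_logD {S : Type*} [CommRing S] (f : R →+* S) {A : PowerSeries R}
    (hA : constantCoeff A = 1) : PowerSeries.map f (logD A) = logD (PowerSeries.map f A) := by
  have hA' : constantCoeff (PowerSeries.map f A) = 1 := by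
    rw [← PowerSeries.coeff_zero_eq_constantCoeff_apply, PowerSeries.coeff_map,
      PowerSeries.coeff_zero_eq_constantCoeff_apply, hA, map_one]
  apply eq_logD hA'
  rw [← map_mul, logD_mul_self hA, derivative_map]

theorem map_newton {S : Type*} [CommRing S] (f : R →+* S) (k : ℕ) {A : PowerSeries R}
    (hA : constantCoeff A = 1) : f (newton k A) = newton k (PowerSeries.map f A) := by
  rcases k with _ | k
  · simp [newton]
  · rw [newton_succ, newton_succ, ← map_logD f hA, PowerSeries.coeff_map]
    simp

/-- `logD (1 + c t) = Σ_j (-1)^j c^(j+1) t^j`. -/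
theorem logD_one_add_C_mul_X (c : R) :
    logD (1 + PowerSeries.C c * PowerSeries.X) = PowerSeries.mk fun j => (-1 : R) ^ j * c ^ (j + 1) := by
  symm
  apply eq_logD (by simp)
  ext n
  simp only [map_add, PowerSeries.derivative_one, zero_add, Derivation.leibniz, PowerSeries.derivative_C,
    PowerSeries.derivative_X, smul_eq_mul, mul_one, mul_zero, add_zero]
  rcases n with _ | n
  · simp
  · rw [mul_add, mul_one, map_add, ← mul_assoc,
      PowerSeries.coeff_succ_mul_X, mul_comm _ (PowerSeries.C c), PowerSeries.coeff_C_mul,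
      PowerSeries.coeff_mk, PowerSeries.coeff_mk, PowerSeries.coeff_C, if_neg (Nat.succ_ne_zero n)]
    ring

theorem newton_one_add_C_mul_X (k : ℕ) (hk : 1 ≤ k) (c : R) :
    newton k (1 + PowerSeries.C c * PowerSeries.X) = c ^ k := by
  obtain ⟨k, rfl⟩ : ∃ m, k = m + 1 := ⟨k - 1, by omega⟩
  rw [newton_succ, logD_one_add_C_mul_X, PowerSeries.coeff_mk, ← mul_assoc, ← mul_pow]
  simp

/-- The Newton coefficients of `∏ (1 + c_i t)` are the power sums of the `c_i`. -/
theorem newton_prod_one_add_C_mul_X {ι : Type*} (s : Finset ι) (c : ι → R) (k : ℕ) (hk : 1 ≤ k) :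
    newton k (∏ i ∈ s, (1 + PowerSeries.C (c i) * PowerSeries.X)) = ∑ i ∈ s, c i ^ k := by
  obtain ⟨k, rfl⟩ : ∃ m, k = m + 1 := ⟨k - 1, by omega⟩
  rw [newton_succ, logD_prod s _ (fun i _ => by simp), map_sum, Finset.mul_sum]
  refine Finset.sum_congr rfl fun i _ => ?_
  rw [← newton_succ, newton_one_add_C_mul_X _ (by omega)]

/-- Truncation: the first `k` Newton coefficients depend only on the coefficients up to degree `k`. -/
theorem logD_congr_of_coeff_eq {A B : PowerSeries R} (hA : constantCoeff A = 1)
    (hB : constantCoeff B = 1) (k : ℕ)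
    (h : ∀ i ≤ k, PowerSeries.coeff i A = PowerSeries.coeff i B) :
    ∀ j < k, PowerSeries.coeff j (logD A) = PowerSeries.coeff j (logD B) := by
  have h1 : (PowerSeries.X : PowerSeries R) ^ (k + 1) ∣ A - B := by
    rw [PowerSeries.X_pow_dvd_iff]
    intro m hm
    rw [map_sub, h m (by omega), sub_self]
  obtain ⟨D, hD⟩ := h1
  have h2 : (PowerSeries.X : PowerSeries R) ^ k ∣ logD A - logD B := by
    have e1 : PowerSeries.derivative R A - PowerSeries.derivative R B
        = PowerSeries.X ^ k * (((k + 1 : ℕ) : PowerSeries R) * D + PowerSeries.X * PowerSeries.derivative R D) := by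
      rw [← map_sub, hD, Derivation.leibniz, PowerSeries.derivative_pow, PowerSeries.derivative_X,
        smul_eq_mul, smul_eq_mul, Nat.add_sub_cancel, pow_succ]
      ring
    have e2 : A.invOfUnit 1 - B.invOfUnit 1 = PowerSeries.X ^ k * (- PowerSeries.X * D * A.invOfUnit 1 * B.invOfUnit 1) := by
      have : A.invOfUnit 1 - B.invOfUnit 1 = (B - A) * (A.invOfUnit 1 * B.invOfUnit 1) := by
        have ha := mul_invOfUnit_one hA
        have hb := mul_invOfUnit_one hB
        calc A.invOfUnit 1 - B.invOfUnit 1
            = A.invOfUnit 1 * (B * B.invOfUnit 1) - B.invOfUnit 1 * (A * A.invOfUnit 1) := by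
              rw [ha, hb, mul_one, mul_one]
          _ = (B - A) * (A.invOfUnit 1 * B.invOfUnit 1) := by ring
      rw [this, ← neg_sub A B, hD, pow_succ]
      ring
    have : logD A - logD B = (PowerSeries.derivative R A - PowerSeries.derivative R B) * A.invOfUnit 1
        + PowerSeries.derivative R B * (A.invOfUnit 1 - B.invOfUnit 1) := by
      rw [logD, logD]; ring
    rw [this, e1, e2]
    exact ⟨(((k + 1 : ℕ) : PowerSeries R) * D + PowerSeries.X * PowerSeries.derivative R D) * A.invOfUnit 1
      + PowerSeries.derivative R B * (- PowerSeries.X * D * A.invOfUnit 1 * B.invOfUnit 1), by ring⟩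
  rw [PowerSeries.X_pow_dvd_iff] at h2
  intro j hj
  have := h2 j hj
  rwa [map_sub, sub_eq_zero] at this

theorem newton_congr_of_coeff_eq {A B : PowerSeries R} (hA : constantCoeff A = 1)
    (hB : constantCoeff B = 1) (k : ℕ)
    (h : ∀ i ≤ k, PowerSeries.coeff i A = PowerSeries.coeff i B) :
    ∀ j ≤ k, newton j A = newton j B := by
  intro j hj
  rcases j with _ | j
  · rfl
  · rw [newton_succ, newton_succ, logD_congr_of_coeff_eq hA hB k h j (by omega)]

theorem coeff_logD_eq (k : ℕ) (A : PowerSeries R) :
    PowerSeries.coeff k (logD A) = (-1) ^ k * newton (k + 1) A := by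
  rw [newton_succ, ← mul_assoc, ← mul_pow]
  simp

/-- Newton's recursion: `(i+1) a_{i+1} = Σ_{p+q=i} (-1)^p ν_{p+1} a_q`. -/
theorem coeff_succ_mul_eq_sum {A : PowerSeries R} (hA : constantCoeff A = 1) (i : ℕ) :
    PowerSeries.coeff (i + 1) A * ((i : R) + 1) =
      ∑ pq ∈ Finset.antidiagonal i, ((-1) ^ pq.1 * newton (pq.1 + 1) A) * PowerSeries.coeff pq.2 A := by
  rw [← PowerSeries.coeff_derivative, ← logD_mul_self hA, PowerSeries.coeff_mul]
  refine Finset.sum_congr rfl fun pq _ => ?_
  rw [coeff_logD_eq]

/-- Truncated uniqueness over a torsion-free ring: the first `n` Newton coefficients determine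
the first `n` coefficients. -/
theorem coeff_eq_of_newton_eq [IsAddTorsionFree R] {A B : PowerSeries R} (hA : constantCoeff A = 1)
    (hB : constantCoeff B = 1) (n : ℕ)
    (h : ∀ j, 1 ≤ j → j ≤ n → newton j A = newton j B) :
    ∀ i ≤ n, PowerSeries.coeff i A = PowerSeries.coeff i B := by
  intro i
  induction i using Nat.strong_induction_on with
  | _ i ih =>
    intro hi
    rcases i with _ | i
    · rw [PowerSeries.coeff_zero_eq_constantCoeff_apply, PowerSeries.coeff_zero_eq_constantCoeff_apply,
        hA, hB]
    · have e1 := coeff_succ_mul_eq_sum hA i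
      have e2 := coeff_succ_mul_eq_sum hB i
      have e3 : ∑ pq ∈ Finset.antidiagonal i, ((-1) ^ pq.1 * newton (pq.1 + 1) A) * PowerSeries.coeff pq.2 A
          = ∑ pq ∈ Finset.antidiagonal i, ((-1) ^ pq.1 * newton (pq.1 + 1) B) * PowerSeries.coeff pq.2 B := by
        refine Finset.sum_congr rfl fun pq hpq => ?_
        have hsum := Finset.mem_antidiagonal.mp hpq
        rw [h (pq.1 + 1) (by omega) (by omega), ih pq.2 (by omega) (by omega)]
      rw [e3, ← e2] at e1
      have h4 : ((i + 1 : ℕ)) • PowerSeries.coeff (i + 1) A = ((i + 1 : ℕ)) • PowerSeries.coeff (i + 1) B := by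
        rw [nsmul_eq_mul, nsmul_eq_mul, mul_comm, mul_comm _ (PowerSeries.coeff (i + 1) B)]
        push_cast
        exact e1
      exact (smul_right_inj (Nat.succ_ne_zero i)).mp h4

end LogD

section Link

variable {K : Type*} [CommRing K] [LambdaOps K]

theorem adamsOp_eq_newton (k : ℕ) (x : K) : adamsOp k x = newton k (lamSeries x) := by
  rcases k with _ | k
  · rfl
  · rfl

end Link

end Groth.Agent.Lib.Helper44
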