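import Groth.Agent.Lib.Helper44.BigCartan
import Mathlib

/-! The inductive step of Cartan's criterion, stated separately: the class of Cech-acyclic sheaves
is stable under cokernels of embeddings into injectives, and such cokernel maps are surjective on
sections over the basis. -/

set_option autoImplicit false
universe u
open CategoryTheory CategoryTheory.Limits Opposite

namespace Groth.Agent.Lib.Helper44.BigCech

open Groth.Agent.Lib.Lead

variable {C : Type (u + 1)} [Category.{u} C] (J : GrothendieckTopology C)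
  [∀ U : C, HasFiniteProducts (Over U)]
  [HasSheafify J AddCommGrpCat.{u + 1}]
  [HasExt.{u + 1} (Sheaf J AddCommGrpCat.{u + 1})]
  [EnoughInjectives (Sheaf J AddCommGrpCat.{u + 1})]

/-- the class of sheaves which are Cech acyclic for the coverings of `Cov` -/
def CechAcyclic (Cov : ∀ U : C, Over U → Prop) (G : Sheaf J AddCommGrpCat.{u + 1}) : Prop :=
  ∀ (U : C) (W : Over U), Cov U W → ∀ p : ℕ,
    IsZero ((gCx (single W) (sPU G.obj)).homology (p + 1))

omit [HasExt.{u + 1} (Sheaf J AddCommGrpCat.{u + 1})] in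
theorem cartan_class_step (B : Set C) (Cov : ∀ U : C, Over U → Prop)
    (h1 : ∀ (U : C) (W : Over U), Cov U W →
      Sieve.ofArrows (fun _ : PUnit.{u + 2} => W.left) (fun _ => W.hom) ∈ J U ∧
      ∀ p : ℕ, ∃ V' ∈ B, Nonempty ((∏ᶜ fun _ : Fin (p + 1) => W).left ≅ V'))
    (h2 : ∀ (G H : Sheaf J AddCommGrpCat.{u + 1}) (π : G ⟶ H), Epi π → ∀ U : C, U ∈ B →
      ∀ s : H.obj.obj (op U), ∃ W : Over U, Cov U W ∧
        ∃ t : G.obj.obj (op W.left), π.hom.app (op W.left) t = H.obj.map W.hom.op s)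
    (G : Sheaf J AddCommGrpCat.{u + 1}) (hG : CechAcyclic J Cov G) :
    ∃ S : ShortComplex (Sheaf J AddCommGrpCat.{u + 1}), S.ShortExact ∧ S.X₁ = G ∧
      Injective S.X₂ ∧ CechAcyclic J Cov S.X₃ ∧
      ∀ (V V' : C), V' ∈ B → (V ≅ V') → Function.Surjective (S.g.hom.app (op V)) := by
  let S : ShortComplex (Sheaf J AddCommGrpCat.{u + 1}) :=
    ShortComplex.mk (Injective.ι G) (cokernel.π (Injective.ι G)) (cokernel.condition _)
  have hS : S.ShortExact :=
    { exact := ShortComplex.exact_of_g_is_cokernel _ (cokernelIsCokernel S.f) }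
  have hI : Injective S.X₂ := inferInstanceAs (Injective (Injective.under G))
  have hsurj : ∀ W ∈ B, Function.Surjective (S.g.hom.app (op W)) := by
    intro V hV s
    have : Epi S.g := hS.epi_g
    obtain ⟨W, hcov, t, ht⟩ := h2 S.X₂ S.X₃ S.g inferInstance V hV s
    exact exists_lift_of_sCech_h1 (single W) S hS (h1 V W hcov).1 (hG V W hcov 0) s
      (fun _ => t) (fun _ => ht)
  have hsurj' : ∀ (V V' : C), V' ∈ B → (V ≅ V') → Function.Surjective (S.g.hom.app (op V)) := by
    intro V V' hV' e z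
    obtain ⟨y, hy⟩ := hsurj V' hV' (S.X₃.obj.map e.inv.op z)
    refine ⟨S.X₂.obj.map e.hom.op y, ?_⟩
    have hn := NatTrans.naturality_apply S.g.hom e.hom.op y
    refine hn.trans ?_
    rw [hy]
    change (S.X₃.obj.map e.inv.op ≫ S.X₃.obj.map e.hom.op) z = z
    rw [← S.X₃.obj.map_comp, ← op_comp, e.hom_inv_id, op_id, S.X₃.obj.map_id]
    rfl
  refine ⟨S, hS, rfl, hI, ?_, hsurj'⟩
  intro V W hcov n
  refine sCech_shift_up (single W) S hS n ?_ (hG V W hcov (n + 1))
    (isZero_sCechH_of_injective (single W) J S.X₂ n)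
  intro x
  obtain ⟨V', hV', ⟨e⟩⟩ := (h1 V W hcov).2 (n + 1)
  exact hsurj' _ V' hV' e

end Groth.Agent.Lib.Helper44.BigCech
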