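import Mathlib

set_option autoImplicit false
universe u v v₁ u₁
open CategoryTheory CategoryTheory.Limits Opposite

namespace Groth.Agent.Lib.Helper44

section Psh
variable {C : Type u₁} [Category.{v₁} C] {R₀ : Cᵒᵖ ⥤ RingCat.{u}}

/-- Evaluation of an exact sequence of presheaves of modules is exact. -/
theorem psh_exact_app (S : ShortComplex (PresheafOfModules.{v} R₀)) (hS : S.Exact) (X : Cᵒᵖ)
    (x : S.X₂.obj X) (hx : S.g.app X x = 0) : ∃ y, S.f.app X y = x := by
  have : (PresheafOfModules.evaluation.{v} R₀ X).Additive :=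
    PresheafOfModules.instAdditiveModuleCatCarrierObjOppositeRingCatEvaluation _ _
  have : Limits.PreservesFiniteLimits (PresheafOfModules.evaluation.{v} R₀ X) :=
    PresheafOfModules.evaluation_preservesFiniteLimits _ _
  have : Limits.PreservesFiniteColimits (PresheafOfModules.evaluation.{v} R₀ X) :=
    PresheafOfModules.Finite.evaluation_preservesFiniteColimits _ _
  have h := hS.map (PresheafOfModules.evaluation.{v} R₀ X)
  have h2 := h.moduleCat_range_eq_ker
  have hx' : x ∈ LinearMap.ker
      ((S.map (PresheafOfModules.evaluation.{v} R₀ X)).g).hom := hx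
  rw [← h2] at hx'
  exact hx'

theorem psh_exists_preimage_of_cokernel_π_eq_zero {F G : PresheafOfModules.{v} R₀} (τ : F ⟶ G)
    (X : Cᵒᵖ) (x : G.obj X) (hx : (cokernel.π τ).app X x = 0) :
    ∃ y, τ.app X y = x :=
  psh_exact_app (ShortComplex.mk τ (cokernel.π τ) (cokernel.condition τ))
    (ShortComplex.exact_of_g_is_cokernel _ (cokernelIsCokernel τ)) X x hx

end Psh

section Sh
variable {C : Type u₁} [Category.{v₁} C] {J : GrothendieckTopology C} {R : Sheaf J RingCat.{u}}
  [HasWeakSheafify J AddCommGrpCat.{v}] [J.WEqualsLocallyBijective AddCommGrpCat.{v}]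

theorem unit_toPresheaf (Q : PresheafOfModules.{v} R.obj) :
    (PresheafOfModules.toPresheaf R.obj).map
      ((PresheafOfModules.sheafificationAdjunction (𝟙 R.obj)).unit.app Q) =
      CategoryTheory.toSheafify J Q.presheaf := by
  have h := PresheafOfModules.toPresheaf_map_sheafificationHomEquiv_def (𝟙 R.obj)
    (P := Q) (𝟙 ((PresheafOfModules.sheafification (𝟙 R.obj)).obj Q))
  have h2 : (PresheafOfModules.sheafificationAdjunction (𝟙 R.obj)).unit.app Q =
      PresheafOfModules.sheafificationHomEquiv (𝟙 R.obj)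
        (𝟙 ((PresheafOfModules.sheafification (𝟙 R.obj)).obj Q)) := by
    rw [← Adjunction.homEquiv_id]
    rfl
  rw [h2, h]
  ext U x
  rfl

/-- an epimorphism of sheaves of modules is sectionwise locally surjective -/
theorem sheafOfModules_epi_locally_surjective {M N : SheafOfModules.{v} R} (φ : M ⟶ N) [Epi φ]
    (U : Cᵒᵖ) (x : N.val.obj U) :
    ∃ S : Sieve U.unop, S ∈ J U.unop ∧ ∀ ⦃V : C⦄ (f : V ⟶ U.unop), S f →
      ∃ y : M.val.obj (op V), φ.val.app (op V) y = N.val.map f.op x := by
  let adj := PresheafOfModules.sheafificationAdjunction.{v} (𝟙 R.obj)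
  let L := PresheafOfModules.sheafification.{v} (𝟙 R.obj)
  let G := SheafOfModules.forget.{v} R ⋙ PresheafOfModules.restrictScalars (𝟙 R.obj)
  let τ : G.obj M ⟶ G.obj N := G.map φ
  let π : G.obj N ⟶ cokernel τ := cokernel.π τ
  have hτπ : τ ≫ π = 0 := cokernel.condition τ
  let θ : N ⟶ L.obj (cokernel τ) := inv (adj.counit.app N) ≫ L.map π
  have h1 : φ ≫ θ = 0 := by
    have nat : L.map (G.map φ) ≫ adj.counit.app N = adj.counit.app M ≫ φ :=
      adj.counit.naturality φ
    have e : φ ≫ inv (adj.counit.app N) = inv (adj.counit.app M) ≫ L.map (G.map φ) := by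
      rw [IsIso.eq_inv_comp, ← Category.assoc, ← nat, Category.assoc, IsIso.hom_inv_id,
        Category.comp_id]
    change φ ≫ inv (adj.counit.app N) ≫ L.map π = 0
    rw [← Category.assoc, e, Category.assoc, ← L.map_comp]
    change inv (adj.counit.app M) ≫ L.map (τ ≫ π) = 0
    rw [hτπ, L.map_zero, comp_zero]
  have h2 : θ = 0 := by rw [← cancel_epi φ, h1, comp_zero]
  have h3 : L.map π = 0 := by
    have h : L.map π = adj.counit.app N ≫ θ := by
      change _ = adj.counit.app N ≫ inv (adj.counit.app N) ≫ L.map π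
      rw [IsIso.hom_inv_id_assoc]
    rw [h, h2, comp_zero]
  have h4 : π ≫ adj.unit.app (cokernel τ) = 0 := by
    have nat : π ≫ adj.unit.app (cokernel τ) = adj.unit.app (G.obj N) ≫ G.map (L.map π) :=
      (adj.unit.naturality π)
    rw [nat, h3, G.map_zero, comp_zero]
  have h5 : (CategoryTheory.toSheafify J (cokernel τ).presheaf).app U (π.app U x) =
      (CategoryTheory.toSheafify J (cokernel τ).presheaf).app U 0 := by
    rw [← unit_toPresheaf, map_zero]
    change (π ≫ adj.unit.app (cokernel τ)).app U x = 0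
    rw [h4]
    rfl
  have h6 := Presheaf.equalizerSieve_mem J (CategoryTheory.toSheafify J (cokernel τ).presheaf)
    (π.app U x) 0 h5
  refine ⟨_, h6, fun V f hf => ?_⟩
  have h7 : (cokernel τ).presheaf.map f.op (π.app U x) = (cokernel τ).presheaf.map f.op 0 := hf
  rw [map_zero] at h7
  have h8 : π.app (op V) ((G.obj N).map f.op (show (G.obj N).obj U from x)) = 0 :=
    (PresheafOfModules.naturality_apply π f.op (show (G.obj N).obj U from x)).trans h7
  exact psh_exists_preimage_of_cokernel_π_eq_zero τ (op V) _ h8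

end Sh

end Groth.Agent.Lib.Helper44
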