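import Groth.Agent.Lib.Helper44.BigAdeqVanish
import Mathlib

/-! The structure sheaf of the big fppf site, as a module over itself, is adequate; consequently
its higher cohomology over affine schemes vanishes. -/

set_option autoImplicit false
universe u
open CategoryTheory CategoryTheory.Limits Opposite TensorProduct AlgebraicGeometry

namespace Groth.Agent.Lib.Helper44

section
variable {S : Scheme.{u}} {R : CommRingCat.{u}} (a : Spec R ⟶ S)

/-- the `R`-module `R`, one universe up -/
noncomputable abbrev liftMod (R : CommRingCat.{u}) : ModuleCat.{u + 1} R :=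
  ModuleCat.of R (ULift.{u + 1} R)

/-- the functor of sections of the structure sheaf -/
noncomputable abbrev FO : Adeq.MVF R :=
  (Adeq.toMVF Scheme.fppfPrecoverage a).obj (BigSite.unitMod Scheme.fppfPrecoverage S)

/-- the value of the comparison map on sections -/
noncomputable def unitCmpFun (X : (Adeq.Alg R)ᵒᵖᵒᵖ)
    (x : ULift.{u + 1} Γ(Spec (CommRingCat.of X.unop.unop), ⊤)) :
    (X.unop.unop : Type u) ⊗[R] (ULift.{u + 1} R) :=
  ((Scheme.ΓSpecIso (CommRingCat.of X.unop.unop)).hom.hom x.down) ⊗ₜ[R] (ULift.up 1)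

theorem unitCmpFun_add (X : (Adeq.Alg R)ᵒᵖᵒᵖ)
    (x y : ULift.{u + 1} Γ(Spec (CommRingCat.of X.unop.unop), ⊤)) :
    unitCmpFun X (x + y) = unitCmpFun X x + unitCmpFun X y := by
  unfold unitCmpFun
  rw [ULift.add_down, map_add, TensorProduct.add_tmul]

/-- the comparison map, as a map of abelian groups -/
noncomputable def unitCmpHom (X : (Adeq.Alg R)ᵒᵖᵒᵖ) :
    (FO a).obj X →+ ((Adeq.underline R).obj (liftMod R)).obj X where
  toFun x := unitCmpFun X x
  map_zero' := by
    change unitCmpFun X 0 = 0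
    unfold unitCmpFun
    rw [ULift.zero_down, map_zero, TensorProduct.zero_tmul]
  map_add' x y := unitCmpFun_add X x y


/-- the comparison map, as a natural transformation -/
noncomputable def unitCmpNat :
    (FO a).presheaf ⟶ ((Adeq.underline R).obj (liftMod R)).presheaf where
  app X := AddCommGrpCat.ofHom (unitCmpHom a X)
  naturality X Y f := by
    ext x
    change unitCmpFun Y (ULift.up ((Spec.map (CommRingCat.ofHom
        f.unop.unop.hom.toRingHom)).appTop.hom (ULift.down x))) =
      (f.unop.unop.hom.toLinearMap.rTensor (ULift.{u + 1} R)) (unitCmpFun X x)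
    unfold unitCmpFun
    rw [LinearMap.rTensor_tmul]
    congr 1
    exact congrArg (fun φ => φ.hom x.down)
      (Scheme.ΓSpecIso_naturality (CommRingCat.ofHom f.unop.unop.hom.toRingHom))


theorem unitCmp_smul (X : (Adeq.Alg R)ᵒᵖᵒᵖ) (r : (Adeq.ringOf R).obj X) (m : (FO a).obj X) :
    unitCmpFun X (r • m) = r • unitCmpFun X m := by
  let m' : ULift.{u + 1} Γ(Spec (CommRingCat.of X.unop.unop), ⊤) := m
  have h : (r • m : (FO a).obj X) =
      (ULift.up ((Scheme.ΓSpecIso (CommRingCat.of X.unop.unop)).inv.hom r * ULift.down m') :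
        ULift.{u + 1} Γ(Spec (CommRingCat.of X.unop.unop), ⊤)) := rfl
  rw [h]
  change ((Scheme.ΓSpecIso (CommRingCat.of X.unop.unop)).hom.hom
      ((Scheme.ΓSpecIso (CommRingCat.of X.unop.unop)).inv.hom r * ULift.down m')) ⊗ₜ[R]
        (ULift.up 1 : ULift.{u + 1} R) =
    r • (((Scheme.ΓSpecIso (CommRingCat.of X.unop.unop)).hom.hom (ULift.down m')) ⊗ₜ[R]
      (ULift.up 1 : ULift.{u + 1} R))
  rw [map_mul]
  have h2 : (Scheme.ΓSpecIso (CommRingCat.of X.unop.unop)).hom.hom
      ((Scheme.ΓSpecIso (CommRingCat.of X.unop.unop)).inv.hom r) = r :=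
    congrArg (fun φ => φ.hom r) (Scheme.ΓSpecIso (CommRingCat.of X.unop.unop)).inv_hom_id
  rw [h2]
  exact (TensorProduct.smul_tmul' r _ _).symm

/-- the comparison morphism of module-valued functors -/
noncomputable def unitCmp : FO a ⟶ (Adeq.underline R).obj (liftMod R) :=
  PresheafOfModules.homMk (unitCmpNat a) (fun X r m => unitCmp_smul a X r m)


/-- `B ⊗ R ≃ B`, with the universe lift -/
noncomputable def tensorLiftEquiv (B : Type u) [CommRing B] [Algebra R B] :
    B ⊗[R] (ULift.{u + 1} R) ≃ₗ[R] B :=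
  (TensorProduct.congr (LinearEquiv.refl R B) ULift.moduleEquiv) ≪≫ₗ TensorProduct.rid R B

theorem tensorLiftEquiv_tmul_one (B : Type u) [CommRing B] [Algebra R B] (b : B) :
    tensorLiftEquiv (R := R) B (b ⊗ₜ[R] (ULift.up 1)) = b := by
  unfold tensorLiftEquiv
  simp

theorem unitCmpFun_injective (X : (Adeq.Alg R)ᵒᵖᵒᵖ) : Function.Injective (unitCmpFun (R := R) X) := by
  intro x y hxy
  have h1 := congrArg (tensorLiftEquiv (R := R) X.unop.unop) hxy
  unfold unitCmpFun at h1
  rw [tensorLiftEquiv_tmul_one, tensorLiftEquiv_tmul_one] at h1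
  have h2 : x.down = y.down := by
    have h3 := congrArg (Scheme.ΓSpecIso (CommRingCat.of X.unop.unop)).inv.hom h1
    have h4 : ∀ z : Γ(Spec (CommRingCat.of X.unop.unop), ⊤),
        (Scheme.ΓSpecIso (CommRingCat.of X.unop.unop)).inv.hom
          ((Scheme.ΓSpecIso (CommRingCat.of X.unop.unop)).hom.hom z) = z := fun z =>
      congrArg (fun φ => φ.hom z) (Scheme.ΓSpecIso (CommRingCat.of X.unop.unop)).hom_inv_id
    rw [h4, h4] at h3
    exact h3
  exact ULift.ext _ _ h2

theorem unitCmpFun_surjective (X : (Adeq.Alg R)ᵒᵖᵒᵖ) :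
    Function.Surjective (unitCmpFun (R := R) X) := by
  intro t
  refine ⟨ULift.up ((Scheme.ΓSpecIso (CommRingCat.of X.unop.unop)).inv.hom
    (tensorLiftEquiv (R := R) X.unop.unop t)), ?_⟩
  apply (tensorLiftEquiv (R := R) X.unop.unop).injective
  unfold unitCmpFun
  rw [tensorLiftEquiv_tmul_one]
  exact congrArg (fun φ => φ.hom (tensorLiftEquiv (R := R) X.unop.unop t))
    (Scheme.ΓSpecIso (CommRingCat.of X.unop.unop)).inv_hom_id

/-- the functor of sections of the structure sheaf is adequate -/
theorem adequate_FO : Adeq.adequate R (FO a) := by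
  refine adequate_of_exact (0 : liftMod R ⟶ liftMod R) (unitCmp a) ?_ ?_ ?_
  · rw [Functor.map_zero, comp_zero]
  · intro X
    exact unitCmpFun_injective X
  · intro X x _
    exact unitCmpFun_surjective X x

end

/-- the structure sheaf of the big fppf site is an adequate module -/
theorem adequateMod_unitMod (S : Scheme.{u}) :
    Adeq.adequateMod Scheme.fppfPrecoverage S (BigSite.unitMod Scheme.fppfPrecoverage S) := by
  refine ⟨S.affineOpenCover.I₀, S.affineOpenCover.X, S.affineOpenCover.f,
    Scheme.zariskiPrecoverage_le_fppfPrecoverage _ S.affineOpenCover.cover.mem₀, fun j => ?_⟩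
  exact adequate_FO (S.affineOpenCover.f j)

end Groth.Agent.Lib.Helper44
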