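import Groth.Agent.Lib.Helper44.BigEtFppf2
import Groth.Agent.Lib.Helper44.BigAdeqUnit
import Groth.Prelude.Def_EtGm

/-! The étale sheaf `G_a` is the restriction of the structure sheaf of the big fppf site; its
étale cohomology agrees with the fppf cohomology of the structure sheaf. -/

set_option autoImplicit false
universe u
open CategoryTheory CategoryTheory.Limits Opposite AlgebraicGeometry

namespace Groth.Agent.Lib.Helper44

/-- `G_a` on the small étale site is the restriction of the structure sheaf of the big fppf
site -/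
noncomputable def gaIsoResEt (S : Scheme.{u}) :
    EtCoh.Ga S ≅ (BigSite.resEt Scheme.fppfPrecoverage S).obj
      ((BigSite.toAbMod Scheme.fppfPrecoverage S).obj (BigSite.unitMod Scheme.fppfPrecoverage S)) :=
  (fullyFaithfulSheafToPresheaf _ _).preimageIso
    (NatIso.ofComponents (fun U => Iso.refl _) (by intros; rfl))

/-- étale cohomology of `G_a` is fppf cohomology of the structure sheaf -/
theorem et_Ga_fppf_compare (S : Scheme.{u}) (q : ℕ) :
    Nonempty (EtCoh.H S (EtCoh.Ga S) q ≃+
      BigSite.HMod Scheme.fppfPrecoverage S (BigSite.unitMod Scheme.fppfPrecoverage S) q) := by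
  obtain ⟨e⟩ := et_fppf_compare S (BigSite.unitMod Scheme.fppfPrecoverage S)
    (adequateMod_unitMod S) q
  exact ⟨(Groth.Agent.Lib.Helper33.BigSiteCoh.extCongrRightAdd _ (gaIsoResEt S) q).trans e⟩

/-- the higher étale cohomology of `G_a` on an affine scheme vanishes -/
theorem et_Ga_affine_vanish (S : Scheme.{u}) [IsAffine S] (p : ℕ) :
    Subsingleton (EtCoh.H S (EtCoh.Ga S) (p + 1)) := by
  obtain ⟨e⟩ := et_Ga_fppf_compare S (p + 1)
  have := H_affine_vanish S (BigSite.unitMod Scheme.fppfPrecoverage S) (adequateMod_unitMod S) p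
  exact e.toEquiv.subsingleton

end Groth.Agent.Lib.Helper44
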