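import Groth.Agent.Lib.Helper44.ASKernel
import Groth.Agent.Lib.Helper44.EtGaCoh
import Groth.Agent.S18415

/-! The Artin–Schreier sequence `0 → ℤ/p → G_a → G_a → 0` on the small étale site, and the
vanishing of `H^q(S, ℤ/p)`, `q ≥ 2`, for affine `S` of characteristic `p`. -/

set_option autoImplicit false
open CategoryTheory CategoryTheory.Limits AlgebraicGeometry Opposite Abelian
universe u

namespace Groth.Agent.Lib.Helper44.ASKernel

variable {S : Scheme.{u}} (p : ℕ) [hp : Fact p.Prime] (h0 : (p : Γ(S, ⊤)) = 0)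

/-- the Artin–Schreier short complex -/
noncomputable abbrev asSeq : ShortComplex (EtCoh.Ab S) :=
  ShortComplex.mk (Kι p h0) (AS p h0) (kernel.condition (AS p h0))

theorem asSeq_shortExact : (asSeq p h0).ShortExact := by
  have hepi : Epi (asSeq p h0).g := Groth.Agent.S18415.result p hp.out h0
  have hmono : Mono (asSeq p h0).f := inferInstanceAs (Mono (kernel.ι (AS p h0)))
  exact ShortComplex.ShortExact.mk' (ShortComplex.exact_of_f_is_kernel _
    (kernelIsKernel (AS p h0))) hmono hepi

/-- vanishing of the cohomology of the kernel when `G_a` is acyclic in two consecutive degrees -/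
theorem H_K_subsingleton (n : ℕ) (h1 : Subsingleton (EtCoh.H S (EtCoh.Ga S) (n + 1)))
    (h2 : Subsingleton (EtCoh.H S (EtCoh.Ga S) (n + 2))) :
    Subsingleton (EtCoh.H S (K p h0) (n + 2)) := by
  refine subsingleton_of_forall_eq 0 (fun x₁ => ?_)
  obtain ⟨x₃, hx₃⟩ := Ext.covariant_sequence_exact₁ _ (asSeq_shortExact p h0) x₁
    (h2.elim _ _) (rfl : n + 1 + 1 = n + 2)
  have hx0 : x₃ = 0 := h1.elim _ _
  rw [← hx₃, hx0, Ext.zero_comp]

include h0 in
/-- vanishing of `H^q(S, ℤ/p)` for `q ≥ 2` on affine schemes of characteristic `p` -/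
theorem H_const_zmod_affine_vanish [IsAffine S] (n : ℕ) :
    Subsingleton (EtCoh.H S (EtCoh.const S (ZMod p)) (n + 2)) := by
  obtain ⟨e⟩ := nonempty_K_iso_const p h0
  have h := H_K_subsingleton p h0 n (et_Ga_affine_vanish S n) (et_Ga_affine_vanish S (n + 1))
  exact (Groth.Agent.Lib.Helper33.BigSiteCoh.extCongrRightAdd _ e (n + 2)).symm.toEquiv.subsingleton

end Groth.Agent.Lib.Helper44.ASKernel
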