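import Mathlib

/-! `p`-linear algebra: for a `p`-linear endomorphism `φ` of a finite-dimensional vector space
`V` over a field `k` of characteristic `p`, the fixed vectors form a finite group of order at most
`p ^ dim V`, and if `k` is separably closed then `φ - 1` is surjective. -/

set_option autoImplicit false
open Polynomial

namespace Groth.Agent.Lib.Helper44.PLinear

variable {k : Type*} [Field k] (p : ℕ) [hp : Fact p.Prime] [CharP k p]
  {V : Type*} [AddCommGroup V] [Module k V]
  (φ : V →+ V) (hφ : ∀ (a : k) (v : V), φ (a • v) = a ^ p • φ v)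

section Poly

/-- the auxiliary polynomials -/
noncomputable def Xpoly (c : ℕ → k) : ℕ → k[X]
  | 0 => C (c 0) * X ^ p - 1
  | (i + 1) => (Xpoly c i) ^ p + C (c (i + 1)) * X ^ p

omit hp in
theorem derivative_Xpoly (c : ℕ → k) (i : ℕ) : derivative (Xpoly p c i) = 0 := by
  cases i with
  | zero =>
    simp [Xpoly, derivative_X_pow]
  | succ i =>
    simp [Xpoly, derivative_X_pow, derivative_pow]

end Poly

include hφ in
theorem map_iterate_smul (a : k) (v : V) (i : ℕ) : φ (a • φ^[i] v) = a ^ p • φ^[i + 1] v := by
  rw [hφ, Function.iterate_succ_apply']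

include hφ in
/-- solving `φ w - w = v` given a relation among the iterates of `v` -/
theorem exists_sub_eq_of_rel [IsSepClosed k] (v : V) (m : ℕ) (c : ℕ → k)
    (hrel : φ^[m + 1] v = ∑ i ∈ Finset.range (m + 1), c i • φ^[i] v) :
    ∃ w : V, φ w - w = v := by
  classical
  -- the polynomial equation
  let f : k[X] := Xpoly p c m - X
  have hder : derivative f = -1 := by
    simp [f, derivative_Xpoly]
  have hsep : f.Separable := by
    rw [separable_def, hder]
    exact isCoprime_one_right.neg_right
  have hdeg : f.degree ≠ 0 := by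
    intro h0
    have h1 := eq_C_of_degree_eq_zero h0
    rw [h1, derivative_C] at hder
    exact zero_ne_one (neg_eq_zero.mp hder.symm).symm
  obtain ⟨y, hy⟩ := IsSepClosed.exists_root f hdeg hsep
  have hy' : eval y (Xpoly p c m) = y := by
    have : eval y (Xpoly p c m) - y = 0 := by simpa [f, IsRoot.def] using hy
    exact sub_eq_zero.mp this
  let x : ℕ → k := fun i => eval y (Xpoly p c i)
  have hx0 : x 0 = c 0 * y ^ p - 1 := by simp [x, Xpoly]
  have hxs : ∀ i, x (i + 1) = (x i) ^ p + c (i + 1) * y ^ p := by
    intro i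
    simp [x, Xpoly]
  have hxm : x m = y := hy'
  refine ⟨∑ i ∈ Finset.range (m + 1), x i • φ^[i] v, ?_⟩
  have h1 : φ (∑ i ∈ Finset.range (m + 1), x i • φ^[i] v) =
      ∑ i ∈ Finset.range (m + 1), (x i) ^ p • φ^[i + 1] v := by
    rw [map_sum]
    exact Finset.sum_congr rfl (fun i _ => map_iterate_smul p φ hφ (x i) v i)
  have h2 : ∑ i ∈ Finset.range (m + 1), (x i) ^ p • φ^[i + 1] v =
      ∑ i ∈ Finset.range m, (x i) ^ p • φ^[i + 1] v +
        (∑ i ∈ Finset.range m, (y ^ p * c (i + 1)) • φ^[i + 1] v + (y ^ p * c 0) • v) := by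
    rw [Finset.sum_range_succ, hxm, hrel, Finset.smul_sum, Finset.sum_range_succ']
    simp only [smul_smul, Function.iterate_zero, id_eq]
  have h3 : ∑ i ∈ Finset.range (m + 1), x i • φ^[i] v =
      ∑ i ∈ Finset.range m, x (i + 1) • φ^[i + 1] v + x 0 • v := by
    rw [Finset.sum_range_succ']
    simp only [Function.iterate_zero, id_eq]
  have h4 : ∑ i ∈ Finset.range m, (x i) ^ p • φ^[i + 1] v +
      ∑ i ∈ Finset.range m, (y ^ p * c (i + 1)) • φ^[i + 1] v =
      ∑ i ∈ Finset.range m, x (i + 1) • φ^[i + 1] v := by
    rw [← Finset.sum_add_distrib]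
    refine Finset.sum_congr rfl (fun i _ => ?_)
    rw [← add_smul, hxs, mul_comm (y ^ p)]
  rw [h1, h2, h3, ← add_assoc, h4, add_sub_add_left_eq_sub, ← sub_smul, hx0]
  have : y ^ p * c 0 - (c 0 * y ^ p - 1) = 1 := by ring
  rw [this, one_smul]

include hφ in
/-- Lang's lemma: `φ - 1` is surjective over a separably closed field -/
theorem exists_sub_eq [IsSepClosed k] [FiniteDimensional k V] (v : V) :
    ∃ w : V, φ w - w = v := by
  classical
  -- the chain of spans of iterates stabilises
  let W : ℕ →o Submodule k V :=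
    ⟨fun j => Submodule.span k (Set.range (fun i : Fin j => φ^[i] v)), by
      intro a b hab
      apply Submodule.span_mono
      rintro _ ⟨i, rfl⟩
      exact ⟨Fin.castLE hab i, rfl⟩⟩
  obtain ⟨n, hn⟩ := monotone_stabilizes_iff_noetherian.mpr
    (inferInstance : IsNoetherian k V) W
  have hmem : φ^[n] v ∈ W n := by
    rw [hn (n + 1) (Nat.le_succ n)]
    exact Submodule.subset_span ⟨Fin.last n, rfl⟩
  obtain ⟨c, hc⟩ := (Submodule.mem_span_range_iff_exists_fun k).1 hmem
  cases n with
  | zero =>
    refine ⟨0, ?_⟩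
    have : v = 0 := by simpa using hc.symm
    rw [this, map_zero, sub_zero]
  | succ m =>
    let c' : ℕ → k := fun i => if h : i < m + 1 then c ⟨i, h⟩ else 0
    refine exists_sub_eq_of_rel p φ hφ v m c' ?_
    rw [← hc, ← Fin.sum_univ_eq_sum_range (fun i => c' i • φ^[i] v) (m + 1)]
    refine Finset.sum_congr rfl (fun i _ => ?_)
    simp only [c', Fin.is_lt, dite_true, Fin.eta]

section Count

omit hp in
/-- the solutions of `a ^ p = a` are at most `p` -/
theorem card_pow_eq_self_le (hp1 : 1 < p) :
    Finite {a : k // a ^ p = a} ∧ Nat.card {a : k // a ^ p = a} ≤ p := by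
  classical
  have hne : (X ^ p - X : k[X]) ≠ 0 := FiniteField.X_pow_card_sub_X_ne_zero k hp1
  have hsub : {a : k | a ^ p = a} ⊆ ((X ^ p - X : k[X]).roots.toFinset : Set k) := by
    intro a ha
    rw [Finset.mem_coe, Multiset.mem_toFinset, mem_roots hne]
    simp only [IsRoot.def, eval_sub, eval_pow, eval_X]
    exact sub_eq_zero.mpr ha
  have hfin : {a : k | a ^ p = a}.Finite := (Finset.finite_toSet _).subset hsub
  refine ⟨hfin.to_subtype, ?_⟩
  have h1 : Nat.card {a : k // a ^ p = a} = Set.ncard {a : k | a ^ p = a} := rfl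
  rw [h1]
  calc Set.ncard {a : k | a ^ p = a}
      ≤ Set.ncard ((X ^ p - X : k[X]).roots.toFinset : Set k) :=
        Set.ncard_le_ncard hsub (Finset.finite_toSet _)
    _ = (X ^ p - X : k[X]).roots.toFinset.card := Set.ncard_coe_finset _
    _ ≤ Multiset.card (X ^ p - X : k[X]).roots := Multiset.toFinset_card_le _
    _ ≤ (X ^ p - X : k[X]).natDegree := card_roots' _
    _ = p := FiniteField.X_pow_card_sub_X_natDegree_eq k hp1

include hφ in
/-- the fixed vectors of a `p`-linear endomorphism of a finite dimensional space form a finite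
set with at most `p ^ dim` elements -/
theorem card_fixed_le [FiniteDimensional k V] :
    Finite {w : V // φ w = w} ∧ Nat.card {w : V // φ w = w} ≤ p ^ Module.finrank k V := by
  classical
  have hp1 : 1 < p := hp.out.one_lt
  have hp0 : p ≠ 0 := hp.out.ne_zero
  obtain ⟨hSfin, hScard⟩ := card_pow_eq_self_le (k := k) p hp1
  let s : Set V := {w | φ w = w}
  obtain ⟨b, hbs, hspan, hli⟩ := exists_linearIndependent k s
  have hbfin : Finite b := by
    have := hli.finite
    exact this
  have hbcard : Nat.card b ≤ Module.finrank k V := by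
    have := Fintype.ofFinite b
    rw [Nat.card_eq_fintype_card]
    exact hli.fintype_card_le_finrank
  have hrange : Set.range (Subtype.val : b → V) = b := Subtype.range_coe
  have hmem : ∀ u : {w : V // φ w = w},
      (u : V) ∈ Submodule.span k (Set.range (Subtype.val : b → V)) := by
    intro u
    rw [hrange, hspan]
    exact Submodule.subset_span u.2
  -- coordinates
  let l : {w : V // φ w = w} → (b →₀ k) := fun u => hli.repr ⟨u, hmem u⟩
  have hl : ∀ u, Finsupp.linearCombination k (Subtype.val : b → V) (l u) = (u : V) := fun u =>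
    hli.linearCombination_repr ⟨u, hmem u⟩
  have hfix : ∀ (u : {w : V // φ w = w}) (i : b), (l u i) ^ p = l u i := by
    intro u i
    have h1 : Finsupp.linearCombination k (Subtype.val : b → V)
        ((l u).mapRange (fun a => a ^ p) (zero_pow hp0)) = (u : V) := by
      rw [Finsupp.linearCombination_apply,
        Finsupp.sum_mapRange_index (h := fun (i : b) (a : k) => a • (i : V))
          (fun a => zero_smul k _)]
      have h2 : φ (u : V) = (u : V) := u.2
      rw [← h2]
      conv_rhs => rw [← hl u, Finsupp.linearCombination_apply]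
      rw [map_finsuppSum]
      refine Finsupp.sum_congr (fun j _ => ?_)
      rw [hφ]
      have hj : φ (j : V) = (j : V) := hbs j.2
      rw [hj]
    have h3 : l u = (l u).mapRange (fun a => a ^ p) (zero_pow hp0) :=
      hli.repr_eq h1
    have h4 := DFunLike.congr_fun h3 i
    rw [Finsupp.mapRange_apply] at h4
    exact h4.symm
  let coord : {w : V // φ w = w} → (b → {a : k // a ^ p = a}) :=
    fun u i => ⟨l u i, hfix u i⟩
  have hinj : Function.Injective coord := by
    intro u u' h
    apply Subtype.ext
    rw [← hl u, ← hl u']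
    congr 1
    ext i
    exact congrArg Subtype.val (congrFun h i)
  have hfin : Finite {w : V // φ w = w} := Finite.of_injective coord hinj
  refine ⟨hfin, ?_⟩
  calc Nat.card {w : V // φ w = w} ≤ Nat.card (b → {a : k // a ^ p = a}) :=
        Nat.card_le_card_of_injective coord hinj
    _ = Nat.card {a : k // a ^ p = a} ^ Nat.card b := Nat.card_fun
    _ ≤ p ^ Nat.card b := Nat.pow_le_pow_left hScard _
    _ ≤ p ^ Module.finrank k V := Nat.pow_le_pow_right hp.out.pos hbcard

end Count

end Groth.Agent.Lib.Helper44.PLinear
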