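import Groth.Agent.Lib.Helper44.EtGaZarNat2
import Groth.Agent.Lib.Helper44.ASSeq
import Groth.Agent.Lib.Helper44.PLinearLang

/-! Artin–Schreier theory on a scheme over a separably closed field of characteristic `p` with
finite dimensional coherent cohomology: finiteness and bounds for `H^i(X_ét, ℤ/p)`. -/

set_option autoImplicit false
set_option linter.unusedSectionVars false
universe u
open CategoryTheory CategoryTheory.Limits Opposite AlgebraicGeometry TopologicalSpace Abelian

namespace Groth.Agent.Lib.Helper44.ASFin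

open Groth.Agent.Lib.Helper44.ASKernel Groth.Agent.Lib.Helper43.MuConst

variable {S : Scheme.{u}} (p : ℕ) [hp : Fact p.Prime] (h0 : (p : Γ(S, ⊤)) = 0)

/-- the Frobenius endomorphism of `G_a` -/
noncomputable def Frob : EtCoh.Ga S ⟶ EtCoh.Ga S := AS p h0 + 𝟙 _

theorem unGa_Frob {U : S.Etale} (s : (EtCoh.Ga S).obj.obj (op U)) :
    unGa ((Frob p h0).hom.app (op U) s) = unGa s ^ p - unGa s + unGa s := rfl

/-- Frobenius is `p`-linear -/
theorem gaSmul_Frob (a : Γ(S, ⊤)) :
    gaSmul S a ≫ Frob p h0 = Frob p h0 ≫ gaSmul S (a ^ p) := by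
  apply CategoryTheory.Sheaf.hom_ext
  apply NatTrans.ext
  funext U
  obtain ⟨U⟩ := U
  ext s
  apply unGa_injective
  change unGa ((Frob p h0).hom.app (op U) ((gaSmul S a).hom.app (op U) s)) =
    unGa ((gaSmul S (a ^ p)).hom.app (op U) ((Frob p h0).hom.app (op U) s))
  rw [unGa_Frob, unGa_gaSmul, unGa_gaSmul, unGa_Frob, map_pow]
  ring

section Main

theorem natCast_eq_zero (k : Type u) [Field k] (p : ℕ) [CharP k p]
    (X : Scheme.{u}) [X.Over (Spec (CommRingCat.of k))] : (p : Γ(X, ⊤)) = 0 := by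
  have h := map_natCast (Coh.toGlobal (X ↘ Spec (CommRingCat.of k))) p
  rw [CharP.cast_eq_zero k p, map_zero] at h
  exact h.symm

variable (k : Type u) [Field k] (p : ℕ) [hp : Fact p.Prime] [CharP k p]
  (X : Scheme.{u}) [X.Over (Spec (CommRingCat.of k))] [IsSepClosed k]

/-- the Artin–Schreier map is surjective on the cohomology of `G_a`, with small kernel -/
theorem key (j : ℕ) (hfin : Module.Finite k (Coh.HH X (Coh.structureModule X) j)) :
    Function.Surjective (Sheaf.H.map (AS p (natCast_eq_zero k p X)) j) ∧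
      (Finite (Sheaf.H.map (AS p (natCast_eq_zero k p X)) j).ker ∧
        Nat.card (Sheaf.H.map (AS p (natCast_eq_zero k p X)) j).ker ≤
          p ^ Module.finrank k (Coh.HH X (Coh.structureModule X) j)) := by
  have h0 := natCast_eq_zero k p X
  obtain ⟨e, he'⟩ := et_Ga_zar_compare_nat X j
  let tg := Coh.toGlobal (X ↘ Spec (CommRingCat.of k))
  have he : ∀ (a : k) (x : EtCoh.H X (EtCoh.Ga X) j),
      e (Sheaf.H.map (gaSmul X (tg a : Γ(X, ⊤))) j x) = a • e x := fun a x => he' (tg a) x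
  let ψ := Sheaf.H.map (AS p h0) j
  let Φ := Sheaf.H.map (Frob p h0) j
  have hΦ : ∀ x, Φ x = ψ x + x := by
    intro x
    change Sheaf.H.map (AS p h0 + 𝟙 _) j x = _
    rw [Sheaf.H.map_add_apply, Sheaf.H.map_id_apply]
  let φ : Coh.HH X (Coh.structureModule X) j →+ Coh.HH X (Coh.structureModule X) j :=
    e.toAddMonoidHom.comp (Φ.comp e.symm.toAddMonoidHom)
  have hφe : ∀ x, φ (e x) = e (Φ x) := by
    intro x
    change e (Φ (e.symm (e x))) = _
    rw [AddEquiv.symm_apply_apply]
  have hφ : ∀ (a : k) (v : Coh.HH X (Coh.structureModule X) j), φ (a • v) = a ^ p • φ v := by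
    intro a v
    obtain ⟨x, rfl⟩ := e.surjective v
    rw [← he, hφe, hφe, ← he]
    congr 1
    change Sheaf.H.map (Frob p h0) j (Sheaf.H.map (gaSmul X (tg a : Γ(X, ⊤))) j x) =
      Sheaf.H.map (gaSmul X (tg (a ^ p) : Γ(X, ⊤))) j (Sheaf.H.map (Frob p h0) j x)
    have hcomm : gaSmul X (tg a : Γ(X, ⊤)) ≫ Frob p h0 =
        Frob p h0 ≫ gaSmul X (tg (a ^ p) : Γ(X, ⊤)) := by
      have h := gaSmul_Frob p h0 (tg a : Γ(X, ⊤))
      have h2 : (tg (a ^ p) : Γ(X, ⊤)) = (tg a : Γ(X, ⊤)) ^ p := map_pow tg a p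
      rw [h2]
      exact h
    rw [← Sheaf.H.map_comp_apply, ← Sheaf.H.map_comp_apply, hcomm]
  constructor
  · intro x
    obtain ⟨w, hw⟩ := PLinear.exists_sub_eq p φ hφ (e x)
    refine ⟨e.symm w, ?_⟩
    apply e.injective
    have h1 : ψ (e.symm w) = Φ (e.symm w) - e.symm w := by rw [hΦ, add_sub_cancel_right]
    change e (ψ (e.symm w)) = e x
    rw [h1, map_sub, ← hφe, AddEquiv.apply_symm_apply, hw]
  · obtain ⟨hF, hC⟩ := PLinear.card_fixed_le p φ hφ
    let ι : ψ.ker → {w : Coh.HH X (Coh.structureModule X) j // φ w = w} := fun x =>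
      ⟨e x.1, by
        have hx : ψ x.1 = 0 := x.2
        rw [hφe, hΦ, hx, zero_add]⟩
    have hι : Function.Injective ι := by
      intro x y h
      apply Subtype.ext
      exact e.injective (congrArg Subtype.val h)
    have := hF
    exact ⟨Finite.of_injective ι hι, (Nat.card_le_card_of_injective ι hι).trans hC⟩

/-- finiteness and bound for the étale cohomology of `ℤ/p` -/
theorem main (hfin : ∀ j, Module.Finite k (Coh.HH X (Coh.structureModule X) j)) (i : ℕ) :
    Finite (EtCoh.H X (EtCoh.const X (ZMod p)) i) ∧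
      Nat.card (EtCoh.H X (EtCoh.const X (ZMod p)) i) ≤
        p ^ Module.finrank k (Coh.HH X (Coh.structureModule X) i) := by
  have h0 := natCast_eq_zero k p X
  have hS := asSeq_shortExact p h0
  obtain ⟨-, hF, hC⟩ := key k p X i (hfin i)
  -- injectivity of `H^i(K) → H^i(G_a)`
  have hinj : Function.Injective (Sheaf.H.map (Kι p h0) i) := by
    rw [injective_iff_map_eq_zero]
    intro x hx
    cases i with
    | zero =>
      obtain ⟨f, rfl⟩ := (Ext.mk₀_bijective _ _).2 x
      have h1 : Ext.mk₀ (f ≫ Kι p h0) = 0 := by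
        rw [← Ext.mk₀_comp_mk₀]
        exact hx
      have h2 : f ≫ Kι p h0 = 0 := by
        apply (Ext.mk₀_bijective _ _).1
        rw [h1, Ext.mk₀_zero]
      have h3 : f = 0 := by
        have : Mono (Kι p h0) := inferInstance
        exact zero_of_comp_mono _ h2
      rw [h3, Ext.mk₀_zero]
    | succ j =>
      obtain ⟨x₃, hx₃⟩ := Ext.covariant_sequence_exact₁ _ hS x hx (rfl : j + 1 = j + 1)
      obtain ⟨y, hy⟩ := (key k p X j (hfin j)).1 x₃
      have hy' : y.comp (Ext.mk₀ (asSeq p h0).g) (add_zero j) = x₃ := hy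
      rw [← hx₃, ← hy', Ext.comp_assoc_of_second_deg_zero, hS.comp_extClass, Ext.comp_zero]
  let ι : EtCoh.H X (K p h0) i → (Sheaf.H.map (AS p h0) i).ker := fun x =>
    ⟨Sheaf.H.map (Kι p h0) i x, by
      change Sheaf.H.map (AS p h0) i (Sheaf.H.map (Kι p h0) i x) = 0
      rw [← Sheaf.H.map_comp_apply]
      have : Kι p h0 ≫ AS p h0 = 0 := kernel.condition _
      rw [this]
      change x.comp (Ext.mk₀ 0) (add_zero i) = 0
      rw [Ext.mk₀_zero, Ext.comp_zero]⟩
  have hι : Function.Injective ι := by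
    intro x y h
    exact hinj (congrArg Subtype.val h)
  have := hF
  have hKfin : Finite (EtCoh.H X (K p h0) i) := Finite.of_injective ι hι
  have hKcard := (Nat.card_le_card_of_injective ι hι).trans hC
  obtain ⟨eK⟩ := nonempty_K_iso_const p h0
  let ε := Groth.Agent.Lib.Helper33.BigSiteCoh.extCongrRightAdd
    ((constantSheaf X.smallEtaleTopology AddCommGrpCat.{u + 1}).obj
      (AddCommGrpCat.of (ULift ℤ))) eK i
  refine ⟨Finite.of_equiv _ ε.toEquiv, ?_⟩
  rw [← Nat.card_congr ε.toEquiv]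
  exact hKcard

end Main

end Groth.Agent.Lib.Helper44.ASFin
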