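import Mathlib
import Groth.Prelude.Def_W4c5etcohweilstudentAS
import Groth.Agent.Lib.Helper43.MuSheaf
import Groth.Agent.Lib.Helper43.ASAlg

/-! The kernel of the Artin–Schreier endomorphism of `G_a` on the small étale site is the
constant sheaf `ℤ/p` (adapted from `Helper43.MuSheaf`). -/

set_option autoImplicit false
open CategoryTheory CategoryTheory.Limits AlgebraicGeometry Opposite
universe u

namespace Groth.Agent.Lib.Helper44.ASKernel

open Groth.Agent.Lib.Helper43 Groth.Agent.Lib.Helper43.MuConst W4c5etcohweilstudent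

variable {S : Scheme.{u}} (p : ℕ) [hp : Fact p.Prime] (h0 : (p : Γ(S, ⊤)) = 0)

/-- the Artin–Schreier endomorphism -/
noncomputable abbrev AS : EtCoh.Ga S ⟶ EtCoh.Ga S := artinSchreierEndo S p hp.out h0

/-- A section of `G_a` from a function. -/
def mkGa {U : S.Etale} (x : Γ(U.left, ⊤)) : (EtCoh.Ga S).obj.obj (op U) := ULift.up x

/-- The function underlying a section of `G_a`. -/
def unGa {U : S.Etale} (s : (EtCoh.Ga S).obj.obj (op U)) : Γ(U.left, ⊤) := ULift.down s

lemma unGa_injective {U : S.Etale} : Function.Injective (unGa (S := S) (U := U)) := by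
  intro a b h
  exact ULift.ext _ _ h

lemma unGa_Ga_map {U V : S.Etale} (g : V ⟶ U) (s : (EtCoh.Ga S).obj.obj (op U)) :
    unGa ((EtCoh.Ga S).obj.map g.op s) = resMap S g (unGa s) := rfl

lemma unGa_AS {U : S.Etale} (s : (EtCoh.Ga S).obj.obj (op U)) :
    unGa ((AS p h0).hom.app (op U) s) = unGa s ^ p - unGa s := rfl

omit hp in
include h0 in
/-- `p = 0` on every étale scheme over `S` -/
lemma h0U (U : S.Etale) : (p : Γ(U.left, ⊤)) = 0 := natCast_eq_zero_etale p h0 U

/-- the map `ℤ/p → Γ(U, O_U)` -/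
noncomputable def zU (U : S.Etale) : ZMod p →+* Γ(U.left, ⊤) := zmodHom p (h0U p h0 U)

lemma resMap_zU {U V : S.Etale} (g : V ⟶ U) (a : ZMod p) :
    resMap S g (zU p h0 U a) = zU p h0 V a := by
  have h : (resMap S g).comp (zU p h0 U) = zU p h0 V := Subsingleton.elim _ _
  exact congrArg (fun φ : ZMod p →+* Γ(V.left, ⊤) => φ a) h

lemma zU_pow (U : S.Etale) (a : ZMod p) : zU p h0 U a ^ p - zU p h0 U a = 0 := by
  rw [← map_pow, ZMod.pow_card, sub_self]

/-- The map of presheaves `ℤ/p → G_a`. -/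
noncomputable def phi0 : constPsh S p ⟶ (EtCoh.Ga S).obj where
  app U := AddCommGrpCat.ofHom
    ((AddEquiv.ulift.symm.toAddMonoidHom.comp (zU p h0 U.unop).toAddMonoidHom).comp
      AddEquiv.ulift.toAddMonoidHom)
  naturality U V g := by
    obtain ⟨U⟩ := U
    obtain ⟨V⟩ := V
    obtain ⟨g, rfl⟩ : ∃ g' : V ⟶ U, g = g'.op := ⟨g.unop, rfl⟩
    ext ⟨a⟩
    apply unGa_injective
    change zU p h0 V a = resMap S g (zU p h0 U a)
    rw [resMap_zU]

lemma unGa_phi0 (U : S.Etale) (a : ULift.{u + 1} (ZMod p)) :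
    unGa ((phi0 p h0).app (op U) a) = zU p h0 U a.down := rfl

lemma phi0_comp_AS : phi0 p h0 ≫ (AS p h0).hom = 0 := by
  ext U a
  obtain ⟨U⟩ := U
  rw [NatTrans.comp_app, ConcreteCategory.comp_apply]
  apply unGa_injective
  rw [unGa_AS, unGa_phi0, zU_pow]
  rfl

/-- the kernel of the Artin–Schreier endomorphism -/
noncomputable abbrev K : EtCoh.Ab S := kernel (AS p h0)

/-- its inclusion -/
noncomputable abbrev Kι : K p h0 ⟶ EtCoh.Ga S := kernel.ι (AS p h0)

/-- the presheaf of `K` is a kernel of presheaves. -/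
noncomputable def kIsLimit :
    IsLimit ((KernelFork.ofι (Kι p h0) (kernel.condition (AS p h0))).map
      (sheafToPresheaf S.smallEtaleTopology AddCommGrpCat.{u + 1})) :=
  KernelFork.mapIsLimit _ (kernelIsKernel (AS p h0)) _

/-- The map of presheaves `ℤ/p → K`. -/
noncomputable def phi' : constPsh S p ⟶ (K p h0).obj :=
  (kIsLimit p h0).lift (KernelFork.ofι (phi0 p h0) (phi0_comp_AS p h0))

lemma phi'_Kι : phi' p h0 ≫ (Kι p h0).hom = phi0 p h0 :=
  Fork.IsLimit.lift_ι (t := KernelFork.ofι (phi0 p h0) (phi0_comp_AS p h0)) (kIsLimit p h0)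

lemma phi'_Kι_app (U : S.Etale) (a : ULift.{u + 1} (ZMod p)) :
    (Kι p h0).hom.app (op U) ((phi' p h0).app (op U) a) = (phi0 p h0).app (op U) a := by
  rw [← phi'_Kι p h0]; rfl

lemma Kι_app_injective (U : S.Etale) : Function.Injective ((Kι p h0).hom.app (op U)) := by
  have h1 : Mono (Kι p h0) := inferInstance
  have h2 : Mono ((sheafToPresheaf S.smallEtaleTopology AddCommGrpCat.{u + 1}).map (Kι p h0)) :=
    inferInstance
  have h3 : Mono ((Kι p h0).hom.app (op U)) := by
    have := (NatTrans.mono_iff_mono_app _).1 h2 (op U)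
    exact this
  exact (AddCommGrpCat.mono_iff_injective _).1 h3

lemma Kι_app_pow (U : S.Etale) (s : (K p h0).obj.obj (op U)) :
    unGa ((Kι p h0).hom.app (op U) s) ^ p = unGa ((Kι p h0).hom.app (op U) s) := by
  have hk : (Kι p h0) ≫ AS p h0 = 0 := kernel.condition _
  have h1 : (Kι p h0).hom ≫ (AS p h0).hom = 0 := congrArg (fun f => f.hom) hk
  have h2 := congrArg (fun f => (f.app (op U)) s) h1
  simp only [NatTrans.comp_app, ConcreteCategory.comp_apply] at h2
  have h3 := congrArg unGa h2
  rw [unGa_AS] at h3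
  exact sub_eq_zero.mp h3

instance isLocallyInjective_phi' :
    Presheaf.IsLocallyInjective S.smallEtaleTopology (phi' p h0) where
  equalizerSieve_mem {X} x y hxy := by
    obtain ⟨U⟩ := X
    obtain ⟨a⟩ := x
    obtain ⟨b⟩ := y
    by_cases hab : a = b
    · subst hab
      rw [Presheaf.equalizerSieve_self_eq_top]
      exact S.smallEtaleTopology.top_mem _
    · apply mem_of_isEmpty
      have hne : a - b ≠ 0 := sub_ne_zero.mpr hab
      have h1 : (phi0 p h0).app (op U) (ULift.up a) = (phi0 p h0).app (op U) (ULift.up b) := by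
        rw [← phi'_Kι_app, ← phi'_Kι_app]
        exact congrArg _ hxy
      have h2 : zU p h0 U a = zU p h0 U b := congrArg unGa h1
      have h3 : zU p h0 U (a - b) = 0 := by rw [map_sub, h2, sub_self]
      have h4 : (1 : Γ(U.left, ⊤)) = 0 := by
        have h5 := congrArg (fun t => zU p h0 U (a - b)⁻¹ * t) h3
        simp only [mul_zero] at h5
        rw [← map_mul, inv_mul_cancel₀ hne, map_one] at h5
        exact h5
      have : Subsingleton Γ(U.left, ⊤) := subsingleton_of_zero_eq_one h4.symm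
      exact isEmpty_of_subsingleton_Γ _

instance isLocallySurjective_phi' :
    Presheaf.IsLocallySurjective S.smallEtaleTopology (phi' p h0) where
  imageSieve_mem {U} s := by
    rw [EtOpenSub.mem_smallEtaleTopology_iff']
    intro x
    set d : Γ(U.left, ⊤) := unGa ((Kι p h0).hom.app (op U) s) with hd_def
    have hd : d ^ p = d := Kι_app_pow p h0 U s
    obtain ⟨m, -, hm⟩ := exists_mem_basicOpen_of_sum_eq_one (Finset.univ : Finset (ZMod p))
      (fun m => lag (zU p h0 U) d m) (sum_lag (zU p h0 U) d) x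
    let e := lag (zU p h0 U) d m
    refine ⟨basicEt U e, basicEtHom U e, ⟨x, hm⟩, ?_, rfl⟩
    refine ⟨ULift.up m, ?_⟩
    apply Kι_app_injective p h0
    rw [phi'_Kι_app]
    have hnat := NatTrans.naturality_apply (Kι p h0).hom (basicEtHom U e).op s
    rw [hnat]
    apply unGa_injective
    rw [unGa_phi0, unGa_Ga_map]
    symm
    change resMap S (basicEtHom U e) d = _
    have h1 := congrArg (resMap S (basicEtHom U e)) (lag_mul_sub (zU p h0 U) d hd m)
    rw [map_mul, map_zero, map_sub, resMap_zU] at h1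
    have h2 : IsUnit (resMap S (basicEtHom U e) (lag (zU p h0 U) d m)) := isUnit_ι_appTop e
    exact sub_eq_zero.mp ((h2.mul_right_eq_zero).mp h1)

/-- The kernel of the Artin–Schreier endomorphism is the constant sheaf `ℤ/p`. -/
theorem nonempty_K_iso_const : Nonempty (K p h0 ≅ EtCoh.const S (ZMod p)) := by
  have hW : S.smallEtaleTopology.W (phi' p h0) := S.smallEtaleTopology.W_of_isLocallyBijective _
  have hiso : IsIso ((presheafToSheaf S.smallEtaleTopology AddCommGrpCat.{u + 1}).map
      (phi' p h0)) := (S.smallEtaleTopology.W_iff (phi' p h0)).1 hW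
  exact ⟨(sheafificationIso (K p h0)) ≪≫ (asIso ((presheafToSheaf S.smallEtaleTopology
    AddCommGrpCat.{u + 1}).map (phi' p h0))).symm⟩

end Groth.Agent.Lib.Helper44.ASKernel
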