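import Groth.Prelude.Def_LambdaSp
import Groth.Agent.Lib.Helper44.LambdaBasic
import Mathlib.Algebra.Module.Rat

set_option autoImplicit false
universe u
open Finset PowerSeries

namespace Groth.Agent.Lib.Helper44

open LambdaRing

variable {K : Type u} [CommRing K] [LambdaOps K]

theorem lamSeries_mul_invOfUnit (x : K) : lamSeries x * (lamSeries x).invOfUnit 1 = 1 :=
  PowerSeries.mul_invOfUnit _ _ (by simp [constantCoeff_lamSeries])

theorem invOfUnit_mul_lamSeries (x : K) : (lamSeries x).invOfUnit 1 * lamSeries x = 1 := by
  rw [mul_comm]; exact lamSeries_mul_invOfUnit x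

/-- The defining relation of the logarithmic derivative. -/
theorem logDerivSeries_mul (x : K) :
    logDerivSeries x * lamSeries x = PowerSeries.derivative K (lamSeries x) := by
  rw [logDerivSeries, mul_assoc, invOfUnit_mul_lamSeries, mul_one]

/-- Uniqueness of the logarithmic derivative. -/
theorem eq_logDerivSeries (x : K) (L : PowerSeries K)
    (h : L * lamSeries x = PowerSeries.derivative K (lamSeries x)) : L = logDerivSeries x := by
  rw [logDerivSeries, ← h, mul_assoc, lamSeries_mul_invOfUnit, mul_one]

theorem logDerivSeries_add (x y : K) :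
    logDerivSeries (x + y) = logDerivSeries x + logDerivSeries y := by
  symm
  apply eq_logDerivSeries
  rw [lamSeries_add, Derivation.leibniz, add_mul, smul_eq_mul, smul_eq_mul,
    ← logDerivSeries_mul x, ← logDerivSeries_mul y]
  ring

theorem adamsOp_succ (k : ℕ) (x : K) :
    adamsOp (k + 1) x = (-1) ^ k * PowerSeries.coeff k (logDerivSeries x) := rfl

theorem adamsOp_add (k : ℕ) (x y : K) : adamsOp k (x + y) = adamsOp k x + adamsOp k y := by
  rcases k with _ | k
  · simp [adamsOp]
  · rw [adamsOp_succ, adamsOp_succ, adamsOp_succ, logDerivSeries_add, map_add, mul_add]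

theorem logDerivSeries_one (h1 : ∀ k : ℕ, 2 ≤ k → LambdaOps.lam k (1 : K) = 0) :
    logDerivSeries (1 : K) = PowerSeries.mk fun k => (-1 : K) ^ k := by
  symm
  apply eq_logDerivSeries
  rw [lamSeries_one h1]
  ext n
  simp only [map_add, derivative_X, mul_add, mul_one, PowerSeries.derivative_one, zero_add]
  rcases n with _ | n
  · simp
  · rw [coeff_succ_mul_X, coeff_mk, coeff_mk, coeff_one, if_neg (Nat.succ_ne_zero n)]
    ring

/-- Uniqueness of solutions of `g' = L g` with `g(0) = 1` over a torsion-free ring. -/
theorem ode_unique {R : Type*} [CommRing R] [IsAddTorsionFree R] (L g h : PowerSeries R)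
    (hg : PowerSeries.derivative R g = L * g) (hh : PowerSeries.derivative R h = L * h)
    (hg0 : constantCoeff g = 1) (hh0 : constantCoeff h = 1) : g = h := by
  have hu : h * h.invOfUnit 1 = 1 := PowerSeries.mul_invOfUnit _ _ (by simp [hh0])
  have hu' : h.invOfUnit 1 * h = 1 := by rw [mul_comm]; exact hu
  have hinv : PowerSeries.derivative R (h.invOfUnit 1) = - (L * h.invOfUnit 1) := by
    have := congrArg (PowerSeries.derivative R) hu
    rw [Derivation.leibniz, PowerSeries.derivative_one, smul_eq_mul, smul_eq_mul, hh] at this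
    have h2 : h.invOfUnit 1 * (h * PowerSeries.derivative R (h.invOfUnit 1) + h.invOfUnit 1 * (L * h)) = 0 := by
      rw [this, mul_zero]
    have h3 : h.invOfUnit 1 * (h * PowerSeries.derivative R (h.invOfUnit 1) + h.invOfUnit 1 * (L * h))
        = (h.invOfUnit 1 * h) * PowerSeries.derivative R (h.invOfUnit 1) + (h.invOfUnit 1 * h) * (L * h.invOfUnit 1) := by
      ring
    rw [h3, hu', one_mul, one_mul] at h2
    exact eq_neg_of_add_eq_zero_left h2
  have key : g * h.invOfUnit 1 = 1 := by
    apply PowerSeries.derivative.ext
    · rw [Derivation.leibniz, PowerSeries.derivative_one, smul_eq_mul, smul_eq_mul, hg, hinv]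
      ring
    · have hc : constantCoeff (h.invOfUnit 1) = 1 := by
        have := congrArg constantCoeff hu
        simpa [hh0] using this
      simp [hg0, hc]
  calc g = g * (h.invOfUnit 1 * h) := by rw [hu', mul_one]
    _ = (g * h.invOfUnit 1) * h := by ring
    _ = h := by rw [key, one_mul]

theorem derivative_map {R S : Type*} [CommRing R] [CommRing S] (f : R →+* S) (g : PowerSeries R) :
    PowerSeries.derivative S (PowerSeries.map f g) = PowerSeries.map f (PowerSeries.derivative R g) := by
  ext n
  simp [PowerSeries.coeff_derivative, PowerSeries.coeff_map]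

theorem derivative_lamSeries (x : K) :
    PowerSeries.derivative K (lamSeries x) = logDerivSeries x * lamSeries x :=
  (logDerivSeries_mul x).symm

theorem map_lamSeries_of_isLambdaHom {K' : Type u} [CommRing K'] [LambdaOps K'] (f : K →+* K')
    (hf : IsLambdaHom f) (x : K) : PowerSeries.map f (lamSeries x) = lamSeries (f x) := by
  ext n
  rw [PowerSeries.coeff_map, coeff_lamSeries, coeff_lamSeries, hf]

theorem map_logDerivSeries_of_isLambdaHom {K' : Type u} [CommRing K'] [LambdaOps K'] (f : K →+* K')
    (hf : IsLambdaHom f) (x : K) :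
    PowerSeries.map f (logDerivSeries x) = logDerivSeries (f x) := by
  apply eq_logDerivSeries
  rw [← map_lamSeries_of_isLambdaHom f hf, ← map_mul, logDerivSeries_mul, derivative_map]

theorem map_adamsOp_of_isLambdaHom {K' : Type u} [CommRing K'] [LambdaOps K'] (f : K →+* K')
    (hf : IsLambdaHom f) (k : ℕ) (x : K) : f (adamsOp k x) = adamsOp k (f x) := by
  rcases k with _ | k
  · simp [adamsOp]
  · rw [adamsOp_succ, adamsOp_succ, ← map_logDerivSeries_of_isLambdaHom f hf, PowerSeries.coeff_map]
    simp

theorem coeff_logDerivSeries (k : ℕ) (x : K) :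
    PowerSeries.coeff k (logDerivSeries x) = (-1) ^ k * adamsOp (k + 1) x := by
  rw [adamsOp_succ, ← mul_assoc, ← mul_pow]
  simp

theorem isLambdaHom_of_map_adamsOp {K' : Type u} [CommRing K'] [LambdaOps K'] [IsAddTorsionFree K']
    (f : K →+* K')
    (hf : ∀ k : ℕ, 1 ≤ k → ∀ x : K, f (adamsOp k x) = adamsOp k (f x)) : IsLambdaHom f := by
  intro i x
  have hL : PowerSeries.map f (logDerivSeries x) = logDerivSeries (f x) := by
    ext k
    rw [PowerSeries.coeff_map, coeff_logDerivSeries, coeff_logDerivSeries, map_mul, hf _ (by omega)]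
    simp
  have : PowerSeries.map f (lamSeries x) = lamSeries (f x) := by
    apply ode_unique (logDerivSeries (f x))
    · rw [derivative_map, derivative_lamSeries, map_mul, hL]
    · exact derivative_lamSeries _
    · rw [← PowerSeries.coeff_zero_eq_constantCoeff_apply, PowerSeries.coeff_map, coeff_lamSeries,
        LambdaOps.lam_zero, map_one]
    · exact constantCoeff_lamSeries _
  have := congrArg (PowerSeries.coeff i) this
  rwa [PowerSeries.coeff_map, coeff_lamSeries, coeff_lamSeries] at this

end Groth.Agent.Lib.Helper44
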