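import Groth.Agent.Lib.Helper44.AdamsMul

set_option autoImplicit false
open Finset

namespace Groth.Agent.Lib.Helper44

open LambdaRing

section UniversalComp

open MvPolynomial

variable (M : ℕ)

/-- The universal series `1 + X_1 t + ⋯ + X_M t^M`. -/
noncomputable def univA : PowerSeries (MvPolynomial (Fin M) ℤ) :=
  PowerSeries.mk fun i => if i = 0 then 1 else if h : i - 1 < M then X ⟨i - 1, h⟩ else 0

variable (Q : (a b : ℕ) → MvPolynomial (Fin (a * b)) ℤ)

/-- The universal series `Σ_l Q_{i,l} t^l` of `λ_t(λ^i x)`, truncated to `i l ≤ M`. -/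
noncomputable def univC (i : ℕ) : PowerSeries (MvPolynomial (Fin M) ℤ) :=
  PowerSeries.mk fun l =>
    if l = 0 then 1 else if h : i * l ≤ M then rename (Fin.castLE h) (Q i l) else 0

/-- The universal series `Σ_i ψ^r(λ^i x) t^i`. -/
noncomputable def univG (r : ℕ) : PowerSeries (MvPolynomial (Fin M) ℤ) :=
  PowerSeries.mk fun i => if i = 0 then 1 else newton r (univC M Q i)

theorem constantCoeff_univA : PowerSeries.constantCoeff (univA M) = 1 := by
  rw [← PowerSeries.coeff_zero_eq_constantCoeff_apply, univA, PowerSeries.coeff_mk, if_pos rfl]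

theorem constantCoeff_univC (i : ℕ) : PowerSeries.constantCoeff (univC M Q i) = 1 := by
  rw [← PowerSeries.coeff_zero_eq_constantCoeff_apply, univC, PowerSeries.coeff_mk, if_pos rfl]

theorem constantCoeff_univG (r : ℕ) : PowerSeries.constantCoeff (univG M Q r) = 1 := by
  rw [← PowerSeries.coeff_zero_eq_constantCoeff_apply, univG, PowerSeries.coeff_mk, if_pos rfl]

theorem constantCoeff_map_eq_one {R S : Type*} [CommRing R] [CommRing S] (f : R →+* S)
    {A : PowerSeries R} (hA : PowerSeries.constantCoeff A = 1) :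
    PowerSeries.constantCoeff (PowerSeries.map f A) = 1 := by
  rw [← PowerSeries.coeff_zero_eq_constantCoeff_apply, PowerSeries.coeff_map,
    PowerSeries.coeff_zero_eq_constantCoeff_apply, hA, map_one]

theorem phiQ_rename_castLE {m M : ℕ} (h : m ≤ M) (N : ℕ) (q : MvPolynomial (Fin m) ℤ) :
    phiQ M N (rename (Fin.castLE h) q) = phiQ m N q := by
  rw [phiQ, aeval_rename, phiQ]
  rfl

theorem coeff_map_phiQ_univA (i : ℕ) :
    PowerSeries.coeff i (PowerSeries.map
      (phiQ M M : MvPolynomial (Fin M) ℤ →+* MvPolynomial (Fin M) ℤ) (univA M)) =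
      PowerSeries.coeff i (∏ a : Fin M,
        (1 + PowerSeries.C (X a : MvPolynomial (Fin M) ℤ) * PowerSeries.X)) := by
  rw [coeff_ps_prod_one_add_C_mul_X, PowerSeries.coeff_map, univA, PowerSeries.coeff_mk]
  rcases i with _ | i
  · simp
  · rw [if_neg (Nat.succ_ne_zero i)]
    by_cases h : i + 1 - 1 < M
    · rw [dif_pos h]
      simp [phiQ, esymm]
    · rw [dif_neg h, Finset.powersetCard_eq_empty.mpr, Finset.sum_empty, map_zero]
      simp only [Finset.card_univ, Fintype.card_fin]
      omega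

theorem coeff_map_phiQ_univC (hQ : ∀ a b, IsCompPoly a b (Q a b)) (i l : ℕ) (h : i * l ≤ M) :
    PowerSeries.coeff l (PowerSeries.map
      (phiQ M M : MvPolynomial (Fin M) ℤ →+* MvPolynomial (Fin M) ℤ) (univC M Q i)) =
      PowerSeries.coeff l (∏ S ∈ (univ : Finset (Fin M)).powersetCard i,
        (1 + PowerSeries.C (∏ a ∈ S, (X a : MvPolynomial (Fin M) ℤ)) * PowerSeries.X)) := by
  rw [coeff_ps_prod_one_add_C_mul_X, PowerSeries.coeff_map, univC, PowerSeries.coeff_mk]
  rcases l with _ | l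
  · simp
  · rw [if_neg (Nat.succ_ne_zero l), dif_pos h]
    change phiQ M M _ = _
    rw [phiQ_rename_castLE, phiQ_eq_compGen (hQ _ _), compGen_eq]

theorem coeff_map_phiQ_univG (hQ : ∀ a b, IsCompPoly a b (Q a b)) (r i : ℕ) (hr : 1 ≤ r)
    (h : i * r ≤ M) :
    PowerSeries.coeff i (PowerSeries.map
      (phiQ M M : MvPolynomial (Fin M) ℤ →+* MvPolynomial (Fin M) ℤ) (univG M Q r)) =
      PowerSeries.coeff i (∏ a : Fin M,
        (1 + PowerSeries.C ((X a : MvPolynomial (Fin M) ℤ) ^ r) * PowerSeries.X)) := by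
  rw [coeff_ps_prod_one_add_C_mul_X, PowerSeries.coeff_map, univG, PowerSeries.coeff_mk]
  rcases i with _ | i
  · simp
  · rw [if_neg (Nat.succ_ne_zero i), map_newton _ _ (constantCoeff_univC M Q (i + 1)),
      newton_congr_of_coeff_eq (constantCoeff_map_eq_one _ (constantCoeff_univC M Q (i + 1)))
        (constantCoeff_prod_eq_one _ _ fun S _ => by simp) r
        (fun l hl => coeff_map_phiQ_univC M Q hQ (i + 1) l
          (le_trans (Nat.mul_le_mul_left _ hl) h)) r (le_refl r),
      newton_prod_one_add_C_mul_X _ _ r hr]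
    refine Finset.sum_congr rfl fun S _ => ?_
    rw [Finset.prod_pow]

/-- The universal identity behind `ψ^r ∘ ψ^m = ψ^{rm}`. -/
theorem newton_univG (hQ : ∀ a b, IsCompPoly a b (Q a b)) (r m : ℕ) (hr : 1 ≤ r) (hm : 1 ≤ m)
    (h : r * m ≤ M) :
    newton m (univG M Q r) = newton (r * m) (univA M) := by
  apply phiQ_injective (le_refl M)
  change (phiQ M M : MvPolynomial (Fin M) ℤ →+* MvPolynomial (Fin M) ℤ) _ =
    (phiQ M M : MvPolynomial (Fin M) ℤ →+* MvPolynomial (Fin M) ℤ) _
  rw [map_newton _ _ (constantCoeff_univG M Q r), map_newton _ _ (constantCoeff_univA M),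
    newton_congr_of_coeff_eq (constantCoeff_map_eq_one _ (constantCoeff_univG M Q r))
      (constantCoeff_prod_eq_one _ _ fun a _ => by simp) m
      (fun i hi => coeff_map_phiQ_univG M Q hQ r i hr
        (by rw [mul_comm]; exact le_trans (Nat.mul_le_mul_left _ hi) h)) m (le_refl m),
    newton_congr_of_coeff_eq (constantCoeff_map_eq_one _ (constantCoeff_univA M))
      (constantCoeff_prod_eq_one _ _ fun a _ => by simp) (r * m)
      (fun i _ => coeff_map_phiQ_univA M i) (r * m) (le_refl _),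
    newton_prod_one_add_C_mul_X _ _ m hm,
    newton_prod_one_add_C_mul_X _ _ (r * m) (Nat.mul_pos hr hm)]
  refine Finset.sum_congr rfl fun a _ => ?_
  rw [pow_mul]

end UniversalComp

section TransferComp

open MvPolynomial

variable {K : Type*} [CommRing K] [LambdaOps K]

/-- The specialisation `X_i ↦ λ^i(x)`. -/
noncomputable def thetaA (M : ℕ) (x : K) : MvPolynomial (Fin M) ℤ →ₐ[ℤ] K :=
  aeval (fun i : Fin M => LambdaOps.lam ((i : ℕ) + 1) x)

theorem coeff_map_thetaA_univA (M : ℕ) (x : K) (i : ℕ) (hi : i ≤ M) :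
    PowerSeries.coeff i (PowerSeries.map (thetaA M x : MvPolynomial (Fin M) ℤ →+* K) (univA M)) =
      PowerSeries.coeff i (lamSeries x) := by
  rw [PowerSeries.coeff_map, univA, PowerSeries.coeff_mk, coeff_lamSeries]
  rcases i with _ | i
  · simp [LambdaOps.lam_zero]
  · have h : i + 1 - 1 < M := by omega
    rw [if_neg (Nat.succ_ne_zero i), dif_pos h]
    simp [thetaA]

theorem thetaA_rename_castLE {m M : ℕ} (h : m ≤ M) (x : K) (q : MvPolynomial (Fin m) ℤ) :
    thetaA M x (rename (Fin.castLE h) q) = thetaA m x q := by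
  rw [thetaA, aeval_rename, thetaA]
  rfl

theorem newton_map_thetaA_univA (M : ℕ) (x : K) (j : ℕ) (hj : j ≤ M) :
    (thetaA M x) (newton j (univA M)) = adamsOp j x := by
  change (thetaA M x : MvPolynomial (Fin M) ℤ →+* K) _ = _
  rw [map_newton _ _ (constantCoeff_univA M), adamsOp_eq_newton]
  exact newton_congr_of_coeff_eq (constantCoeff_map_eq_one _ (constantCoeff_univA M))
    (constantCoeff_lamSeries x) M (fun i hi => coeff_map_thetaA_univA M x i hi) j hj

/-- `ψ^k` as a ring homomorphism, from `ψ^k(1) = 1` and multiplicativity. -/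
noncomputable def adamsHomOf (k : ℕ) (h1 : adamsOp k (1 : K) = 1)
    (hmul : ∀ x y : K, adamsOp k (x * y) = adamsOp k x * adamsOp k y) : K →+* K where
  toFun := adamsOp k
  map_one' := h1
  map_mul' := hmul
  map_zero' := by simpa using adamsOp_add k (0 : K) 0
  map_add' := adamsOp_add k

theorem adamsHomOf_apply (k : ℕ) (h1 : adamsOp k (1 : K) = 1)
    (hmul : ∀ x y : K, adamsOp k (x * y) = adamsOp k x * adamsOp k y) (x : K) :
    adamsHomOf k h1 hmul x = adamsOp k x := rfl

end TransferComp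

end Groth.Agent.Lib.Helper44

namespace Groth.Agent.Lib.Helper44

open LambdaRing MvPolynomial

section SpecialComp

variable {K : Type*} [CommRing K] [LambdaOps K]

theorem coeff_map_thetaA_univC (hK : IsSpecial K) (Q : (a b : ℕ) → MvPolynomial (Fin (a * b)) ℤ)
    (hQ : ∀ a b, IsCompPoly a b (Q a b)) (M : ℕ) (x : K) (i l : ℕ) (h : i * l ≤ M) :
    PowerSeries.coeff l (PowerSeries.map (thetaA M x : MvPolynomial (Fin M) ℤ →+* K) (univC M Q i)) =
      PowerSeries.coeff l (lamSeries (LambdaOps.lam i x)) := by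
  rw [PowerSeries.coeff_map, univC, PowerSeries.coeff_mk, coeff_lamSeries]
  rcases l with _ | l
  · simp [LambdaOps.lam_zero]
  · rw [if_neg (Nat.succ_ne_zero l), dif_pos h]
    change thetaA M x _ = _
    rw [thetaA_rename_castLE, hK.lam_lam i (l + 1) (Q i (l + 1)) (hQ _ _) x]
    rfl

theorem thetaA_newton_univC (hK : IsSpecial K) (Q : (a b : ℕ) → MvPolynomial (Fin (a * b)) ℤ)
    (hQ : ∀ a b, IsCompPoly a b (Q a b)) (M : ℕ) (x : K) (i r : ℕ) (h : i * r ≤ M) :
    thetaA M x (newton r (univC M Q i)) = adamsOp r (LambdaOps.lam i x) := by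
  change (thetaA M x : MvPolynomial (Fin M) ℤ →+* K) _ = _
  rw [map_newton _ _ (constantCoeff_univC M Q i), adamsOp_eq_newton]
  exact newton_congr_of_coeff_eq (constantCoeff_map_eq_one _ (constantCoeff_univC M Q i))
    (constantCoeff_lamSeries _) r
    (fun l hl => coeff_map_thetaA_univC hK Q hQ M x i l (le_trans (Nat.mul_le_mul_left _ hl) h))
    r (le_refl r)

/-- In a special λ-ring, `ψ^k ∘ ψ^{k'} = ψ^{k k'}`. -/
theorem adamsOp_adamsOp_of_isSpecial (hK : IsSpecial K)
    (hP : ∀ n : ℕ, ∃ P : MvPolynomial (Fin n ⊕ Fin n) ℤ, IsMulPoly n P)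
    (hQ : ∀ i j : ℕ, ∃ Q : MvPolynomial (Fin (i * j)) ℤ, IsCompPoly i j Q)
    (k k' : ℕ) (hk : 1 ≤ k) (hk' : 1 ≤ k') (x : K) :
    adamsOp k (adamsOp k' x) = adamsOp (k * k') x := by
  choose Q hQc using hQ
  have h1 : adamsOp k (1 : K) = 1 := by
    obtain ⟨k, rfl⟩ : ∃ m, k = m + 1 := ⟨k - 1, by omega⟩
    rw [adamsOp_succ, logDerivSeries_one hK.lam_one_eq_zero, PowerSeries.coeff_mk, ← mul_pow]
    simp
  have hG : ∀ i ≤ k', PowerSeries.coeff i
      (PowerSeries.map (thetaA (k * k') x : MvPolynomial (Fin (k * k')) ℤ →+* K) (univG (k * k') Q k)) =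
      PowerSeries.coeff i (PowerSeries.map
        (adamsHomOf k h1 (adamsOp_mul_of_isSpecial hK hP k)) (lamSeries x)) := by
    intro i hi
    rw [PowerSeries.coeff_map, univG, PowerSeries.coeff_mk, PowerSeries.coeff_map, coeff_lamSeries,
      adamsHomOf_apply]
    rcases i with _ | i
    · simp [LambdaOps.lam_zero, h1]
    · rw [if_neg (Nat.succ_ne_zero i)]
      exact thetaA_newton_univC hK Q hQc (k * k') x (i + 1) k
        (by rw [mul_comm]; exact Nat.mul_le_mul_left _ hi)
  have e1 : adamsOp k (adamsOp k' x) =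
      newton k' (PowerSeries.map (adamsHomOf k h1 (adamsOp_mul_of_isSpecial hK hP k)) (lamSeries x)) := by
    rw [← map_newton _ _ (constantCoeff_lamSeries x), adamsHomOf_apply, adamsOp_eq_newton k' x]
  rw [e1, ← newton_congr_of_coeff_eq
      (constantCoeff_map_eq_one _ (constantCoeff_univG (k * k') Q k))
      (constantCoeff_map_eq_one _ (constantCoeff_lamSeries x)) k' hG k' (le_refl k'),
    ← map_newton _ _ (constantCoeff_univG (k * k') Q k),
    newton_univG (k * k') Q hQc k k' hk hk' (le_refl _)]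
  exact newton_map_thetaA_univA (k * k') x (k * k') (le_refl _)

end SpecialComp

end Groth.Agent.Lib.Helper44
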