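import Groth.Agent.Lib.Helper44.Adams
import Mathlib.RingTheory.PowerSeries.Exp
import Mathlib.RingTheory.PowerSeries.Substitution

set_option autoImplicit false
universe u
open Finset PowerSeries

namespace Groth.Agent.Lib.Helper44

open LambdaRing

variable {K : Type u} [CommRing K] [Algebra ℚ K]

/-- Formal integral (with zero constant term) of a power series over a `ℚ`-algebra. -/
noncomputable def intSeries (L : PowerSeries K) : PowerSeries K :=
  PowerSeries.mk fun n => if n = 0 then 0 else algebraMap ℚ K (1 / (n : ℚ)) * PowerSeries.coeff (n - 1) L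

theorem constantCoeff_intSeries (L : PowerSeries K) : constantCoeff (intSeries L) = 0 := by
  rw [← PowerSeries.coeff_zero_eq_constantCoeff_apply, intSeries, PowerSeries.coeff_mk]
  simp

theorem derivative_intSeries (L : PowerSeries K) :
    PowerSeries.derivative K (intSeries L) = L := by
  ext n
  rw [PowerSeries.coeff_derivative, intSeries, PowerSeries.coeff_mk, if_neg (Nat.succ_ne_zero n),
    Nat.add_sub_cancel]
  have : (algebraMap ℚ K (1 / ((n + 1 : ℕ) : ℚ))) * ((n : K) + 1) = 1 := by
    have h : ((n : K) + 1) = algebraMap ℚ K ((n + 1 : ℕ) : ℚ) := by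
      simp
    rw [h, ← map_mul]
    have : (1 / ((n + 1 : ℕ) : ℚ)) * ((n + 1 : ℕ) : ℚ) = 1 := by
      have : ((n + 1 : ℕ) : ℚ) ≠ 0 := by positivity
      field_simp
    rw [this, map_one]
  calc algebraMap ℚ K (1 / ((n + 1 : ℕ) : ℚ)) * (PowerSeries.coeff n) L * ((n : K) + 1)
      = (algebraMap ℚ K (1 / ((n + 1 : ℕ) : ℚ)) * ((n : K) + 1)) * (PowerSeries.coeff n) L := by ring
    _ = (PowerSeries.coeff n) L := by rw [this, one_mul]

theorem hasSubst_intSeries (L : PowerSeries K) : PowerSeries.HasSubst (intSeries L) :=
  PowerSeries.HasSubst.of_constantCoeff_zero' (constantCoeff_intSeries L)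

/-- `exp (∫ L)`. -/
noncomputable def expInt (L : PowerSeries K) : PowerSeries K :=
  (PowerSeries.exp K).subst (intSeries L)

theorem derivative_expInt (L : PowerSeries K) :
    PowerSeries.derivative K (expInt L) = L * expInt L := by
  rw [expInt, PowerSeries.derivative_subst (hasSubst_intSeries L), PowerSeries.derivative_exp,
    derivative_intSeries, mul_comm]

theorem constantCoeff_expInt (L : PowerSeries K) : constantCoeff (expInt L) = 1 := by
  have h1 : PowerSeries.exp K = (PowerSeries.exp K - 1) + PowerSeries.C (1 : K) := by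
    simp
  have h2 : constantCoeff ((PowerSeries.exp K - 1).subst (intSeries L)) = 0 := by
    apply PowerSeries.constantCoeff_subst_eq_zero (constantCoeff_intSeries L)
    simp
  rw [expInt, h1, PowerSeries.subst_add (hasSubst_intSeries L), map_add, h2, zero_add,
    PowerSeries.subst_C]
  simp

end Groth.Agent.Lib.Helper44
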