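import Groth.Agent.Lib.Helper44.Stability

set_option autoImplicit false
open Finset MvPolynomial

namespace Groth.Agent.Lib.Helper44

open LambdaRing

section Inj

/-- The one-family elementary symmetric substitution over any base ring is injective. -/
theorem aeval_esymm_injective (R : Type*) [CommRing R] {n N : ℕ} (h : n ≤ N) :
    Function.Injective (aeval (fun i : Fin n => esymm (Fin N) R ((i : ℕ) + 1)) :
      MvPolynomial (Fin n) R →ₐ[R] MvPolynomial (Fin N) R) := by
  intro p q hpq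
  apply esymmAlgHom_fin_injective R h
  apply Subtype.ext
  rw [esymmAlgHom_apply, esymmAlgHom_apply]
  exact hpq

/-- `X_i ↦ e_{i+1}(T)` on the left variables, identity on the right variables. -/
noncomputable def substL (ρ : Type*) (n N : ℕ) :
    MvPolynomial (Fin n ⊕ ρ) ℤ →ₐ[ℤ] MvPolynomial (Fin N ⊕ ρ) ℤ :=
  aeval (Sum.elim (fun i : Fin n => rename Sum.inl (esymm (Fin N) ℤ ((i : ℕ) + 1)))
    (fun r : ρ => X (Sum.inr r)))

theorem sumAlgEquiv_substL_X (ρ : Type*) (n N : ℕ) (s : Fin n ⊕ ρ) :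
    sumAlgEquiv ℤ (Fin N) ρ (substL ρ n N (X s)) =
      aeval (fun i : Fin n => esymm (Fin N) (MvPolynomial ρ ℤ) ((i : ℕ) + 1))
        (sumAlgEquiv ℤ (Fin n) ρ (X s)) := by
  rcases s with i | r
  · rw [substL, aeval_X, Sum.elim_inl, sumAlgEquiv_X_inl, aeval_X]
    have := AlgHom.congr_fun (sumAlgEquiv_comp_rename_inl (R := ℤ) (S₁ := Fin N) (S₂ := ρ))
      (esymm (Fin N) ℤ ((i : ℕ) + 1))
    simp only [AlgHom.comp_apply] at this
    change sumAlgEquiv ℤ (Fin N) ρ _ = _ at this
    rw [this]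
    exact map_esymm _ _ _ _
  · rw [substL, aeval_X, Sum.elim_inr, sumAlgEquiv_X_inr, sumAlgEquiv_X_inr, aeval_C]
    rfl

theorem sumAlgEquiv_substL (ρ : Type*) (n N : ℕ) (p : MvPolynomial (Fin n ⊕ ρ) ℤ) :
    sumAlgEquiv ℤ (Fin N) ρ (substL ρ n N p) =
      aeval (fun i : Fin n => esymm (Fin N) (MvPolynomial ρ ℤ) ((i : ℕ) + 1))
        (sumAlgEquiv ℤ (Fin n) ρ p) := by
  induction p using MvPolynomial.induction_on with
  | C a =>
    rw [show (C a : MvPolynomial (Fin n ⊕ ρ) ℤ) = algebraMap ℤ _ a from rfl]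
    simp only [AlgHom.commutes, AlgEquiv.commutes]
    rw [IsScalarTower.algebraMap_apply ℤ (MvPolynomial ρ ℤ) (MvPolynomial (Fin n) (MvPolynomial ρ ℤ)),
      AlgHom.commutes, ← IsScalarTower.algebraMap_apply]
  | add p q hp hq => simp only [map_add, hp, hq]
  | mul_X p s hp => simp only [map_mul, hp, sumAlgEquiv_substL_X]

theorem substL_injective (ρ : Type*) {n N : ℕ} (h : n ≤ N) : Function.Injective (substL ρ n N) := by
  intro p q hpq
  have h1 := congrArg (sumAlgEquiv ℤ (Fin N) ρ) hpq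
  rw [sumAlgEquiv_substL, sumAlgEquiv_substL] at h1
  exact (sumAlgEquiv ℤ (Fin n) ρ).injective (aeval_esymm_injective _ h h1)

theorem substL_rename_inr (ρ : Type*) (n N : ℕ) (q : MvPolynomial ρ ℤ) :
    substL ρ n N (rename Sum.inr q) = rename Sum.inr q := by
  have : (substL ρ n N).comp (rename Sum.inr) = rename Sum.inr := by
    apply MvPolynomial.algHom_ext
    intro r
    simp [substL]
  exact AlgHom.congr_fun this q

/-- `X (inr k) ↦ e_{k+1}(U)` on the right variables, identity on the left variables. -/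
noncomputable def substR (ρ : Type*) (n N : ℕ) :
    MvPolynomial (ρ ⊕ Fin n) ℤ →ₐ[ℤ] MvPolynomial (ρ ⊕ Fin N) ℤ :=
  ((rename Sum.swap : MvPolynomial (Fin N ⊕ ρ) ℤ →ₐ[ℤ] MvPolynomial (ρ ⊕ Fin N) ℤ).comp
    (substL ρ n N)).comp (rename Sum.swap : MvPolynomial (ρ ⊕ Fin n) ℤ →ₐ[ℤ] MvPolynomial (Fin n ⊕ ρ) ℤ)

theorem substR_injective (ρ : Type*) {n N : ℕ} (h : n ≤ N) : Function.Injective (substR ρ n N) := by
  have h1 : Function.Injective (rename Sum.swap : MvPolynomial (Fin N ⊕ ρ) ℤ →ₐ[ℤ] MvPolynomial (ρ ⊕ Fin N) ℤ) :=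
    rename_injective _ Sum.swap_leftInverse.injective
  have h2 : Function.Injective (rename Sum.swap : MvPolynomial (ρ ⊕ Fin n) ℤ →ₐ[ℤ] MvPolynomial (Fin n ⊕ ρ) ℤ) :=
    rename_injective _ Sum.swap_leftInverse.injective
  simp only [substR, AlgHom.coe_comp]
  exact (h1.comp (substL_injective ρ h)).comp h2

theorem phiP_eq_comp (n N : ℕ) :
    phiP n N = (substR (Fin N) n N).comp (substL (Fin n) n N) := by
  apply MvPolynomial.algHom_ext
  rintro (k | k)
  · simp only [phiP, aeval_X, Sum.elim_inl, AlgHom.comp_apply, substL, substR, rename_rename]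
    have : (Sum.swap ∘ Sum.inl : Fin N → Fin n ⊕ Fin N) = Sum.inr := rfl
    rw [this]
    have h := substL_rename_inr (Fin N) n N (esymm (Fin N) ℤ ((k : ℕ) + 1))
    rw [substL] at h
    rw [h, rename_rename]
    rfl
  · simp only [phiP, aeval_X, Sum.elim_inr, AlgHom.comp_apply, substL, substR, rename_X,
      Sum.swap_inr, Sum.elim_inl, rename_rename]
    rfl

/-- Two-family injectivity: the substitution `X_k ↦ e_{k+1}(T)`, `Y_k ↦ e_{k+1}(U)` is injective
when there are at least as many `T`'s and `U`'s as `X`'s and `Y`'s. -/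
theorem phiP_injective {n N : ℕ} (h : n ≤ N) : Function.Injective (phiP n N) := by
  rw [phiP_eq_comp, AlgHom.coe_comp]
  exact (substR_injective (Fin N) h).comp (substL_injective (Fin n) h)

/-- One-family injectivity. -/
theorem phiQ_injective {M N : ℕ} (h : M ≤ N) : Function.Injective (phiQ M N) :=
  aeval_esymm_injective ℤ h

end Inj

end Groth.Agent.Lib.Helper44
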