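import Groth.Agent.Lib.Helper44.Newton
import Groth.Agent.Lib.Helper44.Inject

set_option autoImplicit false
open Finset

namespace Groth.Agent.Lib.Helper44

open LambdaRing

section L1'

variable {A : Type*} [CommRing A] {ι : Type*}

/-- `∏_{b ∈ s} (1 + c_b t) = Σ_k e_k(c) t^k` in `A⟦t⟧`. -/
theorem ps_prod_one_add_C_mul_X (s : Finset ι) (c : ι → A) :
    ∏ b ∈ s, (1 + PowerSeries.C (c b) * PowerSeries.X) =
      ∑ k ∈ range (s.card + 1),
        PowerSeries.C (∑ t ∈ s.powersetCard k, ∏ b ∈ t, c b) * PowerSeries.X ^ k := by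
  rw [Finset.prod_one_add, Finset.powerset_card_disjiUnion, Finset.sum_disjiUnion]
  refine Finset.sum_congr rfl fun k _ => ?_
  rw [map_sum, Finset.sum_mul]
  refine Finset.sum_congr rfl fun t ht => ?_
  rw [Finset.prod_mul_distrib, Finset.prod_const, (Finset.mem_powersetCard.mp ht).2, map_prod]

theorem coeff_ps_prod_one_add_C_mul_X (s : Finset ι) (c : ι → A) (m : ℕ) :
    PowerSeries.coeff m (∏ b ∈ s, (1 + PowerSeries.C (c b) * PowerSeries.X)) =
      ∑ t ∈ s.powersetCard m, ∏ b ∈ t, c b := by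
  rw [ps_prod_one_add_C_mul_X, map_sum]
  simp only [PowerSeries.coeff_C_mul_X_pow]
  by_cases hm : m ∈ range (s.card + 1)
  · rw [Finset.sum_eq_single m]
    · simp
    · intro b _ hb
      rw [if_neg (fun h => hb h.symm)]
    · intro h; exact absurd hm h
  · rw [Finset.sum_eq_zero, Finset.powersetCard_eq_empty.mpr, Finset.sum_empty]
    · simp only [Finset.mem_range, not_lt] at hm
      omega
    · intro k hk
      rw [if_neg]
      rintro rfl
      exact hm hk

end L1'

section Universal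

open MvPolynomial

variable (k : ℕ)

/-- The universal series `1 + X_1 t + ⋯ + X_k t^k`. -/
noncomputable def univAX : PowerSeries (MvPolynomial (Fin k ⊕ Fin k) ℤ) :=
  PowerSeries.mk fun i => if i = 0 then 1 else if h : i - 1 < k then X (Sum.inl ⟨i - 1, h⟩) else 0

/-- The universal series `1 + Y_1 t + ⋯ + Y_k t^k`. -/
noncomputable def univAY : PowerSeries (MvPolynomial (Fin k ⊕ Fin k) ℤ) :=
  PowerSeries.mk fun i => if i = 0 then 1 else if h : i - 1 < k then X (Sum.inr ⟨i - 1, h⟩) else 0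

/-- The universal product series `1 + P_1 t + ⋯ + P_k t^k`. -/
noncomputable def univB (P : (m : ℕ) → MvPolynomial (Fin m ⊕ Fin m) ℤ) :
    PowerSeries (MvPolynomial (Fin k ⊕ Fin k) ℤ) :=
  PowerSeries.mk fun m => if m = 0 then 1 else if h : m ≤ k then rename (sumCastLE h) (P m) else 0

theorem constantCoeff_univAX : PowerSeries.constantCoeff (univAX k) = 1 := by
  rw [← PowerSeries.coeff_zero_eq_constantCoeff_apply, univAX, PowerSeries.coeff_mk, if_pos rfl]

theorem constantCoeff_univAY : PowerSeries.constantCoeff (univAY k) = 1 := by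
  rw [← PowerSeries.coeff_zero_eq_constantCoeff_apply, univAY, PowerSeries.coeff_mk, if_pos rfl]

theorem constantCoeff_univB (P : (m : ℕ) → MvPolynomial (Fin m ⊕ Fin m) ℤ) :
    PowerSeries.constantCoeff (univB k P) = 1 := by
  rw [← PowerSeries.coeff_zero_eq_constantCoeff_apply, univB, PowerSeries.coeff_mk, if_pos rfl]

theorem phiP_rename_sumCastLE {m k : ℕ} (h : m ≤ k) (N : ℕ) (P : MvPolynomial (Fin m ⊕ Fin m) ℤ) :
    phiP k N (rename (sumCastLE h) P) = phiP m N P := by
  rw [phiP, aeval_rename, phiP]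
  congr 2
  funext s
  rcases s with i | i <;> simp [sumCastLE]

theorem coeff_map_phiP_univAX (i : ℕ) :
    PowerSeries.coeff i (PowerSeries.map (phiP k k : MvPolynomial (Fin k ⊕ Fin k) ℤ →+* MvPolynomial (Fin k ⊕ Fin k) ℤ) (univAX k)) =
      PowerSeries.coeff i (∏ a : Fin k, (1 + PowerSeries.C (X (Sum.inl a) : MvPolynomial (Fin k ⊕ Fin k) ℤ) * PowerSeries.X)) := by
  rw [coeff_ps_prod_one_add_C_mul_X, PowerSeries.coeff_map, univAX, PowerSeries.coeff_mk]
  rcases i with _ | i
  · simp
  · rw [if_neg (Nat.succ_ne_zero i)]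
    by_cases h : i + 1 - 1 < k
    · rw [dif_pos h, ← rename_inl_esymm]
      simp [phiP]
    · rw [dif_neg h, Finset.powersetCard_eq_empty.mpr, Finset.sum_empty, map_zero]
      simp only [Finset.card_univ, Fintype.card_fin]
      omega

theorem coeff_map_phiP_univAY (i : ℕ) :
    PowerSeries.coeff i (PowerSeries.map (phiP k k : MvPolynomial (Fin k ⊕ Fin k) ℤ →+* MvPolynomial (Fin k ⊕ Fin k) ℤ) (univAY k)) =
      PowerSeries.coeff i (∏ a : Fin k, (1 + PowerSeries.C (X (Sum.inr a) : MvPolynomial (Fin k ⊕ Fin k) ℤ) * PowerSeries.X)) := by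
  rw [coeff_ps_prod_one_add_C_mul_X, PowerSeries.coeff_map, univAY, PowerSeries.coeff_mk]
  rcases i with _ | i
  · simp
  · rw [if_neg (Nat.succ_ne_zero i)]
    by_cases h : i + 1 - 1 < k
    · rw [dif_pos h, ← rename_inr_esymm]
      simp [phiP]
    · rw [dif_neg h, Finset.powersetCard_eq_empty.mpr, Finset.sum_empty, map_zero]
      simp only [Finset.card_univ, Fintype.card_fin]
      omega

theorem coeff_map_phiP_univB (P : (m : ℕ) → MvPolynomial (Fin m ⊕ Fin m) ℤ)
    (hP : ∀ m, IsMulPoly m (P m)) (m : ℕ) (hm : m ≤ k) :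
    PowerSeries.coeff m (PowerSeries.map (phiP k k : MvPolynomial (Fin k ⊕ Fin k) ℤ →+* MvPolynomial (Fin k ⊕ Fin k) ℤ) (univB k P)) =
      PowerSeries.coeff m (∏ ab : Fin k × Fin k,
        (1 + PowerSeries.C (X (Sum.inl ab.1) * X (Sum.inr ab.2) : MvPolynomial (Fin k ⊕ Fin k) ℤ) * PowerSeries.X)) := by
  rw [coeff_ps_prod_one_add_C_mul_X, PowerSeries.coeff_map, univB, PowerSeries.coeff_mk]
  rcases m with _ | m
  · simp
  · rw [if_neg (Nat.succ_ne_zero m), dif_pos hm, ← mulGen_eq]
    change phiP k k _ = _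
    rw [phiP_rename_sumCastLE, phiP_eq_mulGen (hP _)]

/-- The universal multiplicativity of Newton coefficients (power sums). -/
theorem newton_univB (P : (m : ℕ) → MvPolynomial (Fin m ⊕ Fin m) ℤ)
    (hP : ∀ m, IsMulPoly m (P m)) (j : ℕ) (hj : 1 ≤ j) (hjk : j ≤ k) :
    newton j (univB k P) = newton j (univAX k) * newton j (univAY k) := by
  apply phiP_injective (le_refl k)
  rw [map_mul]
  change (phiP k k : MvPolynomial (Fin k ⊕ Fin k) ℤ →+* MvPolynomial (Fin k ⊕ Fin k) ℤ) _ = (phiP k k : MvPolynomial (Fin k ⊕ Fin k) ℤ →+* MvPolynomial (Fin k ⊕ Fin k) ℤ) _ * (phiP k k : MvPolynomial (Fin k ⊕ Fin k) ℤ →+* MvPolynomial (Fin k ⊕ Fin k) ℤ) _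
  rw [map_newton _ _ (constantCoeff_univB k P), map_newton _ _ (constantCoeff_univAX k),
    map_newton _ _ (constantCoeff_univAY k)]
  have hc : ∀ (A : PowerSeries (MvPolynomial (Fin k ⊕ Fin k) ℤ)), PowerSeries.constantCoeff A = 1 →
      PowerSeries.constantCoeff (PowerSeries.map (phiP k k : MvPolynomial (Fin k ⊕ Fin k) ℤ →+* MvPolynomial (Fin k ⊕ Fin k) ℤ) A) = 1 := by
    intro A hA
    rw [← PowerSeries.coeff_zero_eq_constantCoeff_apply, PowerSeries.coeff_map,
      PowerSeries.coeff_zero_eq_constantCoeff_apply, hA, map_one]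
  rw [newton_congr_of_coeff_eq (hc _ (constantCoeff_univB k P))
      (constantCoeff_prod_eq_one _ _ fun i _ => by simp) k
      (fun m hm => coeff_map_phiP_univB k P hP m hm) j hjk,
    newton_congr_of_coeff_eq (hc _ (constantCoeff_univAX k))
      (constantCoeff_prod_eq_one _ _ fun i _ => by simp) k
      (fun m _ => coeff_map_phiP_univAX k m) j hjk,
    newton_congr_of_coeff_eq (hc _ (constantCoeff_univAY k))
      (constantCoeff_prod_eq_one _ _ fun i _ => by simp) k
      (fun m _ => coeff_map_phiP_univAY k m) j hjk,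
    newton_prod_one_add_C_mul_X _ _ j hj, newton_prod_one_add_C_mul_X _ _ j hj,
    newton_prod_one_add_C_mul_X _ _ j hj, Finset.sum_mul_sum, ← Finset.sum_product',
    Finset.univ_product_univ]
  refine Finset.sum_congr rfl fun ab _ => ?_
  rw [mul_pow]

end Universal

section Transfer

open MvPolynomial

variable {K : Type*} [CommRing K] [LambdaOps K]

/-- The specialisation `X_i ↦ λ^i(x)`, `Y_i ↦ λ^i(y)`. -/
noncomputable def thetaXY (k : ℕ) (x y : K) : MvPolynomial (Fin k ⊕ Fin k) ℤ →ₐ[ℤ] K :=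
  aeval (Sum.elim (fun i : Fin k => LambdaOps.lam ((i : ℕ) + 1) x)
    (fun i : Fin k => LambdaOps.lam ((i : ℕ) + 1) y))

theorem coeff_map_thetaXY_univAX (k : ℕ) (x y : K) (i : ℕ) (hi : i ≤ k) :
    PowerSeries.coeff i (PowerSeries.map (thetaXY k x y : MvPolynomial (Fin k ⊕ Fin k) ℤ →+* K) (univAX k)) =
      PowerSeries.coeff i (lamSeries x) := by
  rw [PowerSeries.coeff_map, univAX, PowerSeries.coeff_mk, coeff_lamSeries]
  rcases i with _ | i
  · simp [LambdaOps.lam_zero]
  · have h : i + 1 - 1 < k := by omega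
    rw [if_neg (Nat.succ_ne_zero i), dif_pos h]
    simp [thetaXY]

theorem coeff_map_thetaXY_univAY (k : ℕ) (x y : K) (i : ℕ) (hi : i ≤ k) :
    PowerSeries.coeff i (PowerSeries.map (thetaXY k x y : MvPolynomial (Fin k ⊕ Fin k) ℤ →+* K) (univAY k)) =
      PowerSeries.coeff i (lamSeries y) := by
  rw [PowerSeries.coeff_map, univAY, PowerSeries.coeff_mk, coeff_lamSeries]
  rcases i with _ | i
  · simp [LambdaOps.lam_zero]
  · have h : i + 1 - 1 < k := by omega
    rw [if_neg (Nat.succ_ne_zero i), dif_pos h]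
    simp [thetaXY]

theorem thetaXY_rename_sumCastLE {m k : ℕ} (h : m ≤ k) (x y : K) (P : MvPolynomial (Fin m ⊕ Fin m) ℤ) :
    thetaXY k x y (rename (sumCastLE h) P) = thetaXY m x y P := by
  rw [thetaXY, aeval_rename, thetaXY]
  congr 2
  funext s
  rcases s with i | i <;> simp [sumCastLE]

theorem newton_map_thetaXY_univAX (k : ℕ) (x y : K) (j : ℕ) (hj : j ≤ k) :
    (thetaXY k x y) (newton j (univAX k)) = adamsOp j x := by
  change (thetaXY k x y : MvPolynomial (Fin k ⊕ Fin k) ℤ →+* K) _ = _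
  rw [map_newton _ _ (constantCoeff_univAX k), adamsOp_eq_newton]
  apply newton_congr_of_coeff_eq _ (constantCoeff_lamSeries x) k
    (fun i hi => coeff_map_thetaXY_univAX k x y i hi) j hj
  rw [← PowerSeries.coeff_zero_eq_constantCoeff_apply, PowerSeries.coeff_map,
    PowerSeries.coeff_zero_eq_constantCoeff_apply, constantCoeff_univAX, map_one]

theorem newton_map_thetaXY_univAY (k : ℕ) (x y : K) (j : ℕ) (hj : j ≤ k) :
    (thetaXY k x y) (newton j (univAY k)) = adamsOp j y := by
  change (thetaXY k x y : MvPolynomial (Fin k ⊕ Fin k) ℤ →+* K) _ = _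
  rw [map_newton _ _ (constantCoeff_univAY k), adamsOp_eq_newton]
  apply newton_congr_of_coeff_eq _ (constantCoeff_lamSeries y) k
    (fun i hi => coeff_map_thetaXY_univAY k x y i hi) j hj
  rw [← PowerSeries.coeff_zero_eq_constantCoeff_apply, PowerSeries.coeff_map,
    PowerSeries.coeff_zero_eq_constantCoeff_apply, constantCoeff_univAY, map_one]

/-- In a special λ-ring the Adams operations are multiplicative. -/
theorem adamsOp_mul_of_isSpecial (hK : IsSpecial K)
    (hP : ∀ n : ℕ, ∃ P : MvPolynomial (Fin n ⊕ Fin n) ℤ, IsMulPoly n P)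
    (k : ℕ) (x y : K) :
    adamsOp k (x * y) = adamsOp k x * adamsOp k y := by
  rcases Nat.eq_zero_or_pos k with rfl | hk
  · simp [adamsOp]
  choose P hPm using hP
  have hB : ∀ i ≤ k, PowerSeries.coeff i
      (PowerSeries.map (thetaXY k x y : MvPolynomial (Fin k ⊕ Fin k) ℤ →+* K) (univB k P)) =
      PowerSeries.coeff i (lamSeries (x * y)) := by
    intro i hi
    rw [PowerSeries.coeff_map, univB, PowerSeries.coeff_mk, coeff_lamSeries]
    rcases i with _ | i
    · simp [LambdaOps.lam_zero]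
    · rw [if_neg (Nat.succ_ne_zero i), dif_pos hi]
      change thetaXY k x y _ = _
      rw [thetaXY_rename_sumCastLE, hK.lam_mul (i + 1) (P (i + 1)) (hPm (i + 1)) x y]
      rfl
  have h1 : (thetaXY k x y) (newton k (univB k P)) = adamsOp k (x * y) := by
    change (thetaXY k x y : MvPolynomial (Fin k ⊕ Fin k) ℤ →+* K) _ = _
    rw [map_newton _ _ (constantCoeff_univB k P), adamsOp_eq_newton]
    apply newton_congr_of_coeff_eq _ (constantCoeff_lamSeries (x * y)) k hB k (le_refl k)
    rw [← PowerSeries.coeff_zero_eq_constantCoeff_apply, PowerSeries.coeff_map,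
      PowerSeries.coeff_zero_eq_constantCoeff_apply, constantCoeff_univB, map_one]
  rw [← h1, newton_univB k P hPm k hk (le_refl k), map_mul,
    newton_map_thetaXY_univAX k x y k (le_refl k), newton_map_thetaXY_univAY k x y k (le_refl k)]

end Transfer

end Groth.Agent.Lib.Helper44
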