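import Groth.Agent.Lib.Helper44.AdeqCoker
import Mathlib

/-!
# Kernels and cokernels of morphisms of adequate functors are adequate
-/

set_option autoImplicit false
universe u
open CategoryTheory CategoryTheory.Limits Opposite TensorProduct

namespace Groth.Agent.Lib.Helper44

variable {A : Type u} [CommRing A]

section Full

variable {N K : ModuleCat.{u + 1} A} (τ : (Adeq.underline A).obj N ⟶ (Adeq.underline A).obj K)

/-- The components of a morphism `underline N ⟶ underline K` as plain functions. -/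
noncomputable def ulApp (C : Adeq.Alg A) (w : (C : Type u) ⊗[A] N) : (C : Type u) ⊗[A] K :=
  τ.app (Adeq.pt C) w

theorem ulApp_add (C : Adeq.Alg A) (w w' : (C : Type u) ⊗[A] N) :
    ulApp τ C (w + w') = ulApp τ C w + ulApp τ C w' :=
  map_add (τ.app (Adeq.pt C)).hom w w'

theorem ulApp_zero (C : Adeq.Alg A) : ulApp τ C 0 = 0 :=
  map_zero (τ.app (Adeq.pt C)).hom

theorem ulApp_smul (C : Adeq.Alg A) (c : C) (w : (C : Type u) ⊗[A] N) :
    ulApp τ C (c • w) = c • ulApp τ C w :=
  map_smul (τ.app (Adeq.pt C)).hom c w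

theorem ulApp_nat {C C' : Adeq.Alg A} (f : C ⟶ C') (w : (C : Type u) ⊗[A] N) :
    ulApp τ C' ((f.hom.toLinearMap.rTensor N) w) = (f.hom.toLinearMap.rTensor K) (ulApp τ C w) :=
  mvfMap_nat τ f w

/-- `underline` is full. -/
theorem underline_full : ∃ θ : N ⟶ K, τ = (Adeq.underline A).map θ := by
  let AA : Adeq.Alg A := Adeq.algOf A A
  let θl : N →ₗ[A] K :=
    { toFun := fun n => TensorProduct.lid A K (ulApp τ AA ((1 : A) ⊗ₜ[A] n))
      map_add' := fun n n' => by rw [TensorProduct.tmul_add, ulApp_add, map_add]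
      map_smul' := fun a n => by
        rw [TensorProduct.tmul_smul, ulApp_smul τ AA a, RingHom.id_apply]
        exact map_smul (TensorProduct.lid A K) a _ }
  have hτA : ∀ n : N, ulApp τ AA ((1 : A) ⊗ₜ[A] n) = (1 : A) ⊗ₜ[A] θl n := by
    intro n
    have : (TensorProduct.lid A K).symm (θl n) = (1 : A) ⊗ₜ[A] θl n := rfl
    rw [← this]
    exact ((TensorProduct.lid A K).symm_apply_apply _).symm
  refine ⟨ModuleCat.ofHom θl, ?_⟩
  ext ⟨⟨C⟩⟩ z
  change ulApp τ C z = (θl.baseChange C) z
  let uu : AA ⟶ C := CommAlgCat.ofHom (Algebra.ofId A C)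
  induction z using TensorProduct.induction_on with
  | zero => rw [ulApp_zero, map_zero]
  | add x y hx hy => rw [ulApp_add, map_add, hx, hy]
  | tmul c n =>
    have h1 : (c ⊗ₜ[A] n : (C : Type u) ⊗[A] N) =
        c • (uu.hom.toLinearMap.rTensor N) ((1 : A) ⊗ₜ[A] n) := by
      rw [LinearMap.rTensor_tmul]
      change c ⊗ₜ[A] n = c • ((Algebra.ofId A C) 1 ⊗ₜ[A] n)
      rw [map_one, TensorProduct.smul_tmul', smul_eq_mul, mul_one]
    rw [h1, ulApp_smul, ulApp_nat, hτA, LinearMap.rTensor_tmul, ← h1, LinearMap.baseChange_tmul]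
    change c • ((Algebra.ofId A C) 1 ⊗ₜ[A] θl n) = _
    rw [map_one, TensorProduct.smul_tmul', smul_eq_mul, mul_one]

end Full

/-- The cokernel of a morphism of adequate functors is adequate. -/
theorem adequate_cokernel {F G : Adeq.MVF A} (φ : F ⟶ G) (hF : Adeq.adequate A F)
    (hG : Adeq.adequate A G) : Adeq.adequate A (cokernel φ) := by
  obtain ⟨M, N, θ, iG, hzG, hinjG, hexG⟩ := exists_exact_of_adequate hG
  have hC₁ := adequate_cokernel_to_underline hF (φ ≫ iG)
  obtain ⟨N₁, N₁', θ₁, i₁, hz₁, hinj₁, hex₁⟩ := exists_exact_of_adequate hC₁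
  let ρ : G ⟶ (Adeq.underline A).obj N₁ := iG ≫ cokernel.π (φ ≫ iG) ≫ i₁
  have hC₂ := adequate_cokernel_to_underline hG ρ
  obtain ⟨K, K', θ₂, i₂, hz₂, hinj₂, hex₂⟩ := exists_exact_of_adequate hC₂
  obtain ⟨θ', hθ'⟩ := underline_full (cokernel.π ρ ≫ i₂)
  have hφρ : φ ≫ ρ = 0 := by
    change φ ≫ iG ≫ cokernel.π (φ ≫ iG) ≫ i₁ = 0
    rw [← Category.assoc, cokernel.condition_assoc, zero_comp]
  refine adequate_of_exact θ' (cokernel.desc φ ρ hφρ) ?_ ?_ ?_
  · rw [← hθ', ← cancel_epi (cokernel.π φ), cokernel.π_desc_assoc, cokernel.condition_assoc,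
      zero_comp, comp_zero]
  · intro X
    rw [injective_iff_map_eq_zero]
    intro a ha
    obtain ⟨y, rfl⟩ := cokernel_π_app_surjective φ X a
    have h1 : ρ.app X y = 0 := by
      have : (cokernel.π φ ≫ cokernel.desc φ ρ hφρ).app X y = 0 := ha
      rwa [cokernel.π_desc] at this
    have h2 : (cokernel.π (φ ≫ iG)).app X (iG.app X y) = 0 := by
      apply hinj₁ X
      rw [map_zero]
      exact h1
    obtain ⟨f, hf⟩ := exists_preimage_of_cokernel_π_eq_zero (φ ≫ iG) X _ h2
    have h3 : y = φ.app X f := by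
      apply hinjG X
      exact hf.symm
    rw [h3]
    exact cokernel_π_app_comp φ X f
  · intro X y hy
    have h1 : (cokernel.π ρ ≫ i₂).app X y = 0 := by
      rw [hθ']
      exact hy
    have h2 : (cokernel.π ρ).app X y = 0 := by
      apply hinj₂ X
      rw [map_zero]
      exact h1
    obtain ⟨g, hg⟩ := exists_preimage_of_cokernel_π_eq_zero ρ X y h2
    refine ⟨(cokernel.π φ).app X g, ?_⟩
    change (cokernel.π φ ≫ cokernel.desc φ ρ hφρ).app X g = y
    rw [cokernel.π_desc]
    exact hg


/-- The kernel of a morphism of adequate functors is adequate. -/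
theorem adequate_kernel {F G : Adeq.MVF A} (φ : F ⟶ G) (hF : Adeq.adequate A F)
    (hG : Adeq.adequate A G) : Adeq.adequate A (kernel φ) := by
  obtain ⟨M, M', θF, iF, hzF, hinjF, hexF⟩ := exists_exact_of_adequate hF
  obtain ⟨N, N', θG, iG, hzG, hinjG, hexG⟩ := exists_exact_of_adequate hG
  let MN : ModuleCat.{u + 1} A := ModuleCat.of A (M × N)
  let inlM : M ⟶ MN := ModuleCat.ofHom (LinearMap.inl A M N)
  let inrN : N ⟶ MN := ModuleCat.ofHom (LinearMap.inr A M N)
  let fstM : MN ⟶ M := ModuleCat.ofHom (LinearMap.fst A M N)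
  let sndN : MN ⟶ N := ModuleCat.ofHom (LinearMap.snd A M N)
  let d : F ⟶ (Adeq.underline A).obj MN :=
    iF ≫ (Adeq.underline A).map inlM + (φ ≫ iG) ≫ (Adeq.underline A).map inrN
  have hd_fst : d ≫ (Adeq.underline A).map fstM = iF := by
    change (iF ≫ (Adeq.underline A).map inlM + (φ ≫ iG) ≫ (Adeq.underline A).map inrN) ≫
      (Adeq.underline A).map fstM = iF
    rw [Preadditive.add_comp, Category.assoc, Category.assoc, ← Functor.map_comp,
      ← Functor.map_comp]
    have h1 : inlM ≫ fstM = 𝟙 M := by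
      apply ModuleCat.hom_ext
      exact LinearMap.fst_comp_inl A M N
    have h2 : inrN ≫ fstM = 0 := by
      apply ModuleCat.hom_ext
      exact LinearMap.fst_comp_inr A M N
    rw [h1, h2, CategoryTheory.Functor.map_id, Functor.map_zero, Category.comp_id, comp_zero, add_zero]
  have hd_snd : d ≫ (Adeq.underline A).map sndN = φ ≫ iG := by
    change (iF ≫ (Adeq.underline A).map inlM + (φ ≫ iG) ≫ (Adeq.underline A).map inrN) ≫
      (Adeq.underline A).map sndN = φ ≫ iG
    rw [Preadditive.add_comp, Category.assoc, Category.assoc, ← Functor.map_comp,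
      ← Functor.map_comp]
    have h1 : inlM ≫ sndN = 0 := by
      apply ModuleCat.hom_ext
      exact LinearMap.snd_comp_inl A M N
    have h2 : inrN ≫ sndN = 𝟙 N := by
      apply ModuleCat.hom_ext
      exact LinearMap.snd_comp_inr A M N
    rw [h1, h2, CategoryTheory.Functor.map_id, Functor.map_zero, Category.comp_id, comp_zero, zero_add]
  have hdinj : ∀ X, Function.Injective (d.app X) := by
    intro X a b hab
    apply hinjF X
    have := congrArg (((Adeq.underline A).map fstM).app X) hab
    change (d ≫ (Adeq.underline A).map fstM).app X a = (d ≫ (Adeq.underline A).map fstM).app X b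
      at this
    rwa [hd_fst] at this
  have hC := adequate_cokernel_to_underline hF d
  obtain ⟨K, K', θC, iC, hzC, hinjC, hexC⟩ := exists_exact_of_adequate hC
  obtain ⟨θ, hθ⟩ := underline_full (cokernel.π d ≫ iC)
  let KN : ModuleCat.{u + 1} A := ModuleCat.of A (K × N)
  let Θ : MN ⟶ KN := ModuleCat.ofHom (θ.hom.prod (LinearMap.snd A M N))
  let fstK : KN ⟶ K := ModuleCat.ofHom (LinearMap.fst A K N)
  let sndK : KN ⟶ N := ModuleCat.ofHom (LinearMap.snd A K N)
  let inlK : K ⟶ KN := ModuleCat.ofHom (LinearMap.inl A K N)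
  let inrK : N ⟶ KN := ModuleCat.ofHom (LinearMap.inr A K N)
  have hΘ : Θ = θ ≫ inlK + sndN ≫ inrK := by
    apply ModuleCat.hom_ext
    apply LinearMap.ext
    rintro ⟨m, n⟩
    change (θ.hom (m, n), n) = (θ.hom (m, n), 0) + (0, n)
    simp
  have hΘ_fst : Θ ≫ fstK = θ := by
    apply ModuleCat.hom_ext
    exact LinearMap.fst_prod _ _
  have hΘ_snd : Θ ≫ sndK = sndN := by
    apply ModuleCat.hom_ext
    exact LinearMap.snd_prod _ _
  have hdθ : d ≫ (Adeq.underline A).map θ = 0 := by
    rw [← hθ, cokernel.condition_assoc, zero_comp]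
  refine adequate_of_exact Θ (kernel.ι φ ≫ d) ?_ ?_ ?_
  · rw [hΘ, Functor.map_add, Preadditive.comp_add, Functor.map_comp, Functor.map_comp,
      Category.assoc, Category.assoc]
    rw [reassoc_of% hdθ, reassoc_of% hd_snd, kernel.condition_assoc]
    simp
  · intro X a b hab
    apply kernel_ι_app_injective φ X
    apply hdinj X
    exact hab
  · intro X z hz
    have h1 : ((Adeq.underline A).map θ).app X z = 0 := by
      have := congrArg (((Adeq.underline A).map fstK).app X) hz
      change (((Adeq.underline A).map Θ) ≫ ((Adeq.underline A).map fstK)).app X z = _ at this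
      rw [← Functor.map_comp, hΘ_fst, map_zero] at this
      exact this
    have h2 : ((Adeq.underline A).map sndN).app X z = 0 := by
      have := congrArg (((Adeq.underline A).map sndK).app X) hz
      change (((Adeq.underline A).map Θ) ≫ ((Adeq.underline A).map sndK)).app X z = _ at this
      rw [← Functor.map_comp, hΘ_snd, map_zero] at this
      exact this
    have h3 : (cokernel.π d).app X z = 0 := by
      apply hinjC X
      rw [map_zero]
      have : (cokernel.π d ≫ iC).app X z = 0 := by
        rw [hθ]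
        exact h1
      exact this
    obtain ⟨x', hx'⟩ := exists_preimage_of_cokernel_π_eq_zero d X z h3
    have h4 : φ.app X x' = 0 := by
      apply hinjG X
      rw [map_zero]
      have : (d ≫ (Adeq.underline A).map sndN).app X x' = 0 := by
        change ((Adeq.underline A).map sndN).app X (d.app X x') = 0
        rw [hx']
        exact h2
      rw [hd_snd] at this
      exact this
    obtain ⟨x, hx⟩ := exists_kernel_preimage φ X x' h4
    refine ⟨x, ?_⟩
    change d.app X ((kernel.ι φ).app X x) = z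
    rw [hx, hx']

end Groth.Agent.Lib.Helper44
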