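import Groth.Agent.Lib.Helper44.AdeqColim
import Mathlib

set_option autoImplicit false
universe u
open CategoryTheory CategoryTheory.Limits Opposite

namespace Groth.Agent.Lib.Helper44

variable (A : Type u) [CommRing A]

instance adequate_containsZero : (Adeq.adequate A).ContainsZero where
  exists_zero := by
    let M : ModuleCat.{u + 1} A := ModuleCat.of A PUnit
    refine ⟨kernel ((Adeq.underline A).map (𝟙 M)), ?_, ⟨M, M, 𝟙 M, ⟨Iso.refl _⟩⟩⟩
    rw [CategoryTheory.Functor.map_id]
    exact isZero_kernel_of_mono _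

instance adequate_isClosedUnderKernels : (Adeq.adequate A).IsClosedUnderKernels where
  kernels_le := by
    rintro _ ⟨f, k, hk, ⟨hX, hY⟩⟩
    exact (Adeq.adequate A).prop_of_iso
      (IsLimit.conePointUniqueUpToIso (kernelIsKernel f) hk) (adequate_kernel f hX hY)

instance adequate_isClosedUnderCokernels : (Adeq.adequate A).IsClosedUnderCokernels where
  cokernels_le := by
    rintro _ ⟨f, k, hk, ⟨hX, hY⟩⟩
    exact (Adeq.adequate A).prop_of_iso
      (IsColimit.coconePointUniqueUpToIso (cokernelIsCokernel f) hk) (adequate_cokernel f hX hY)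

instance adequate_isClosedUnderColimitsOfShape (J : Type (u + 1)) [SmallCategory J] :
    (Adeq.adequate A).IsClosedUnderColimitsOfShape J :=
  ObjectProperty.IsClosedUnderColimitsOfShape.mk' (by
    rintro _ ⟨F, hF⟩
    exact adequate_colimit F hF)

instance adequate_isClosedUnderFiniteProducts : (Adeq.adequate A).IsClosedUnderFiniteProducts :=
  ObjectProperty.IsClosedUnderFiniteProducts.of_isClosedUnderLimitsOfShape.{u + 1}
    (fun J _ => ObjectProperty.IsClosedUnderLimitsOfShape.mk' (by
      rintro _ ⟨F, hF⟩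
      let f : J → Adeq.MVF A := fun j => F.obj ⟨j⟩
      have : HasFiniteBiproducts (Adeq.MVF A) := Abelian.hasFiniteBiproducts
      have e1 : limit F ≅ ∏ᶜ f := HasLimit.isoOfNatIso Discrete.natIsoFunctor
      have e2 : ∏ᶜ f ≅ ∐ f := (biproduct.isoProduct f).symm ≪≫ biproduct.isoCoproduct f
      exact (Adeq.adequate A).prop_of_iso (e1 ≪≫ e2).symm (adequate_sigma f (fun j => hF ⟨j⟩))))

noncomputable instance : Abelian (Adeq.Adequate A) := inferInstance


instance adequate_hasColimits : HasColimits (Adeq.Adequate A) where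
  has_colimits_of_shape _ _ := inferInstance

noncomputable instance adequate_ι_preservesColimits :
    PreservesColimits (Adeq.adequate A).ι where
  preservesColimitsOfShape {_} _ := inferInstance

/-- index type of the small separating family -/
abbrev SepIdx : Type (u + 1) :=
  Σ (ι κ : Type) (_ : Fintype ι) (_ : Fintype κ), (freeMod A ι ⟶ freeMod A κ)

/-- the separating family -/
noncomputable def sepObj (s : SepIdx A) : Adeq.Adequate A :=
  ⟨kernel ((Adeq.underline A).map s.2.2.2.2), ⟨_, _, s.2.2.2.2, ⟨Iso.refl _⟩⟩⟩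

theorem sepObj_isSeparating : (ObjectProperty.ofObj (sepObj A)).IsSeparating := by
  intro X Y f g h
  apply ObjectProperty.hom_ext
  obtain ⟨M, N, φ, ⟨i⟩⟩ := X.property
  apply PresheafOfModules.hom_ext
  intro Z
  obtain ⟨⟨B⟩⟩ := Z
  ext x
  obtain ⟨ι, κ, hι, hκ, φ₀, α, β, w, x₀, hx₀⟩ := exists_hit φ B (i.hom.app (Adeq.pt B) x)
  let s : SepIdx A := ⟨ι, κ, hι, hκ, φ₀⟩
  let lam : (sepObj A s).obj ⟶ X.obj :=
    kernel.map ((Adeq.underline A).map φ₀) ((Adeq.underline A).map φ)
        ((Adeq.underline A).map α) ((Adeq.underline A).map β)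
        (by rw [← Functor.map_comp, ← Functor.map_comp, w]) ≫ i.inv
  have hlam : lam.app (Adeq.pt B) x₀ = x :=
    (congrArg (fun z => i.inv.app (Adeq.pt B) z) hx₀).trans (by
      change (i.hom ≫ i.inv).app (Adeq.pt B) x = x
      rw [i.hom_inv_id]
      rfl)
  have h1 := h (sepObj A s) ⟨s⟩ (ObjectProperty.homMk lam)
  have h2 : lam ≫ f.hom = lam ≫ g.hom := congrArg (fun k => k.hom) h1
  have h3 := congrArg (fun k => k.app (Adeq.pt B) x₀) h2
  change f.hom.app (Adeq.pt B) (lam.app (Adeq.pt B) x₀) =
    g.hom.app (Adeq.pt B) (lam.app (Adeq.pt B) x₀) at h3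
  rw [hlam] at h3
  exact h3

instance adequate_wellPowered : WellPowered.{u + 1} (Adeq.Adequate A) :=
  wellPowered_of_isDetecting (sepObj_isSeparating A).isDetecting

instance adequate_op_wellPowered : WellPowered.{u + 1} (Adeq.Adequate A)ᵒᵖ :=
  Abelian.wellPowered_opposite

instance adequate_ι_preservesMonomorphisms : (Adeq.adequate A).ι.PreservesMonomorphisms :=
  ObjectProperty.preservesMonomorphisms_ι_of_isNormalEpiCategory _

theorem adequate_ι_isLeftAdjoint : (Adeq.adequate A).ι.IsLeftAdjoint :=
  isLeftAdjoint_of_preservesColimits_of_isSeparating (sepObj_isSeparating A) _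

end Groth.Agent.Lib.Helper44
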