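import Groth.Agent.Lib.Helper44.AdeqFamilyDescent
import Mathlib

set_option autoImplicit false
universe u v
open TensorProduct CategoryTheory

namespace Groth.Agent.Lib.Helper44

section
variable (R B : Type u) [CommRing R] [CommRing B] [Algebra R B]
variable (M : Type v) [AddCommGroup M] [Module R M]

/-- the next differential of the Amitsur complex (right nested tensors) -/
noncomputable abbrev delta1M : B ⊗[R] (B ⊗[R] M) →ₗ[R] B ⊗[R] (B ⊗[R] (B ⊗[R] M)) :=
  epsM R B (B ⊗[R] (B ⊗[R] M)) - (epsM R B (B ⊗[R] M)).lTensor B +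
    ((epsM R B M).lTensor B).lTensor B

theorem delta1M_comp_deltaM : delta1M R B M ∘ₗ deltaM R B M = 0 := by
  ext b m
  simp [delta1M, deltaM, epsM, TensorProduct.tmul_sub]

theorem homotopy1M :
    contrM R B (B ⊗[R] (B ⊗[R] M)) ∘ₗ (delta1M R B M).lTensor B -
      (deltaM R B M).lTensor B ∘ₗ contrM R B (B ⊗[R] M) = LinearMap.id := by
  ext a b₀ b₁ m
  simp [contrM_tmul', delta1M, deltaM, TensorProduct.smul_tmul']
  abel

variable [Module.FaithfullyFlat R B]

theorem deltaM_exact : Function.Exact (deltaM R B M) (delta1M R B M) := by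
  apply Module.FaithfullyFlat.lTensor_reflects_exact R B
  intro z
  constructor
  · intro hz
    have h := congrArg (fun f => f z) (homotopy1M R B M)
    simp only [LinearMap.comp_apply, LinearMap.sub_apply, LinearMap.id_apply] at h
    rw [hz, map_zero, zero_sub] at h
    exact ⟨-contrM R B (B ⊗[R] M) z, by rw [map_neg]; exact h⟩
  · rintro ⟨w, rfl⟩
    rw [← LinearMap.comp_apply, ← LinearMap.lTensor_comp, delta1M_comp_deltaM,
      LinearMap.lTensor_zero, LinearMap.zero_apply]

omit [Module.FaithfullyFlat R B] in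
theorem deltaM_natural {N : Type v} [AddCommGroup N] [Module R N] (g : M →ₗ[R] N) :
    deltaM R B N ∘ₗ g.lTensor B = (g.lTensor B).lTensor B ∘ₗ deltaM R B M := by
  ext b m
  simp [deltaM, epsM]

omit [Module.FaithfullyFlat R B] in
theorem epsM_natural {N : Type v} [AddCommGroup N] [Module R N] (g : M →ₗ[R] N) (m : M) :
    epsM R B N (g m) = g.lTensor B (epsM R B M m) := by
  simp [epsM]

/-- the three coface maps `B ⊗ B → B ⊗ (B ⊗ B)` -/
noncomputable abbrev cof0 : B ⊗[R] B →ₐ[R] B ⊗[R] (B ⊗[R] B) :=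
  Algebra.TensorProduct.includeRight

noncomputable abbrev cof1 : B ⊗[R] B →ₐ[R] B ⊗[R] (B ⊗[R] B) :=
  Algebra.TensorProduct.map (AlgHom.id R B) (Algebra.TensorProduct.includeRight : B →ₐ[R] B ⊗[R] B)

noncomputable abbrev cof2 : B ⊗[R] B →ₐ[R] B ⊗[R] (B ⊗[R] B) :=
  Algebra.TensorProduct.map (AlgHom.id R B) (Algebra.TensorProduct.includeLeft : B →ₐ[R] B ⊗[R] B)

/-- `(B ⊗ (B ⊗ B)) ⊗ M ≃ B ⊗ (B ⊗ (B ⊗ M))` -/
noncomputable def assoc3 : (B ⊗[R] (B ⊗[R] B)) ⊗[R] M ≃ₗ[R] B ⊗[R] (B ⊗[R] (B ⊗[R] M)) :=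
  (TensorProduct.assoc R B (B ⊗[R] B) M).trans
    (TensorProduct.congr (LinearEquiv.refl R B) (TensorProduct.assoc R B B M))

omit [Module.FaithfullyFlat R B] in
theorem assoc3_tmul (a b c : B) (m : M) :
    assoc3 R B M ((a ⊗ₜ[R] (b ⊗ₜ[R] c)) ⊗ₜ[R] m) = a ⊗ₜ[R] (b ⊗ₜ[R] (c ⊗ₜ[R] m)) := by
  simp [assoc3]

omit [Module.FaithfullyFlat R B] in
theorem assoc3_cof0 (x : (B ⊗[R] B) ⊗[R] M) :
    assoc3 R B M ((cof0 R B).toLinearMap.rTensor M x) =
      epsM R B (B ⊗[R] (B ⊗[R] M)) (TensorProduct.assoc R B B M x) := by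
  induction x using TensorProduct.induction_on with
  | zero => simp
  | tmul t m =>
    induction t using TensorProduct.induction_on with
    | zero => simp
    | tmul b c =>
      rw [LinearMap.rTensor_tmul]
      change assoc3 R B M (((1 : B) ⊗ₜ[R] (b ⊗ₜ[R] c)) ⊗ₜ[R] m) = _
      rw [assoc3_tmul]
      simp [epsM]
    | add x y hx hy =>
      rw [TensorProduct.add_tmul, map_add, map_add, map_add, map_add, hx, hy]
  | add x y hx hy => rw [map_add, map_add, map_add, map_add, hx, hy]

omit [Module.FaithfullyFlat R B] in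
theorem assoc3_cof1 (x : (B ⊗[R] B) ⊗[R] M) :
    assoc3 R B M ((cof1 R B).toLinearMap.rTensor M x) =
      (epsM R B (B ⊗[R] M)).lTensor B (TensorProduct.assoc R B B M x) := by
  induction x using TensorProduct.induction_on with
  | zero => simp
  | tmul t m =>
    induction t using TensorProduct.induction_on with
    | zero => simp
    | tmul b c =>
      rw [LinearMap.rTensor_tmul]
      change assoc3 R B M ((b ⊗ₜ[R] ((1 : B) ⊗ₜ[R] c)) ⊗ₜ[R] m) = _
      rw [assoc3_tmul]
      simp [epsM]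
    | add x y hx hy =>
      rw [TensorProduct.add_tmul, map_add, map_add, map_add, map_add, hx, hy]
  | add x y hx hy => rw [map_add, map_add, map_add, map_add, hx, hy]

omit [Module.FaithfullyFlat R B] in
theorem assoc3_cof2 (x : (B ⊗[R] B) ⊗[R] M) :
    assoc3 R B M ((cof2 R B).toLinearMap.rTensor M x) =
      ((epsM R B M).lTensor B).lTensor B (TensorProduct.assoc R B B M x) := by
  induction x using TensorProduct.induction_on with
  | zero => simp
  | tmul t m =>
    induction t using TensorProduct.induction_on with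
    | zero => simp
    | tmul b c =>
      rw [LinearMap.rTensor_tmul]
      change assoc3 R B M ((b ⊗ₜ[R] (c ⊗ₜ[R] (1 : B))) ⊗ₜ[R] m) = _
      rw [assoc3_tmul]
      simp [epsM]
    | add x y hx hy =>
      rw [TensorProduct.add_tmul, map_add, map_add, map_add, map_add, hx, hy]
  | add x y hx hy => rw [map_add, map_add, map_add, map_add, hx, hy]

end
end Groth.Agent.Lib.Helper44
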