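import Groth.Agent.Lib.Helper44.AdeqAmitsur1
import Mathlib

set_option autoImplicit false
universe u v
open TensorProduct CategoryTheory

namespace Groth.Agent.Lib.Helper44

section
variable (A : Type u) [CommRing A] (B : Type u) [CommRing B] [Algebra A B]
  [Module.FaithfullyFlat A B]

/-- pure module statement behind `H¹ = 0` -/
theorem amitsur_H1_module {M N : Type v} [AddCommGroup M] [Module A M] [AddCommGroup N] [Module A N]
    (φ : M →ₗ[A] N) (m₂ : B ⊗[A] (B ⊗[A] M)) (h1 : delta1M A B M m₂ = 0)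
    (h2 : (φ.lTensor B).lTensor B m₂ = 0) :
    ∃ m' : B ⊗[A] M, φ.lTensor B m' = 0 ∧ deltaM A B M m' = m₂ := by
  obtain ⟨m, hm⟩ := (deltaM_exact A B M m₂).1 h1
  have h3 : deltaM A B N (φ.lTensor B m) = 0 := by
    have := congrArg (fun f => f m) (deltaM_natural A B M φ)
    simp only [LinearMap.comp_apply] at this
    rw [this, hm, h2]
  obtain ⟨n, hn⟩ := (epsM_exact A B N _).1 h3
  -- n is in the range of φ
  have h4 : n ∈ LinearMap.range φ := by
    let π := (LinearMap.range φ).mkQ
    have h5 : epsM A B (N ⧸ LinearMap.range φ) (π n) = 0 := by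
      rw [epsM_natural A B N π n, hn, ← LinearMap.comp_apply, ← LinearMap.lTensor_comp]
      have : π ∘ₗ φ = 0 := by
        ext x
        simp [π]
      rw [this, LinearMap.lTensor_zero, LinearMap.zero_apply]
    have h6 : π n = 0 := epsM_injective A B _ (h5.trans (map_zero _).symm)
    exact (Submodule.Quotient.mk_eq_zero _).1 h6
  obtain ⟨m₀, hm₀⟩ := h4
  refine ⟨m - epsM A B M m₀, ?_, ?_⟩
  · rw [map_sub, ← epsM_natural A B M φ m₀, hm₀, hn, sub_self]
  · rw [map_sub, hm]
    have := congrArg (fun f => f m₀) (deltaM_comp_epsM A B M)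
    simp only [LinearMap.comp_apply, LinearMap.zero_apply] at this
    rw [this, sub_zero]


/-- the algebra `B ⊗ B` as an object -/
noncomputable abbrev BB : Adeq.Alg A := Adeq.algOf A (B ⊗[A] B)
noncomputable abbrev BBB : Adeq.Alg A := Adeq.algOf A (B ⊗[A] (B ⊗[A] B))

noncomputable abbrev inc1 : Adeq.algOf A B ⟶ BB A B :=
  CommAlgCat.ofHom (Algebra.TensorProduct.includeLeft : B →ₐ[A] B ⊗[A] B)
noncomputable abbrev inc2 : Adeq.algOf A B ⟶ BB A B :=
  CommAlgCat.ofHom (Algebra.TensorProduct.includeRight : B →ₐ[A] B ⊗[A] B)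
noncomputable abbrev cf0 : BB A B ⟶ BBB A B := CommAlgCat.ofHom (cof0 A B)
noncomputable abbrev cf1 : BB A B ⟶ BBB A B := CommAlgCat.ofHom (cof1 A B)
noncomputable abbrev cf2 : BB A B ⟶ BBB A B := CommAlgCat.ofHom (cof2 A B)

/-- `H¹` of the Amitsur complex of an adequate functor vanishes. -/
theorem adequate_amitsur_H1 (F : Adeq.MVF A) (hF : Adeq.adequate A F)
    (d : F.obj (Adeq.pt (BB A B)))
    (hd : mmap F (cf0 A B) d - mmap F (cf1 A B) d + mmap F (cf2 A B) d = 0) :
    ∃ t : F.obj (Adeq.pt (Adeq.algOf A B)), mmap F (inc1 A B) t - mmap F (inc2 A B) t = d := by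
  obtain ⟨M, N, φ, i, hzero, hinj, hex⟩ := exists_exact_of_adequate hF
  have hnat : ∀ {C C' : Adeq.Alg A} (f : C ⟶ C') (x : F.obj (Adeq.pt C)),
      i.app (Adeq.pt C') (mmap F f x) =
        (f.hom.toLinearMap.rTensor M) (i.app (Adeq.pt C) x) :=
    fun f x => PresheafOfModules.naturality_apply i (Adeq.ptHom f) x
  have hφ : ∀ (C : Adeq.Alg A) (x : F.obj (Adeq.pt C)),
      (φ.hom.lTensor (C : Type u)) (i.app (Adeq.pt C) x) = 0 := by
    intro C x
    have : (i ≫ (Adeq.underline A).map φ).app (Adeq.pt C) x = 0 := by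
      rw [hzero]; rfl
    exact this
  let id' : (B ⊗[A] B) ⊗[A] M := i.app (Adeq.pt (BB A B)) d
  let m₂ : B ⊗[A] (B ⊗[A] M) := TensorProduct.assoc A B B M id'
  have h1 : delta1M A B M m₂ = 0 := by
    have e0 := assoc3_cof0 A B M id'
    have e1 := assoc3_cof1 A B M id'
    have e2 := assoc3_cof2 A B M id'
    change epsM A B (B ⊗[A] (B ⊗[A] M)) m₂ - (epsM A B (B ⊗[A] M)).lTensor B m₂ +
      ((epsM A B M).lTensor B).lTensor B m₂ = 0
    rw [← e0, ← e1, ← e2, ← map_sub, ← map_add]
    have h0 := congrArg (i.app (Adeq.pt (BBB A B))) hd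
    rw [map_add, map_sub, hnat, hnat, hnat, map_zero] at h0
    have h0' : (cof0 A B).toLinearMap.rTensor M id' - (cof1 A B).toLinearMap.rTensor M id' +
        (cof2 A B).toLinearMap.rTensor M id' = 0 := h0
    rw [h0', map_zero]
  have h2 : (φ.hom.lTensor B).lTensor B m₂ = 0 := by
    have h3 : φ.hom.lTensor (B ⊗[A] B) id' = 0 := hφ (BB A B) d
    have h4 : (φ.hom.lTensor B).lTensor B (TensorProduct.assoc A B B M id') =
        TensorProduct.assoc A B B N (φ.hom.lTensor (B ⊗[A] B) id') := by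
      generalize id' = w
      induction w using TensorProduct.induction_on with
      | zero => simp
      | tmul t m =>
        induction t using TensorProduct.induction_on with
        | zero => simp
        | tmul b c => simp
        | add x y hx hy =>
          rw [TensorProduct.add_tmul, map_add, map_add, map_add, map_add, hx, hy]
      | add x y hx hy => rw [map_add, map_add, map_add, map_add, hx, hy]
    rw [h4, h3, map_zero]
  obtain ⟨m', hm'1, hm'2⟩ := amitsur_H1_module A B φ.hom m₂ h1 h2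
  obtain ⟨t, ht⟩ := hex (Adeq.pt (Adeq.algOf A B)) m' hm'1
  refine ⟨t, hinj (Adeq.pt (BB A B)) ?_⟩
  apply (TensorProduct.assoc A B B M).injective
  have e1 : i.app (Adeq.pt (BB A B)) (mmap F (inc1 A B) t - mmap F (inc2 A B) t) =
      (Algebra.TensorProduct.includeLeft : B →ₐ[A] B ⊗[A] B).toLinearMap.rTensor M m' -
        (Algebra.TensorProduct.includeRight : B →ₐ[A] B ⊗[A] B).toLinearMap.rTensor M m' := by
    rw [map_sub, hnat, hnat, ht]
    rfl
  refine (congrArg (TensorProduct.assoc A B B M) e1).trans ?_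
  rw [map_sub, assoc_rTensor_includeLeft, assoc_rTensor_includeRight]
  exact hm'2

end
end Groth.Agent.Lib.Helper44
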