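import Groth.Agent.Lib.Helper44.AdeqExtend
import Mathlib

/-!
# The cokernel of a morphism from an adequate functor to `underline X` is adequate
-/

set_option autoImplicit false
universe u
open CategoryTheory CategoryTheory.Limits Opposite TensorProduct DirectSum

namespace Groth.Agent.Lib.Helper44

namespace PushQ

universe v w
variable {A : Type*} [CommRing A] {I : Type w} [DecidableEq I] {P_ P'_ : I → Type v}
  [∀ i, AddCommGroup (P_ i)] [∀ i, Module A (P_ i)]
  [∀ i, AddCommGroup (P'_ i)] [∀ i, Module A (P'_ i)]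
  (φ₀ : ∀ i, P_ i →ₗ[A] P'_ i) {X : Type v} [AddCommGroup X] [Module A X]
  (g : ∀ i, P_ i →ₗ[A] X)

/-- The sum of the maps `g i`. -/
noncomputable def bigG : (⨁ i, P_ i) →ₗ[A] X := DirectSum.toModule A I X g

/-- The relations `(G p, -Φ p)`. -/
noncomputable def rel : Submodule A (X × (⨁ i, P'_ i)) :=
  LinearMap.range ((bigG g).prod (-(DirectSum.lmap φ₀)))

/-- The pushout module. -/
abbrev Q : Type _ := (X × (⨁ i, P'_ i)) ⧸ rel φ₀ g

/-- The cokernel of `Φ`. -/
abbrev Q2 : Type _ := (⨁ i, P'_ i) ⧸ LinearMap.range (DirectSum.lmap φ₀)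

noncomputable def j : X →ₗ[A] Q φ₀ g := (rel φ₀ g).mkQ ∘ₗ LinearMap.inl A X (⨁ i, P'_ i)

noncomputable def q : Q φ₀ g →ₗ[A] Q2 φ₀ :=
  (rel φ₀ g).liftQ ((LinearMap.range (DirectSum.lmap φ₀)).mkQ ∘ₗ LinearMap.snd A X (⨁ i, P'_ i))
    (by
      rintro _ ⟨p, rfl⟩
      rw [LinearMap.mem_ker, LinearMap.comp_apply]
      have h : (LinearMap.snd A X (⨁ i, P'_ i)) (((bigG g).prod (-(DirectSum.lmap φ₀))) p) =
          -(DirectSum.lmap φ₀ p) := rfl
      rw [h, map_neg, neg_eq_zero, Submodule.mkQ_apply, Submodule.Quotient.mk_eq_zero]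
      exact ⟨p, rfl⟩)

theorem q_surjective : Function.Surjective (q φ₀ g) := by
  intro z
  obtain ⟨p', rfl⟩ := Submodule.mkQ_surjective _ z
  exact ⟨(rel φ₀ g).mkQ (0, p'), by simp [q]⟩

theorem exact_j_q : Function.Exact (j φ₀ g) (q φ₀ g) := by
  intro z
  constructor
  · intro hz
    obtain ⟨⟨x, p'⟩, rfl⟩ := Submodule.mkQ_surjective _ z
    have h1 : (LinearMap.range (DirectSum.lmap φ₀)).mkQ p' = 0 := by simpa [q] using hz
    rw [Submodule.mkQ_apply, Submodule.Quotient.mk_eq_zero] at h1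
    obtain ⟨p, rfl⟩ := h1
    refine ⟨x + bigG g p, ?_⟩
    simp only [j, LinearMap.comp_apply, LinearMap.inl_apply, Submodule.mkQ_apply]
    rw [Submodule.Quotient.eq]
    refine ⟨p, ?_⟩
    simp [Prod.ext_iff]
  · rintro ⟨x, rfl⟩
    simp [j, q]

variable (C : Type*) [AddCommGroup C] [Module A C]

theorem exact_lTensor_j_q : Function.Exact ((j φ₀ g).lTensor C) ((q φ₀ g).lTensor C) :=
  lTensor_exact C (exact_j_q φ₀ g) (q_surjective φ₀ g)

/-- Every element of `C ⊗ ⨁ Pᵢ` is a finite sum of its components. -/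
theorem exists_finset_decomp (p : C ⊗[A] (⨁ i, P_ i)) :
    ∃ s₀ : Finset I, ∀ s : Finset I, s₀ ⊆ s →
      p = ∑ i ∈ s, ((DirectSum.lof A I P_ i).lTensor C)
        (((DirectSum.component A I P_ i).lTensor C) p) := by
  classical
  induction p using TensorProduct.induction_on with
  | zero => exact ⟨∅, fun s _ => by simp⟩
  | tmul c π =>
    refine ⟨DFinsupp.support π, fun s hs => ?_⟩
    simp only [LinearMap.lTensor_tmul]
    rw [← TensorProduct.tmul_sum]
    congr 1
    conv_lhs => rw [← DirectSum.sum_support_of π]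
    rw [Finset.sum_subset hs]
    · rfl
    · intro i _ hi
      have : π i = 0 := by simpa [DFinsupp.mem_support_iff] using hi
      change DirectSum.of P_ i (π i) = 0
      rw [this, map_zero]
  | add x y hx hy =>
    obtain ⟨s₁, h₁⟩ := hx
    obtain ⟨s₂, h₂⟩ := hy
    refine ⟨s₁ ∪ s₂, fun s hs => ?_⟩
    simp only [map_add, Finset.sum_add_distrib]
    rw [← h₁ s (Finset.union_subset_left hs), ← h₂ s (Finset.union_subset_right hs)]

theorem key_exact (y : C ⊗[A] X) (hy : ((j φ₀ g).lTensor C) y = 0) :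
    ∃ (s : Finset I) (p : ∀ i, C ⊗[A] P_ i), (∀ i, ((φ₀ i).lTensor C) (p i) = 0) ∧
      y = ∑ i ∈ s, ((g i).lTensor C) (p i) := by
  classical
  -- exactness of `P → X × P' → Q → 0` after tensoring
  have hex : Function.Exact (((bigG g).prod (-(DirectSum.lmap φ₀))).lTensor C)
      ((rel φ₀ g).mkQ.lTensor C) := by
    apply lTensor_exact C _ (Submodule.mkQ_surjective _)
    intro z
    rw [Submodule.mkQ_apply, Submodule.Quotient.mk_eq_zero]
    rfl
  have h1 : ((rel φ₀ g).mkQ.lTensor C) (((LinearMap.inl A X (⨁ i, P'_ i)).lTensor C) y) = 0 := by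
    rw [← LinearMap.lTensor_comp_apply]
    exact hy
  obtain ⟨p, hp⟩ := (hex _).mp h1
  have hG : ((bigG g).lTensor C) p = y := by
    have := congrArg ((LinearMap.fst A X (⨁ i, P'_ i)).lTensor C) hp
    rw [← LinearMap.lTensor_comp_apply, ← LinearMap.lTensor_comp_apply] at this
    simpa [LinearMap.fst_prod, LinearMap.fst_comp_inl] using this
  have hΦ : ((DirectSum.lmap φ₀).lTensor C) p = 0 := by
    have := congrArg ((LinearMap.snd A X (⨁ i, P'_ i)).lTensor C) hp
    rw [← LinearMap.lTensor_comp_apply, ← LinearMap.lTensor_comp_apply] at this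
    simpa [LinearMap.snd_prod, LinearMap.snd_comp_inl, LinearMap.lTensor_neg] using this
  obtain ⟨s₀, hs₀⟩ := exists_finset_decomp C p
  refine ⟨s₀, fun i => ((DirectSum.component A I P_ i).lTensor C) p, fun i => ?_, ?_⟩
  · rw [← LinearMap.lTensor_comp_apply]
    have hcomm : (φ₀ i) ∘ₗ DirectSum.component A I P_ i =
        DirectSum.component A I P'_ i ∘ₗ DirectSum.lmap φ₀ := by
      ext x
      rfl
    rw [hcomm, LinearMap.lTensor_comp_apply, hΦ, map_zero]
  · rw [← hG]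
    conv_lhs => rw [hs₀ s₀ (Finset.Subset.refl _)]
    rw [map_sum]
    refine Finset.sum_congr rfl fun i _ => ?_
    rw [← LinearMap.lTensor_comp_apply]
    congr 2
    ext x
    simp [bigG]


omit [DecidableEq I] in
theorem lTensor_q_j_eq_zero [DecidableEq I] (x : C ⊗[A] X) :
    ((q φ₀ g).lTensor C) (((j φ₀ g).lTensor C) x) = 0 :=
  (exact_lTensor_j_q φ₀ g C).apply_apply_eq_zero x

theorem j_comp_g (i : I) :
    (j φ₀ g) ∘ₗ (g i) =
      ((rel φ₀ g).mkQ ∘ₗ LinearMap.inr A X (⨁ i, P'_ i) ∘ₗ DirectSum.lof A I P'_ i) ∘ₗ φ₀ i := by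
  ext π
  simp only [j, LinearMap.comp_apply, LinearMap.inl_apply, LinearMap.inr_apply,
    Submodule.mkQ_apply]
  rw [Submodule.Quotient.eq]
  refine ⟨DirectSum.lof A I P_ i π, ?_⟩
  simp [bigG, Prod.ext_iff]

theorem lTensor_j_g_eq_zero (i : I) (p : C ⊗[A] P_ i) (hp : ((φ₀ i).lTensor C) p = 0) :
    ((j φ₀ g).lTensor C) (((g i).lTensor C) p) = 0 := by
  rw [← LinearMap.lTensor_comp_apply, j_comp_g, LinearMap.lTensor_comp_apply, hp, map_zero]

end PushQ

variable {A : Type u} [CommRing A]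

/-- The cokernel of a morphism from an adequate functor to `underline X` is adequate. -/
theorem adequate_cokernel_to_underline {F : Adeq.MVF A} (hF : Adeq.adequate A F)
    {X : ModuleCat.{u + 1} A} (ψ : F ⟶ (Adeq.underline A).obj X) :
    Adeq.adequate A (cokernel ψ) := by
  classical
  obtain ⟨M, N, φ, ⟨e⟩⟩ := hF
  let I : Type (u + 1) := Σ B : Adeq.Alg A, (kernel ((Adeq.underline A).map φ)).obj (Adeq.pt B)
  choose Iι Kκ hI hK φ₀ α β w x hx using fun i : I => exists_hit φ i.1 i.2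
  let lam : ∀ i, kernel ((Adeq.underline A).map (φ₀ i)) ⟶ kernel ((Adeq.underline A).map φ) :=
    fun i => kernel.map ((Adeq.underline A).map (φ₀ i)) ((Adeq.underline A).map φ)
      ((Adeq.underline A).map (α i)) ((Adeq.underline A).map (β i))
      (by rw [← Functor.map_comp, ← Functor.map_comp, w i])
  have hext : ∀ i, ∃ g : freeMod A (Iι i) ⟶ X,
      kernel.ι ((Adeq.underline A).map (φ₀ i)) ≫ (Adeq.underline A).map g =
        lam i ≫ e.inv ≫ ψ := by
    intro i
    haveI := hI i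
    haveI := hK i
    exact exists_extension (φ₀ i) (lam i ≫ e.inv ≫ ψ)
  choose g hg using hext
  -- the modules
  let P_ : I → Type (u + 1) := fun i => freeMod A (Iι i)
  let P'_ : I → Type (u + 1) := fun i => freeMod A (Kκ i)
  let φ₀' : ∀ i, P_ i →ₗ[A] P'_ i := fun i => (φ₀ i).hom
  let g' : ∀ i, P_ i →ₗ[A] X := fun i => (g i).hom
  let Q : ModuleCat.{u + 1} A := ModuleCat.of A (PushQ.Q φ₀' g')
  let Q2 : ModuleCat.{u + 1} A := ModuleCat.of A (PushQ.Q2 φ₀')
  let jj : X ⟶ Q := ModuleCat.ofHom (PushQ.j φ₀' g')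
  let qq : Q ⟶ Q2 := ModuleCat.ofHom (PushQ.q φ₀' g')
  -- pointwise facts
  have hZ : ∀ (C : Adeq.Alg A) (f : F.obj (Adeq.pt C)),
      ((PushQ.j φ₀' g').lTensor C) (ψ.app (Adeq.pt C) f) = 0 := by
    intro C f
    let i : I := ⟨C, e.hom.app (Adeq.pt C) f⟩
    have hf : f = (lam i ≫ e.inv).app (Adeq.pt C) (x i) := by
      change f = e.inv.app (Adeq.pt C) ((lam i).app (Adeq.pt C) (x i))
      rw [hx i]
      change f = (e.hom ≫ e.inv).app (Adeq.pt C) f
      rw [e.hom_inv_id]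
      rfl
    have h1 : ψ.app (Adeq.pt C) f = ((g' i).lTensor C)
        ((kernel.ι ((Adeq.underline A).map (φ₀ i))).app (Adeq.pt C) (x i)) := by
      rw [hf]
      change (lam i ≫ e.inv ≫ ψ).app (Adeq.pt C) (x i) = _
      rw [← hg i]
      rfl
    rw [h1]
    exact PushQ.lTensor_j_g_eq_zero φ₀' g' C i _
      (kernel_ι_app_comp ((Adeq.underline A).map (φ₀ i)) (Adeq.pt C) (x i))
  have hE2 : ∀ (C : Adeq.Alg A) (y : (C : Type u) ⊗[A] X),
      ((PushQ.j φ₀' g').lTensor C) y = 0 → ∃ f : F.obj (Adeq.pt C), ψ.app (Adeq.pt C) f = y := by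
    intro C y hy
    obtain ⟨s, p, hp0, hyp⟩ := PushQ.key_exact φ₀' g' C y hy
    have hl : ∀ i, ∃ l : (kernel ((Adeq.underline A).map (φ₀ i))).obj (Adeq.pt C),
        (kernel.ι ((Adeq.underline A).map (φ₀ i))).app (Adeq.pt C) l = p i :=
      fun i => exists_kernel_preimage ((Adeq.underline A).map (φ₀ i)) (Adeq.pt C) (p i) (hp0 i)
    choose l hl using hl
    refine ⟨∑ i ∈ s, (lam i ≫ e.inv).app (Adeq.pt C) (l i), ?_⟩
    rw [map_sum, hyp]
    refine Finset.sum_congr rfl fun i _ => ?_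
    change (lam i ≫ e.inv ≫ ψ).app (Adeq.pt C) (l i) = _
    rw [← hg i]
    change ((g' i).lTensor C) ((kernel.ι ((Adeq.underline A).map (φ₀ i))).app (Adeq.pt C) (l i)) = _
    rw [hl i]
  have h0 : ψ ≫ (Adeq.underline A).map jj = 0 := by
    ext ⟨⟨C⟩⟩ f
    exact hZ C f
  have hjq : jj ≫ qq = 0 := by
    apply ModuleCat.hom_ext
    exact (PushQ.exact_j_q φ₀' g').linearMap_comp_eq_zero
  refine adequate_of_exact qq (cokernel.desc ψ ((Adeq.underline A).map jj) h0) ?_ ?_ ?_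
  · rw [← cancel_epi (cokernel.π ψ), cokernel.π_desc_assoc, ← Functor.map_comp, hjq,
      Functor.map_zero, comp_zero]
  · rintro ⟨⟨C⟩⟩
    rw [injective_iff_map_eq_zero]
    intro a ha
    obtain ⟨y, rfl⟩ := cokernel_π_app_surjective ψ (Adeq.pt C) a
    have h1 : ((PushQ.j φ₀' g').lTensor C) y = 0 := by
      have : (cokernel.π ψ ≫ cokernel.desc ψ ((Adeq.underline A).map jj) h0).app (Adeq.pt C) y =
          0 := ha
      rw [cokernel.π_desc] at this
      exact this
    obtain ⟨f, rfl⟩ := hE2 C y h1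
    exact cokernel_π_app_comp ψ (Adeq.pt C) f
  · rintro ⟨⟨C⟩⟩ y hy
    obtain ⟨x', hx'⟩ := (PushQ.exact_lTensor_j_q φ₀' g' C y).mp hy
    refine ⟨(cokernel.π ψ).app (Adeq.pt C) x', ?_⟩
    change (cokernel.π ψ ≫ cokernel.desc ψ ((Adeq.underline A).map jj) h0).app (Adeq.pt C) x' = y
    rw [cokernel.π_desc]
    exact hx'

end Groth.Agent.Lib.Helper44
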