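import Groth.Agent.Lib.Helper44.AdeqAbelian
import Mathlib

/-!
# Coproducts and colimits of adequate functors are adequate
-/

set_option autoImplicit false
universe u
open CategoryTheory CategoryTheory.Limits Opposite TensorProduct DirectSum

namespace Groth.Agent.Lib.Helper44

variable {A : Type u} [CommRing A]

/-- Sections of a coproduct of module-valued functors are finite sums of sections of the
summands. -/
theorem sigma_app_exists {J : Type (u + 1)} (D : J → Adeq.MVF A) (X : (Adeq.Alg A)ᵒᵖᵒᵖ)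
    (x : (∐ D).obj X) :
    ∃ (s : Finset J) (y : ∀ j, (D j).obj X), x = ∑ j ∈ s, (Sigma.ι D j).app X (y j) := by
  classical
  let Z : J → ModuleCat.{u + 1} ((Adeq.ringOf A).obj X) := fun j => (D j).obj X
  let cf : Cofan Z := Cofan.mk ((∐ D).obj X) (fun j => (Sigma.ι D j).app X)
  let Λ : ModuleCat.of ((Adeq.ringOf A).obj X) (⨁ j, Z j) ⟶ (∐ D).obj X :=
    (ModuleCat.coproductCoconeIsColimit.{u, u + 1, u + 1} Z).desc cf
  have hΛ : ∀ j, ModuleCat.ofHom (DirectSum.lof _ J (fun j => Z j) j) ≫ Λ =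
      (Sigma.ι D j).app X := fun j => (ModuleCat.coproductCoconeIsColimit.{u, u + 1, u + 1} Z).fac cf ⟨j⟩
  have : PreservesColimitsOfShape (Discrete J)
      (PresheafOfModules.evaluation.{u + 1} (Adeq.ringOf A) X) :=
    PresheafOfModules.evaluation_preservesColimitsOfShape _ _ X
  have hepi : Epi Λ := by
    constructor
    intro T a b hab
    apply (isColimitOfPreserves (PresheafOfModules.evaluation.{u + 1} (Adeq.ringOf A) X)
      (coproductIsCoproduct D)).hom_ext
    rintro ⟨j⟩
    change (Sigma.ι D j).app X ≫ a = (Sigma.ι D j).app X ≫ b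
    have h1 := hΛ j
    have h2 : ModuleCat.ofHom (DirectSum.lof _ J (fun j => Z j) j) ≫ Λ ≫ a =
        ModuleCat.ofHom (DirectSum.lof _ J (fun j => Z j) j) ≫ Λ ≫ b := by rw [hab]
    rw [← Category.assoc, ← Category.assoc, h1] at h2
    exact h2
  have hsurj := (ModuleCat.epi_iff_surjective _).mp hepi
  obtain ⟨y, hy⟩ := hsurj x
  refine ⟨DFinsupp.support y, fun j => y j, ?_⟩
  rw [← hy]
  conv_lhs => rw [← DirectSum.sum_support_of y]
  rw [map_sum]
  refine Finset.sum_congr rfl fun j _ => ?_
  exact congrArg (fun f => f.hom (y j)) (hΛ j)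


theorem component_comp_lof_ne {R : Type*} [CommRing R] {J : Type*} [DecidableEq J] (Mf : J → Type*)
    [∀ j, AddCommGroup (Mf j)] [∀ j, Module R (Mf j)] {j k : J} (h : j ≠ k) :
    DirectSum.component R J Mf k ∘ₗ DirectSum.lof R J Mf j = 0 := by
  ext b
  simp [DirectSum.component.of, h]

theorem component_comp_lof_self {R : Type*} [CommRing R] {J : Type*} [DecidableEq J]
    (Mf : J → Type*) [∀ j, AddCommGroup (Mf j)] [∀ j, Module R (Mf j)] (k : J) :
    DirectSum.component R J Mf k ∘ₗ DirectSum.lof R J Mf k = LinearMap.id := by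
  ext b
  simp [DirectSum.component.lof_self]

/-- A coproduct of adequate functors is adequate. -/
theorem adequate_sigma {J : Type (u + 1)} (D : J → Adeq.MVF A)
    (hD : ∀ j, Adeq.adequate A (D j)) : Adeq.adequate A (∐ D) := by
  classical
  choose M N φ i hz hinj hex using fun j => exists_exact_of_adequate (hD j)
  let Mf : J → Type (u + 1) := fun j => M j
  let Nf : J → Type (u + 1) := fun j => N j
  let MM : ModuleCat.{u + 1} A := ModuleCat.of A (⨁ j, Mf j)
  let NN : ModuleCat.{u + 1} A := ModuleCat.of A (⨁ j, Nf j)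
  let φf : ∀ j, Mf j →ₗ[A] Nf j := fun j => (φ j).hom
  let ΦΦ : MM ⟶ NN := ModuleCat.ofHom (DirectSum.lmap φf)
  let incM : ∀ j, M j ⟶ MM := fun j => ModuleCat.ofHom (DirectSum.lof A J Mf j)
  let incN : ∀ j, N j ⟶ NN := fun j => ModuleCat.ofHom (DirectSum.lof A J Nf j)
  let ii : ∐ D ⟶ (Adeq.underline A).obj MM :=
    Sigma.desc (fun j => i j ≫ (Adeq.underline A).map (incM j))
  have hcomm : ∀ j, incM j ≫ ΦΦ = φ j ≫ incN j := by
    intro j
    apply ModuleCat.hom_ext
    apply LinearMap.ext
    intro x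
    exact DirectSum.lmap_lof φf j x
  let iP : ∀ (C : Adeq.Alg A) (j : J), (D j).obj (Adeq.pt C) → ((C : Type u) ⊗[A] Mf j) :=
    fun C j y => (i j).app (Adeq.pt C) y
  have h1 : ∀ (C : Adeq.Alg A) (j : J) (y : (D j).obj (Adeq.pt C)),
      (ii.app (Adeq.pt C) ((Sigma.ι D j).app (Adeq.pt C) y) : (C : Type u) ⊗[A] (⨁ j, Mf j)) =
        ((DirectSum.lof A J Mf j).lTensor C) (iP C j y) := by
    intro C j y
    change (Sigma.ι D j ≫ ii).app (Adeq.pt C) y = _
    rw [Sigma.ι_desc]
    rfl
  refine adequate_of_exact ΦΦ ii ?_ ?_ ?_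
  · apply Sigma.hom_ext
    intro j
    rw [Sigma.ι_desc_assoc, Category.assoc, ← Functor.map_comp, hcomm, Functor.map_comp,
      ← Category.assoc, hz j, zero_comp, comp_zero]
  · rintro ⟨⟨C⟩⟩
    rw [injective_iff_map_eq_zero]
    intro x hx
    obtain ⟨s, y, rfl⟩ := sigma_app_exists D (Adeq.pt C) x
    rw [map_sum] at hx
    have hx' : ∑ j ∈ s, ((DirectSum.lof A J Mf j).lTensor C) (iP C j (y j)) =
        (0 : (C : Type u) ⊗[A] (⨁ j, Mf j)) :=
      (Finset.sum_congr rfl fun j _ => (h1 C j (y j)).symm).trans hx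
    refine Finset.sum_eq_zero fun k hk => ?_
    have h2 := congrArg ((DirectSum.component A J Mf k).lTensor C) hx'
    rw [map_sum, map_zero, Finset.sum_eq_single k] at h2
    · rw [← LinearMap.lTensor_comp_apply, component_comp_lof_self, LinearMap.lTensor_id,
        LinearMap.id_apply] at h2
      have h3 : y k = 0 := by
        apply hinj k (Adeq.pt C)
        rw [map_zero]
        exact h2
      rw [h3, map_zero]
    · intro j _ hjk
      rw [← LinearMap.lTensor_comp_apply, component_comp_lof_ne Mf hjk, LinearMap.lTensor_zero,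
        LinearMap.zero_apply]
    · intro hk'
      exact absurd hk hk'
  · rintro ⟨⟨C⟩⟩
    intro (z : (C : Type u) ⊗[A] (⨁ j, Mf j)) hz'
    have hz0 : ((DirectSum.lmap φf).lTensor C) z = 0 := hz'
    obtain ⟨s₀, hs₀⟩ := PushQ.exists_finset_decomp (A := A) (P_ := Mf) C z
    have hcomp : ∀ j, ((φf j).lTensor C) (((DirectSum.component A J Mf j).lTensor C) z) = 0 := by
      intro j
      rw [← LinearMap.lTensor_comp_apply]
      have hc : (φf j) ∘ₗ DirectSum.component A J Mf j =
          DirectSum.component A J Nf j ∘ₗ DirectSum.lmap φf := by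
        ext x
        rfl
      rw [hc, LinearMap.lTensor_comp_apply, hz0, map_zero]
    have hxj : ∀ j, ∃ xj : (D j).obj (Adeq.pt C),
        iP C j xj = ((DirectSum.component A J Mf j).lTensor C) z :=
      fun j => hex j (Adeq.pt C) _ (hcomp j)
    choose xj hxj using hxj
    refine ⟨∑ j ∈ s₀, (Sigma.ι D j).app (Adeq.pt C) (xj j), ?_⟩
    rw [map_sum]
    refine Eq.trans ?_ (hs₀ s₀ (Finset.Subset.refl _)).symm
    refine Finset.sum_congr rfl fun j _ => ?_
    exact (h1 C j (xj j)).trans (congrArg _ (hxj j))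


/-- A colimit of adequate functors is adequate. -/
theorem adequate_colimit {J : Type (u + 1)} [SmallCategory J] (D : J ⥤ Adeq.MVF A)
    (hD : ∀ j, Adeq.adequate A (D.obj j)) : Adeq.adequate A (colimit D) := by
  let P : Adeq.MVF A := ∐ (fun f : Σ p : J × J, p.1 ⟶ p.2 => D.obj f.1.1)
  let Q : Adeq.MVF A := ∐ D.obj
  have hP : Adeq.adequate A P := adequate_sigma _ (fun f => hD f.1.1)
  have hQ : Adeq.adequate A Q := adequate_sigma _ hD
  let s : P ⟶ Q := Sigma.desc fun f => D.map f.2 ≫ Sigma.ι D.obj f.1.2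
  let t : P ⟶ Q := Sigma.desc fun f => Sigma.ι D.obj f.1.1
  let ck : CokernelCofork (s - t) := CokernelCofork.ofπ (cokernel.π (s - t)) (cokernel.condition _)
  have hck : IsColimit ck := cokernelIsCokernel (s - t)
  have hcol := HasColimitOfHasCoproductsOfHasCoequalizers.buildIsColimit (F := D) s t
    (by intro f; simp [s]) (by intro f; simp [t]) (colimit.isColimit _) (colimit.isColimit _)
    (Preadditive.isColimitCoforkOfCokernelCofork hck)
  have e : colimit D ≅ cokernel (s - t) :=
    (colimit.isColimit D).coconePointUniqueUpToIso hcol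
  exact (Adeq.adequate A).prop_of_iso e.symm (adequate_cokernel (s - t) hP hQ)

end Groth.Agent.Lib.Helper44
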