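import Groth.Agent.Lib.Helper44.AdeqKer
import Mathlib

set_option autoImplicit false
universe u
open CategoryTheory CategoryTheory.Limits Opposite TensorProduct

namespace Groth.Agent.Lib.Helper44

section Plain

variable {A A' B B₂ M' N' : Type*} [CommRing A] [CommRing A'] [Algebra A A'] [CommRing B]
  [Algebra A B] [CommRing B₂] [Algebra A B₂] [AddCommGroup M'] [Module A M'] [Module A' M']
  [IsScalarTower A A' M'] [AddCommGroup N'] [Module A N'] [Module A' N'] [IsScalarTower A A' N']

variable (A A' B M') in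
/-- pointwise comparison `B ⊗_A M' ≃ (A' ⊗_A B) ⊗_{A'} M'`, additive -/
noncomputable def pushEquiv' : B ⊗[A] M' ≃+ (A' ⊗[A] B) ⊗[A'] M' :=
  ((TensorProduct.comm A B M').toAddEquiv.trans
    (TensorProduct.AlgebraTensorModule.cancelBaseChange A A' A' M' B).symm.toAddEquiv).trans
    (TensorProduct.comm A' M' (A' ⊗[A] B)).toAddEquiv

theorem pushEquiv'_tmul (b : B) (m : M') :
    pushEquiv' A A' B M' (b ⊗ₜ[A] m) = ((1 : A') ⊗ₜ[A] b) ⊗ₜ[A'] m := rfl

theorem pushEquiv'_smul (r : B) (x : B ⊗[A] M') :
    pushEquiv' A A' B M' (r • x) = ((1 : A') ⊗ₜ[A] r) • pushEquiv' A A' B M' x := by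
  induction x using TensorProduct.induction_on with
  | zero => simp
  | tmul b m =>
    rw [TensorProduct.smul_tmul', pushEquiv'_tmul, pushEquiv'_tmul, TensorProduct.smul_tmul',
      smul_eq_mul, smul_eq_mul, Algebra.TensorProduct.tmul_mul_tmul, mul_one]
  | add x y hx hy => rw [smul_add, map_add, map_add, smul_add, hx, hy]

theorem pushEquiv'_natB (f : B →ₐ[A] B₂) (x : B ⊗[A] M') :
    pushEquiv' A A' B₂ M' (f.toLinearMap.rTensor M' x) =
      ((Algebra.TensorProduct.map (AlgHom.id A' A') f).toLinearMap.rTensor M')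
        (pushEquiv' A A' B M' x) := by
  induction x using TensorProduct.induction_on with
  | zero => simp
  | tmul b m =>
    rw [LinearMap.rTensor_tmul, pushEquiv'_tmul, pushEquiv'_tmul, LinearMap.rTensor_tmul]
    simp
  | add x y hx hy => rw [map_add, map_add, map_add, map_add, hx, hy]

theorem pushEquiv'_natM (φA : M' →ₗ[A] N') (φ : M' →ₗ[A'] N') (h : ∀ m, φA m = φ m)
    (x : B ⊗[A] M') :
    pushEquiv' A A' B N' (φA.baseChange B x) =
      (φ.baseChange (A' ⊗[A] B)) (pushEquiv' A A' B M' x) := by
  induction x using TensorProduct.induction_on with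
  | zero => simp
  | tmul b m =>
    rw [LinearMap.baseChange_tmul, pushEquiv'_tmul, pushEquiv'_tmul, LinearMap.baseChange_tmul, h]
  | add x y hx hy => rw [map_add, map_add, map_add, map_add, hx, hy]

end Plain


variable (A A' : Type u) [CommRing A] [CommRing A'] [Algebra A A']

/-- restriction of scalars of an `A'`-module to `A` -/
noncomputable abbrev rsMod (M' : ModuleCat.{u + 1} A') : ModuleCat.{u + 1} A :=
  (ModuleCat.restrictScalars (algebraMap A A')).obj M'

instance rsMod_isScalarTower (M' : ModuleCat.{u + 1} A') :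
    IsScalarTower A A' (rsMod A A' M') :=
  IsScalarTower.of_algebraMap_smul (fun _ _ => rfl)

/-- the comparison morphism `underline (M'|_A) ⟶ push (underline M')` -/
noncomputable def pushUnderlineHom (M' : ModuleCat.{u + 1} A') :
    (Adeq.underline A).obj (rsMod A A' M') ⟶ (Adeq.push A A').obj ((Adeq.underline A').obj M') :=
  PresheafOfModules.homMk
    { app := fun X => AddCommGrpCat.ofHom
        (pushEquiv' A A' (X.unop.unop : Type u) (rsMod A A' M')).toAddMonoidHom
      naturality := by
        intro X Y f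
        ext x
        exact pushEquiv'_natB (A' := A') (M' := rsMod A A' M') f.unop.unop.hom x }
    (by
      intro X r x
      exact pushEquiv'_smul (A' := A') (M' := rsMod A A' M') r x)

theorem pushUnderlineHom_app_apply (M' : ModuleCat.{u + 1} A') (B : Adeq.Alg A)
    (x : (B : Type u) ⊗[A] (rsMod A A' M')) :
    (pushUnderlineHom A A' M').app (Adeq.pt B) x =
      pushEquiv' A A' (B : Type u) (rsMod A A' M') x := rfl

instance pushUnderlineHom_isIso (M' : ModuleCat.{u + 1} A') :
    IsIso (pushUnderlineHom A A' M') := by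
  apply isIso_of_app_bijective
  intro X
  obtain ⟨⟨B⟩⟩ := X
  exact (pushEquiv' A A' (B : Type u) (rsMod A A' M')).bijective

theorem pushUnderlineHom_naturality {M' N' : ModuleCat.{u + 1} A'} (φ : M' ⟶ N') :
    (Adeq.underline A).map ((ModuleCat.restrictScalars (algebraMap A A')).map φ) ≫
        pushUnderlineHom A A' N' =
      pushUnderlineHom A A' M' ≫ (Adeq.push A A').map ((Adeq.underline A').map φ) := by
  apply PresheafOfModules.hom_ext
  intro X
  obtain ⟨⟨B⟩⟩ := X
  ext x
  let φ' : (rsMod A A' M') →ₗ[A'] (rsMod A A' N') := φ.hom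
  exact pushEquiv'_natM (A' := A') (B := (B : Type u)) (M' := rsMod A A' M')
    (N' := rsMod A A' N') ((ModuleCat.restrictScalars (algebraMap A A')).map φ).hom φ'
    (fun _ => rfl) x


theorem adequate_push (F' : Adeq.MVF A') (hF' : Adeq.adequate A' F') :
    Adeq.adequate A ((Adeq.push A A').obj F') := by
  obtain ⟨M, N, φ, i, hzero, hinj, hex⟩ := exists_exact_of_adequate hF'
  have hnat := pushUnderlineHom_naturality A A' φ
  set φr := (ModuleCat.restrictScalars (algebraMap A A')).map φ with hφr
  have hnat' : inv (pushUnderlineHom A A' M) ≫ (Adeq.underline A).map φr =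
      (Adeq.push A A').map ((Adeq.underline A').map φ) ≫ inv (pushUnderlineHom A A' N) := by
    rw [IsIso.inv_comp_eq, ← Category.assoc, IsIso.eq_comp_inv, hnat]
  refine adequate_of_exact φr
    ((Adeq.push A A').map i ≫ inv (pushUnderlineHom A A' M)) ?_ ?_ ?_
  · have hR0 : (Adeq.push A A').map (0 : F' ⟶ (Adeq.underline A').obj N) = 0 := by
      ext X x
      rfl
    rw [Category.assoc, hnat', ← Category.assoc, ← Functor.map_comp, hzero, hR0, zero_comp]
  · intro X x y hxy
    obtain ⟨⟨B⟩⟩ := X
    have h1 : Function.Injective ((inv (pushUnderlineHom A A' M)).app (Adeq.pt B)) := by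
      intro a b hab
      have := congrArg ((pushUnderlineHom A A' M).app (Adeq.pt B)) hab
      change (inv (pushUnderlineHom A A' M) ≫ pushUnderlineHom A A' M).app (Adeq.pt B) a =
        (inv (pushUnderlineHom A A' M) ≫ pushUnderlineHom A A' M).app (Adeq.pt B) b at this
      rw [IsIso.inv_hom_id] at this
      exact this
    have h2 := h1 hxy
    exact hinj (Adeq.pt ((Adeq.Alg.baseChange A A').obj B)) h2
  · intro X x hx
    obtain ⟨⟨B⟩⟩ := X
    have h1 : ((Adeq.push A A').map ((Adeq.underline A').map φ)).app (Adeq.pt B)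
        ((pushUnderlineHom A A' M).app (Adeq.pt B) x) = 0 := by
      change (pushUnderlineHom A A' M ≫
        (Adeq.push A A').map ((Adeq.underline A').map φ)).app (Adeq.pt B) x = 0
      rw [← hnat]
      change (pushUnderlineHom A A' N).app (Adeq.pt B)
        (((Adeq.underline A).map φr).app (Adeq.pt B) x) = 0
      rw [hx, map_zero]
    obtain ⟨y, hy⟩ := hex (Adeq.pt ((Adeq.Alg.baseChange A A').obj B))
      ((pushUnderlineHom A A' M).app (Adeq.pt B) x) h1
    refine ⟨y, ?_⟩
    change (inv (pushUnderlineHom A A' M)).app (Adeq.pt B)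
      (i.app (Adeq.pt ((Adeq.Alg.baseChange A A').obj B)) y) = x
    rw [hy]
    change (pushUnderlineHom A A' M ≫ inv (pushUnderlineHom A A' M)).app (Adeq.pt B) x = x
    rw [IsIso.hom_inv_id]
    rfl

end Groth.Agent.Lib.Helper44
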