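import Groth.Agent.Lib.Helper44.AdeqKer
import Mathlib

set_option autoImplicit false
universe u
open CategoryTheory CategoryTheory.Limits Opposite TensorProduct

namespace Groth.Agent.Lib.Helper44

variable (A A' : Type u) [CommRing A] [CommRing A'] [Algebra A A']

/-- the `A`-algebra structure on an `A'`-algebra used by `Alg.restr` -/
@[reducible] def restrAlgebra (B' : Adeq.Alg A') : Algebra A B' :=
  ((algebraMap A' B').comp (algebraMap A A')).toAlgebra

theorem restr_isScalarTower (B' : Adeq.Alg A') :
    @IsScalarTower A A' B' _ _ (restrAlgebra A A' B').toSMul :=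
  letI := restrAlgebra A A' B'
  IsScalarTower.of_algebraMap_eq (fun _ => rfl)

/-- the module `A' ⊗ M` -/
noncomputable abbrev bcMod (M : ModuleCat.{u + 1} A) : ModuleCat.{u + 1} A' :=
  ModuleCat.of A' (A' ⊗[A] M)

noncomputable abbrev bcModMap {M N : ModuleCat.{u + 1} A} (φ : M ⟶ N) : bcMod A A' M ⟶ bcMod A A' N :=
  ModuleCat.ofHom (φ.hom.baseChange A')

/-- pointwise comparison `B' ⊗_{A'} (A' ⊗_A M) ≃ B' ⊗_A M` -/
noncomputable def cancelEquiv (M : ModuleCat.{u + 1} A) (B' : Adeq.Alg A') :
    letI := restrAlgebra A A' B'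
    (B' : Type u) ⊗[A'] (A' ⊗[A] M) ≃ₗ[B'] (B' : Type u) ⊗[A] M :=
  letI := restrAlgebra A A' B'
  haveI := restr_isScalarTower A A' B'
  TensorProduct.AlgebraTensorModule.cancelBaseChange A A' B' B' M

theorem cancelEquiv_tmul (M : ModuleCat.{u + 1} A) (B' : Adeq.Alg A') (b' : B') (a' : A') (m : M) :
    letI := restrAlgebra A A' B'
    cancelEquiv A A' M B' (b' ⊗ₜ[A'] (a' ⊗ₜ[A] m)) = (a' • b') ⊗ₜ[A] m := rfl

/-- the comparison morphism `underline (A' ⊗ M) ⟶ restr (underline M)` -/
noncomputable def restrUnderlineHom (M : ModuleCat.{u + 1} A) :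
    (Adeq.underline A').obj (bcMod A A' M) ⟶ (Adeq.restr A A').obj ((Adeq.underline A).obj M) :=
  PresheafOfModules.homMk
    { app := fun X => AddCommGrpCat.ofHom (cancelEquiv A A' M X.unop.unop).toLinearMap.toAddMonoidHom
      naturality := by
        intro X Y f
        ext x
        let _ := restrAlgebra A A' X.unop.unop
        let _ := restrAlgebra A A' Y.unop.unop
        change cancelEquiv A A' M Y.unop.unop
            ((f.unop.unop.hom.toLinearMap.rTensor (A' ⊗[A] M)) x) =
          ((((Adeq.Alg.restr A A').map f.unop.unop).hom.toLinearMap.rTensor M)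
            (cancelEquiv A A' M X.unop.unop x))
        induction x using TensorProduct.induction_on with
        | zero => simp
        | tmul b y =>
          induction y using TensorProduct.induction_on with
          | zero => simp
          | tmul a' m =>
            rw [LinearMap.rTensor_tmul, cancelEquiv_tmul, cancelEquiv_tmul, LinearMap.rTensor_tmul]
            congr 1
            change a' • f.unop.unop.hom b = f.unop.unop.hom (a' • b)
            rw [map_smul]
          | add y₁ y₂ h₁ h₂ =>
            simp only [TensorProduct.tmul_add, map_add] at h₁ h₂ ⊢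
            rw [h₁, h₂]
        | add x y hx hy =>
          simp only [map_add] at hx hy ⊢
          rw [hx, hy] }
    (by
      intro X r m
      exact (cancelEquiv A A' M X.unop.unop).map_smul r m)

theorem restrUnderlineHom_app_apply (M : ModuleCat.{u + 1} A) (B' : Adeq.Alg A')
    (x : (B' : Type u) ⊗[A'] (A' ⊗[A] M)) :
    (restrUnderlineHom A A' M).app (Adeq.pt B') x = cancelEquiv A A' M B' x := rfl

instance restrUnderlineHom_isIso (M : ModuleCat.{u + 1} A) : IsIso (restrUnderlineHom A A' M) := by
  apply isIso_of_app_bijective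
  intro X
  obtain ⟨⟨B'⟩⟩ := X
  exact (cancelEquiv A A' M B').bijective

theorem restrUnderlineHom_naturality {M N : ModuleCat.{u + 1} A} (φ : M ⟶ N) :
    (Adeq.underline A').map (bcModMap A A' φ) ≫ restrUnderlineHom A A' N =
      restrUnderlineHom A A' M ≫ (Adeq.restr A A').map ((Adeq.underline A).map φ) := by
  apply PresheafOfModules.hom_ext
  intro X
  obtain ⟨⟨B'⟩⟩ := X
  ext x
  let _ := restrAlgebra A A' B'
  change cancelEquiv A A' N B' (((φ.hom.baseChange A').baseChange B') x) =
    (φ.hom.baseChange ((Adeq.Alg.restr A A').obj B')) (cancelEquiv A A' M B' x)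
  induction x using TensorProduct.induction_on with
  | zero => simp
  | tmul b y =>
    induction y using TensorProduct.induction_on with
    | zero => simp
    | tmul a' m =>
      rw [LinearMap.baseChange_tmul, LinearMap.baseChange_tmul, cancelEquiv_tmul, cancelEquiv_tmul]
      rfl
    | add y₁ y₂ h₁ h₂ =>
      simp only [TensorProduct.tmul_add, map_add] at h₁ h₂ ⊢
      rw [h₁, h₂]
  | add x y hx hy =>
    simp only [map_add] at hx hy ⊢
    rw [hx, hy]

theorem adequate_restr (F : Adeq.MVF A) (hF : Adeq.adequate A F) :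
    Adeq.adequate A' ((Adeq.restr A A').obj F) := by
  obtain ⟨M, N, φ, i, hzero, hinj, hex⟩ := exists_exact_of_adequate hF
  have hnat := restrUnderlineHom_naturality A A' φ
  have hnat' : inv (restrUnderlineHom A A' M) ≫ (Adeq.underline A').map (bcModMap A A' φ) =
      (Adeq.restr A A').map ((Adeq.underline A).map φ) ≫ inv (restrUnderlineHom A A' N) := by
    rw [IsIso.inv_comp_eq, ← Category.assoc, IsIso.eq_comp_inv, hnat]
  refine adequate_of_exact (bcModMap A A' φ)
    ((Adeq.restr A A').map i ≫ inv (restrUnderlineHom A A' M)) ?_ ?_ ?_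
  · have hR0 : (Adeq.restr A A').map (0 : F ⟶ (Adeq.underline A).obj N) = 0 := by
      ext X x
      rfl
    rw [Category.assoc, hnat', ← Category.assoc, ← Functor.map_comp, hzero, hR0, zero_comp]
  · intro X x y hxy
    obtain ⟨⟨B'⟩⟩ := X
    have h1 : Function.Injective ((inv (restrUnderlineHom A A' M)).app (Adeq.pt B')) := by
      intro a b hab
      have := congrArg ((restrUnderlineHom A A' M).app (Adeq.pt B')) hab
      change (inv (restrUnderlineHom A A' M) ≫ restrUnderlineHom A A' M).app (Adeq.pt B') a =
        (inv (restrUnderlineHom A A' M) ≫ restrUnderlineHom A A' M).app (Adeq.pt B') b at this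
      rw [IsIso.inv_hom_id] at this
      exact this
    have h2 := h1 hxy
    exact hinj (Adeq.pt ((Adeq.Alg.restr A A').obj B')) h2
  · intro X x hx
    obtain ⟨⟨B'⟩⟩ := X
    have h1 : ((Adeq.restr A A').map ((Adeq.underline A).map φ)).app (Adeq.pt B')
        ((restrUnderlineHom A A' M).app (Adeq.pt B') x) = 0 := by
      change (restrUnderlineHom A A' M ≫
        (Adeq.restr A A').map ((Adeq.underline A).map φ)).app (Adeq.pt B') x = 0
      rw [← hnat]
      change (restrUnderlineHom A A' N).app (Adeq.pt B')
        (((Adeq.underline A').map (bcModMap A A' φ)).app (Adeq.pt B') x) = 0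
      rw [hx, map_zero]
    obtain ⟨y, hy⟩ := hex (Adeq.pt ((Adeq.Alg.restr A A').obj B'))
      ((restrUnderlineHom A A' M).app (Adeq.pt B') x) h1
    refine ⟨y, ?_⟩
    change (inv (restrUnderlineHom A A' M)).app (Adeq.pt B')
      (i.app (Adeq.pt ((Adeq.Alg.restr A A').obj B')) y) = x
    rw [hy]
    change (restrUnderlineHom A A' M ≫ inv (restrUnderlineHom A A' M)).app (Adeq.pt B') x = x
    rw [IsIso.hom_inv_id]
    rfl

end Groth.Agent.Lib.Helper44
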