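import Groth.Agent.Lib.Helper44.AdeqAbelian
import Groth.Agent.Lib.Helper44.AdeqRestr
import Groth.Agent.Lib.Helper44.AdeqPush
import Mathlib

/-!
# Descent of adequacy along a ring map (Stacks 46.3.19-like)
-/

set_option autoImplicit false
universe u
open CategoryTheory CategoryTheory.Limits Opposite TensorProduct

namespace Groth.Agent.Lib.Helper44

theorem adequate_of_exact' {A : Type u} [CommRing A] {F G H : Adeq.MVF A}
    (hG : Adeq.adequate A G) (hH : Adeq.adequate A H)
    (i : F ⟶ G) (d : G ⟶ H) (hzero : i ≫ d = 0)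
    (hinj : ∀ X : (Adeq.Alg A)ᵒᵖᵒᵖ, Function.Injective (i.app X))
    (hex : ∀ (X : (Adeq.Alg A)ᵒᵖᵒᵖ) (x : G.obj X), d.app X x = 0 → ∃ y, i.app X y = x) :
    Adeq.adequate A F := by
  have hι : ∀ (X : (Adeq.Alg A)ᵒᵖᵒᵖ) (y : F.obj X),
      (kernel.ι d).app X ((kernel.lift d i hzero).app X y) = i.app X y := by
    intro X y
    change (kernel.lift d i hzero ≫ kernel.ι d).app X y = i.app X y
    rw [kernel.lift_ι]
  have : IsIso (kernel.lift d i hzero) := by
    apply isIso_of_app_bijective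
    intro X
    constructor
    · intro a b hab
      apply hinj X
      rw [← hι, ← hι, hab]
    · intro z
      obtain ⟨y, hy⟩ := hex X ((kernel.ι d).app X z) (kernel_ι_app_comp d X z)
      refine ⟨y, kernel_ι_app_injective d X ?_⟩
      rw [hι, hy]
  exact (Adeq.adequate A).prop_of_iso (asIso (kernel.lift d i hzero)).symm
    (adequate_kernel d hG hH)

variable (A A' : Type u) [CommRing A] [CommRing A'] [Algebra A A']

noncomputable abbrev algT : Adeq.Alg A ⥤ Adeq.Alg A := Adeq.Alg.baseChange A A' ⋙ Adeq.Alg.restr A A'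

theorem algUnit_naturality {B B₂ : Adeq.Alg A} (f : B ⟶ B₂) :
    Adeq.Alg.unit A A' B ≫ (algT A A').map f = f ≫ Adeq.Alg.unit A A' B₂ := by
  ext b
  change Algebra.TensorProduct.map (AlgHom.id A' A') f.hom ((1 : A') ⊗ₜ[A] b) = (1 : A') ⊗ₜ[A] f.hom b
  rw [Algebra.TensorProduct.map_tmul]
  rfl

theorem push_restr_smul (F : Adeq.MVF A) (B : Adeq.Alg A) (r : B)
    (y : ((Adeq.push A A').obj ((Adeq.restr A A').obj F)).obj (Adeq.pt B)) :
    r • y = (show ((Adeq.push A A').obj ((Adeq.restr A A').obj F)).obj (Adeq.pt B) from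
      (((1 : A') ⊗ₜ[A] r : A' ⊗[A] (B : Type u)) : ((algT A A').obj B : Type u)) •
        (show F.obj (Adeq.pt ((algT A A').obj B)) from y)) := by
  rfl

theorem map_unit_smul (F : Adeq.MVF A) (B : Adeq.Alg A) (r : B) (m : F.obj (Adeq.pt B)) :
    (show F.obj (Adeq.pt ((algT A A').obj B)) from
      F.map (Adeq.ptHom (Adeq.Alg.unit A A' B)) (r • m)) =
    (((1 : A') ⊗ₜ[A] r : A' ⊗[A] (B : Type u)) : ((algT A A').obj B : Type u)) •
      (show F.obj (Adeq.pt ((algT A A').obj B)) from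
        F.map (Adeq.ptHom (Adeq.Alg.unit A A' B)) m) := by
  exact (F.map (Adeq.ptHom (Adeq.Alg.unit A A' B))).hom.map_smul r m

noncomputable def unitNat (F : Adeq.MVF A) :
    F.presheaf ⟶ ((Adeq.push A A').obj ((Adeq.restr A A').obj F)).presheaf where
  app := fun X => F.presheaf.map (Adeq.ptHom (Adeq.Alg.unit A A' X.unop.unop))
  naturality := by
    intro X Y f
    change F.presheaf.map (Adeq.ptHom f.unop.unop) ≫
        F.presheaf.map (Adeq.ptHom (Adeq.Alg.unit A A' Y.unop.unop)) =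
      F.presheaf.map (Adeq.ptHom (Adeq.Alg.unit A A' X.unop.unop)) ≫
        F.presheaf.map (Adeq.ptHom ((algT A A').map f.unop.unop))
    rw [← Functor.map_comp, ← Functor.map_comp]
    congr 1

theorem unitNat_app_apply (F : Adeq.MVF A) (B : Adeq.Alg A) (m : F.obj (Adeq.pt B)) :
    (unitNat A A' F).app (Adeq.pt B) m = F.map (Adeq.ptHom (Adeq.Alg.unit A A' B)) m := rfl

theorem unitNat_smul (F : Adeq.MVF A) (X : (Adeq.Alg A)ᵒᵖᵒᵖ) (r : (Adeq.ringOf A).obj X)
    (m : F.obj X) :
    (show ((Adeq.push A A').obj ((Adeq.restr A A').obj F)).obj X from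
      (unitNat A A' F).app X (r • m)) =
      r • (show ((Adeq.push A A').obj ((Adeq.restr A A').obj F)).obj X from
        (unitNat A A' F).app X m) := by
  obtain ⟨⟨B⟩⟩ := X
  exact (map_unit_smul A A' F B r m).trans
        (push_restr_smul A A' F B r _).symm


noncomputable def unitHom (F : Adeq.MVF A) :
    F ⟶ (Adeq.push A A').obj ((Adeq.restr A A').obj F) :=
  PresheafOfModules.homMk (unitNat A A' F) (unitNat_smul A A' F)


theorem unitHom_app_apply (F : Adeq.MVF A) (B : Adeq.Alg A) (x : F.obj (Adeq.pt B)) :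
    (unitHom A A' F).app (Adeq.pt B) x = F.map (Adeq.ptHom (Adeq.Alg.unit A A' B)) x := rfl


end Groth.Agent.Lib.Helper44
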