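import Groth.Agent.Lib.Helper44.AdeqDescent
import Mathlib

/-!
# Descent of adequacy along a ring map: main theorem
-/

set_option autoImplicit false
universe u
open CategoryTheory CategoryTheory.Limits Opposite TensorProduct

namespace Groth.Agent.Lib.Helper44
variable (A A' : Type u) [CommRing A] [CommRing A'] [Algebra A A']

/-- `B ↦ F(A' ⊗ B)` -/
noncomputable abbrev PR : Adeq.MVF A ⥤ Adeq.MVF A := Adeq.restr A A' ⋙ Adeq.push A A'

noncomputable def toPR (F : Adeq.MVF A) (B : Adeq.Alg A) (y : F.obj (Adeq.pt ((algT A A').obj B))) :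
    ((PR A A').obj F).obj (Adeq.pt B) := y

noncomputable def ofPR (F : Adeq.MVF A) (B : Adeq.Alg A) (y : ((PR A A').obj F).obj (Adeq.pt B)) :
    F.obj (Adeq.pt ((algT A A').obj B)) := y

theorem unitHom_app_toPR (F : Adeq.MVF A) (B : Adeq.Alg A) (x : F.obj (Adeq.pt B)) :
    (unitHom A A' F).app (Adeq.pt B) x = toPR A A' F B (F.map (Adeq.ptHom (Adeq.Alg.unit A A' B)) x) :=
  rfl

theorem PR_map_app (F G : Adeq.MVF A) (α : F ⟶ G) (B : Adeq.Alg A)
    (y : ((PR A A').obj F).obj (Adeq.pt B)) :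
    ((PR A A').map α).app (Adeq.pt B) y =
      toPR A A' G B (α.app (Adeq.pt ((algT A A').obj B)) (ofPR A A' F B y)) := rfl

theorem PR_obj_map (F : Adeq.MVF A) {B B₂ : Adeq.Alg A} (f : B ⟶ B₂)
    (y : ((PR A A').obj F).obj (Adeq.pt B)) :
    (show ((PR A A').obj F).obj (Adeq.pt B₂) from ((PR A A').obj F).map (Adeq.ptHom f) y) =
      toPR A A' F B₂ (F.map (Adeq.ptHom ((algT A A').map f)) (ofPR A A' F B y)) := rfl


theorem ofPR_toPR (F : Adeq.MVF A) (B : Adeq.Alg A) (y : F.obj (Adeq.pt ((algT A A').obj B))) :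
    ofPR A A' F B (toPR A A' F B y) = y := rfl

theorem toPR_ofPR (F : Adeq.MVF A) (B : Adeq.Alg A) (y : ((PR A A').obj F).obj (Adeq.pt B)) :
    toPR A A' F B (ofPR A A' F B y) = y := rfl

theorem toPR_injective (F : Adeq.MVF A) (B : Adeq.Alg A) : Function.Injective (toPR A A' F B) :=
  fun _ _ h => h

omit [CommRing A'] [Algebra A A'] in
theorem map_map_apply (F : Adeq.MVF A) {B₁ B₂ B₃ : Adeq.Alg A} (f : B₁ ⟶ B₂) (g : B₂ ⟶ B₃)
    (x : F.obj (Adeq.pt B₁)) :
    (show F.obj (Adeq.pt B₃) from F.map (Adeq.ptHom g)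
      (show F.obj (Adeq.pt B₂) from F.map (Adeq.ptHom f) x)) =
      F.map (Adeq.ptHom (f ≫ g)) x := by
  have : Adeq.ptHom (f ≫ g) = Adeq.ptHom f ≫ Adeq.ptHom g := rfl
  rw [this, F.map_comp]
  rfl

/-- first coface map -/
noncomputable abbrev dZero (F : Adeq.MVF A) : (PR A A').obj F ⟶ (PR A A').obj ((PR A A').obj F) :=
  (PR A A').map (unitHom A A' F)

/-- second coface map -/
noncomputable abbrev dOne (F : Adeq.MVF A) : (PR A A').obj F ⟶ (PR A A').obj ((PR A A').obj F) :=
  unitHom A A' ((PR A A').obj F)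

theorem dZero_app (F : Adeq.MVF A) (B : Adeq.Alg A) (y : ((PR A A').obj F).obj (Adeq.pt B)) :
    (dZero A A' F).app (Adeq.pt B) y =
      toPR A A' _ B (toPR A A' F _
        (F.map (Adeq.ptHom (Adeq.Alg.unit A A' ((algT A A').obj B))) (ofPR A A' F B y))) := rfl

theorem dOne_app (F : Adeq.MVF A) (B : Adeq.Alg A) (y : ((PR A A').obj F).obj (Adeq.pt B)) :
    (dOne A A' F).app (Adeq.pt B) y =
      toPR A A' _ B (toPR A A' F _
        (F.map (Adeq.ptHom ((algT A A').map (Adeq.Alg.unit A A' B))) (ofPR A A' F B y))) := rfl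


theorem adequate_of_restr_adequate_of_exact
    (F : Adeq.MVF A) (h₁ : Adeq.adequate A' ((Adeq.restr A A').obj F))
    (h₂ : ∀ B : Adeq.Alg A, Function.Injective (F.map (Adeq.ptHom (Adeq.Alg.unit A A' B))) ∧
      ∀ y : F.obj (Adeq.pt ((Adeq.Alg.restr A A').obj ((Adeq.Alg.baseChange A A').obj B))),
        F.map (Adeq.ptHom (Adeq.Alg.unit A A' ((Adeq.Alg.restr A A').obj ((Adeq.Alg.baseChange A A').obj B)))) y =
          F.map (Adeq.ptHom ((Adeq.Alg.restr A A').map ((Adeq.Alg.baseChange A A').map (Adeq.Alg.unit A A' B)))) y →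
        y ∈ Set.range (F.map (Adeq.ptHom (Adeq.Alg.unit A A' B)))) :
    Adeq.adequate A F := by
  have hG₁a : Adeq.adequate A ((PR A A').obj F) := adequate_push A A' _ h₁
  have hG₂a : Adeq.adequate A ((PR A A').obj ((PR A A').obj F)) :=
    adequate_push A A' _ (adequate_restr A A' _ hG₁a)
  refine adequate_of_exact' hG₁a hG₂a (unitHom A A' F) (dZero A A' F - dOne A A' F) ?_ ?_ ?_
  · apply PresheafOfModules.hom_ext
    intro X
    obtain ⟨⟨B⟩⟩ := X
    ext x
    have key : (dZero A A' F).app (Adeq.pt B) ((unitHom A A' F).app (Adeq.pt B) x) =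
        (dOne A A' F).app (Adeq.pt B) ((unitHom A A' F).app (Adeq.pt B) x) := by
      rw [dZero_app, dOne_app, unitHom_app_toPR]
      have key0 : (show F.obj (Adeq.pt ((algT A A').obj ((algT A A').obj B))) from
          F.map (Adeq.ptHom (Adeq.Alg.unit A A' ((algT A A').obj B)))
            (show F.obj (Adeq.pt ((algT A A').obj B)) from
              F.map (Adeq.ptHom (Adeq.Alg.unit A A' B)) x)) =
          F.map (Adeq.ptHom ((algT A A').map (Adeq.Alg.unit A A' B)))
            (show F.obj (Adeq.pt ((algT A A').obj B)) from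
              F.map (Adeq.ptHom (Adeq.Alg.unit A A' B)) x) := by
        refine (map_map_apply A F (Adeq.Alg.unit A A' B)
          (Adeq.Alg.unit A A' ((algT A A').obj B)) x).trans (Eq.trans ?_
          (map_map_apply A F (Adeq.Alg.unit A A' B)
            ((algT A A').map (Adeq.Alg.unit A A' B)) x).symm)
        rw [algUnit_naturality]
        rfl
      exact congrArg (fun w => toPR A A' _ B (toPR A A' F _ w)) key0
    exact sub_eq_zero.2 key
  · intro X
    obtain ⟨⟨B⟩⟩ := X
    exact (h₂ B).1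
  · intro X y hy
    obtain ⟨⟨B⟩⟩ := X
    have hy' : (dZero A A' F).app (Adeq.pt B) y - (dOne A A' F).app (Adeq.pt B) y = 0 := hy
    rw [sub_eq_zero, dZero_app, dOne_app] at hy'
    have hy'' := toPR_injective A A' F _ (toPR_injective A A' _ B hy')
    obtain ⟨x, hx⟩ := (h₂ B).2 (ofPR A A' F B y) hy''
    exact ⟨x, hx⟩

end Groth.Agent.Lib.Helper44
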