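import Groth.Agent.Lib.Helper44.AdeqKer
import Mathlib

/-!
# Every section of an adequate functor is hit from a linearly adequate functor
-/

set_option autoImplicit false
universe u
open CategoryTheory CategoryTheory.Limits Opposite TensorProduct

namespace Groth.Agent.Lib.Helper44

/-- Equational criterion, in the form used for adequate functors: an element of `B ⊗ M` killed by
`1 ⊗ φ` is a sum `∑ bᵢ ⊗ mᵢ` such that the `φ(mᵢ)` are combinations `∑ⱼ aᵢⱼ yⱼ` with
`∑ᵢ aᵢⱼ bᵢ = 0`. -/
theorem exists_relations {A : Type*} [CommRing A] {B M N : Type*} [AddCommGroup B] [Module A B]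
    [AddCommGroup M] [Module A M] [AddCommGroup N] [Module A N] (φ : M →ₗ[A] N) (x : B ⊗[A] M)
    (hx : (φ.lTensor B) x = 0) :
    ∃ (ι : Type) (_ : Fintype ι) (k : ℕ) (b : ι → B) (m : ι → M) (a : ι → Fin k → A)
      (y : Fin k → N),
      x = ∑ i, b i ⊗ₜ[A] m i ∧ (∀ i, φ (m i) = ∑ j, a i j • y j) ∧ (∀ j, ∑ i, a i j • b i = 0) := by
  classical
  obtain ⟨n, b, m, rfl⟩ := TensorProduct.exists_sum_tmul_eq x
  set N₀ : Submodule A B := Submodule.span A (Set.range b) with hN₀
  have hb : ∀ i, b i ∈ N₀ := fun i => Submodule.subset_span ⟨i, rfl⟩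
  have hfg : N₀.FG := Submodule.fg_span (Set.finite_range b)
  set x₀ : N₀ ⊗[A] N := ∑ i, (⟨b i, hb i⟩ : N₀) ⊗ₜ[A] φ (m i) with hx₀
  have h0 : N₀.subtype.rTensor N x₀ = N₀.subtype.rTensor N 0 := by
    rw [map_zero, hx₀, map_sum]
    simp only [LinearMap.rTensor_tmul, Submodule.subtype_apply]
    simpa [map_sum] using hx
  obtain ⟨N', hN'fg, hle, heq⟩ := hfg.exists_rTensor_fg_inclusion_eq h0
  rw [map_zero] at heq
  obtain ⟨n', s, hs⟩ := Submodule.fg_iff_exists_fin_generating_family.mp hN'fg
  have hsN' : ∀ i, s i ∈ N' := fun i => hs ▸ Submodule.subset_span ⟨i, rfl⟩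
  let b' : Fin n ⊕ Fin n' → N' := Sum.elim (fun i => ⟨b i, hle (hb i)⟩) (fun i => ⟨s i, hsN' i⟩)
  let nn : Fin n ⊕ Fin n' → N := Sum.elim (fun i => φ (m i)) (fun _ => 0)
  have hspan : Submodule.span A (Set.range b') = ⊤ := by
    rw [eq_top_iff]
    rintro ⟨z, hz⟩ -
    have hz' : z ∈ Submodule.span A (Set.range s) := hs ▸ hz
    have : (⟨z, hz⟩ : N') ∈ Submodule.span A (Set.range fun i => (⟨s i, hsN' i⟩ : N')) := by
      have hmap : Submodule.map N'.subtype
          (Submodule.span A (Set.range fun i => (⟨s i, hsN' i⟩ : N'))) =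
          Submodule.span A (Set.range s) := by
        rw [Submodule.map_span, ← Set.range_comp]
        rfl
      rw [← hmap] at hz'
      obtain ⟨w, hw, hwz⟩ := hz'
      have : w = ⟨z, hz⟩ := Subtype.ext hwz
      rwa [← this]
    refine Submodule.span_mono ?_ this
    rintro _ ⟨i, rfl⟩
    exact ⟨Sum.inr i, rfl⟩
  have hsum : ∑ i, b' i ⊗ₜ[A] nn i = (0 : N' ⊗[A] N) := by
    rw [Fintype.sum_sum_type]
    simp only [b', nn, Sum.elim_inl, Sum.elim_inr, tmul_zero, Finset.sum_const_zero, add_zero]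
    rw [← heq, hx₀, map_sum]
    rfl
  obtain ⟨k, a, y, h1, h2⟩ := TensorProduct.vanishesTrivially_of_sum_tmul_eq_zero A hspan hsum
  refine ⟨Fin n ⊕ Fin n', inferInstance, k, fun i => (b' i : B),
    Sum.elim m (fun _ => 0), a, y, ?_, ?_, ?_⟩
  · rw [Fintype.sum_sum_type]
    simp [b']
  · rintro (i | i)
    · simpa [nn] using h1 (Sum.inl i)
    · simpa [nn] using h1 (Sum.inr i)
  · intro j
    have := congrArg (N'.subtype) (h2 j)
    simpa [map_sum] using this

variable {A : Type u} [CommRing A]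

/-- The finite free module on a finite type, in the universe of the values. -/
noncomputable abbrev freeMod (A : Type u) [CommRing A] (ι : Type) : ModuleCat.{u + 1} A :=
  ModuleCat.of A (ULift.{u + 1} (ι →₀ A))

/-- The basis vectors of `freeMod`. -/
noncomputable def freeE (A : Type u) [CommRing A] {ι : Type} (i : ι) : freeMod A ι :=
  ULift.up (Finsupp.single i (1 : A))

/-- The map out of a free module with prescribed values on the basis. -/
noncomputable def freeDesc {ι : Type} {M : ModuleCat.{u + 1} A} (m : ι → M) : freeMod A ι ⟶ M :=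
  ModuleCat.ofHom ((Finsupp.linearCombination A m).comp ULift.moduleEquiv.toLinearMap)

theorem freeDesc_freeE {ι : Type} {M : ModuleCat.{u + 1} A} (m : ι → M) (i : ι) :
    (freeDesc m).hom (freeE A i) = m i := by
  change Finsupp.linearCombination A m (Finsupp.single i (1 : A)) = m i
  rw [Finsupp.linearCombination_single, one_smul]

theorem freeMod_hom_ext {ι : Type} {M : ModuleCat.{u + 1} A} (f g : freeMod A ι ⟶ M)
    (h : ∀ i, f.hom (freeE A i) = g.hom (freeE A i)) : f = g := by
  apply ModuleCat.hom_ext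
  have : f.hom.comp ULift.moduleEquiv.symm.toLinearMap =
      g.hom.comp ULift.moduleEquiv.symm.toLinearMap := by
    apply Finsupp.lhom_ext'
    intro i
    apply LinearMap.ext_ring
    exact h i
  ext x
  have := LinearMap.congr_fun this x.down
  exact this

instance (ι : Type) [Finite ι] : Module.Finite A (freeMod A ι) :=
  Module.Finite.equiv (ULift.moduleEquiv (R := A) (M := ι →₀ A)).symm

instance (ι : Type) : Module.Free A (freeMod A ι) :=
  Module.Free.of_equiv (ULift.moduleEquiv (R := A) (M := ι →₀ A)).symm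


/-- The matrix map between finite free modules. -/
noncomputable def freeMat {ι κ : Type} [Fintype κ] (a : ι → κ → A) : freeMod A ι ⟶ freeMod A κ :=
  freeDesc (fun i => ∑ j, a i j • freeE A j)

theorem freeMat_freeE {ι κ : Type} [Fintype κ] (a : ι → κ → A) (i : ι) :
    (freeMat a).hom (freeE A i) = ∑ j, a i j • freeE A j := freeDesc_freeE _ i

theorem exists_hit {M N : ModuleCat.{u + 1} A} (φ : M ⟶ N) (B : Adeq.Alg A)
    (ξ : (kernel ((Adeq.underline A).map φ)).obj (Adeq.pt B)) :
    ∃ (ι κ : Type) (_ : Fintype ι) (_ : Fintype κ) (φ₀ : freeMod A ι ⟶ freeMod A κ)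
      (α : freeMod A ι ⟶ M) (β : freeMod A κ ⟶ N) (w : φ₀ ≫ β = α ≫ φ)
      (x : (kernel ((Adeq.underline A).map φ₀)).obj (Adeq.pt B)),
      (kernel.map ((Adeq.underline A).map φ₀) ((Adeq.underline A).map φ)
        ((Adeq.underline A).map α) ((Adeq.underline A).map β)
        (by rw [← Functor.map_comp, ← Functor.map_comp, w])).app (Adeq.pt B) x = ξ := by
  classical
  set ξ' : (B : Type u) ⊗[A] M := (kernel.ι ((Adeq.underline A).map φ)).app (Adeq.pt B) ξ with hξ'
  have hξ0 : (φ.hom.lTensor B) ξ' = 0 := by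
    have := kernel_ι_app_comp ((Adeq.underline A).map φ) (Adeq.pt B) ξ
    exact this
  obtain ⟨ι, hι, k, b, m, a, y, hsum, h1, h2⟩ := exists_relations φ.hom ξ' hξ0
  refine ⟨ι, Fin k, hι, inferInstance, freeMat a, freeDesc m, freeDesc y, ?_, ?_⟩
  · apply freeMod_hom_ext
    intro i
    rw [ModuleCat.hom_comp, ModuleCat.hom_comp, LinearMap.comp_apply, LinearMap.comp_apply,
      freeMat_freeE, map_sum, freeDesc_freeE, h1 i]
    refine Finset.sum_congr rfl fun j _ => ?_
    rw [map_smul, freeDesc_freeE]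
  · set x' : (B : Type u) ⊗[A] freeMod A ι := ∑ i, b i ⊗ₜ[A] freeE A i with hx'
    have hx0 : ((freeMat a).hom.baseChange B) x' = 0 := by
      have key : ∀ i, ((freeMat a).hom.baseChange B) (b i ⊗ₜ[A] freeE A i) =
          ∑ j, (a i j • b i) ⊗ₜ[A] freeE A j := by
        intro i
        rw [LinearMap.baseChange_tmul, freeMat_freeE, TensorProduct.tmul_sum]
        refine Finset.sum_congr rfl fun j _ => ?_
        rw [TensorProduct.tmul_smul, TensorProduct.smul_tmul']
      rw [hx', map_sum, Finset.sum_congr rfl (fun i _ => key i), Finset.sum_comm]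
      refine Finset.sum_eq_zero fun j _ => ?_
      rw [← TensorProduct.sum_tmul, h2 j, TensorProduct.zero_tmul]
    obtain ⟨x, hx⟩ := exists_kernel_preimage ((Adeq.underline A).map (freeMat a)) (Adeq.pt B) x' hx0
    refine ⟨x, ?_⟩
    apply kernel_ι_app_injective _ (Adeq.pt B)
    change (kernel.map _ _ _ _ _ ≫ kernel.ι ((Adeq.underline A).map φ)).app (Adeq.pt B) x = ξ'
    rw [kernel.lift_ι]
    change ((Adeq.underline A).map (freeDesc m)).app (Adeq.pt B)
      ((kernel.ι ((Adeq.underline A).map (freeMat a))).app (Adeq.pt B) x) = ξ'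
    rw [hx]
    change ((freeDesc m).hom.baseChange B) x' = ξ'
    rw [hx', map_sum, hsum]
    refine Finset.sum_congr rfl fun i _ => ?_
    rw [LinearMap.baseChange_tmul, freeDesc_freeE]


end Groth.Agent.Lib.Helper44
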