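import Groth.Agent.Lib.Helper44.AdeqLift
import Groth.Agent.S8741
import Mathlib

/-!
# Extensions of adequate functors are adequate
-/

set_option autoImplicit false
universe u
open CategoryTheory CategoryTheory.Limits Opposite TensorProduct

namespace Groth.Agent.Lib.Helper44

variable {A : Type u} [CommRing A]

theorem add_app_apply {F G : Adeq.MVF A} (a c : F ⟶ G) (X : (Adeq.Alg A)ᵒᵖᵒᵖ) (x : F.obj X) :
    (a + c).app X x = a.app X x + c.app X x := rfl

theorem neg_app_apply {F G : Adeq.MVF A} (a : F ⟶ G) (X : (Adeq.Alg A)ᵒᵖᵒᵖ) (x : F.obj X) :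
    (-a).app X x = -(a.app X x) := rfl

theorem comp_app_apply {F G H : Adeq.MVF A} (a : F ⟶ G) (c : G ⟶ H) (X : (Adeq.Alg A)ᵒᵖᵒᵖ)
    (x : F.obj X) : (a ≫ c).app X x = c.app X (a.app X x) := rfl

theorem adequate_of_shortExact_adequate (S : ShortComplex (Adeq.MVF A))
    (hS : S.ShortExact) (h₁ : Adeq.adequate A S.X₁) (h₃ : Adeq.adequate A S.X₃) :
    Adeq.adequate A S.X₂ := by
  have := hS.mono_f
  have := hS.epi_g
  have hgsurj : ∀ X : (Adeq.Alg A)ᵒᵖᵒᵖ, Function.Surjective (S.g.app X) :=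
    fun X => PresheafOfModules.surjective_of_epi _ X
  have hfinj : ∀ X : (Adeq.Alg A)ᵒᵖᵒᵖ, Function.Injective (S.f.app X) :=
    fun X => PresheafOfModules.injective_of_mono _ X
  have hfex : ∀ (X : (Adeq.Alg A)ᵒᵖᵒᵖ) (x : S.X₂.obj X), S.g.app X x = 0 →
      ∃ y, S.f.app X y = x := fun X x hx => exact_app S hS.exact X x hx
  have hG : ∀ (C : Adeq.Alg A) (k : ℕ), Function.Bijective (deltaK S.X₂ C k) := fun C k =>
    deltaK_bijective_of_extension S.f S.g hfinj hfex hgsurj C k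
      (deltaK_bijective_of_adequate h₁ C k) (deltaK_bijective_of_adequate h₃ C k)
  have hH : ∀ (C : Adeq.Alg A), Function.Injective (deltaK S.X₃ C 1) := fun C =>
    (deltaK_bijective_of_adequate h₃ C 1).1
  -- a surjection from a sum of linearly adequate functors
  obtain ⟨I, Lf, hLf, c, hc, π, hπ⟩ := Groth.Agent.S8741.result A S.X₃ h₃
  have hπsurj : ∀ X : (Adeq.Alg A)ᵒᵖᵒᵖ, Function.Surjective (π.app X) :=
    fun X => PresheafOfModules.surjective_of_epi _ X
  have hlift : ∀ i, ∃ t : Lf i ⟶ S.X₂, t ≫ S.g = c.inj i ≫ π := fun i =>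
    exists_lift_of_linAdequate S.g hgsurj hG hH (hLf i) (c.inj i ≫ π)
  choose ti hti using hlift
  let t : c.pt ⟶ S.X₂ := Cofan.IsColimit.desc hc ti
  have ht : t ≫ S.g = π := by
    apply Cofan.IsColimit.hom_ext hc
    intro i
    rw [← Category.assoc, Cofan.IsColimit.fac, hti]
  have hcpt : Adeq.adequate A c.pt := by
    have h := adequate_sigma Lf (fun i => adequate_of_linAdequate (hLf i))
    exact (Adeq.adequate A).prop_of_iso
      (IsColimit.coconePointUniqueUpToIso (coproductIsCoproduct Lf) hc) h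
  -- presentation of `S.X₂` as a cokernel
  have hK : Adeq.adequate A (kernel π) := adequate_kernel π hcpt h₃
  have hZ : Adeq.adequate A (S.X₁ ⊞ c.pt) :=
    (Adeq.adequate A).prop_of_iso (biprod.isoProd S.X₁ c.pt).symm
      ((Adeq.adequate A).prop_prod S.X₁ c.pt h₁ hcpt)
  let μ : kernel π ⟶ S.X₁ := hS.exact.lift (kernel.ι π ≫ t) (by
    rw [Category.assoc, ht, kernel.condition])
  have hμ : μ ≫ S.f = kernel.ι π ≫ t := hS.exact.lift_f _ _
  let φ : kernel π ⟶ S.X₁ ⊞ c.pt := biprod.lift (-μ) (kernel.ι π)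
  let ψ : S.X₁ ⊞ c.pt ⟶ S.X₂ := biprod.desc S.f t
  have hφψ : φ ≫ ψ = 0 := by
    simp only [φ, ψ, biprod.lift_desc, Preadditive.neg_comp, hμ, neg_add_cancel]
  have hψinl : ∀ (X : (Adeq.Alg A)ᵒᵖᵒᵖ) (x : S.X₁.obj X),
      ψ.app X ((biprod.inl : S.X₁ ⟶ S.X₁ ⊞ c.pt).app X x) = S.f.app X x := by
    intro X x
    rw [← comp_app_apply, biprod.inl_desc]
  have hψinr : ∀ (X : (Adeq.Alg A)ᵒᵖᵒᵖ) (l : c.pt.obj X),
      ψ.app X ((biprod.inr : c.pt ⟶ S.X₁ ⊞ c.pt).app X l) = t.app X l := by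
    intro X l
    rw [← comp_app_apply, biprod.inr_desc]
  have htotal : ∀ (X : (Adeq.Alg A)ᵒᵖᵒᵖ) (z : (S.X₁ ⊞ c.pt).obj X),
      z = (biprod.inl : S.X₁ ⟶ S.X₁ ⊞ c.pt).app X ((biprod.fst : S.X₁ ⊞ c.pt ⟶ S.X₁).app X z) + (biprod.inr : c.pt ⟶ S.X₁ ⊞ c.pt).app X ((biprod.snd : S.X₁ ⊞ c.pt ⟶ c.pt).app X z) := by
    intro X z
    have h := congrArg (fun m => m.app X z) (biprod.total (X := S.X₁) (Y := c.pt))
    exact h.symm
  have hφfst : ∀ (X : (Adeq.Alg A)ᵒᵖᵒᵖ) (l' : (kernel π).obj X),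
      (biprod.fst : S.X₁ ⊞ c.pt ⟶ S.X₁).app X (φ.app X l') = -(μ.app X l') := by
    intro X l'
    rw [← comp_app_apply, biprod.lift_fst]
    rfl
  have hφsnd : ∀ (X : (Adeq.Alg A)ᵒᵖᵒᵖ) (l' : (kernel π).obj X),
      (biprod.snd : S.X₁ ⊞ c.pt ⟶ c.pt).app X (φ.app X l') = (kernel.ι π).app X l' := by
    intro X l'
    rw [← comp_app_apply, biprod.lift_snd]
  let d : cokernel φ ⟶ S.X₂ := cokernel.desc φ ψ hφψ
  have hd : ∀ (X : (Adeq.Alg A)ᵒᵖᵒᵖ) (z : (S.X₁ ⊞ c.pt).obj X),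
      d.app X ((cokernel.π φ).app X z) = ψ.app X z := by
    intro X z
    rw [← comp_app_apply, cokernel.π_desc]
  have hdiso : IsIso d := by
    apply isIso_of_app_bijective
    intro X
    constructor
    · intro w w' hww'
      obtain ⟨z, rfl⟩ := cokernel_π_app_surjective φ X w
      obtain ⟨z', rfl⟩ := cokernel_π_app_surjective φ X w'
      rw [hd, hd] at hww'
      -- `z - z'` is in the image of `φ`
      have h0 : ψ.app X (z - z') = 0 := by rw [map_sub, hww', sub_self]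
      generalize hy : z - z' = y at h0
      have hy' := congrArg (ψ.app X) (htotal X y)
      rw [h0, map_add, hψinl, hψinr] at hy'
      replace h0 := hy'.symm
      have h1 : π.app X ((biprod.snd : S.X₁ ⊞ c.pt ⟶ c.pt).app X y) = 0 := by
        have e := congrArg (S.g.app X) h0
        rw [map_add, map_zero] at e
        have e1 : S.g.app X (S.f.app X ((biprod.fst : S.X₁ ⊞ c.pt ⟶ S.X₁).app X y)) = 0 := by
          change (S.f ≫ S.g).app X _ = 0
          rw [S.zero]
          rfl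
        have e2 : S.g.app X (t.app X ((biprod.snd : S.X₁ ⊞ c.pt ⟶ c.pt).app X y)) =
            π.app X ((biprod.snd : S.X₁ ⊞ c.pt ⟶ c.pt).app X y) := by
          change (t ≫ S.g).app X _ = _
          rw [ht]
        rw [e1, zero_add, e2] at e
        exact e
      obtain ⟨l', hl'⟩ := exists_kernel_preimage π X _ h1
      have h2 : (biprod.fst : S.X₁ ⊞ c.pt ⟶ S.X₁).app X y = -(μ.app X l') := by
        have e3 : S.f.app X (μ.app X l') = t.app X ((kernel.ι π).app X l') := by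
          change (μ ≫ S.f).app X l' = (kernel.ι π ≫ t).app X l'
          rw [hμ]
        apply hfinj X
        rw [map_neg, e3, hl']
        exact eq_neg_of_add_eq_zero_left h0
      have h3 : y = φ.app X l' := by
        refine (htotal X y).trans (Eq.trans ?_ (htotal X (φ.app X l')).symm)
        rw [hφfst, hφsnd, h2, hl']
      have h4 : (cokernel.π φ).app X y = 0 := by
        rw [h3]
        exact cokernel_π_app_comp φ X l'
      rw [← hy, map_sub, sub_eq_zero] at h4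
      exact h4
    · intro y
      obtain ⟨l, hl⟩ := hπsurj X (S.g.app X y)
      have h0 : S.g.app X (y - t.app X l) = 0 := by
        rw [map_sub, ← comp_app_apply t, ht, hl, sub_self]
      obtain ⟨x, hx⟩ := hfex X _ h0
      refine ⟨(cokernel.π φ).app X ((biprod.inl : S.X₁ ⟶ S.X₁ ⊞ c.pt).app X x + (biprod.inr : c.pt ⟶ S.X₁ ⊞ c.pt).app X l), ?_⟩
      rw [hd, map_add, hψinl, hψinr, hx, sub_add_cancel]
  exact (Adeq.adequate A).prop_of_iso (asIso d) (adequate_cokernel φ hK hZ)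

end Groth.Agent.Lib.Helper44
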