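import Groth.Agent.Lib.Helper44.AdeqAmitsurH1
import Mathlib

set_option autoImplicit false
universe u
open CategoryTheory CategoryTheory.Limits Opposite TensorProduct

namespace Groth.Agent.Lib.Helper44

section
variable {B : Type u} [CommRing B]

theorem mmap_add (F : Adeq.MVF B) {D D' : Adeq.Alg B} (f : D ⟶ D') (x y : F.obj (Adeq.pt D)) :
    mmap F f (x + y) = mmap F f x + mmap F f y := map_add (F.map (Adeq.ptHom f)).hom x y

theorem mmap_congr (F : Adeq.MVF B) {D D' : Adeq.Alg B} {f f' : D ⟶ D'} (h : f = f')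
    (x : F.obj (Adeq.pt D)) : mmap F f x = mmap F f' x := by rw [h]

end

section
variable (A : Type u) [CommRing A] (P : Type u) [CommRing P] [Algebra A P]

theorem cf0_inc1 : inc1 A P ≫ cf0 A P = inc2 A P ≫ cf2 A P := by
  apply CommAlgCat.hom_ext
  apply AlgHom.ext
  intro b
  change (1 : P) ⊗ₜ[A] (b ⊗ₜ[A] (1 : P)) = (1 : P) ⊗ₜ[A] (b ⊗ₜ[A] (1 : P))
  rfl

theorem cf0_inc2 : inc2 A P ≫ cf0 A P = inc2 A P ≫ cf1 A P := by
  apply CommAlgCat.hom_ext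
  apply AlgHom.ext
  intro b
  change (1 : P) ⊗ₜ[A] ((1 : P) ⊗ₜ[A] b) = (1 : P) ⊗ₜ[A] ((1 : P) ⊗ₜ[A] b)
  rfl

theorem cf1_inc1 : inc1 A P ≫ cf1 A P = inc1 A P ≫ cf2 A P := by
  apply CommAlgCat.hom_ext
  apply AlgHom.ext
  intro b
  change b ⊗ₜ[A] ((1 : P) ⊗ₜ[A] (1 : P)) = b ⊗ₜ[A] ((1 : P) ⊗ₜ[A] (1 : P))
  rfl

end

section
variable {B : Type u} [CommRing B]
variable {J : Type u} [Finite J] (C : J → Adeq.Alg B)
  [hff : Module.FaithfullyFlat B (∀ j, (C j : Type u))]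

include hff in
/-- the key lifting lemma for extensions: local lifts of a section of `F₃` can be corrected, by the
vanishing of the first Amitsur cohomology of `F₁`, to a global lift. -/
theorem adequate_ext_lift (F₁ F₂ F₃ : Adeq.MVF B) (f : F₁ ⟶ F₂) (g : F₂ ⟶ F₃)
    (hF₁ : Adeq.adequate B F₁) (hF₃ : Adeq.adequate B F₃)
    (hfg : ∀ (X) (x : F₁.obj X), g.app X (f.app X x) = 0)
    (hf : ∀ X, Function.Injective (f.app X))
    (hex : ∀ (X) (y : F₂.obj X), g.app X y = 0 → ∃ x, f.app X x = y)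
    (gp : ∀ y : ∀ j, F₂.obj (Adeq.pt (C j)),
      ∃ y' : F₂.obj (Adeq.pt (piAlg C)), ∀ j, mmap F₂ (piEv C j) y' = y j)
    (ds : ∀ y'' : F₂.obj (Adeq.pt (piAlg C)),
      mmap F₂ (inc1 B (∀ j, (C j : Type u))) y'' = mmap F₂ (inc2 B (∀ j, (C j : Type u))) y'' →
      ∃ y₀ : F₂.obj (Adeq.pt (Adeq.algOf B B)), mmap F₂ (ofIdTo (piAlg C)) y₀ = y'')
    (z : F₃.obj (Adeq.pt (Adeq.algOf B B))) (y : ∀ j, F₂.obj (Adeq.pt (C j)))
    (hy : ∀ j, g.app (Adeq.pt (C j)) (y j) = mmap F₃ (ofIdTo (C j)) z) :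
    ∃ y₀ : F₂.obj (Adeq.pt (Adeq.algOf B B)), g.app (Adeq.pt (Adeq.algOf B B)) y₀ = z := by
  obtain ⟨y', hy'⟩ := gp y
  -- step 1
  have h1 : g.app (Adeq.pt (piAlg C)) y' = mmap F₃ (ofIdTo (piAlg C)) z := by
    rw [← sub_eq_zero]
    apply adequate_pi_injective C F₃ hF₃
    intro j
    change mmap F₃ (piEv C j) _ = 0
    rw [mmap_sub, sub_eq_zero, ← mmap_nat, hy' j, hy j, mmap_ofIdTo]
  -- step 2
  let P := ∀ j, (C j : Type u)
  let d₂ : F₂.obj (Adeq.pt (BB B P)) := mmap F₂ (inc1 B P) y' - mmap F₂ (inc2 B P) y'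
  have h2 : g.app (Adeq.pt (BB B P)) d₂ = 0 := by
    change g.app (Adeq.pt (BB B P)) (mmap F₂ (inc1 B P) y' - mmap F₂ (inc2 B P) y') = 0
    rw [map_sub, mmap_nat, mmap_nat, h1, mmap_ofIdTo, mmap_ofIdTo, sub_self]
  obtain ⟨d₁, hd₁⟩ := hex _ d₂ h2
  -- step 3: the cocycle condition
  have h3 : mmap F₁ (cf0 B P) d₁ - mmap F₁ (cf1 B P) d₁ + mmap F₁ (cf2 B P) d₁ = 0 := by
    apply hf (Adeq.pt (BBB B P))
    rw [map_zero, map_add, map_sub, mmap_nat, mmap_nat, mmap_nat, hd₁]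
    change mmap F₂ (cf0 B P) (mmap F₂ (inc1 B P) y' - mmap F₂ (inc2 B P) y') -
      mmap F₂ (cf1 B P) (mmap F₂ (inc1 B P) y' - mmap F₂ (inc2 B P) y') +
      mmap F₂ (cf2 B P) (mmap F₂ (inc1 B P) y' - mmap F₂ (inc2 B P) y') = 0
    rw [mmap_sub, mmap_sub, mmap_sub, ← mmap_comp, ← mmap_comp, ← mmap_comp, ← mmap_comp,
      ← mmap_comp, ← mmap_comp, cf0_inc1, cf0_inc2, cf1_inc1]
    abel
  obtain ⟨t, ht⟩ := adequate_amitsur_H1 B P F₁ hF₁ d₁ h3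
  -- step 4
  have h4 : mmap F₂ (inc1 B P) (y' - f.app (Adeq.pt (piAlg C)) t) =
      mmap F₂ (inc2 B P) (y' - f.app (Adeq.pt (piAlg C)) t) := by
    rw [mmap_sub, mmap_sub, ← mmap_nat, ← mmap_nat, sub_eq_sub_iff_sub_eq_sub]
    rw [← map_sub, ht, hd₁]
  obtain ⟨y₀, hy₀⟩ := ds _ h4
  refine ⟨y₀, ?_⟩
  have hinj := (adequate_ff_descent B P F₃ hF₃).1
  apply hinj
  change mmap F₃ (ofIdTo (piAlg C)) _ = mmap F₃ (ofIdTo (piAlg C)) z
  rw [← mmap_nat, hy₀, map_sub, hfg, sub_zero, h1]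

end
end Groth.Agent.Lib.Helper44
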