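import Groth.Agent.Lib.Helper44.AdeqHit
import Mathlib

/-!
# Morphisms from a linearly adequate functor to `underline M` extend

The kernel `L` of `underline P → underline P'` (`P`, `P'` finite free) is `C ↦ Hom_A(W, C)` for a
finitely presented module `W`; evaluating a morphism `L → underline M` on the universal element over
the trivial square zero extension `A ⊕ W` and comparing with dual numbers `C[ε]` shows that it is
induced by a linear map `P → M`.
-/

set_option autoImplicit false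
universe u
open CategoryTheory CategoryTheory.Limits Opposite TensorProduct

namespace Groth.Agent.Lib.Helper44

variable {A : Type u} [CommRing A]

/-- Coefficients with respect to a base-changed basis vanish if the element does. -/
theorem eq_zero_of_sum_tmul_basis {ι : Type*} [Fintype ι] {Q : Type*} [AddCommGroup Q]
    [Module A Q] (b : Module.Basis ι A Q) (C : Type*) [CommRing C] [Algebra A C] (d : ι → C)
    (h : ∑ j, d j ⊗ₜ[A] b j = (0 : C ⊗[A] Q)) : ∀ j, d j = 0 := by
  classical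
  intro j
  have h2 := congrArg (fun x => (Algebra.TensorProduct.basis C b).repr x j) h
  simp only [map_sum, Algebra.TensorProduct.basis_repr_tmul, Module.Basis.repr_self,
    Finsupp.mapRange_single, map_one, Finsupp.smul_single, smul_eq_mul, mul_one, map_zero,
    Finsupp.coe_zero, Pi.zero_apply, Finsupp.coe_finsetSum, Finset.sum_apply,
    Finsupp.single_apply, Finset.sum_ite_eq', Finset.mem_univ, if_true] at h2
  exact h2

/-- Every element of a base-changed free module is a combination of the basis vectors. -/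
theorem exists_sum_tmul_basis {ι : Type*} [Fintype ι] {Q : Type*} [AddCommGroup Q]
    [Module A Q] (b : Module.Basis ι A Q) (C : Type*) [CommRing C] [Algebra A C] (x : C ⊗[A] Q) :
    ∃ c : ι → C, x = ∑ i, c i ⊗ₜ[A] b i := by
  classical
  refine ⟨fun i => (Algebra.TensorProduct.basis C b).repr x i, ?_⟩
  conv_lhs => rw [← (Algebra.TensorProduct.basis C b).sum_repr x]
  refine Finset.sum_congr rfl fun i _ => ?_
  rw [Algebra.TensorProduct.basis_apply, TensorProduct.smul_tmul', smul_eq_mul, mul_one]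


section Universal

variable {P P' : ModuleCat.{u + 1} A} {n k : ℕ} (b : Module.Basis (Fin n) A P)
  (b' : Module.Basis (Fin k) A P') (φ₀ : P ⟶ P')

/-- The matrix of `φ₀` in the bases `b`, `b'`. -/
noncomputable def relMat (i : Fin n) (j : Fin k) : A := b'.repr (φ₀.hom (b i)) j

theorem relMat_spec (i : Fin n) : φ₀.hom (b i) = ∑ j, relMat b b' φ₀ i j • b' j := by
  rw [← b'.sum_repr (φ₀.hom (b i))]
  rfl

/-- Base change of `φ₀` in coordinates. -/
theorem baseChange_sum_tmul (C : Type u) [CommRing C] [Algebra A C] (c : Fin n → C) :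
    (φ₀.hom.baseChange C) (∑ i, c i ⊗ₜ[A] b i) =
      ∑ j, (∑ i, relMat b b' φ₀ i j • c i) ⊗ₜ[A] b' j := by
  have key : ∀ i, (φ₀.hom.baseChange C) (c i ⊗ₜ[A] b i) =
      ∑ j, (relMat b b' φ₀ i j • c i) ⊗ₜ[A] b' j := by
    intro i
    rw [LinearMap.baseChange_tmul, relMat_spec b b' φ₀ i, TensorProduct.tmul_sum]
    refine Finset.sum_congr rfl fun j _ => ?_
    rw [TensorProduct.tmul_smul, TensorProduct.smul_tmul']
  rw [map_sum, Finset.sum_congr rfl (fun i _ => key i), Finset.sum_comm]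
  refine Finset.sum_congr rfl fun j _ => ?_
  rw [TensorProduct.sum_tmul]

/-- The relations module. -/
noncomputable def relSub : Submodule A (Fin n → A) :=
  Submodule.span A (Set.range fun j : Fin k => fun i : Fin n => relMat b b' φ₀ i j)

/-- The universal module `W` with `Hom_A(W, C) = ker(C ⊗ P → C ⊗ P')`. -/
abbrev relQuot : Type u := (Fin n → A) ⧸ relSub b b' φ₀

/-- The classes of the standard basis vectors in `W`. -/
noncomputable def xbar (i : Fin n) : relQuot b b' φ₀ :=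
  (relSub b b' φ₀).mkQ (Pi.single i 1)

theorem sum_relMat_smul_xbar (j : Fin k) : ∑ i, relMat b b' φ₀ i j • xbar b b' φ₀ i = 0 := by
  classical
  unfold xbar
  rw [← Finset.sum_congr rfl (fun i _ => map_smul (relSub b b' φ₀).mkQ _ _), ← map_sum]
  rw [Submodule.mkQ_apply, Submodule.Quotient.mk_eq_zero]
  apply Submodule.subset_span
  refine ⟨j, ?_⟩
  funext i
  simp [Finset.sum_apply, Pi.single_apply]

/-- The universal element over the trivial square zero extension `A ⊕ W`. -/
noncomputable def xiZero : (TrivSqZeroExt A (relQuot b b' φ₀)) ⊗[A] P :=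
  ∑ i, (TrivSqZeroExt.inr (xbar b b' φ₀ i) : TrivSqZeroExt A (relQuot b b' φ₀)) ⊗ₜ[A] b i

theorem baseChange_xiZero :
    (φ₀.hom.baseChange (TrivSqZeroExt A (relQuot b b' φ₀))) (xiZero b b' φ₀) = 0 := by
  unfold xiZero
  rw [baseChange_sum_tmul b b' φ₀]
  refine Finset.sum_eq_zero fun j _ => ?_
  have : ∑ i, relMat b b' φ₀ i j •
      (TrivSqZeroExt.inr (xbar b b' φ₀ i) : TrivSqZeroExt A (relQuot b b' φ₀)) = 0 := by
    simp_rw [← TrivSqZeroExt.inr_smul]
    rw [← TrivSqZeroExt.inr_sum, sum_relMat_smul_xbar, TrivSqZeroExt.inr_zero]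
  rw [this, TensorProduct.zero_tmul]

variable {C : Type u} [CommRing C] [Algebra A C] (c : Fin n → C)
  (hc : ∀ j, ∑ i, relMat b b' φ₀ i j • c i = 0)

/-- The linear map `W → C` attached to a point of the kernel. -/
noncomputable def hOf : relQuot b b' φ₀ →ₗ[A] C :=
  (relSub b b' φ₀).liftQ (Fintype.linearCombination A c) (by
    rw [relSub, Submodule.span_le]
    rintro _ ⟨j, rfl⟩
    rw [SetLike.mem_coe, LinearMap.mem_ker, Fintype.linearCombination_apply]
    exact hc j)

theorem hOf_xbar (i : Fin n) : hOf b b' φ₀ c hc (xbar b b' φ₀ i) = c i := by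
  classical
  unfold hOf xbar
  rw [Submodule.mkQ_apply, Submodule.liftQ_apply, Fintype.linearCombination_apply]
  simp [Pi.single_apply]

theorem hOf_mkQ (v : Fin n → A) : hOf b b' φ₀ c hc ((relSub b b' φ₀).mkQ v) = ∑ i, v i • c i := by
  unfold hOf
  rw [Submodule.mkQ_apply, Submodule.liftQ_apply, Fintype.linearCombination_apply]

/-- The algebra map `A ⊕ W → C[ε]`, `(a, w) ↦ a + ε h(w)`. -/
noncomputable def thetaOf : TrivSqZeroExt A (relQuot b b' φ₀) →ₐ[A] TrivSqZeroExt C C :=
  TrivSqZeroExt.liftEquivOfComm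
    ⟨((TrivSqZeroExt.inrHom C C).restrictScalars A).comp (hOf b b' φ₀ c hc), fun x y => by
      change (TrivSqZeroExt.inr _ : TrivSqZeroExt C C) * TrivSqZeroExt.inr _ = 0
      exact TrivSqZeroExt.inr_mul_inr _ _ _⟩

theorem thetaOf_inr (w : relQuot b b' φ₀) :
    thetaOf b b' φ₀ c hc (TrivSqZeroExt.inr w) = TrivSqZeroExt.inr (hOf b b' φ₀ c hc w) := by
  unfold thetaOf
  rw [TrivSqZeroExt.liftEquivOfComm_apply, TrivSqZeroExt.lift_apply_inr]
  rfl

theorem thetaOf_inl (a : A) :
    thetaOf b b' φ₀ c hc (TrivSqZeroExt.inl a) = TrivSqZeroExt.inl (algebraMap A C a) := by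
  unfold thetaOf
  rw [TrivSqZeroExt.liftEquivOfComm_apply, TrivSqZeroExt.lift_apply_inl]
  rfl

theorem snd_comp_thetaOf :
    ((TrivSqZeroExt.sndHom C C).restrictScalars A).comp (thetaOf b b' φ₀ c hc).toLinearMap =
      (hOf b b' φ₀ c hc).comp (TrivSqZeroExt.sndHom A (relQuot b b' φ₀)) := by
  apply TrivSqZeroExt.linearMap_ext
  · intro a
    simp only [LinearMap.comp_apply, AlgHom.toLinearMap_apply, thetaOf_inl]
    simp
  · intro w
    simp only [LinearMap.comp_apply, AlgHom.toLinearMap_apply, thetaOf_inr]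
    simp

theorem theta_xiZero_eq :
    ((thetaOf b b' φ₀ c hc).toLinearMap.rTensor P) (xiZero b b' φ₀) =
      (TrivSqZeroExt.inr (1 : C) : TrivSqZeroExt C C) •
        (((TrivSqZeroExt.inlAlgHom A C C).toLinearMap.rTensor P) (∑ i, c i ⊗ₜ[A] b i)) := by
  unfold xiZero
  rw [map_sum, map_sum, Finset.smul_sum]
  refine Finset.sum_congr rfl fun i _ => ?_
  rw [LinearMap.rTensor_tmul, LinearMap.rTensor_tmul, TensorProduct.smul_tmul']
  congr 1
  change thetaOf b b' φ₀ c hc (TrivSqZeroExt.inr (xbar b b' φ₀ i)) =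
    (TrivSqZeroExt.inr (1 : C) : TrivSqZeroExt C C) * TrivSqZeroExt.inl (c i)
  rw [thetaOf_inr, hOf_xbar, TrivSqZeroExt.inr_mul_inl]
  simp

theorem snd_theta_rTensor (Q : Type (u + 1)) [AddCommGroup Q] [Module A Q]
    (t : TrivSqZeroExt A (relQuot b b' φ₀) ⊗[A] Q) :
    (((TrivSqZeroExt.sndHom C C).restrictScalars A).rTensor Q)
        (((thetaOf b b' φ₀ c hc).toLinearMap.rTensor Q) t) =
      (((hOf b b' φ₀ c hc).comp (TrivSqZeroExt.sndHom A (relQuot b b' φ₀))).rTensor Q) t := by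
  rw [← LinearMap.rTensor_comp_apply, snd_comp_thetaOf]

end Universal

section Formula

variable {P P' M : ModuleCat.{u + 1} A} {n k : ℕ} (b : Module.Basis (Fin n) A P)
  (b' : Module.Basis (Fin k) A P') (φ₀ : P ⟶ P')
  (φ : kernel ((Adeq.underline A).map φ₀) ⟶ (Adeq.underline A).obj M)

theorem mvfMap_underline (Q : ModuleCat.{u + 1} A) {C C' : Adeq.Alg A} (f : C ⟶ C')
    (x : (C : Type u) ⊗[A] Q) :
    mvfMap ((Adeq.underline A).obj Q) f x = (f.hom.toLinearMap.rTensor Q) x := rfl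

theorem smul_underline (Q : ModuleCat.{u + 1} A) (C : Adeq.Alg A) (d : C)
    (x : ((Adeq.underline A).obj Q).obj (Adeq.pt C)) (d' : C) (q : Q) (hx : x = d' ⊗ₜ[A] q) :
    d • x = (d * d') ⊗ₜ[A] q := by
  subst hx
  rfl

/-- `ρ(ε · incl(y)) = y`. -/
theorem snd_eps_incl (C : Type u) [CommRing C] [Algebra A C] (Q : Type (u + 1)) [AddCommGroup Q]
    [Module A Q] (y : C ⊗[A] Q) :
    (((TrivSqZeroExt.sndHom C C).restrictScalars A).rTensor Q)
      ((TrivSqZeroExt.inr (1 : C) : TrivSqZeroExt C C) •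
        (((TrivSqZeroExt.inlAlgHom A C C).toLinearMap.rTensor Q) y)) = y := by
  induction y using TensorProduct.induction_on with
  | zero => simp
  | tmul c q =>
    rw [LinearMap.rTensor_tmul, TensorProduct.smul_tmul', LinearMap.rTensor_tmul]
    congr 1
    simp
  | add x y hx hy => rw [map_add, smul_add, map_add, hx, hy]


/-- The key formula: a morphism from the kernel to `underline M` is computed from its value on
the universal element. -/
theorem formula_of_universal (C : Adeq.Alg A) (c : Fin n → C)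
    (hc : ∀ j, ∑ i, relMat b b' φ₀ i j • c i = 0)
    (z : (kernel ((Adeq.underline A).map φ₀)).obj (Adeq.pt C))
    (hz : (kernel.ι ((Adeq.underline A).map φ₀)).app (Adeq.pt C) z = ∑ i, c i ⊗ₜ[A] b i)
    (zT : (kernel ((Adeq.underline A).map φ₀)).obj
      (Adeq.pt (Adeq.algOf A (TrivSqZeroExt A (relQuot b b' φ₀)))))
    (hzT : (kernel.ι ((Adeq.underline A).map φ₀)).app _ zT = xiZero b b' φ₀) :
    φ.app (Adeq.pt C) z =
      (((hOf b b' φ₀ c hc).comp (TrivSqZeroExt.sndHom A (relQuot b b' φ₀))).rTensor M)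
        (φ.app _ zT) := by
  let TT : Adeq.Alg A := Adeq.algOf A (TrivSqZeroExt A (relQuot b b' φ₀))
  let DD : Adeq.Alg A := Adeq.algOf A (TrivSqZeroExt C C)
  let θ : TT ⟶ DD := CommAlgCat.ofHom (thetaOf b b' φ₀ c hc)
  let incl : C ⟶ DD := CommAlgCat.ofHom (TrivSqZeroExt.inlAlgHom A C C)
  let ε : (DD : Type u) := (TrivSqZeroExt.inr (1 : C) : TrivSqZeroExt C C)
  -- the two elements of `K(C[ε])`
  have h12 : mvfMap (kernel ((Adeq.underline A).map φ₀)) θ zT = ε • mvfMap (kernel ((Adeq.underline A).map φ₀)) incl z := by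
    apply kernel_ι_app_injective ((Adeq.underline A).map φ₀) (Adeq.pt DD)
    rw [mvfMap_nat, hzT, map_smul, mvfMap_nat, hz, mvfMap_underline, mvfMap_underline]
    exact theta_xiZero_eq b b' φ₀ c hc
  have e1 : φ.app (Adeq.pt DD) (mvfMap (kernel ((Adeq.underline A).map φ₀)) θ zT) =
      (θ.hom.toLinearMap.rTensor M) (φ.app (Adeq.pt TT) zT) := mvfMap_nat φ θ zT
  have e2 : φ.app (Adeq.pt DD) (ε • mvfMap (kernel ((Adeq.underline A).map φ₀)) incl z) =
      ε • (incl.hom.toLinearMap.rTensor M) (φ.app (Adeq.pt C) z) := by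
    rw [map_smul, mvfMap_nat]
    rfl
  rw [h12, e2] at e1
  have e3 := congrArg (((TrivSqZeroExt.sndHom C C).restrictScalars A).rTensor M) e1
  have e4 := snd_eps_incl (A := A) C M (φ.app (Adeq.pt C) z)
  rw [← e4]
  exact e3.trans (snd_theta_rTensor b b' φ₀ c hc M _)


theorem hOf_rTensor_mkQ (C : Type u) [CommRing C] [Algebra A C] (c : Fin n → C)
    (hc : ∀ j, ∑ i, relMat b b' φ₀ i j • c i = 0) (Q : Type (u + 1)) [AddCommGroup Q]
    [Module A Q] (l : ℕ) (v : Fin l → (Fin n → A)) (μ : Fin l → Q) :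
    ((hOf b b' φ₀ c hc).rTensor Q)
        (((relSub b b' φ₀).mkQ.rTensor Q) (∑ t, v t ⊗ₜ[A] μ t)) =
      ∑ i, c i ⊗ₜ[A] (∑ t, v t i • μ t) := by
  rw [map_sum, map_sum]
  simp_rw [LinearMap.rTensor_tmul, hOf_mkQ, TensorProduct.sum_tmul, TensorProduct.tmul_sum]
  rw [Finset.sum_comm]
  refine Finset.sum_congr rfl fun i _ => Finset.sum_congr rfl fun t _ => ?_
  rw [TensorProduct.tmul_smul, TensorProduct.smul_tmul']

end Formula

theorem final_compute {P P' M : ModuleCat.{u + 1} A} {n k : ℕ} (b : Module.Basis (Fin n) A P)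
    (b' : Module.Basis (Fin k) A P') (φ₀ : P ⟶ P') (C : Type u) [CommRing C] [Algebra A C]
    (c : Fin n → C) (hc : ∀ j, ∑ i, relMat b b' φ₀ i j • c i = 0)
    (t : TrivSqZeroExt A (relQuot b b' φ₀) ⊗[A] M) (ηt : (Fin n → A) ⊗[A] M)
    (h : ((relSub b b' φ₀).mkQ.rTensor M) ηt =
      ((TrivSqZeroExt.sndHom A (relQuot b b' φ₀)).rTensor M) t)
    (l : ℕ) (v : Fin l → (Fin n → A)) (μ : Fin l → M) (hvμ : ηt = ∑ t, v t ⊗ₜ[A] μ t) :
    (((hOf b b' φ₀ c hc).comp (TrivSqZeroExt.sndHom A (relQuot b b' φ₀))).rTensor M) t =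
      ∑ i, c i ⊗ₜ[A] (∑ t, v t i • μ t) := by
  rw [LinearMap.rTensor_comp_apply, ← h, hvμ, hOf_rTensor_mkQ]

theorem exists_extension_of_basis {P P' M : ModuleCat.{u + 1} A} {n k : ℕ}
    (b : Module.Basis (Fin n) A P) (b' : Module.Basis (Fin k) A P') (φ₀ : P ⟶ P')
    (φ : kernel ((Adeq.underline A).map φ₀) ⟶ (Adeq.underline A).obj M) :
    ∃ g : P ⟶ M, kernel.ι ((Adeq.underline A).map φ₀) ≫ (Adeq.underline A).map g = φ := by
  classical
  obtain ⟨zT, hzT⟩ := exists_kernel_preimage ((Adeq.underline A).map φ₀)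
    (Adeq.pt (Adeq.algOf A (TrivSqZeroExt A (relQuot b b' φ₀)))) (xiZero b b' φ₀)
    (baseChange_xiZero b b' φ₀)
  obtain ⟨ηt, hηt⟩ := LinearMap.rTensor_surjective M
    (Submodule.mkQ_surjective (relSub b b' φ₀))
    (((TrivSqZeroExt.sndHom A (relQuot b b' φ₀)).rTensor M) (φ.app _ zT))
  obtain ⟨l, v, μ, hvμ⟩ := TensorProduct.exists_sum_tmul_eq ηt
  let m : Fin n → M := fun i => ∑ t, v t i • μ t
  refine ⟨ModuleCat.ofHom (b.constr A m), ?_⟩
  ext ⟨⟨C⟩⟩ z
  obtain ⟨c, hcz⟩ := exists_sum_tmul_basis b C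
    ((kernel.ι ((Adeq.underline A).map φ₀)).app (Adeq.pt C) z)
  have hc : ∀ j, ∑ i, relMat b b' φ₀ i j • c i = 0 := by
    have h0 := kernel_ι_app_comp ((Adeq.underline A).map φ₀) (Adeq.pt C) z
    rw [hcz] at h0
    have h1 : (φ₀.hom.baseChange C) (∑ i, c i ⊗ₜ[A] b i) = 0 := h0
    rw [baseChange_sum_tmul b b' φ₀] at h1
    exact eq_zero_of_sum_tmul_basis b' C _ h1
  have e := (formula_of_universal b b' φ₀ φ C c hc z hcz zT hzT).trans
    (final_compute b b' φ₀ C c hc (φ.app _ zT) ηt hηt l v μ hvμ)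
  refine Eq.trans ?_ e.symm
  change ((Adeq.underline A).map (ModuleCat.ofHom (b.constr A m))).app (Adeq.pt C)
    ((kernel.ι ((Adeq.underline A).map φ₀)).app (Adeq.pt C) z) = _
  rw [hcz]
  change ((b.constr A m).baseChange C) (∑ i, c i ⊗ₜ[A] b i) = _
  rw [map_sum]
  refine Finset.sum_congr rfl fun i _ => ?_
  rw [LinearMap.baseChange_tmul, Module.Basis.constr_basis]

/-- Every morphism from a linearly adequate kernel to `underline M` extends to `underline P`. -/
theorem exists_extension {P P' M : ModuleCat.{u + 1} A} [Module.Finite A P] [Module.Free A P]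
    [Module.Finite A P'] [Module.Free A P'] (φ₀ : P ⟶ P')
    (φ : kernel ((Adeq.underline A).map φ₀) ⟶ (Adeq.underline A).obj M) :
    ∃ g : P ⟶ M, kernel.ι ((Adeq.underline A).map φ₀) ≫ (Adeq.underline A).map g = φ :=
  exists_extension_of_basis
    ((Module.Free.chooseBasis A P).reindex (Fintype.equivFin _))
    ((Module.Free.chooseBasis A P').reindex (Fintype.equivFin _)) φ₀ φ

end Groth.Agent.Lib.Helper44
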