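import Groth.Agent.Lib.Helper44.AdeqKer
import Mathlib

set_option autoImplicit false
universe u v
open TensorProduct CategoryTheory

namespace Groth.Agent.Lib.Helper44

section
variable (R B : Type u) [CommRing R] [CommRing B] [Algebra R B]
variable (M : Type v) [AddCommGroup M] [Module R M]

/-- `m ↦ 1 ⊗ m` -/
noncomputable abbrev epsM : M →ₗ[R] B ⊗[R] M := TensorProduct.mk R B M 1

/-- `b ⊗ (b' ⊗ m) ↦ bb' ⊗ m` -/
noncomputable def contrM : B ⊗[R] (B ⊗[R] M) →ₗ[R] B ⊗[R] M :=
  (LinearMap.rTensor M (LinearMap.mul' R B)) ∘ₗ (TensorProduct.assoc R B B M).symm.toLinearMap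

theorem contrM_tmul (b b' : B) (m : M) : contrM R B M (b ⊗ₜ (b' ⊗ₜ m)) = (b * b') ⊗ₜ m := by
  simp [contrM]

theorem contrM_tmul' (b : B) (x : B ⊗[R] M) : contrM R B M (b ⊗ₜ x) = b • x := by
  induction x using TensorProduct.induction_on with
  | zero => simp
  | tmul b' m => rw [contrM_tmul, TensorProduct.smul_tmul', smul_eq_mul]
  | add x y hx hy => rw [TensorProduct.tmul_add, map_add, hx, hy, smul_add]

/-- the difference of the two coface maps `B ⊗ M → B ⊗ (B ⊗ M)` -/
noncomputable abbrev deltaM : B ⊗[R] M →ₗ[R] B ⊗[R] (B ⊗[R] M) :=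
  (epsM R B M).lTensor B - epsM R B (B ⊗[R] M)

theorem deltaM_comp_epsM : deltaM R B M ∘ₗ epsM R B M = 0 := by
  ext m
  simp [deltaM, epsM]

theorem contrM_comp_lTensor_epsM :
    contrM R B M ∘ₗ (epsM R B M).lTensor B = LinearMap.id := by
  ext b m
  simp [contrM_tmul]

theorem homotopyM :
    contrM R B (B ⊗[R] M) ∘ₗ (deltaM R B M).lTensor B =
      (epsM R B M).lTensor B ∘ₗ contrM R B M - LinearMap.id := by
  ext b b' m
  simp [contrM_tmul', deltaM, TensorProduct.smul_tmul']

theorem rTensor_ofId_eq (x : R ⊗[R] M) :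
    (Algebra.ofId R B).toLinearMap.rTensor M x = epsM R B M (TensorProduct.lid R M x) := by
  induction x using TensorProduct.induction_on with
  | zero => simp
  | tmul r m =>
    rw [LinearMap.rTensor_tmul, TensorProduct.lid_tmul]
    change (algebraMap R B r) ⊗ₜ[R] m = (1 : B) ⊗ₜ[R] (r • m)
    rw [Algebra.algebraMap_eq_smul_one, TensorProduct.smul_tmul]
  | add x y hx hy => rw [map_add, map_add, map_add, hx, hy]

theorem assoc_rTensor_includeLeft (x : B ⊗[R] M) :
    TensorProduct.assoc R B B M
      ((Algebra.TensorProduct.includeLeft : B →ₐ[R] B ⊗[R] B).toLinearMap.rTensor M x) =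
      (epsM R B M).lTensor B x := by
  induction x using TensorProduct.induction_on with
  | zero => simp
  | tmul b m => simp
  | add x y hx hy => rw [map_add, map_add, map_add, hx, hy]

theorem assoc_rTensor_includeRight (x : B ⊗[R] M) :
    TensorProduct.assoc R B B M
      ((Algebra.TensorProduct.includeRight : B →ₐ[R] B ⊗[R] B).toLinearMap.rTensor M x) =
      epsM R B (B ⊗[R] M) x := by
  induction x using TensorProduct.induction_on with
  | zero => simp
  | tmul b m => simp
  | add x y hx hy => rw [map_add, map_add, map_add, hx, hy]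

variable [Module.FaithfullyFlat R B]

theorem epsM_injective : Function.Injective (epsM R B M) := by
  rw [← Module.FaithfullyFlat.lTensor_injective_iff_injective R B]
  have h := contrM_comp_lTensor_epsM R B M
  exact Function.LeftInverse.injective (g := contrM R B M) (fun x => by
    have := congrArg (fun f => f x) h
    simpa using this)

theorem epsM_exact : Function.Exact (epsM R B M) (deltaM R B M) := by
  apply Module.FaithfullyFlat.lTensor_reflects_exact R B
  intro z
  constructor
  · intro hz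
    have h := congrArg (fun f => f z) (homotopyM R B M)
    simp only [LinearMap.comp_apply, LinearMap.sub_apply, LinearMap.id_apply] at h
    rw [hz, map_zero] at h
    exact ⟨contrM R B M z, (sub_eq_zero.1 h.symm)⟩
  · rintro ⟨w, rfl⟩
    rw [← LinearMap.comp_apply, ← LinearMap.lTensor_comp, deltaM_comp_epsM, LinearMap.lTensor_zero,
      LinearMap.zero_apply]

theorem rTensor_ofId_injective : Function.Injective ((Algebra.ofId R B).toLinearMap.rTensor M) := by
  intro x y hxy
  rw [rTensor_ofId_eq, rTensor_ofId_eq] at hxy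
  exact (TensorProduct.lid R M).injective (epsM_injective R B M hxy)

theorem exists_of_rTensor_include_eq (y : B ⊗[R] M)
    (hy : (Algebra.TensorProduct.includeLeft : B →ₐ[R] B ⊗[R] B).toLinearMap.rTensor M y =
      (Algebra.TensorProduct.includeRight : B →ₐ[R] B ⊗[R] B).toLinearMap.rTensor M y) :
    ∃ x : R ⊗[R] M, (Algebra.ofId R B).toLinearMap.rTensor M x = y := by
  have h1 : deltaM R B M y = 0 := by
    change (epsM R B M).lTensor B y - epsM R B (B ⊗[R] M) y = 0
    rw [← assoc_rTensor_includeLeft, ← assoc_rTensor_includeRight, hy, sub_self]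
  obtain ⟨m, hm⟩ := (epsM_exact R B M y).1 h1
  refine ⟨(TensorProduct.lid R M).symm m, ?_⟩
  rw [rTensor_ofId_eq, LinearEquiv.apply_symm_apply, hm]

end

section
variable (A : Type u) [CommRing A] (B : Type u) [CommRing B] [Algebra A B]
  [Module.FaithfullyFlat A B]

theorem underline_obj_map_apply (M : ModuleCat.{u + 1} A) {C C' : Adeq.Alg A} (f : C ⟶ C')
    (z : (C : Type u) ⊗[A] M) :
    ((Adeq.underline A).obj M).map (Adeq.ptHom f) z = (f.hom.toLinearMap.rTensor M) z := rfl

/-- faithfully flat descent for adequate functors, first two degrees -/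
theorem adequate_ff_descent (F : Adeq.MVF A) (hF : Adeq.adequate A F) :
    Function.Injective (F.map (Adeq.ptHom
        (CommAlgCat.ofHom (Algebra.ofId A B) : Adeq.algOf A A ⟶ Adeq.algOf A B))) ∧
      ∀ y : F.obj (Adeq.pt (Adeq.algOf A B)),
        F.map (Adeq.ptHom (CommAlgCat.ofHom
            (Algebra.TensorProduct.includeLeft : B →ₐ[A] B ⊗[A] B) :
              Adeq.algOf A B ⟶ Adeq.algOf A (B ⊗[A] B))) y =
          F.map (Adeq.ptHom (CommAlgCat.ofHom
            (Algebra.TensorProduct.includeRight : B →ₐ[A] B ⊗[A] B) :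
              Adeq.algOf A B ⟶ Adeq.algOf A (B ⊗[A] B))) y →
        y ∈ Set.range (F.map (Adeq.ptHom
          (CommAlgCat.ofHom (Algebra.ofId A B) : Adeq.algOf A A ⟶ Adeq.algOf A B))) := by
  obtain ⟨M, N, φ, i, hzero, hinj, hex⟩ := exists_exact_of_adequate hF
  have hnat : ∀ {C C' : Adeq.Alg A} (f : C ⟶ C') (x : F.obj (Adeq.pt C)),
      i.app (Adeq.pt C') (F.map (Adeq.ptHom f) x) =
        ((Adeq.underline A).obj M).map (Adeq.ptHom f) (i.app (Adeq.pt C) x) :=
    fun f x => PresheafOfModules.naturality_apply i (Adeq.ptHom f) x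
  constructor
  · intro x x' hxx'
    apply hinj (Adeq.pt (Adeq.algOf A A))
    have h1 := congrArg (i.app (Adeq.pt (Adeq.algOf A B))) hxx'
    rw [hnat, hnat] at h1
    exact rTensor_ofId_injective A B M h1
  · intro y hy
    have h1 := congrArg (i.app (Adeq.pt (Adeq.algOf A (B ⊗[A] B)))) hy
    rw [hnat, hnat] at h1
    obtain ⟨m', hm'⟩ : ∃ m' : ((Adeq.underline A).obj M).obj (Adeq.pt (Adeq.algOf A A)),
        ((Adeq.underline A).obj M).map (Adeq.ptHom
          (CommAlgCat.ofHom (Algebra.ofId A B) : Adeq.algOf A A ⟶ Adeq.algOf A B)) m' =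
          i.app (Adeq.pt (Adeq.algOf A B)) y :=
      exists_of_rTensor_include_eq A B M (i.app _ y) h1
    have h3 := PresheafOfModules.naturality_apply ((Adeq.underline A).map φ)
      (Adeq.ptHom (CommAlgCat.ofHom (Algebra.ofId A B) : Adeq.algOf A A ⟶ Adeq.algOf A B)) m'
    have h5 : ((Adeq.underline A).map φ).app (Adeq.pt (Adeq.algOf A B))
        (i.app (Adeq.pt (Adeq.algOf A B)) y) = 0 := by
      change (i ≫ (Adeq.underline A).map φ).app (Adeq.pt (Adeq.algOf A B)) y = 0
      rw [hzero]
      rfl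
    rw [hm', h5] at h3
    have h2 : ((Adeq.underline A).map φ).app (Adeq.pt (Adeq.algOf A A)) m' = 0 :=
      rTensor_ofId_injective A B N (h3.symm.trans (map_zero _).symm)
    obtain ⟨x, hx⟩ := hex _ m' h2
    refine ⟨x, hinj (Adeq.pt (Adeq.algOf A B)) ?_⟩
    rw [hnat, hx]
    exact hm'

end

end Groth.Agent.Lib.Helper44
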