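import Groth.Agent.Lib.Helper44.AdeqDescent2
import Groth.Agent.Lib.Helper44.AdeqAdjoint
import Mathlib

/-!
# Descent of adequacy along a finite family of ring maps
-/

set_option autoImplicit false
universe u w
open CategoryTheory CategoryTheory.Limits Opposite TensorProduct

namespace Groth.Agent.Lib.Helper44

section
variable (A A' : Type u) [CommRing A] [CommRing A'] [Algebra A A']

theorem unitHom_naturality {F G : Adeq.MVF A} (α : F ⟶ G) :
    unitHom A A' F ≫ (PR A A').map α = α ≫ unitHom A A' G := by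
  apply PresheafOfModules.hom_ext
  intro X
  obtain ⟨⟨B⟩⟩ := X
  ext x
  exact PresheafOfModules.naturality_apply α (Adeq.ptHom (Adeq.Alg.unit A A' B)) x

end

section
variable {A : Type u} [CommRing A]

theorem fam_sub_app_apply {F G : Adeq.MVF A} (a c : F ⟶ G) (X : (Adeq.Alg A)ᵒᵖᵒᵖ) (x : F.obj X) :
    (a - c).app X x = a.app X x - c.app X x := rfl

theorem fam_comp_app_apply {F G H : Adeq.MVF A} (a : F ⟶ G) (c : G ⟶ H) (X : (Adeq.Alg A)ᵒᵖᵒᵖ)
    (x : F.obj X) : (a ≫ c).app X x = c.app X (a.app X x) := rfl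

theorem fam_sum_app_apply {ι : Type w} {F G : Adeq.MVF A} (s : Finset ι) (a : ι → (F ⟶ G))
    (X : (Adeq.Alg A)ᵒᵖᵒᵖ) (x : F.obj X) :
    (∑ k ∈ s, a k).app X x = ∑ k ∈ s, (a k).app X x := by
  classical
  induction s using Finset.induction_on with
  | empty => simp only [Finset.sum_empty]; rfl
  | insert k s hk ih =>
    rw [Finset.sum_insert hk, Finset.sum_insert hk, ← ih]
    rfl

theorem biproduct_total' {C : Type*} [Category C] [Preadditive C] {J : Type w} [Fintype J]
    [DecidableEq J] (f : J → C) [HasBiproduct f] :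
    ∑ j, biproduct.π f j ≫ biproduct.ι f j = 𝟙 (⨁ f) := by
  apply biproduct.hom_ext
  intro k
  rw [Preadditive.sum_comp, Category.id_comp, Finset.sum_eq_single k]
  · rw [Category.assoc, biproduct.ι_π_self, Category.comp_id]
  · intro j _ hjk
    rw [Category.assoc, biproduct.ι_π_ne f hjk, comp_zero]
  · intro h
    exact absurd (Finset.mem_univ k) h

/-- elements of a finite biproduct of module-valued functors are determined by their components -/
theorem biproduct_app_ext {ι : Type w} [Finite ι] [HasFiniteBiproducts (Adeq.MVF A)]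
    (G : ι → Adeq.MVF A) (X : (Adeq.Alg A)ᵒᵖᵒᵖ)
    (z z' : (⨁ G).obj X) (h : ∀ k, (biproduct.π G k).app X z = (biproduct.π G k).app X z') :
    z = z' := by
  classical
  have := Fintype.ofFinite ι
  have key : ∀ w : (⨁ G).obj X, w = ∑ k, (biproduct.ι G k).app X ((biproduct.π G k).app X w) := by
    intro w
    have ht : (∑ k, biproduct.π G k ≫ biproduct.ι G k) = 𝟙 (⨁ G) := biproduct_total' G
    have h1 : (∑ k, biproduct.π G k ≫ biproduct.ι G k).app X w = w := by
      rw [ht]; rfl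
    rw [fam_sum_app_apply] at h1
    exact h1.symm
  rw [key z, key z']
  exact Finset.sum_congr rfl (fun k _ => by rw [h k])

end

section Family
variable (A : Type u) [CommRing A] {ι : Type w} [Finite ι] (A' : ι → Type u)
  [∀ k, CommRing (A' k)] [∀ k, Algebra A (A' k)]

theorem adequate_of_family (F : Adeq.MVF A)
    (h₁ : ∀ k, Adeq.adequate (A' k) ((Adeq.restr A (A' k)).obj F))
    (hinj : ∀ (B : Adeq.Alg A) (x : F.obj (Adeq.pt B)),
      (∀ k, F.map (Adeq.ptHom (Adeq.Alg.unit A (A' k) B)) x = 0) → x = 0)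
    (hglue : ∀ (B : Adeq.Alg A) (y : ∀ k, F.obj (Adeq.pt ((algT A (A' k)).obj B))),
      (∀ k l, F.map (Adeq.ptHom ((algT A (A' k)).map (Adeq.Alg.unit A (A' l) B))) (y k) =
          F.map (Adeq.ptHom (Adeq.Alg.unit A (A' k) ((algT A (A' l)).obj B))) (y l)) →
      ∃ x : F.obj (Adeq.pt B), ∀ k, F.map (Adeq.ptHom (Adeq.Alg.unit A (A' k) B)) x = y k) :
    Adeq.adequate A F := by
  classical
  have : HasFiniteBiproducts (Adeq.MVF A) := Abelian.hasFiniteBiproducts
  let G : ι → Adeq.MVF A := fun k => (PR A (A' k)).obj F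
  let H : ι × ι → Adeq.MVF A := fun kl => (PR A (A' kl.2)).obj ((PR A (A' kl.1)).obj F)
  have hG : ∀ k, Adeq.adequate A (G k) := fun k => adequate_push A (A' k) _ (h₁ k)
  have hH : ∀ kl, Adeq.adequate A (H kl) := fun kl =>
    adequate_push A (A' kl.2) _ (adequate_restr A (A' kl.2) _ (hG kl.1))
  have hGa : Adeq.adequate A (⨁ G) :=
    (Adeq.adequate A).prop_of_isLimit_fan (biproduct.isLimit G) hG
  have hHa : Adeq.adequate A (⨁ H) :=
    (Adeq.adequate A).prop_of_isLimit_fan (biproduct.isLimit H) hH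
  let i : F ⟶ ⨁ G := biproduct.lift (fun k => unitHom A (A' k) F)
  let d0 : ∀ kl : ι × ι, G kl.1 ⟶ H kl := fun kl => unitHom A (A' kl.2) (G kl.1)
  let d1 : ∀ kl : ι × ι, G kl.2 ⟶ H kl := fun kl => (PR A (A' kl.2)).map (unitHom A (A' kl.1) F)
  let dd : ∀ kl : ι × ι, ⨁ G ⟶ H kl := fun kl =>
    biproduct.π G kl.1 ≫ d0 kl - biproduct.π G kl.2 ≫ d1 kl
  let d : ⨁ G ⟶ ⨁ H := biproduct.lift dd
  have hiπ : ∀ k, i ≫ biproduct.π G k = unitHom A (A' k) F := fun k => biproduct.lift_π _ _
  have hdπ : ∀ kl, d ≫ biproduct.π H kl = dd kl := fun kl => biproduct.lift_π _ _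
  refine adequate_of_exact' hGa hHa i d ?_ ?_ ?_
  · apply biproduct.hom_ext
    intro kl
    rw [Category.assoc, hdπ, zero_comp]
    change i ≫ (biproduct.π G kl.1 ≫ d0 kl - biproduct.π G kl.2 ≫ d1 kl) = 0
    rw [Preadditive.comp_sub, ← Category.assoc, ← Category.assoc, hiπ, hiπ, sub_eq_zero]
    exact (unitHom_naturality A (A' kl.2) (unitHom A (A' kl.1) F)).symm
  · intro X
    obtain ⟨⟨B⟩⟩ := X
    intro x x' hxx'
    have hk : ∀ k, F.map (Adeq.ptHom (Adeq.Alg.unit A (A' k) B)) (x - x') = 0 := by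
      intro k
      have h1 : (unitHom A (A' k) F).app (Adeq.pt B) x = (unitHom A (A' k) F).app (Adeq.pt B) x' := by
        rw [← hiπ k, fam_comp_app_apply, fam_comp_app_apply, hxx']
      rw [unitHom_app_apply, unitHom_app_apply] at h1
      rw [map_sub, h1, sub_self]
    exact sub_eq_zero.1 (hinj B (x - x') hk)
  · intro X y hy
    obtain ⟨⟨B⟩⟩ := X
    have hcomp : ∀ k l, F.map (Adeq.ptHom ((algT A (A' k)).map (Adeq.Alg.unit A (A' l) B)))
          (ofPR A (A' k) F B ((biproduct.π G k).app (Adeq.pt B) y)) =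
        F.map (Adeq.ptHom (Adeq.Alg.unit A (A' k) ((algT A (A' l)).obj B)))
          (ofPR A (A' l) F B ((biproduct.π G l).app (Adeq.pt B) y)) := by
      intro k l
      have h0 : (dd (k, l)).app (Adeq.pt B) y = 0 := by
        rw [← hdπ, fam_comp_app_apply, hy, map_zero]
      have h1 : (d0 (k, l)).app (Adeq.pt B) ((biproduct.π G k).app (Adeq.pt B) y) =
          (d1 (k, l)).app (Adeq.pt B) ((biproduct.π G l).app (Adeq.pt B) y) := sub_eq_zero.1 h0
      exact h1
    obtain ⟨x, hx⟩ := hglue B (fun k => ofPR A (A' k) F B ((biproduct.π G k).app (Adeq.pt B) y)) hcomp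
    refine ⟨x, biproduct_app_ext G _ _ _ (fun k => ?_)⟩
    have h2 : (biproduct.π G k).app (Adeq.pt B) (i.app (Adeq.pt B) x) =
        (unitHom A (A' k) F).app (Adeq.pt B) x := by
      rw [← hiπ k]; rfl
    rw [h2, unitHom_app_apply]
    exact hx k

end Family

end Groth.Agent.Lib.Helper44
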