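import Groth.Agent.Lib.Helper44.AdeqProd
import Mathlib

set_option autoImplicit false
universe u
open CategoryTheory CategoryTheory.Limits Opposite TensorProduct

namespace Groth.Agent.Lib.Helper44

section
variable {B : Type u} [CommRing B]

/-- the structure map of an algebra as a morphism from the base -/
noncomputable abbrev ofIdTo (D : Adeq.Alg B) : Adeq.algOf B B ⟶ D :=
  CommAlgCat.ofHom (Algebra.ofId B D)

theorem ofIdTo_comp {D D' : Adeq.Alg B} (f : D ⟶ D') : ofIdTo D ≫ f = ofIdTo D' := by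
  apply CommAlgCat.hom_ext
  apply Subsingleton.elim

/-- the transition maps of a module-valued functor, with plain types -/
noncomputable def mmap (F : Adeq.MVF B) {D D' : Adeq.Alg B} (f : D ⟶ D')
    (x : F.obj (Adeq.pt D)) : F.obj (Adeq.pt D') := F.map (Adeq.ptHom f) x

theorem mmap_zero (F : Adeq.MVF B) {D D' : Adeq.Alg B} (f : D ⟶ D') :
    mmap F f (0 : F.obj (Adeq.pt D)) = 0 := map_zero (F.map (Adeq.ptHom f)).hom

theorem mmap_sub (F : Adeq.MVF B) {D D' : Adeq.Alg B} (f : D ⟶ D') (x y : F.obj (Adeq.pt D)) :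
    mmap F f (x - y) = mmap F f x - mmap F f y := map_sub (F.map (Adeq.ptHom f)).hom x y

theorem mmap_comp (F : Adeq.MVF B) {D D' D'' : Adeq.Alg B} (f : D ⟶ D') (g : D' ⟶ D'')
    (x : F.obj (Adeq.pt D)) : mmap F (f ≫ g) x = mmap F g (mmap F f x) :=
  F.map_comp_apply (Adeq.ptHom f) (Adeq.ptHom g) x

theorem mmap_ofIdTo (F : Adeq.MVF B) {D D' : Adeq.Alg B} (f : D ⟶ D')
    (x : F.obj (Adeq.pt (Adeq.algOf B B))) :
    mmap F f (mmap F (ofIdTo D) x) = mmap F (ofIdTo D') x := by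
  rw [← mmap_comp, ofIdTo_comp]

theorem mmap_nat {F F' : Adeq.MVF B} (θ : F ⟶ F') {D D' : Adeq.Alg B} (f : D ⟶ D')
    (t : F.obj (Adeq.pt D)) :
    θ.app (Adeq.pt D') (mmap F f t) = mmap F' f (θ.app (Adeq.pt D) t) :=
  PresheafOfModules.naturality_apply θ (Adeq.ptHom f) t

variable {J : Type u} [Finite J] (C : J → Adeq.Alg B)
  [hff : Module.FaithfullyFlat B (∀ j, (C j : Type u))]

include hff in
theorem adequate_family_inj (F : Adeq.MVF B) (hF : Adeq.adequate B F)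
    (x₀ : F.obj (Adeq.pt (Adeq.algOf B B)))
    (hx : ∀ j, mmap F (ofIdTo (C j)) x₀ = 0) : x₀ = 0 := by
  have h1 : mmap F (ofIdTo (piAlg C)) x₀ = 0 := by
    apply adequate_pi_injective C F hF
    intro j
    exact (mmap_ofIdTo F (piEv C j) x₀).trans (hx j)
  have hinj := (adequate_ff_descent B (∀ j, (C j : Type u)) F hF).1
  apply hinj
  exact h1.trans (mmap_zero F _).symm

include hff in
theorem adequate_family_surj (F F' : Adeq.MVF B) (θ : F ⟶ F') (hF : Adeq.adequate B F)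
    (s2 : ∀ w : F'.obj (Adeq.pt (Adeq.algOf B B)),
      (∀ j, mmap F' (ofIdTo (C j)) w = 0) → w = 0)
    (s1 : ∀ w : F'.obj (Adeq.pt (piAlg C)), (∀ j, mmap F' (piEv C j) w = 0) → w = 0)
    (s3 : Function.Injective (θ.app (Adeq.pt (Adeq.algOf B
      ((∀ j, (C j : Type u)) ⊗[B] (∀ j, (C j : Type u)))))))
    (z₀ : F'.obj (Adeq.pt (Adeq.algOf B B))) (x : ∀ j, F.obj (Adeq.pt (C j)))
    (hx : ∀ j, θ.app (Adeq.pt (C j)) (x j) = mmap F' (ofIdTo (C j)) z₀) :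
    ∃ x₀ : F.obj (Adeq.pt (Adeq.algOf B B)), θ.app (Adeq.pt (Adeq.algOf B B)) x₀ = z₀ := by
  obtain ⟨x', hx'⟩ := adequate_pi_surjective C F hF x
  have hx'' : ∀ j, mmap F (piEv C j) x' = x j := hx'
  have h1 : θ.app (Adeq.pt (piAlg C)) x' = mmap F' (ofIdTo (piAlg C)) z₀ := by
    rw [← sub_eq_zero]
    apply s1
    intro j
    rw [mmap_sub, sub_eq_zero, ← mmap_nat, hx'' j, hx j, mmap_ofIdTo]
  let ι₁ : piAlg C ⟶ Adeq.algOf B ((∀ j, (C j : Type u)) ⊗[B] (∀ j, (C j : Type u))) :=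
    CommAlgCat.ofHom (Algebra.TensorProduct.includeLeft :
      (∀ j, (C j : Type u)) →ₐ[B] (∀ j, (C j : Type u)) ⊗[B] (∀ j, (C j : Type u)))
  let ι₂ : piAlg C ⟶ Adeq.algOf B ((∀ j, (C j : Type u)) ⊗[B] (∀ j, (C j : Type u))) :=
    CommAlgCat.ofHom (Algebra.TensorProduct.includeRight :
      (∀ j, (C j : Type u)) →ₐ[B] (∀ j, (C j : Type u)) ⊗[B] (∀ j, (C j : Type u)))
  have h2 : mmap F ι₁ x' = mmap F ι₂ x' := by
    apply s3
    rw [mmap_nat, mmap_nat, h1, mmap_ofIdTo, mmap_ofIdTo]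
  obtain ⟨x₀, hx₀⟩ := (adequate_ff_descent B (∀ j, (C j : Type u)) F hF).2 x' h2
  have hx₀' : mmap F (ofIdTo (piAlg C)) x₀ = x' := hx₀
  refine ⟨x₀, ?_⟩
  rw [← sub_eq_zero]
  apply s2
  intro j
  have h3 : mmap F (ofIdTo (C j)) x₀ = x j := by
    rw [← mmap_ofIdTo F (piEv C j) x₀, hx₀']
    exact hx'' j
  rw [mmap_sub, sub_eq_zero, ← mmap_nat, h3, hx j]

end
end Groth.Agent.Lib.Helper44
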