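import Groth.Agent.Lib.Helper44.AdeqKer
import Mathlib

/-!
# Adequate functors commute with filtered colimits of algebras
-/

set_option autoImplicit false
universe u
open CategoryTheory CategoryTheory.Limits Opposite TensorProduct

namespace Groth.Agent.Lib.Helper44

/-- Equational criterion keeping the given decomposition: if `∑ bᵢ ⊗ mᵢ = 0` in `B ⊗ M`, then after
adjoining finitely many further `sₗ ∈ B` (paired with `0 ∈ M`) the sum vanishes trivially. -/
theorem exists_vanishesTrivially_extend {A : Type*} [CommRing A] {B M : Type*} [AddCommGroup B]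
    [Module A B] [AddCommGroup M] [Module A M] {n : ℕ} (b : Fin n → B) (m : Fin n → M)
    (h : ∑ i, b i ⊗ₜ[A] m i = (0 : B ⊗[A] M)) :
    ∃ (n' : ℕ) (s : Fin n' → B),
      TensorProduct.VanishesTrivially A (Sum.elim b s) (Sum.elim m (fun _ => (0 : M))) := by
  classical
  set N₀ : Submodule A B := Submodule.span A (Set.range b) with hN₀
  have hb : ∀ i, b i ∈ N₀ := fun i => Submodule.subset_span ⟨i, rfl⟩
  have hfg : N₀.FG := Submodule.fg_span (Set.finite_range b)
  set x₀ : N₀ ⊗[A] M := ∑ i, (⟨b i, hb i⟩ : N₀) ⊗ₜ[A] m i with hx₀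
  have h0 : N₀.subtype.rTensor M x₀ = N₀.subtype.rTensor M 0 := by
    rw [map_zero, hx₀, map_sum]
    simpa only [LinearMap.rTensor_tmul, Submodule.subtype_apply] using h
  obtain ⟨N', hN'fg, hle, heq⟩ := hfg.exists_rTensor_fg_inclusion_eq h0
  rw [map_zero] at heq
  obtain ⟨n', s, hs⟩ := Submodule.fg_iff_exists_fin_generating_family.mp hN'fg
  have hsN' : ∀ i, s i ∈ N' := fun i => hs ▸ Submodule.subset_span ⟨i, rfl⟩
  let b' : Fin n ⊕ Fin n' → N' := Sum.elim (fun i => ⟨b i, hle (hb i)⟩) (fun i => ⟨s i, hsN' i⟩)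
  let nn : Fin n ⊕ Fin n' → M := Sum.elim m (fun _ => 0)
  have hspan : Submodule.span A (Set.range b') = ⊤ := by
    rw [eq_top_iff]
    rintro ⟨z, hz⟩ -
    have hz' : z ∈ Submodule.span A (Set.range s) := hs ▸ hz
    have : (⟨z, hz⟩ : N') ∈ Submodule.span A (Set.range fun i => (⟨s i, hsN' i⟩ : N')) := by
      have hmap : Submodule.map N'.subtype
          (Submodule.span A (Set.range fun i => (⟨s i, hsN' i⟩ : N'))) =
          Submodule.span A (Set.range s) := by
        rw [Submodule.map_span, ← Set.range_comp]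
        rfl
      rw [← hmap] at hz'
      obtain ⟨w, hw, hwz⟩ := hz'
      have : w = ⟨z, hz⟩ := Subtype.ext hwz
      rwa [← this]
    refine Submodule.span_mono ?_ this
    rintro _ ⟨i, rfl⟩
    exact ⟨Sum.inr i, rfl⟩
  have hsum : ∑ i, b' i ⊗ₜ[A] nn i = (0 : N' ⊗[A] M) := by
    rw [Fintype.sum_sum_type]
    simp only [b', nn, Sum.elim_inl, Sum.elim_inr, tmul_zero, Finset.sum_const_zero, add_zero]
    rw [← heq, hx₀, map_sum]
    rfl
  obtain ⟨k, a, y, h1, h2⟩ := TensorProduct.vanishesTrivially_of_sum_tmul_eq_zero A hspan hsum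
  refine ⟨n', s, k, a, y, ?_, ?_⟩
  · rintro (i | i)
    · simpa [nn] using h1 (Sum.inl i)
    · simpa [nn] using h1 (Sum.inr i)
  · intro j
    have := congrArg (N'.subtype) (h2 j)
    rw [map_sum, map_zero] at this
    rw [← this]
    refine Finset.sum_congr rfl ?_
    rintro (i | i) _ <;> simp [b']


section Filtered

variable {A : Type u} [CommRing A]

noncomputable abbrev algForget (A : Type u) [CommRing A] : CommAlgCat.{u} A ⥤ Type u :=
  (commAlgCatEquivUnder (CommRingCat.of A)).functor ⋙ Under.forget _ ⋙ forget CommRingCat.{u}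

variable {J : Type u} [SmallCategory J] [IsFiltered J] (D : J ⥤ CommAlgCat.{u} A)
  (c : Cocone D) (hc : IsColimit c)

include hc in
theorem alg_colimit_surj (b : c.pt) : ∃ (j : J) (x : D.obj j), (c.ι.app j).hom x = b := by
  have h := isColimitOfPreserves (algForget A) hc
  obtain ⟨j, x, hx⟩ := Types.jointly_surjective_of_isColimit h b
  exact ⟨j, x, hx⟩

include hc in
theorem alg_colimit_inj (j : J) (x y : D.obj j) (hxy : (c.ι.app j).hom x = (c.ι.app j).hom y) :
    ∃ (k : J) (f : j ⟶ k), (D.map f).hom x = (D.map f).hom y := by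
  have h := isColimitOfPreserves (algForget A) hc
  obtain ⟨k, f, hf⟩ := (Types.FilteredColimit.isColimit_eq_iff' h x y).1 hxy
  exact ⟨k, f, hf⟩

omit [IsFiltered J] in
theorem cocone_w_apply {j k : J} (f : j ⟶ k) (x : D.obj j) :
    (c.ι.app k).hom ((D.map f).hom x) = (c.ι.app j).hom x := by
  have := c.w f
  rw [← this]
  rfl

include hc in
/-- finitely many elements of the colimit lift to a common stage above a given stage -/
theorem alg_colimit_surj_fin (j₀ : J) {n : ℕ} (y : Fin n → c.pt) :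
    ∃ (k : J) (_ : j₀ ⟶ k) (y' : Fin n → D.obj k), ∀ i, (c.ι.app k).hom (y' i) = y i := by
  induction n with
  | zero => exact ⟨j₀, 𝟙 _, Fin.elim0, fun i => i.elim0⟩
  | succ n ih =>
    obtain ⟨k, f, y', hy'⟩ := ih (fun i => y i.succ)
    obtain ⟨j, x, hx⟩ := alg_colimit_surj D c hc (y 0)
    refine ⟨IsFiltered.max k j, f ≫ IsFiltered.leftToMax k j,
      Fin.cons ((D.map (IsFiltered.rightToMax k j)).hom x)
        (fun i => (D.map (IsFiltered.leftToMax k j)).hom (y' i)), ?_⟩
    intro i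
    refine Fin.cases ?_ (fun i => ?_) i
    · rw [Fin.cons_zero, cocone_w_apply, hx]
    · rw [Fin.cons_succ, cocone_w_apply, hy']

include hc in
/-- finitely many equations holding in the colimit hold at a common later stage -/
theorem alg_colimit_inj_fin (j : J) {n : ℕ} (x x' : Fin n → D.obj j)
    (h : ∀ i, (c.ι.app j).hom (x i) = (c.ι.app j).hom (x' i)) :
    ∃ (k : J) (f : j ⟶ k), ∀ i, (D.map f).hom (x i) = (D.map f).hom (x' i) := by
  induction n with
  | zero => exact ⟨j, 𝟙 _, fun i => i.elim0⟩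
  | succ n ih =>
    obtain ⟨k, f, hf⟩ := ih (fun i => x i.succ) (fun i => x' i.succ) (fun i => h i.succ)
    obtain ⟨k', g, hg⟩ := alg_colimit_inj D c hc k ((D.map f).hom (x 0)) ((D.map f).hom (x' 0))
      (by rw [cocone_w_apply, cocone_w_apply, h 0])
    refine ⟨k', f ≫ g, fun i => ?_⟩
    have hcomp : ∀ z, (D.map (f ≫ g)).hom z = (D.map g).hom ((D.map f).hom z) := by
      intro z
      rw [D.map_comp]
      rfl
    rw [hcomp, hcomp]
    refine Fin.cases ?_ (fun i => ?_) i
    · exact hg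
    · rw [hf i]

variable (M : Type*) [AddCommGroup M] [Module A M]

/-- the map `B_j ⊗ M → B ⊗ M` -/
noncomputable abbrev tι (j : J) : (D.obj j) ⊗[A] M →ₗ[A] c.pt ⊗[A] M :=
  (c.ι.app j).hom.toLinearMap.rTensor M

/-- the transition map `B_j ⊗ M → B_k ⊗ M` -/
noncomputable abbrev tmap {j k : J} (f : j ⟶ k) : (D.obj j) ⊗[A] M →ₗ[A] (D.obj k) ⊗[A] M :=
  (D.map f).hom.toLinearMap.rTensor M

omit [IsFiltered J] in
theorem tι_tmap {j k : J} (f : j ⟶ k) (t : (D.obj j) ⊗[A] M) :
    tι D c M k (tmap D M f t) = tι D c M j t := by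
  induction t using TensorProduct.induction_on with
  | zero => simp
  | tmul b m =>
    simp only [tι, tmap, LinearMap.rTensor_tmul, AlgHom.toLinearMap_apply]
    rw [cocone_w_apply]
  | add x y hx hy => rw [map_add, map_add, map_add, hx, hy]

omit [IsFiltered J] in
theorem tmap_comp {j k l : J} (f : j ⟶ k) (g : k ⟶ l) (t : (D.obj j) ⊗[A] M) :
    tmap D M (f ≫ g) t = tmap D M g (tmap D M f t) := by
  induction t using TensorProduct.induction_on with
  | zero => simp
  | tmul b m =>
    simp only [tmap, LinearMap.rTensor_tmul, AlgHom.toLinearMap_apply]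
    rw [D.map_comp]
    rfl
  | add x y hx hy => rw [map_add, map_add, map_add, hx, hy]

include hc in
theorem tensor_colimit_surj (t : c.pt ⊗[A] M) :
    ∃ (j : J) (tj : (D.obj j) ⊗[A] M), tι D c M j tj = t := by
  induction t using TensorProduct.induction_on with
  | zero => exact ⟨IsFiltered.nonempty.some, 0, map_zero _⟩
  | tmul b m =>
    obtain ⟨j, x, hx⟩ := alg_colimit_surj D c hc b
    exact ⟨j, x ⊗ₜ m, by simp [tι, hx]⟩
  | add x y hx hy =>
    obtain ⟨j₁, t₁, h₁⟩ := hx
    obtain ⟨j₂, t₂, h₂⟩ := hy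
    refine ⟨IsFiltered.max j₁ j₂, tmap D M (IsFiltered.leftToMax j₁ j₂) t₁ +
      tmap D M (IsFiltered.rightToMax j₁ j₂) t₂, ?_⟩
    rw [map_add, tι_tmap, tι_tmap, h₁, h₂]

include hc in
theorem tensor_colimit_inj (j : J) (t : (D.obj j) ⊗[A] M) (ht : tι D c M j t = 0) :
    ∃ (k : J) (f : j ⟶ k), tmap D M f t = 0 := by
  classical
  obtain ⟨n, b, m, rfl⟩ := TensorProduct.exists_sum_tmul_eq t
  have h0 : ∑ i, (c.ι.app j).hom (b i) ⊗ₜ[A] m i = (0 : c.pt ⊗[A] M) := by
    rw [← ht, map_sum]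
    simp [tι]
  obtain ⟨n', s, p, a, y, h1, h2⟩ := exists_vanishesTrivially_extend _ m h0
  obtain ⟨k₁, f₁, s', hs'⟩ := alg_colimit_surj_fin D c hc j s
  -- the relations, at stage k₁
  let bb : Fin n ⊕ Fin n' → D.obj k₁ := Sum.elim (fun i => (D.map f₁).hom (b i)) s'
  have hbb : ∀ i, (c.ι.app k₁).hom (bb i) =
      Sum.elim (fun i => (c.ι.app j).hom (b i)) s i := by
    rintro (i | i)
    · simp only [bb, Sum.elim_inl]
      rw [cocone_w_apply]
    · simp only [bb, Sum.elim_inr]
      rw [hs']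
  obtain ⟨k₂, f₂, hf₂⟩ := alg_colimit_inj_fin D c hc k₁ (fun l : Fin p => ∑ i, a i l • bb i)
    (fun _ => 0) (by
      intro l
      rw [map_zero, map_sum, ← h2 l]
      refine Finset.sum_congr rfl fun i _ => ?_
      rw [map_smul, hbb])
  refine ⟨k₂, f₁ ≫ f₂, ?_⟩
  have hv : TensorProduct.VanishesTrivially A (fun i => (D.map f₂).hom (bb i))
      (Sum.elim m (fun _ => (0 : M))) := by
    refine ⟨p, a, y, h1, fun l => ?_⟩
    have := hf₂ l
    rw [map_zero, map_sum] at this
    rw [← this]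
    refine Finset.sum_congr rfl fun i _ => ?_
    rw [map_smul]
  have hz := TensorProduct.sum_tmul_eq_zero_of_vanishesTrivially A hv
  rw [Fintype.sum_sum_type] at hz
  simp only [Sum.elim_inl, Sum.elim_inr, tmul_zero, Finset.sum_const_zero, add_zero] at hz
  rw [map_sum, ← hz]
  refine Finset.sum_congr rfl fun i _ => ?_
  simp only [tmap, LinearMap.rTensor_tmul, AlgHom.toLinearMap_apply, bb, Sum.elim_inl]
  rw [D.map_comp]
  rfl


end Filtered

section Main

variable {A : Type u} [CommRing A]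

theorem isColimit_toAb_mapCocone_of_adequate (F : Adeq.MVF A)
    (hF : Adeq.adequate A F) {J : Type u} [SmallCategory J] [IsFiltered J] (D : J ⥤ Adeq.Alg A)
    (c : Cocone D) (hc : IsColimit c) : Nonempty (IsColimit (F.toAb.mapCocone c)) := by
  obtain ⟨M, N, φ, i, hzero, hinj, hex⟩ := exists_exact_of_adequate hF
  have hp : PreservesFilteredColimitsOfSize.{u, u} (forget AddCommGrpCat.{u + 1}) :=
    preservesFilteredColimitsOfSize_shrink.{u, u + 1, u, u + 1} _
  have : ReflectsColimitsOfShape J (forget AddCommGrpCat.{u + 1}) :=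
    reflectsColimitsOfShape_of_reflectsIsomorphisms
  -- naturality of `i` with respect to algebra maps
  have hnat : ∀ {B B' : Adeq.Alg A} (g : B ⟶ B') (x : F.obj (Adeq.pt B)),
      (show (B' : Type u) ⊗[A] M from i.app (Adeq.pt B') (F.map (Adeq.ptHom g) x)) =
        (g.hom.toLinearMap.rTensor M)
          (show (B : Type u) ⊗[A] M from i.app (Adeq.pt B) x) := by
    intro B B' g x
    exact PresheafOfModules.naturality_apply i (Adeq.ptHom g) x
  have hφnat : ∀ {B B' : Adeq.Alg A} (g : B ⟶ B') (t : (B : Type u) ⊗[A] M),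
      (φ.hom.baseChange B') ((g.hom.toLinearMap.rTensor M) t) =
        (g.hom.toLinearMap.rTensor N) ((φ.hom.baseChange B) t) := by
    intro B B' g t
    induction t using TensorProduct.induction_on with
    | zero => simp
    | tmul b m => simp
    | add x y hx hy => simp only [map_add, hx, hy]
  have hzero' : ∀ (B : Adeq.Alg A) (x : F.obj (Adeq.pt B)),
      (φ.hom.baseChange B) (show (B : Type u) ⊗[A] M from i.app (Adeq.pt B) x) = 0 := by
    intro B x
    change (i ≫ (Adeq.underline A).map φ).app (Adeq.pt B) x = 0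
    rw [hzero]
    rfl
  refine ⟨isColimitOfReflects (forget AddCommGrpCat.{u + 1})
    (Types.FilteredColimit.isColimitOf' _ _ ?_ ?_)⟩
  · intro (x : F.obj (Adeq.pt c.pt))
    obtain ⟨j, tj, htj⟩ := tensor_colimit_surj D c hc M
      (show (c.pt : Type u) ⊗[A] M from i.app (Adeq.pt c.pt) x)
    have h0 : tι D c N j ((φ.hom.baseChange (D.obj j)) tj) = 0 := by
      change ((c.ι.app j).hom.toLinearMap.rTensor N) ((φ.hom.baseChange (D.obj j)) tj) = 0
      rw [← hφnat]
      change (φ.hom.baseChange c.pt) (tι D c M j tj) = 0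
      rw [htj]
      exact hzero' _ x
    obtain ⟨k, f, hf⟩ := tensor_colimit_inj D c hc N j _ h0
    have h1 : (φ.hom.baseChange (D.obj k)) (tmap D M f tj) = 0 := by
      change (φ.hom.baseChange (D.obj k)) (((D.map f).hom.toLinearMap.rTensor M) tj) = 0
      rw [hφnat]
      exact hf
    obtain ⟨xk, hxk⟩ := hex (Adeq.pt (D.obj k)) (tmap D M f tj) h1
    refine ⟨k, xk, ?_⟩
    apply hinj (Adeq.pt c.pt)
    change i.app (Adeq.pt c.pt) x =
      i.app (Adeq.pt c.pt) (F.map (Adeq.ptHom (c.ι.app k)) xk)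
    refine Eq.trans ?_ (hnat (c.ι.app k) xk).symm
    refine htj.symm.trans ?_
    refine (tι_tmap D c M f tj).symm.trans ?_
    exact congrArg (tι D c M k) hxk.symm
  · intro j (x : F.obj (Adeq.pt (D.obj j))) (y : F.obj (Adeq.pt (D.obj j))) hxy
    have hxy' : F.map (Adeq.ptHom (c.ι.app j)) x = F.map (Adeq.ptHom (c.ι.app j)) y := hxy
    have h0 : tι D c M j ((show ((D.obj j : Adeq.Alg A) : Type u) ⊗[A] M from
        i.app (Adeq.pt (D.obj j)) x) -
        (show ((D.obj j : Adeq.Alg A) : Type u) ⊗[A] M from i.app (Adeq.pt (D.obj j)) y)) = 0 := by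
      rw [map_sub, sub_eq_zero]
      refine (hnat (c.ι.app j) x).symm.trans (Eq.trans ?_ (hnat (c.ι.app j) y))
      exact congrArg (fun z => i.app (Adeq.pt c.pt) z) hxy'
    obtain ⟨k, f, hf⟩ := tensor_colimit_inj D c hc M j _ h0
    refine ⟨k, f, ?_⟩
    change F.map (Adeq.ptHom (D.map f)) x = F.map (Adeq.ptHom (D.map f)) y
    apply hinj (Adeq.pt (D.obj k))
    rw [map_sub, sub_eq_zero] at hf
    exact (hnat (D.map f) x).trans (hf.trans (hnat (D.map f) y).symm)

end Main

end Groth.Agent.Lib.Helper44
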