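import Groth.Prelude.Def_Adeq
import Mathlib.RingTheory.Flat.FaithfullyFlat.Algebra
import Mathlib.RingTheory.Flat.Localization
import Mathlib.RingTheory.RingHom.Flat
import Mathlib.RingTheory.Localization.Away.Basic
import Mathlib.RingTheory.Polynomial.Basic

/-!
# The unit trick

For `b ∈ B` the `B`-algebra `B[t]_{t(t+b)}` is faithfully flat, and in it `b` is a difference of two
units.  A module-valued functor with flat base change therefore has injective transition map along
`B → B[t]_{t(t+b)}`.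
-/

set_option autoImplicit false
universe u
open CategoryTheory Polynomial

namespace Groth.Agent.Lib.Helper44

section Alg

variable (B : Type u) [CommRing B] (b : B)

/-- The monic polynomial `t(t + b)`. -/
noncomputable def unitPoly : B[X] := X * (X + C b)

theorem unitPoly_monic : (unitPoly B b).Monic := monic_X.mul (monic_X_add_C b)

/-- `B[t]_{t(t+b)}`. -/
abbrev UnitLoc : Type u := Localization.Away (unitPoly B b)

instance unitLoc_flat : Module.Flat B (UnitLoc B b) :=
  Module.Flat.trans B B[X] (UnitLoc B b)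

instance unitLoc_faithfullyFlat : Module.FaithfullyFlat B (UnitLoc B b) where
  submodule_ne_top := by
    intro m hm htop
    rw [Ideal.smul_top_eq_map] at htop
    have h1 : Ideal.map (algebraMap B (UnitLoc B b)) m = ⊤ :=
      (Submodule.restrictScalars_eq_top_iff B (UnitLoc B b) (UnitLoc B b)).mp htop
    rw [IsScalarTower.algebraMap_eq B B[X] (UnitLoc B b), ← Ideal.map_map] at h1
    have h2 : ¬ Disjoint (↑(Submonoid.powers (unitPoly B b)) : Set B[X])
        (↑(Ideal.map (algebraMap B B[X]) m) : Set B[X]) := by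
      intro hd
      exact ((IsLocalization.map_algebraMap_ne_top_iff_disjoint
        (Submonoid.powers (unitPoly B b)) (UnitLoc B b)
        (Ideal.map (algebraMap B B[X]) m)).mpr hd) h1
    rw [Set.not_disjoint_iff] at h2
    obtain ⟨p, ⟨n, rfl⟩, hp⟩ := h2
    have h3 : (unitPoly B b ^ n).coeff (unitPoly B b ^ n).natDegree ∈ m := by
      have := (Ideal.mem_map_C_iff (I := m) (f := unitPoly B b ^ n)).mp hp
      exact this _
    have h4 : (unitPoly B b ^ n).Monic := (unitPoly_monic B b).pow n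
    rw [Polynomial.coeff_natDegree, h4.leadingCoeff] at h3
    exact hm.ne_top ((Ideal.eq_top_iff_one m).mpr h3)

theorem exists_units_sub :
    ∃ u₁ u₂ : (UnitLoc B b)ˣ, algebraMap B (UnitLoc B b) b = (u₁ : UnitLoc B b) - u₂ := by
  have hu : IsUnit (algebraMap B[X] (UnitLoc B b) (unitPoly B b)) :=
    IsLocalization.Away.algebraMap_isUnit (unitPoly B b)
  have hu' : IsUnit (algebraMap B[X] (UnitLoc B b) X * algebraMap B[X] (UnitLoc B b) (X + C b)) := by
    rw [← map_mul]
    exact hu
  replace hu := hu'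
  have hu2 : IsUnit (algebraMap B[X] (UnitLoc B b) X) := isUnit_of_mul_isUnit_left hu
  have hu1 : IsUnit (algebraMap B[X] (UnitLoc B b) (X + C b)) := isUnit_of_mul_isUnit_right hu
  refine ⟨hu1.unit, hu2.unit, ?_⟩
  rw [IsUnit.unit_spec, IsUnit.unit_spec, ← map_sub, add_sub_cancel_left,
    IsScalarTower.algebraMap_apply B B[X] (UnitLoc B b)]
  rfl

end Alg

section MVF

variable {A : Type u} [CommRing A]

open TensorProduct ChangeOfRings

theorem bc_one_tmul (G : Adeq.MVF A) {B B' : Adeq.Alg A} (f : B ⟶ B') (x : G.obj (Adeq.pt B)) :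
    G.bc f ((1 : B') ⊗ₜ[B,f.hom.toRingHom] x) = G.map (Adeq.ptHom f) x := by
  have h := ModuleCat.extendRestrictScalarsAdj_homEquiv_apply.{u + 1, u, u} (f := f.hom.toRingHom)
    (M := G.obj (Adeq.pt B)) (N := G.obj (Adeq.pt B')) (G.bc f) x
  refine h.symm.trans ?_
  rw [Adeq.MVF.bc, Equiv.apply_symm_apply]

theorem map_injective_of_faithfullyFlat (G : Adeq.MVF A) {B B' : Adeq.Alg A} (f : B ⟶ B')
    (hff : @Module.FaithfullyFlat B B' _ _ (f.hom.toRingHom.toAlgebra).toModule)
    (hG : IsIso (G.bc f)) : Function.Injective (G.map (Adeq.ptHom f)) := by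
  let _ := f.hom.toRingHom.toAlgebra
  have h1 : Function.Injective (TensorProduct.mk B B' (G.obj (Adeq.pt B)) 1) :=
    Module.FaithfullyFlat.tensorProduct_mk_injective (A := B) (B := B') _
  have h2 : Function.Injective (G.bc f) :=
    (ConcreteCategory.bijective_of_isIso (G.bc f)).1
  intro x y hxy
  rw [← bc_one_tmul, ← bc_one_tmul] at hxy
  exact h1 (h2 hxy)

/-- `B[t]_{t(t+b)}` as an object of `Adeq.Alg A`. -/
noncomputable abbrev unitLocObj (B : Adeq.Alg A) (b : B) : Adeq.Alg A :=
  Adeq.algOf A (UnitLoc B b)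

/-- The structure map `B → B[t]_{t(t+b)}`. -/
noncomputable abbrev unitLocHom (B : Adeq.Alg A) (b : B) : B ⟶ unitLocObj B b :=
  CommAlgCat.ofHom (IsScalarTower.toAlgHom A B (UnitLoc B b))

theorem unitLocHom_toAlgebra (B : Adeq.Alg A) (b : B) :
    (unitLocHom B b).hom.toRingHom.toAlgebra = (inferInstance : Algebra B (UnitLoc B b)) :=
  Algebra.algebra_ext _ _ (fun _ => rfl)

theorem unitLocHom_flat (B : Adeq.Alg A) (b : B) : (unitLocHom B b).hom.toRingHom.Flat := by
  change @Module.Flat B (UnitLoc B b) _ _ ((unitLocHom B b).hom.toRingHom.toAlgebra).toModule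
  rw [unitLocHom_toAlgebra]
  infer_instance

theorem unitLocHom_faithfullyFlat (B : Adeq.Alg A) (b : B) :
    @Module.FaithfullyFlat B (unitLocObj B b) _ _
      ((unitLocHom B b).hom.toRingHom.toAlgebra).toModule := by
  change @Module.FaithfullyFlat B (UnitLoc B b) _ _
    ((unitLocHom B b).hom.toRingHom.toAlgebra).toModule
  rw [unitLocHom_toAlgebra]
  infer_instance

/-- An additive natural transformation commuting with units, with target satisfying flat base
change, is linear. -/
theorem linear_of_units (F G : Adeq.MVF A)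
    (φ : ∀ B : Adeq.Alg A, F.obj (Adeq.pt B) → G.obj (Adeq.pt B))
    (hnat : ∀ ⦃B B' : Adeq.Alg A⦄ (f : B ⟶ B') (x : F.obj (Adeq.pt B)),
      φ B' (F.map (Adeq.ptHom f) x) = G.map (Adeq.ptHom f) (φ B x))
    (hadd : ∀ (B : Adeq.Alg A) (x y : F.obj (Adeq.pt B)), φ B (x + y) = φ B x + φ B y)
    (hunit : ∀ (B : Adeq.Alg A) (v : (B : Type u)ˣ) (x : F.obj (Adeq.pt B)),
      φ B ((v : B) • x) = (v : B) • φ B x)
    (hG : ∀ ⦃B B' : Adeq.Alg A⦄ (f : B ⟶ B'), f.hom.toRingHom.Flat → IsIso (G.bc f))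
    (B : Adeq.Alg A) (b : B) (x : F.obj (Adeq.pt B)) : φ B (b • x) = b • φ B x := by
  have hsub : ∀ (C : Adeq.Alg A) (y z : F.obj (Adeq.pt C)), φ C (y - z) = φ C y - φ C z := by
    intro C y z
    have := hadd C (y - z) z
    rw [sub_add_cancel] at this
    rw [this, add_sub_cancel_right]
  have hinj := map_injective_of_faithfullyFlat G (unitLocHom B b) (unitLocHom_faithfullyFlat B b)
    (hG (unitLocHom B b) (unitLocHom_flat B b))
  apply hinj
  obtain ⟨u₁, u₂, hu⟩ := exists_units_sub B b
  have hb : (unitLocHom B b).hom b = ((u₁ : UnitLoc B b) - (u₂ : UnitLoc B b)) := hu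
  have e1 : F.map (Adeq.ptHom (unitLocHom B b)) (b • x) =
      (unitLocHom B b).hom b • F.map (Adeq.ptHom (unitLocHom B b)) x :=
    F.map_smul (Adeq.ptHom (unitLocHom B b)) b x
  have e2 : G.map (Adeq.ptHom (unitLocHom B b)) (b • φ B x) =
      (unitLocHom B b).hom b • G.map (Adeq.ptHom (unitLocHom B b)) (φ B x) :=
    G.map_smul (Adeq.ptHom (unitLocHom B b)) b (φ B x)
  obtain ⟨x', hx'⟩ : ∃ x' : F.obj (Adeq.pt (unitLocObj B b)),
      x' = F.map (Adeq.ptHom (unitLocHom B b)) x := ⟨_, rfl⟩
  have s1 : G.map (Adeq.ptHom (unitLocHom B b)) (φ B (b • x)) =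
      φ (unitLocObj B b) ((unitLocHom B b).hom b • x') := by
    rw [← hnat, hx']
    exact congrArg (φ (unitLocObj B b)) e1
  have s2 : G.map (Adeq.ptHom (unitLocHom B b)) (b • φ B x) =
      (unitLocHom B b).hom b • φ (unitLocObj B b) x' := by
    rw [hx', hnat]
    exact e2
  refine s1.trans (Eq.trans ?_ s2.symm)
  have e3 : (unitLocHom B b).hom b • x' =
      ((u₁ : UnitLoc B b) • x' - (u₂ : UnitLoc B b) • x' : F.obj (Adeq.pt (unitLocObj B b))) := by
    rw [hb]
    exact sub_smul _ _ _
  have e4 : (unitLocHom B b).hom b • φ (unitLocObj B b) x' =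
      ((u₁ : UnitLoc B b) • φ (unitLocObj B b) x' - (u₂ : UnitLoc B b) • φ (unitLocObj B b) x' :
        G.obj (Adeq.pt (unitLocObj B b))) := by
    rw [hb]
    exact sub_smul _ _ _
  rw [e3, e4, hsub]
  have h1 := hunit (unitLocObj B b) u₁ x'
  have h2 := hunit (unitLocObj B b) u₂ x'
  rw [h1, h2]

end MVF

end Groth.Agent.Lib.Helper44
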