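import Groth.Agent.Lib.Helper44.AdeqKer
import Groth.Agent.Lib.Helper44.UnitTrick
import Mathlib

set_option autoImplicit false
universe u
open CategoryTheory CategoryTheory.Limits Opposite TensorProduct ChangeOfRings

namespace Groth.Agent.Lib.Helper44

variable {A : Type u} [CommRing A]

theorem bc_tmul (G : Adeq.MVF A) {B B' : Adeq.Alg A} (f : B ⟶ B') (b' : B')
    (x : G.obj (Adeq.pt B)) :
    G.bc f (b' ⊗ₜ[B,f.hom.toRingHom] x) =
      b' • (show G.obj (Adeq.pt B') from G.map (Adeq.ptHom f) x) := by
  have h := ModuleCat.ExtendScalars.smul_tmul (f := f.hom.toRingHom) (M := G.obj (Adeq.pt B)) b' 1 x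
  rw [mul_one] at h
  refine (congrArg (G.bc f) h.symm).trans ?_
  refine (map_smul (G.bc f).hom b' _).trans ?_
  exact congrArg (fun z => b' • z) (bc_one_tmul G f x)

theorem bc_naturality {F G : Adeq.MVF A} (ψ : F ⟶ G) {B B' : Adeq.Alg A} (f : B ⟶ B') :
    (ModuleCat.extendScalars.{u, u, u + 1} f.hom.toRingHom).map (ψ.app (Adeq.pt B)) ≫ G.bc f =
      F.bc f ≫ ψ.app (Adeq.pt B') := by
  apply ModuleCat.ExtendScalars.hom_ext
  intro m
  change G.bc f ((1 : B') ⊗ₜ[B,f.hom.toRingHom] (ψ.app (Adeq.pt B) m)) =
    ψ.app (Adeq.pt B') (F.bc f ((1 : B') ⊗ₜ[B,f.hom.toRingHom] m))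
  rw [bc_one_tmul, bc_one_tmul]
  exact (PresheafOfModules.naturality_apply ψ (Adeq.ptHom f) m).symm


theorem underline_map_ptHom_apply (M : ModuleCat.{u + 1} A) {B B' : Adeq.Alg A} (f : B ⟶ B')
    (y : (B : Type u) ⊗[A] M) :
    (show (B' : Type u) ⊗[A] M from ((Adeq.underline A).obj M).map (Adeq.ptHom f) y) =
      (f.hom.toLinearMap.rTensor M) y := rfl

theorem bc_underline_bijective (M : ModuleCat.{u + 1} A) {B B' : Adeq.Alg A} (f : B ⟶ B') :
    Function.Bijective (((Adeq.underline A).obj M).bc f) := by
  let _ : Algebra B B' := f.hom.toRingHom.toAlgebra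
  have : IsScalarTower A B B' :=
    IsScalarTower.of_algebraMap_eq (fun a => (f.hom.commutes a).symm)
  let e := TensorProduct.AlgebraTensorModule.cancelBaseChange A B B' B' M
  have key : ∀ z : (B' : Type u) ⊗[B] ((B : Type u) ⊗[A] M),
      (show (B' : Type u) ⊗[A] M from ((Adeq.underline A).obj M).bc f z) = e z := by
    intro z
    induction z using TensorProduct.induction_on with
    | zero => exact (map_zero (((Adeq.underline A).obj M).bc f).hom).trans (map_zero e).symm
    | tmul b' y =>
      refine (bc_tmul ((Adeq.underline A).obj M) f b' y).trans ?_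
      change b' • (f.hom.toLinearMap.rTensor M) y = e (b' ⊗ₜ y)
      induction y using TensorProduct.induction_on with
      | zero => simp
      | tmul b m =>
        rw [LinearMap.rTensor_tmul, TensorProduct.AlgebraTensorModule.cancelBaseChange_tmul,
          TensorProduct.smul_tmul']
        congr 1
        change b' * f.hom b = f.hom b * b'
        exact mul_comm _ _
      | add y₁ y₂ h₁ h₂ =>
        rw [map_add, smul_add, h₁, h₂, TensorProduct.tmul_add, map_add]
    | add z₁ z₂ h₁ h₂ =>
      refine (map_add (((Adeq.underline A).obj M).bc f).hom z₁ z₂).trans ?_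
      refine (congrArg₂ (· + ·) h₁ h₂).trans (map_add e z₁ z₂).symm
  constructor
  · intro z₁ z₂ h
    exact e.injective ((key z₁).symm.trans (h.trans (key z₂)))
  · intro w
    obtain ⟨z, hz⟩ := e.surjective w
    exact ⟨z, (key z).trans hz⟩


theorem isIso_bc_of_adequate_flat (F : Adeq.MVF A) (hF : Adeq.adequate A F)
    {B B' : Adeq.Alg A} (f : B ⟶ B') (hf : f.hom.toRingHom.Flat) : IsIso (F.bc f) := by
  obtain ⟨M, N, φ, i, hzero, hinj, hex⟩ := exists_exact_of_adequate hF
  rw [ConcreteCategory.isIso_iff_bijective]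
  let _ : Algebra B B' := f.hom.toRingHom.toAlgebra
  have hflat : Module.Flat B B' := hf
  let E := ModuleCat.extendScalars.{u, u, u + 1} f.hom.toRingHom
  have hinj' : Function.Injective (E.map (i.app (Adeq.pt B))) := by
    change Function.Injective (LinearMap.lTensor B' (i.app (Adeq.pt B)).hom)
    exact Module.Flat.lTensor_preserves_injective_linearMap _ (hinj _)
  have hexact : Function.Exact (i.app (Adeq.pt B)).hom
      (((Adeq.underline A).map φ).app (Adeq.pt B)).hom := by
    intro y
    constructor
    · intro hy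
      obtain ⟨x, hx⟩ := hex _ y hy
      exact ⟨x, hx⟩
    · rintro ⟨x, rfl⟩
      change (i ≫ (Adeq.underline A).map φ).app (Adeq.pt B) x = 0
      rw [hzero]
      rfl
  have hex' : ∀ w, E.map (((Adeq.underline A).map φ).app (Adeq.pt B)) w = 0 →
      ∃ x, E.map (i.app (Adeq.pt B)) x = w := by
    intro w hw
    have h := Module.Flat.lTensor_exact B' hexact
    exact (h w).1 hw
  have nat1 := bc_naturality i f
  have nat2 := bc_naturality ((Adeq.underline A).map φ) f
  have bM := bc_underline_bijective M f
  have bN := bc_underline_bijective N f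
  constructor
  · intro x y hxy
    apply hinj'
    apply bM.1
    have h1 := congrArg (fun k => k.hom x) nat1
    have h2 := congrArg (fun k => k.hom y) nat1
    change ((Adeq.underline A).obj M).bc f (E.map (i.app (Adeq.pt B)) x) =
      i.app (Adeq.pt B') (F.bc f x) at h1
    change ((Adeq.underline A).obj M).bc f (E.map (i.app (Adeq.pt B)) y) =
      i.app (Adeq.pt B') (F.bc f y) at h2
    rw [h1, h2, hxy]
  · intro z
    obtain ⟨w, hw⟩ := bM.2 (i.app (Adeq.pt B') z)
    have hw0 : E.map (((Adeq.underline A).map φ).app (Adeq.pt B)) w = 0 := by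
      apply bN.1
      have h1 := congrArg (fun k => k.hom w) nat2
      change ((Adeq.underline A).obj N).bc f
        (E.map (((Adeq.underline A).map φ).app (Adeq.pt B)) w) =
        ((Adeq.underline A).map φ).app (Adeq.pt B') (((Adeq.underline A).obj M).bc f w) at h1
      rw [h1, hw, map_zero]
      change (i ≫ (Adeq.underline A).map φ).app (Adeq.pt B') z = 0
      rw [hzero]
      rfl
    obtain ⟨x, hx⟩ := hex' w hw0
    refine ⟨x, hinj _ ?_⟩
    have h1 := congrArg (fun k => k.hom x) nat1
    change ((Adeq.underline A).obj M).bc f (E.map (i.app (Adeq.pt B)) x) =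
      i.app (Adeq.pt B') (F.bc f x) at h1
    rw [← h1, hx, hw]

end Groth.Agent.Lib.Helper44
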