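import Groth.Agent.Lib.Helper44.RepFunctor
import Mathlib

/-!
# Pointwise exactness for module-valued functors; presentations of adequate functors

Kernels, cokernels and exactness in the category of module-valued functors are computed value by
value; an adequate functor is the same as a functor `F` with a pointwise exact sequence
`0 → F → underline M → underline N`.
-/

set_option autoImplicit false
universe u
open CategoryTheory CategoryTheory.Limits Opposite TensorProduct

namespace Groth.Agent.Lib.Helper44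

variable {A : Type u} [CommRing A]

/-- Evaluation of an exact sequence of module-valued functors is exact. -/
theorem exact_app (S : ShortComplex (Adeq.MVF A)) (hS : S.Exact) (X : (Adeq.Alg A)ᵒᵖᵒᵖ)
    (x : S.X₂.obj X) (hx : S.g.app X x = 0) : ∃ y, S.f.app X y = x := by
  have : (PresheafOfModules.evaluation.{u + 1} (Adeq.ringOf A) X).Additive :=
    PresheafOfModules.instAdditiveModuleCatCarrierObjOppositeRingCatEvaluation _ _
  have : Limits.PreservesFiniteLimits (PresheafOfModules.evaluation.{u + 1} (Adeq.ringOf A) X) :=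
    PresheafOfModules.evaluation_preservesFiniteLimits _ _
  have : Limits.PreservesFiniteColimits (PresheafOfModules.evaluation.{u + 1} (Adeq.ringOf A) X) :=
    PresheafOfModules.Finite.evaluation_preservesFiniteColimits _ _
  have h := hS.map (PresheafOfModules.evaluation.{u + 1} (Adeq.ringOf A) X)
  have h2 := h.moduleCat_range_eq_ker
  have hx' : x ∈ LinearMap.ker
      ((S.map (PresheafOfModules.evaluation.{u + 1} (Adeq.ringOf A) X)).g).hom := hx
  rw [← h2] at hx'
  exact hx'

theorem kernel_ι_app_injective {F G : Adeq.MVF A} (τ : F ⟶ G) (X : (Adeq.Alg A)ᵒᵖᵒᵖ) :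
    Function.Injective ((kernel.ι τ).app X) :=
  PresheafOfModules.injective_of_mono _ X

theorem kernel_ι_app_comp {F G : Adeq.MVF A} (τ : F ⟶ G) (X : (Adeq.Alg A)ᵒᵖᵒᵖ)
    (y : (kernel τ).obj X) : τ.app X ((kernel.ι τ).app X y) = 0 := by
  have h : (kernel.ι τ ≫ τ).app X y = 0 := by
    rw [kernel.condition]
    rfl
  exact h

theorem exists_kernel_preimage {F G : Adeq.MVF A} (τ : F ⟶ G) (X : (Adeq.Alg A)ᵒᵖᵒᵖ)
    (x : F.obj X) (hx : τ.app X x = 0) : ∃ y : (kernel τ).obj X, (kernel.ι τ).app X y = x :=
  exact_app (ShortComplex.mk (kernel.ι τ) τ (kernel.condition τ))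
    (ShortComplex.exact_of_f_is_kernel _ (kernelIsKernel τ)) X x hx

theorem cokernel_π_app_surjective {F G : Adeq.MVF A} (τ : F ⟶ G) (X : (Adeq.Alg A)ᵒᵖᵒᵖ) :
    Function.Surjective ((cokernel.π τ).app X) :=
  PresheafOfModules.surjective_of_epi _ X

theorem cokernel_π_app_comp {F G : Adeq.MVF A} (τ : F ⟶ G) (X : (Adeq.Alg A)ᵒᵖᵒᵖ)
    (y : F.obj X) : (cokernel.π τ).app X (τ.app X y) = 0 := by
  have h : (τ ≫ cokernel.π τ).app X y = 0 := by
    rw [cokernel.condition]
    rfl
  exact h

theorem exists_preimage_of_cokernel_π_eq_zero {F G : Adeq.MVF A} (τ : F ⟶ G)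
    (X : (Adeq.Alg A)ᵒᵖᵒᵖ) (x : G.obj X) (hx : (cokernel.π τ).app X x = 0) :
    ∃ y, τ.app X y = x :=
  exact_app (ShortComplex.mk τ (cokernel.π τ) (cokernel.condition τ))
    (ShortComplex.exact_of_g_is_cokernel _ (cokernelIsCokernel τ)) X x hx

/-- A morphism of module-valued functors which is bijective on all values is an isomorphism. -/
theorem isIso_of_app_bijective {F G : Adeq.MVF A} (τ : F ⟶ G)
    (h : ∀ X : (Adeq.Alg A)ᵒᵖᵒᵖ, Function.Bijective (τ.app X)) : IsIso τ := by
  have : Mono τ := PresheafOfModules.mono_of_injective (fun X => (h X).1)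
  have : Epi τ := PresheafOfModules.epi_of_surjective (fun X => (h X).2)
  exact isIso_of_mono_of_epi τ

theorem underline_map_app_apply {M N : ModuleCat.{u + 1} A} (g : M ⟶ N) (X : (Adeq.Alg A)ᵒᵖᵒᵖ)
    (x : (X.unop.unop : Type u) ⊗[A] M) :
    ((Adeq.underline A).map g).app X x = (g.hom.baseChange X.unop.unop) x := rfl

/-- A functor with a pointwise exact sequence `0 → F → underline M → underline N` is adequate. -/
theorem adequate_of_exact {F : Adeq.MVF A} {M N : ModuleCat.{u + 1} A} (φ : M ⟶ N)
    (i : F ⟶ (Adeq.underline A).obj M) (hzero : i ≫ (Adeq.underline A).map φ = 0)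
    (hinj : ∀ X : (Adeq.Alg A)ᵒᵖᵒᵖ, Function.Injective (i.app X))
    (hex : ∀ (X : (Adeq.Alg A)ᵒᵖᵒᵖ) (x : ((Adeq.underline A).obj M).obj X),
      ((Adeq.underline A).map φ).app X x = 0 → ∃ y, i.app X y = x) :
    Adeq.adequate A F := by
  refine ⟨M, N, φ, ⟨?_⟩⟩
  have hb : ∀ X : (Adeq.Alg A)ᵒᵖᵒᵖ,
      Function.Bijective ((kernel.lift ((Adeq.underline A).map φ) i hzero).app X) := by
    intro X
    constructor
    · intro a b hab
      apply hinj X
      have h1 : (kernel.lift ((Adeq.underline A).map φ) i hzero ≫ kernel.ι ((Adeq.underline A).map φ)).app X a =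
          (kernel.lift ((Adeq.underline A).map φ) i hzero ≫ kernel.ι ((Adeq.underline A).map φ)).app X b := by
        change (kernel.ι ((Adeq.underline A).map φ)).app X ((kernel.lift ((Adeq.underline A).map φ) i hzero).app X a) =
          (kernel.ι ((Adeq.underline A).map φ)).app X ((kernel.lift ((Adeq.underline A).map φ) i hzero).app X b)
        rw [hab]
      rwa [kernel.lift_ι] at h1
    · intro z
      obtain ⟨y, hy⟩ := hex X ((kernel.ι ((Adeq.underline A).map φ)).app X z) (kernel_ι_app_comp _ X z)
      refine ⟨y, ?_⟩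
      apply kernel_ι_app_injective _ X
      rw [← hy]
      change (kernel.lift ((Adeq.underline A).map φ) i hzero ≫ kernel.ι ((Adeq.underline A).map φ)).app X y = _
      rw [kernel.lift_ι]
  have := isIso_of_app_bijective _ hb
  exact asIso (kernel.lift ((Adeq.underline A).map φ) i hzero)

/-- An adequate functor has a pointwise exact sequence `0 → F → underline M → underline N`. -/
theorem exists_exact_of_adequate {F : Adeq.MVF A} (hF : Adeq.adequate A F) :
    ∃ (M N : ModuleCat.{u + 1} A) (φ : M ⟶ N) (i : F ⟶ (Adeq.underline A).obj M),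
      i ≫ (Adeq.underline A).map φ = 0 ∧
      (∀ X : (Adeq.Alg A)ᵒᵖᵒᵖ, Function.Injective (i.app X)) ∧
      ∀ (X : (Adeq.Alg A)ᵒᵖᵒᵖ) (x : ((Adeq.underline A).obj M).obj X),
        ((Adeq.underline A).map φ).app X x = 0 → ∃ y, i.app X y = x := by
  obtain ⟨M, N, φ, ⟨e⟩⟩ := hF
  refine ⟨M, N, φ, e.hom ≫ kernel.ι _, ?_, ?_, ?_⟩
  · rw [Category.assoc, kernel.condition, comp_zero]
  · intro X a b hab
    have h1 : Function.Injective (e.hom.app X) := by
      have : Mono e.hom := inferInstance
      exact PresheafOfModules.injective_of_mono _ X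
    apply h1
    apply kernel_ι_app_injective _ X
    exact hab
  · intro X x hx
    obtain ⟨y, hy⟩ := exists_kernel_preimage _ X x hx
    refine ⟨e.inv.app X y, ?_⟩
    change (kernel.ι ((Adeq.underline A).map φ)).app X (e.hom.app X (e.inv.app X y)) = x
    have : e.hom.app X (e.inv.app X y) = y := by
      change (e.inv ≫ e.hom).app X y = y
      rw [e.inv_hom_id]
      rfl
    rw [this, hy]

end Groth.Agent.Lib.Helper44
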