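import Groth.Agent.Lib.Helper44.AdeqSplit4
import Mathlib

/-!
# Lifting morphisms from linearly adequate functors along surjections
-/

set_option autoImplicit false
universe u
open CategoryTheory CategoryTheory.Limits Opposite TensorProduct

namespace Groth.Agent.Lib.Helper44

variable {A : Type u} [CommRing A]

theorem deltaK_bijective_of_adequate {F : Adeq.MVF A} (hF : Adeq.adequate A F) (C : Adeq.Alg A)
    (k : ℕ) : Function.Bijective (deltaK F C k) := by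
  obtain ⟨M, N, φ, i, hzero, hinj, hex⟩ := exists_exact_of_adequate hF
  exact deltaK_bijective_of_kernel i ((Adeq.underline A).map φ) hzero hinj hex C k
    (deltaK_underline_bijective M C k) (deltaK_underline_bijective N C k).1

section Lift

variable {P P' : ModuleCat.{u + 1} A} {n k' : ℕ} (b : Module.Basis (Fin n) A P)
  (b' : Module.Basis (Fin k') A P') (φ₀ : P ⟶ P')
  {G L H : Adeq.MVF A} (p : G ⟶ H) (ι : L ⟶ H) (j : L ⟶ (Adeq.underline A).obj P)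
  (hjzero : j ≫ (Adeq.underline A).map φ₀ = 0)
  (hG : ∀ (C : Adeq.Alg A) (k : ℕ), Function.Bijective (deltaK G C k))
  (hH : ∀ (C : Adeq.Alg A), Function.Injective (deltaK H C 1))
  (η₁ : G.obj (Adeq.pt (B1 b b' φ₀))) (l₁ : L.obj (Adeq.pt (B1 b b' φ₀)))
  (hl₁ : jE j (B1 b b' φ₀) l₁ = xiZero b b' φ₀)
  (hη : p.app (Adeq.pt (B1 b b' φ₀)) η₁ = ι.app (Adeq.pt (B1 b b' φ₀)) l₁)
  (hjinj : ∀ X : (Adeq.Alg A)ᵒᵖᵒᵖ, Function.Injective (j.app X))

include hl₁ hjinj in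
theorem mapE_thetaK_l₁ (C : Adeq.Alg A) (x : L.obj (Adeq.pt C)) :
    mapE L (thetaK (fun _ : Fin 1 => hx b b' φ₀ j hjzero C x)) l₁ =
      deltaK L C 1 (0, fun _ => x) := by
  apply hjinj
  rw [deltaK_nat]
  have h1 := nat_mapE j (thetaK (fun _ : Fin 1 => hx b b' φ₀ j hjzero C x)) l₁
  refine h1.trans ?_
  have h2 : j.app (Adeq.pt (B1 b b' φ₀)) l₁ = xiZero b b' φ₀ := hl₁
  rw [h2, mapE_thetaK_xiZero]
  congr 1
  refine Prod.ext (map_zero _).symm (funext fun l => ?_)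
  exact sum_hx_xbar b b' φ₀ j hjzero C x

include hl₁ hη hjinj hH in
theorem sHom_comp' : sHom b b' φ₀ j hjzero hG η₁ ≫ p = ι := by
  apply PresheafOfModules.hom_ext
  intro X
  obtain ⟨⟨C⟩⟩ := X
  ext x
  change p.app (Adeq.pt C) (sE b b' φ₀ j hjzero hG η₁ C x) = ι.app (Adeq.pt C) x
  obtain ⟨u, hu, hu0⟩ := sE_spec b b' φ₀ j hjzero hG η₁ C x
  rw [← hu0]
  have h1 := congrArg (fun z => p.app (Adeq.pt (Ck C 1)) z) hu
  simp only [] at h1
  rw [deltaK_nat] at h1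
  unfold zeta at h1
  rw [nat_mapE, hη, ← nat_mapE, mapE_thetaK_l₁ b b' φ₀ j hjzero l₁ hl₁ hjinj, deltaK_nat] at h1
  have h3 := hH C h1
  rw [Prod.ext_iff] at h3
  exact congrFun h3.2 0

end Lift

theorem exists_lift_of_basis {G H L : Adeq.MVF A} (p : G ⟶ H)
    (hp : ∀ X : (Adeq.Alg A)ᵒᵖᵒᵖ, Function.Surjective (p.app X))
    (hG : ∀ (C : Adeq.Alg A) (k : ℕ), Function.Bijective (deltaK G C k))
    (hH : ∀ (C : Adeq.Alg A), Function.Injective (deltaK H C 1))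
    {P P' : ModuleCat.{u + 1} A} {n k' : ℕ} (b : Module.Basis (Fin n) A P)
    (b' : Module.Basis (Fin k') A P') (φ₀ : P ⟶ P')
    (i₃ : L ≅ kernel ((Adeq.underline A).map φ₀)) (ι : L ⟶ H) :
    ∃ t : L ⟶ G, t ≫ p = ι := by
  let j : L ⟶ (Adeq.underline A).obj P := i₃.hom ≫ kernel.ι _
  have hjzero : j ≫ (Adeq.underline A).map φ₀ = 0 := by
    rw [Category.assoc, kernel.condition, comp_zero]
  have hi₃inj : ∀ X : (Adeq.Alg A)ᵒᵖᵒᵖ, Function.Injective (i₃.hom.app X) := by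
    intro X x y hxy
    have := congrArg (i₃.inv.app X) hxy
    change (i₃.hom ≫ i₃.inv).app X x = (i₃.hom ≫ i₃.inv).app X y at this
    rw [i₃.hom_inv_id] at this
    exact this
  have hjinj : ∀ X : (Adeq.Alg A)ᵒᵖᵒᵖ, Function.Injective (j.app X) := by
    intro X x y hxy
    exact hi₃inj X (kernel_ι_app_injective _ X hxy)
  have hjex : ∀ (X : (Adeq.Alg A)ᵒᵖᵒᵖ) (t : ((Adeq.underline A).obj P).obj X),
      ((Adeq.underline A).map φ₀).app X t = 0 → ∃ y, j.app X y = t := by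
    intro X t ht
    obtain ⟨z, hz⟩ := exists_kernel_preimage _ X t ht
    refine ⟨i₃.inv.app X z, ?_⟩
    change (kernel.ι ((Adeq.underline A).map φ₀)).app X ((i₃.inv ≫ i₃.hom).app X z) = t
    rw [i₃.inv_hom_id]
    exact hz
  obtain ⟨l₁, hl₁⟩ := hjex (Adeq.pt (B1 b b' φ₀)) (xiZero b b' φ₀) (baseChange_xiZero b b' φ₀)
  obtain ⟨η₁, hη₁⟩ := hp (Adeq.pt (B1 b b' φ₀)) (ι.app _ l₁)
  exact ⟨sHom b b' φ₀ j hjzero hG η₁,
    sHom_comp' b b' φ₀ p ι j hjzero hG hH η₁ l₁ hl₁ hη₁ hjinj⟩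

theorem exists_lift_of_linAdequate {G H L : Adeq.MVF A} (p : G ⟶ H)
    (hp : ∀ X : (Adeq.Alg A)ᵒᵖᵒᵖ, Function.Surjective (p.app X))
    (hG : ∀ (C : Adeq.Alg A) (k : ℕ), Function.Bijective (deltaK G C k))
    (hH : ∀ (C : Adeq.Alg A), Function.Injective (deltaK H C 1))
    (hL : Adeq.linAdequate A L) (ι : L ⟶ H) :
    ∃ t : L ⟶ G, t ≫ p = ι := by
  obtain ⟨P, P', φ₀, _, _, _, _, ⟨i₃⟩⟩ := hL
  exact exists_lift_of_basis p hp hG hH
    ((Module.Free.chooseBasis A P).reindex (Fintype.equivFin _))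
    ((Module.Free.chooseBasis A P').reindex (Fintype.equivFin _)) φ₀ i₃ ι

end Groth.Agent.Lib.Helper44
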