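import Groth.Agent.Lib.Helper44.AdeqFFDescent
import Mathlib

set_option autoImplicit false
universe u v w
open CategoryTheory CategoryTheory.Limits Opposite TensorProduct

namespace Groth.Agent.Lib.Helper44

section
variable (A : Type u) [CommRing A] {J : Type w} [Finite J] (C : J → Type u)
  [∀ j, CommRing (C j)] [∀ j, Algebra A (C j)]
variable (M : Type v) [AddCommGroup M] [Module A M]

/-- the comparison `(∏ C_j) ⊗ M → ∏ (C_j ⊗ M)` -/
noncomputable def tensorPiMap : ((∀ j, C j) ⊗[A] M) →ₗ[A] (∀ j, C j ⊗[A] M) :=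
  LinearMap.pi (fun j => LinearMap.rTensor M (Pi.evalAlgHom A C j).toLinearMap)

omit [Finite J] in
theorem tensorPiMap_apply (t : (∀ j, C j) ⊗[A] M) (j : J) :
    tensorPiMap A C M t j = LinearMap.rTensor M (Pi.evalAlgHom A C j).toLinearMap t := rfl

theorem tensorPiMap_bijective : Function.Bijective (tensorPiMap A C M) := by
  classical
  have := Fintype.ofFinite J
  have h : ⇑(tensorPiMap A C M) = ⇑(TensorProduct.piLeft A M C) := by
    funext t
    induction t using TensorProduct.induction_on with
    | zero => simp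
    | tmul f m =>
      funext j
      simp [tensorPiMap]
    | add x y hx hy => rw [map_add, map_add, hx, hy]
  rw [h]
  exact (TensorProduct.piLeft A M C).bijective

end

section
variable {A : Type u} [CommRing A] {J : Type u} [Finite J] (C : J → Adeq.Alg A)

/-- the product of a family of algebras -/
noncomputable abbrev piAlg : Adeq.Alg A := Adeq.algOf A (∀ j, (C j : Type u))

/-- the projections -/
noncomputable abbrev piEv (j : J) : piAlg C ⟶ C j :=
  CommAlgCat.ofHom (Pi.evalAlgHom A (fun j => (C j : Type u)) j)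

omit [Finite J] in
theorem piEv_rTensor (M : ModuleCat.{u + 1} A) (j : J)
    (z : ((Adeq.underline A).obj M).obj (Adeq.pt (piAlg C))) :
    ((Adeq.underline A).obj M).map (Adeq.ptHom (piEv C j)) z =
      tensorPiMap A (fun j => (C j : Type u)) M z j := rfl

theorem adequate_pi_injective (F : Adeq.MVF A) (hF : Adeq.adequate A F)
    (x : F.obj (Adeq.pt (piAlg C))) (hx : ∀ j, F.map (Adeq.ptHom (piEv C j)) x = 0) : x = 0 := by
  obtain ⟨M, N, φ, i, hzero, hinj, hex⟩ := exists_exact_of_adequate hF
  have hnat : ∀ {D D' : Adeq.Alg A} (f : D ⟶ D') (x : F.obj (Adeq.pt D)),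
      i.app (Adeq.pt D') (F.map (Adeq.ptHom f) x) =
        ((Adeq.underline A).obj M).map (Adeq.ptHom f) (i.app (Adeq.pt D) x) :=
    fun f x => PresheafOfModules.naturality_apply i (Adeq.ptHom f) x
  apply hinj (Adeq.pt (piAlg C))
  let z : (∀ j, (C j : Type u)) ⊗[A] M := i.app (Adeq.pt (piAlg C)) x
  have hz : z = 0 := by
    apply (tensorPiMap_bijective A (fun j => (C j : Type u)) M).1
    rw [map_zero]
    funext j
    have h1' : i.app (Adeq.pt (C j)) (0 : F.obj (Adeq.pt (C j))) = 0 := map_zero _
    exact (hnat (piEv C j) x).symm.trans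
      ((congrArg (fun t => i.app (Adeq.pt (C j)) t) (hx j)).trans h1')
  exact hz.trans (map_zero _).symm

theorem adequate_pi_surjective (F : Adeq.MVF A) (hF : Adeq.adequate A F)
    (y : ∀ j, F.obj (Adeq.pt (C j))) :
    ∃ x : F.obj (Adeq.pt (piAlg C)), ∀ j, F.map (Adeq.ptHom (piEv C j)) x = y j := by
  obtain ⟨M, N, φ, i, hzero, hinj, hex⟩ := exists_exact_of_adequate hF
  have hnat : ∀ {D D' : Adeq.Alg A} (f : D ⟶ D') (x : F.obj (Adeq.pt D)),
      i.app (Adeq.pt D') (F.map (Adeq.ptHom f) x) =
        ((Adeq.underline A).obj M).map (Adeq.ptHom f) (i.app (Adeq.pt D) x) :=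
    fun f x => PresheafOfModules.naturality_apply i (Adeq.ptHom f) x
  obtain ⟨m₀, hm₀⟩ := (tensorPiMap_bijective A (fun j => (C j : Type u)) M).2
    (fun j => i.app (Adeq.pt (C j)) (y j))
  let m : ((Adeq.underline A).obj M).obj (Adeq.pt (piAlg C)) := m₀
  have hm' : ∀ j, ((Adeq.underline A).obj M).map (Adeq.ptHom (piEv C j)) m =
      i.app (Adeq.pt (C j)) (y j) := fun j => congrFun hm₀ j
  have h0 : ((Adeq.underline A).map φ).app (Adeq.pt (piAlg C)) m = 0 := by
    let n : (∀ j, (C j : Type u)) ⊗[A] N := ((Adeq.underline A).map φ).app (Adeq.pt (piAlg C)) m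
    have hn : n = 0 := by
      apply (tensorPiMap_bijective A (fun j => (C j : Type u)) N).1
      rw [map_zero]
      funext j
      have h3 := PresheafOfModules.naturality_apply ((Adeq.underline A).map φ)
        (Adeq.ptHom (piEv C j)) m
      have h5 : ((Adeq.underline A).map φ).app (Adeq.pt (C j))
          (i.app (Adeq.pt (C j)) (y j)) = 0 := by
        change (i ≫ (Adeq.underline A).map φ).app (Adeq.pt (C j)) (y j) = 0
        rw [hzero]
        rfl
      rw [hm' j, h5] at h3
      exact h3.symm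
    exact hn
  obtain ⟨x, hx⟩ := hex _ m h0
  refine ⟨x, fun j => hinj (Adeq.pt (C j)) ?_⟩
  rw [hnat, hx]
  exact hm' j

end

end Groth.Agent.Lib.Helper44
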