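import Mathlib

set_option autoImplicit false
universe u
open TensorProduct

namespace Groth.Agent.Lib.Helper44

section Plain

variable {A : Type*} [CommRing A] (C : Type*) [CommRing C] [Algebra A C] (k : ℕ)
  (M : Type*) [AddCommGroup M] [Module A M]

/-- `C[ε₁..ε_k]` -/
local notation "T" => TrivSqZeroExt C (Fin k → C)

/-- first projection as an `A`-linear map -/
noncomputable def fstL : T →ₗ[A] C := (TrivSqZeroExt.fstHom A C (Fin k → C)).toLinearMap

/-- `l`-th coefficient of `ε` as an `A`-linear map -/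
noncomputable def sndL (l : Fin k) : T →ₗ[A] C :=
  ((LinearMap.proj l : (Fin k → C) →ₗ[C] C).restrictScalars A) ∘ₗ
    ((TrivSqZeroExt.sndHom C (Fin k → C)).restrictScalars A)

/-- inclusion as an `A`-linear map -/
noncomputable def inclL : C →ₗ[A] T := (TrivSqZeroExt.inlAlgHom A C (Fin k → C)).toLinearMap

/-- `ε_l` -/
def epsL (l : Fin k) : T := TrivSqZeroExt.inr (Pi.single l 1)

theorem smul_eq_rTensor (z : T) (t : T ⊗[A] M) :
    z • t = ((LinearMap.mulLeft A z).rTensor M) t := by
  induction t using TensorProduct.induction_on with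
  | zero => simp
  | tmul w m => rw [TensorProduct.smul_tmul', LinearMap.rTensor_tmul]; rfl
  | add x y hx hy => rw [smul_add, map_add, hx, hy]

theorem fstL_comp_inclL : (fstL (A := A) C k) ∘ₗ (inclL C k) = LinearMap.id := by
  ext c
  simp [fstL, inclL]

theorem sndL_comp_inclL (l : Fin k) : (sndL (A := A) C k l) ∘ₗ (inclL C k) = 0 := by
  ext c
  simp [sndL, inclL]

theorem fstL_comp_mul_inclL (l : Fin k) :
    (fstL (A := A) C k) ∘ₗ (LinearMap.mulLeft A (epsL C k l)) ∘ₗ (inclL C k) = 0 := by
  ext c
  simp [fstL, inclL, epsL]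

theorem sndL_comp_mul_inclL (l l' : Fin k) :
    (sndL (A := A) C k l') ∘ₗ (LinearMap.mulLeft A (epsL C k l)) ∘ₗ (inclL C k) =
      if l = l' then LinearMap.id else 0 := by
  classical
  ext c
  by_cases h : l = l'
  · subst h
    simp [sndL, inclL, epsL]
  · simp [sndL, inclL, epsL, h, Ne.symm h]

theorem sum_decomp_id :
    (inclL (A := A) C k) ∘ₗ (fstL C k) +
      ∑ l, (LinearMap.mulLeft A (epsL C k l)) ∘ₗ (inclL C k) ∘ₗ (sndL C k l) = LinearMap.id := by
  classical
  ext z
  · simp [fstL, inclL, sndL, epsL, TrivSqZeroExt.fst_sum]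
  · rename_i l'
    simp [fstL, inclL, sndL, epsL, TrivSqZeroExt.snd_sum, Finset.sum_apply, Pi.single_apply]

theorem rTensor_finset_sum {N P : Type*} [AddCommGroup N] [Module A N] [AddCommGroup P]
    [Module A P] {ι : Type*} (s : Finset ι) (φ : ι → N →ₗ[A] P) (t : N ⊗[A] M) :
    ((∑ l ∈ s, φ l).rTensor M) t = ∑ l ∈ s, ((φ l).rTensor M) t := by
  rw [← LinearMap.coe_rTensorHom, map_sum, LinearMap.sum_apply]

/-- the decomposition map in plain terms -/
noncomputable def deltaPlain (g : (C ⊗[A] M) × (Fin k → C ⊗[A] M)) : T ⊗[A] M :=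
  ((inclL C k).rTensor M) g.1 + ∑ l, (epsL C k l) • ((inclL C k).rTensor M) (g.2 l)

theorem deltaPlain_bijective : Function.Bijective (deltaPlain (A := A) C k M) := by
  classical
  have hΔ : ∀ g, deltaPlain (A := A) C k M g = ((inclL C k).rTensor M) g.1 +
      ∑ l, (((LinearMap.mulLeft A (epsL C k l)) ∘ₗ (inclL C k)).rTensor M) (g.2 l) := by
    intro g
    unfold deltaPlain
    congr 1
    refine Finset.sum_congr rfl fun l _ => ?_
    rw [smul_eq_rTensor, LinearMap.rTensor_comp_apply]
  refine Function.bijective_iff_has_inverse.2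
    ⟨fun t => (((fstL C k).rTensor M) t, fun l => ((sndL C k l).rTensor M) t), ?_, ?_⟩
  · intro g
    rw [hΔ]
    ext
    · simp only [map_add, map_sum, ← LinearMap.rTensor_comp_apply, fstL_comp_inclL,
        fstL_comp_mul_inclL, LinearMap.rTensor_id, LinearMap.id_apply, LinearMap.rTensor_zero,
        LinearMap.zero_apply, Finset.sum_const_zero, add_zero]
    · rename_i l'
      simp only [map_add, map_sum, ← LinearMap.rTensor_comp_apply, sndL_comp_inclL,
        sndL_comp_mul_inclL, LinearMap.rTensor_zero, LinearMap.zero_apply, zero_add]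
      rw [Finset.sum_eq_single l']
      · simp
      · intro l _ hl
        simp [hl]
      · simp
  · intro t
    rw [hΔ]
    simp only [← LinearMap.rTensor_comp_apply]
    have := congrArg (fun φ => (φ.rTensor M) t) (sum_decomp_id (A := A) C k)
    simp only [LinearMap.rTensor_add, LinearMap.add_apply, rTensor_finset_sum,
      LinearMap.rTensor_id, LinearMap.id_apply] at this
    simpa [LinearMap.comp_assoc] using this

end Plain

end Groth.Agent.Lib.Helper44
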