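import Groth.Agent.Lib.Helper44.AdeqAbelian
import Groth.Agent.Lib.Helper44.AdeqExtend
import Groth.Agent.Lib.Helper44.AdeqSplitPlain
import Mathlib

/-!
# Decompositions of values of module-valued functors over `C[ε₁..ε_k]`
-/

set_option autoImplicit false
universe u
open CategoryTheory CategoryTheory.Limits Opposite TensorProduct

namespace Groth.Agent.Lib.Helper44

variable {A : Type u} [CommRing A]

section Algebras

variable (C : Adeq.Alg A) (k : ℕ)

/-- `C[ε₁,…,ε_k]/(ε_i ε_j)` as a type -/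
abbrev CkT : Type u := TrivSqZeroExt (C : Type u) (Fin k → (C : Type u))

/-- `C[ε₁,…,ε_k]/(ε_i ε_j)` as an `A`-algebra -/
noncomputable abbrev Ck : Adeq.Alg A := Adeq.algOf A (CkT C k)

/-- the inclusion `C → C[ε]` -/
noncomputable def inclK : C ⟶ Ck C k :=
  CommAlgCat.ofHom (TrivSqZeroExt.inlAlgHom A (C : Type u) (Fin k → (C : Type u)))

/-- the elements `ε_l` -/
def epsK (l : Fin k) : CkT C k := TrivSqZeroExt.inr (Pi.single l 1)

variable {C k}

/-- the `C`-algebra map induced by a matrix -/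
noncomputable def mapLin {k' : ℕ} (g : (Fin k → (C : Type u)) →ₗ[(C : Type u)] (Fin k' → (C : Type u))) :
    Ck C k ⟶ Ck C k' :=
  CommAlgCat.ofHom ((TrivSqZeroExt.map g).restrictScalars A)

theorem inclK_mapLin {k' : ℕ} (g : (Fin k → (C : Type u)) →ₗ[(C : Type u)] (Fin k' → (C : Type u))) :
    inclK C k ≫ mapLin g = inclK C k' := by
  apply CommAlgCat.hom_ext
  apply AlgHom.ext
  intro c
  change TrivSqZeroExt.map g (TrivSqZeroExt.inl c) = TrivSqZeroExt.inl c
  rw [TrivSqZeroExt.map_inl]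

theorem mapLin_inr {k' : ℕ} (g : (Fin k → (C : Type u)) →ₗ[(C : Type u)] (Fin k' → (C : Type u)))
    (v : Fin k → (C : Type u)) :
    (mapLin g).hom (TrivSqZeroExt.inr v : CkT C k) = TrivSqZeroExt.inr (g v) := by
  change TrivSqZeroExt.map g (TrivSqZeroExt.inr v) = _
  rw [TrivSqZeroExt.map_inr]

/-- the map induced by a map of algebras -/
noncomputable def mapRing {C' : Adeq.Alg A} (f : C ⟶ C') : Ck C k ⟶ Ck C' k :=
  CommAlgCat.ofHom
    { toFun := fun z => TrivSqZeroExt.inl (f.hom z.fst) + TrivSqZeroExt.inr (fun l => f.hom (z.snd l))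
      map_one' := by
        ext <;> simp
      map_mul' := by
        intro x y
        ext
        · simp
        · simp
      map_zero' := by
        ext <;> simp
      map_add' := by
        intro x y
        ext
        · simp
        · simp
      commutes' := by
        intro a
        ext
        · simp [TrivSqZeroExt.algebraMap_eq_inl']
        · simp [TrivSqZeroExt.algebraMap_eq_inl'] }

theorem inclK_mapRing {C' : Adeq.Alg A} (f : C ⟶ C') :
    inclK C k ≫ mapRing f = f ≫ inclK C' k := by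
  apply CommAlgCat.hom_ext
  apply AlgHom.ext
  intro c
  change (TrivSqZeroExt.inl (f.hom c) + TrivSqZeroExt.inr (fun l => f.hom ((0 : Fin k → (C : Type u)) l)) :
    CkT C' k) = TrivSqZeroExt.inl (f.hom c)
  ext <;> simp

theorem mapRing_epsK {C' : Adeq.Alg A} (f : C ⟶ C') (l : Fin k) :
    (mapRing f).hom (epsK C k l) = epsK C' k l := by
  classical
  change (TrivSqZeroExt.inl (f.hom (0 : (C : Type u))) +
    TrivSqZeroExt.inr (fun l' => f.hom ((Pi.single l (1 : (C : Type u)) : Fin k → (C : Type u)) l')) :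
    CkT C' k) = TrivSqZeroExt.inr (Pi.single l 1)
  ext l'
  · simp
  · by_cases h : l' = l
    · subst h
      simp
    · simp [Pi.single_apply, h]

theorem mapLin_epsK {k' : ℕ}
    (g : (Fin k → (C : Type u)) →ₗ[(C : Type u)] (Fin k' → (C : Type u))) (l : Fin k) :
    (mapLin g).hom (epsK C k l) = TrivSqZeroExt.inr (g (Pi.single l 1)) :=
  mapLin_inr g _

theorem inr_eq_sum (v : Fin k → (C : Type u)) :
    (TrivSqZeroExt.inr v : CkT C k) = ∑ l, epsK C k l * (inclK C k).hom (v l) := by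
  classical
  change _ = ∑ l, (TrivSqZeroExt.inr (Pi.single l 1) : CkT C k) * TrivSqZeroExt.inl (v l)
  simp_rw [TrivSqZeroExt.inr_mul_inl]
  rw [← TrivSqZeroExt.inr_sum]
  congr 1
  funext l'
  simp [Finset.sum_apply, Pi.single_apply]

end Algebras

section MapE

/-- the transition map of a module-valued functor on elements, with clean codomain -/
noncomputable def mapE (F : Adeq.MVF A) {B B' : Adeq.Alg A} (f : B ⟶ B') (x : F.obj (Adeq.pt B)) :
    F.obj (Adeq.pt B') := F.map (Adeq.ptHom f) x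

variable (F : Adeq.MVF A) {B B' B'' : Adeq.Alg A} (f : B ⟶ B') (g : B' ⟶ B'')

theorem mapE_add (x y : F.obj (Adeq.pt B)) : mapE F f (x + y) = mapE F f x + mapE F f y :=
  map_add (F.map (Adeq.ptHom f)).hom x y

theorem mapE_zero : mapE F f (0 : F.obj (Adeq.pt B)) = 0 :=
  map_zero (F.map (Adeq.ptHom f)).hom

theorem mapE_sub (x y : F.obj (Adeq.pt B)) : mapE F f (x - y) = mapE F f x - mapE F f y :=
  map_sub (F.map (Adeq.ptHom f)).hom x y

theorem mapE_sum {ι : Type*} (s : Finset ι) (x : ι → F.obj (Adeq.pt B)) :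
    mapE F f (∑ i ∈ s, x i) = ∑ i ∈ s, mapE F f (x i) :=
  map_sum (F.map (Adeq.ptHom f)).hom x s

theorem mapE_smul (b : B) (x : F.obj (Adeq.pt B)) :
    mapE F f (b • x) = f.hom b • mapE F f x :=
  (F.map (Adeq.ptHom f)).hom.map_smul b x

theorem mapE_comp (x : F.obj (Adeq.pt B)) : mapE F g (mapE F f x) = mapE F (f ≫ g) x := by
  have : Adeq.ptHom (f ≫ g) = Adeq.ptHom f ≫ Adeq.ptHom g := rfl
  unfold mapE
  rw [this, F.map_comp]
  rfl

theorem mapE_id (x : F.obj (Adeq.pt B)) : mapE F (𝟙 B) x = x := by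
  have : Adeq.ptHom (𝟙 B) = 𝟙 (Adeq.pt B) := rfl
  unfold mapE
  rw [this, F.map_id]
  rfl

theorem nat_mapE {F F' : Adeq.MVF A} (α : F ⟶ F') {B B' : Adeq.Alg A} (f : B ⟶ B')
    (x : F.obj (Adeq.pt B)) :
    α.app (Adeq.pt B') (mapE F f x) = mapE F' f (α.app (Adeq.pt B) x) :=
  PresheafOfModules.naturality_apply α (Adeq.ptHom f) x

end MapE

section Delta

variable (F : Adeq.MVF A) (C : Adeq.Alg A) (k : ℕ)

/-- the map `F(C) × F(C)^k → F(C[ε₁..ε_k])`, `(g₀, g) ↦ g₀ + ∑ ε_l g_l` -/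
noncomputable def deltaK (g : F.obj (Adeq.pt C) × (Fin k → F.obj (Adeq.pt C))) :
    F.obj (Adeq.pt (Ck C k)) :=
  mapE F (inclK C k) g.1 + ∑ l, (epsK C k l : CkT C k) • mapE F (inclK C k) (g.2 l)

theorem deltaK_add (g g' : F.obj (Adeq.pt C) × (Fin k → F.obj (Adeq.pt C))) :
    deltaK F C k (g + g') = deltaK F C k g + deltaK F C k g' := by
  unfold deltaK
  simp only [Prod.fst_add, Prod.snd_add, Pi.add_apply, mapE_add, smul_add, Finset.sum_add_distrib]
  abel

theorem deltaK_zero : deltaK F C k 0 = 0 := by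
  unfold deltaK
  simp only [Prod.fst_zero, Prod.snd_zero, Pi.zero_apply, mapE_zero, smul_zero,
    Finset.sum_const_zero, add_zero]

theorem deltaK_sub (g g' : F.obj (Adeq.pt C) × (Fin k → F.obj (Adeq.pt C))) :
    deltaK F C k (g - g') = deltaK F C k g - deltaK F C k g' := by
  have h := deltaK_add F C k (g - g') g'
  rw [sub_add_cancel] at h
  rw [h, add_sub_cancel_right]

variable {F C k}

theorem deltaK_nat {F' : Adeq.MVF A} (α : F ⟶ F')
    (g : F.obj (Adeq.pt C) × (Fin k → F.obj (Adeq.pt C))) :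
    α.app (Adeq.pt (Ck C k)) (deltaK F C k g) =
      deltaK F' C k (α.app (Adeq.pt C) g.1, fun l => α.app (Adeq.pt C) (g.2 l)) := by
  unfold deltaK
  rw [map_add, map_sum, nat_mapE]
  congr 1
  refine Finset.sum_congr rfl fun l _ => ?_
  rw [← nat_mapE]
  exact (α.app (Adeq.pt (Ck C k))).hom.map_smul (epsK C k l : CkT C k) _

theorem deltaK_mapRing {C' : Adeq.Alg A} (f : C ⟶ C')
    (g : F.obj (Adeq.pt C) × (Fin k → F.obj (Adeq.pt C))) :
    mapE F (mapRing f) (deltaK F C k g) =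
      deltaK F C' k (mapE F f g.1, fun l => mapE F f (g.2 l)) := by
  unfold deltaK
  rw [mapE_add, mapE_sum, mapE_comp, inclK_mapRing, ← mapE_comp]
  congr 1
  refine Finset.sum_congr rfl fun l _ => ?_
  rw [mapE_smul, mapRing_epsK, mapE_comp, inclK_mapRing, ← mapE_comp]

theorem deltaK_mapLin {k' : ℕ}
    (m : (Fin k → (C : Type u)) →ₗ[(C : Type u)] (Fin k' → (C : Type u)))
    (g : F.obj (Adeq.pt C) × (Fin k → F.obj (Adeq.pt C))) :
    mapE F (mapLin m) (deltaK F C k g) =
      deltaK F C k' (g.1, fun l' => ∑ l, (m (Pi.single l 1) l') • g.2 l) := by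
  unfold deltaK
  rw [mapE_add, mapE_sum, mapE_comp, inclK_mapLin]
  congr 1
  have key : ∀ l, mapE F (mapLin m) ((epsK C k l : CkT C k) • mapE F (inclK C k) (g.2 l)) =
      ∑ l', (epsK C k' l' : CkT C k') • mapE F (inclK C k') ((m (Pi.single l 1) l') • g.2 l) := by
    intro l
    rw [mapE_smul, mapLin_epsK, mapE_comp, inclK_mapLin, inr_eq_sum, Finset.sum_smul]
    refine Finset.sum_congr rfl fun l' _ => ?_
    rw [mapE_smul, mul_smul]
  rw [Finset.sum_congr rfl (fun l _ => key l), Finset.sum_comm]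
  refine Finset.sum_congr rfl fun l' _ => ?_
  rw [mapE_sum, Finset.smul_sum]

end Delta

section Decomp

theorem deltaK_underline_eq (M : ModuleCat.{u + 1} A) (C : Adeq.Alg A) (k : ℕ)
    (g : ((C : Type u) ⊗[A] M) × (Fin k → (C : Type u) ⊗[A] M)) :
    deltaK ((Adeq.underline A).obj M) C k g = deltaPlain (A := A) (C : Type u) k M g := rfl

theorem deltaK_underline_bijective (M : ModuleCat.{u + 1} A) (C : Adeq.Alg A) (k : ℕ) :
    Function.Bijective (deltaK ((Adeq.underline A).obj M) C k) :=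
  deltaPlain_bijective (A := A) (C : Type u) k M

/-- kernel-type five lemma for decompositions -/
theorem deltaK_bijective_of_kernel {F' F F'' : Adeq.MVF A} (j : F' ⟶ F) (ψ : F ⟶ F'')
    (hzero : j ≫ ψ = 0)
    (hinj : ∀ X : (Adeq.Alg A)ᵒᵖᵒᵖ, Function.Injective (j.app X))
    (hex : ∀ (X : (Adeq.Alg A)ᵒᵖᵒᵖ) (x : F.obj X), ψ.app X x = 0 → ∃ y, j.app X y = x)
    (C : Adeq.Alg A) (k : ℕ) (hF : Function.Bijective (deltaK F C k))
    (hF'' : Function.Injective (deltaK F'' C k)) : Function.Bijective (deltaK F' C k) := by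
  constructor
  · intro g g' h
    have h1 := congrArg (j.app (Adeq.pt (Ck C k))) h
    rw [deltaK_nat, deltaK_nat] at h1
    have h2 := hF.1 h1
    rw [Prod.ext_iff] at h2
    refine Prod.ext (hinj _ h2.1) (funext fun l => hinj _ (congrFun h2.2 l))
  · intro y
    obtain ⟨u, hu⟩ := hF.2 (j.app (Adeq.pt (Ck C k)) y)
    have h0 : ψ.app (Adeq.pt (Ck C k)) (j.app (Adeq.pt (Ck C k)) y) = 0 := by
      change (j ≫ ψ).app (Adeq.pt (Ck C k)) y = 0
      rw [hzero]
      rfl
    rw [← hu, deltaK_nat, ← deltaK_zero F'' C k] at h0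
    have h1 := hF'' h0
    rw [Prod.ext_iff] at h1
    obtain ⟨g₀, hg₀⟩ := hex _ u.1 h1.1
    have h2 : ∀ l, ∃ g, j.app (Adeq.pt C) g = u.2 l := fun l => hex _ (u.2 l) (congrFun h1.2 l)
    choose gs hgs using h2
    refine ⟨(g₀, gs), hinj _ ?_⟩
    rw [deltaK_nat, ← hu]
    congr 1
    exact Prod.ext hg₀ (funext hgs)

/-- extension-type five lemma for decompositions -/
theorem deltaK_bijective_of_extension {F' F F'' : Adeq.MVF A} (i : F' ⟶ F) (p : F ⟶ F'')
    (hinj : ∀ X : (Adeq.Alg A)ᵒᵖᵒᵖ, Function.Injective (i.app X))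
    (hex : ∀ (X : (Adeq.Alg A)ᵒᵖᵒᵖ) (x : F.obj X), p.app X x = 0 → ∃ y, i.app X y = x)
    (hsurj : ∀ X : (Adeq.Alg A)ᵒᵖᵒᵖ, Function.Surjective (p.app X))
    (C : Adeq.Alg A) (k : ℕ) (hF' : Function.Bijective (deltaK F' C k))
    (hF'' : Function.Bijective (deltaK F'' C k)) : Function.Bijective (deltaK F C k) := by
  have hker : ∀ h, deltaK F C k h = 0 → h = 0 := by
    intro h hh
    have h1 := congrArg (p.app (Adeq.pt (Ck C k))) hh
    rw [deltaK_nat, map_zero, ← deltaK_zero F'' C k] at h1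
    have h2 := hF''.1 h1
    rw [Prod.ext_iff] at h2
    obtain ⟨g₀, hg₀⟩ := hex _ h.1 h2.1
    have h3 : ∀ l, ∃ g, i.app (Adeq.pt C) g = h.2 l := fun l => hex _ (h.2 l) (congrFun h2.2 l)
    choose gs hgs using h3
    have h4 : h = (i.app (Adeq.pt C) (g₀, gs).1, fun l => i.app (Adeq.pt C) ((g₀, gs).2 l)) :=
      Prod.ext hg₀.symm (funext fun l => (hgs l).symm)
    rw [h4, ← deltaK_nat] at hh
    have h5 : deltaK F' C k (g₀, gs) = 0 := hinj _ (hh.trans (map_zero _).symm)
    rw [← deltaK_zero F' C k] at h5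
    have h6 := hF'.1 h5
    rw [h4, h6]
    refine Prod.ext (map_zero _) (funext fun l => map_zero _)
  constructor
  · intro g g' h
    have := hker (g - g') (by rw [deltaK_sub, h, sub_self])
    exact sub_eq_zero.1 this
  · intro y
    obtain ⟨w, hw⟩ := hF''.2 (p.app (Adeq.pt (Ck C k)) y)
    obtain ⟨v₀, hv₀⟩ := hsurj _ w.1
    have h1 : ∀ l, ∃ v, p.app (Adeq.pt C) v = w.2 l := fun l => hsurj _ (w.2 l)
    choose vs hvs using h1
    have h2 : p.app (Adeq.pt (Ck C k)) (y - deltaK F C k (v₀, vs)) = 0 := by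
      rw [map_sub, deltaK_nat, ← hw, sub_eq_zero]
      congr 1
      exact Prod.ext hv₀.symm (funext fun l => (hvs l).symm)
    obtain ⟨y', hy'⟩ := hex _ _ h2
    obtain ⟨v', hv'⟩ := hF'.2 y'
    refine ⟨(v₀, vs) + (i.app (Adeq.pt C) v'.1, fun l => i.app (Adeq.pt C) (v'.2 l)), ?_⟩
    rw [deltaK_add, ← deltaK_nat, hv', hy', add_sub_cancel]

end Decomp

end Groth.Agent.Lib.Helper44
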