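import Groth.Agent.Lib.Helper44.AdeqSplit1
import Mathlib

/-!
# The first-order universal ring and maps to `C[ε₁..ε_k]`
-/

set_option autoImplicit false
universe u
open CategoryTheory CategoryTheory.Limits Opposite TensorProduct

namespace Groth.Agent.Lib.Helper44

variable {A : Type u} [CommRing A]

section Theta

variable {P P' : ModuleCat.{u + 1} A} {n k' : ℕ} (b : Module.Basis (Fin n) A P)
  (b' : Module.Basis (Fin k') A P') (φ₀ : P ⟶ P')

/-- the first-order universal ring `A ⊕ W` -/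
abbrev B1T : Type u := TrivSqZeroExt A (relQuot b b' φ₀)

/-- the first-order universal ring as an `A`-algebra -/
noncomputable abbrev B1 : Adeq.Alg A := Adeq.algOf A (B1T b b' φ₀)

variable {b b' φ₀} {C : Adeq.Alg A} {k : ℕ}

/-- the algebra map `A ⊕ W → C[ε₁..ε_k]` attached to `k` linear maps `W → C` -/
noncomputable def thetaKA (h : Fin k → (relQuot b b' φ₀ →ₗ[A] (C : Type u))) :
    B1T b b' φ₀ →ₐ[A] CkT C k :=
  TrivSqZeroExt.liftEquivOfComm
    ⟨((TrivSqZeroExt.inrHom (C : Type u) (Fin k → (C : Type u))).restrictScalars A).comp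
      (LinearMap.pi h), fun x y => by
      change (TrivSqZeroExt.inr _ : CkT C k) * TrivSqZeroExt.inr _ = 0
      exact TrivSqZeroExt.inr_mul_inr _ _ _⟩

theorem thetaKA_inr (h : Fin k → (relQuot b b' φ₀ →ₗ[A] (C : Type u))) (w : relQuot b b' φ₀) :
    thetaKA h (TrivSqZeroExt.inr w) = TrivSqZeroExt.inr (fun l => h l w) := by
  unfold thetaKA
  rw [TrivSqZeroExt.liftEquivOfComm_apply, TrivSqZeroExt.lift_apply_inr]
  rfl

theorem thetaKA_inl (h : Fin k → (relQuot b b' φ₀ →ₗ[A] (C : Type u))) (a : A) :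
    thetaKA h (TrivSqZeroExt.inl a) = TrivSqZeroExt.inl (algebraMap A (C : Type u) a) := by
  unfold thetaKA
  rw [TrivSqZeroExt.liftEquivOfComm_apply, TrivSqZeroExt.lift_apply_inl]
  rfl

theorem thetaKA_ext {h : Fin k → (relQuot b b' φ₀ →ₗ[A] (C : Type u))}
    (g : B1T b b' φ₀ →ₐ[A] CkT C k)
    (hg : ∀ w, g (TrivSqZeroExt.inr w) = TrivSqZeroExt.inr (fun l => h l w)) :
    g = thetaKA h := by
  apply TrivSqZeroExt.algHom_ext
  intro w
  rw [hg, thetaKA_inr]

/-- `thetaKA` as a morphism of `A`-algebras -/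
noncomputable def thetaK (h : Fin k → (relQuot b b' φ₀ →ₗ[A] (C : Type u))) :
    B1 b b' φ₀ ⟶ Ck C k := CommAlgCat.ofHom (thetaKA h)

theorem thetaK_mapLin {k₂ : ℕ} (h : Fin k → (relQuot b b' φ₀ →ₗ[A] (C : Type u)))
    (m : (Fin k → (C : Type u)) →ₗ[(C : Type u)] (Fin k₂ → (C : Type u))) :
    thetaK h ≫ mapLin m =
      thetaK (fun l' => ((LinearMap.proj l' : (Fin k₂ → (C : Type u)) →ₗ[(C : Type u)] _).restrictScalars A ∘ₗ
        m.restrictScalars A) ∘ₗ LinearMap.pi h) := by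
  apply CommAlgCat.hom_ext
  apply thetaKA_ext
  intro w
  change (mapLin m).hom (thetaKA h (TrivSqZeroExt.inr w)) = _
  rw [thetaKA_inr, mapLin_inr]
  rfl

theorem thetaK_mapRing {C' : Adeq.Alg A} (h : Fin k → (relQuot b b' φ₀ →ₗ[A] (C : Type u)))
    (f : C ⟶ C') :
    thetaK h ≫ mapRing f = thetaK (fun l => f.hom.toLinearMap ∘ₗ h l) := by
  apply CommAlgCat.hom_ext
  apply thetaKA_ext
  intro w
  change (mapRing f).hom (thetaKA h (TrivSqZeroExt.inr w)) = _
  rw [thetaKA_inr]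
  change (TrivSqZeroExt.inl (f.hom (0 : (C : Type u))) +
    TrivSqZeroExt.inr (fun l => f.hom (h l w)) : CkT C' k) = _
  rw [map_zero, TrivSqZeroExt.inl_zero, zero_add]
  rfl

theorem thetaKA_rTensor_xiZero (h : Fin k → (relQuot b b' φ₀ →ₗ[A] (C : Type u))) :
    ((thetaKA h).toLinearMap.rTensor P) (xiZero b b' φ₀) =
      deltaPlain (A := A) (C : Type u) k P
        ((0 : (C : Type u) ⊗[A] P), fun l => ∑ i, (h l (xbar b b' φ₀ i)) ⊗ₜ[A] b i) := by
  unfold deltaPlain xiZero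
  simp only [map_zero, zero_add, map_sum, LinearMap.rTensor_tmul, Finset.smul_sum,
    TensorProduct.smul_tmul']
  rw [Finset.sum_comm]
  refine Finset.sum_congr rfl fun i _ => ?_
  rw [← TensorProduct.sum_tmul]
  congr 1
  change thetaKA h (TrivSqZeroExt.inr (xbar b b' φ₀ i)) = _
  rw [thetaKA_inr, inr_eq_sum]
  rfl

theorem mapE_thetaK_xiZero (h : Fin k → (relQuot b b' φ₀ →ₗ[A] (C : Type u))) :
    mapE ((Adeq.underline A).obj P) (thetaK h) (xiZero b b' φ₀) =
      deltaK ((Adeq.underline A).obj P) C k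
        (0, fun l => ∑ i, (h l (xbar b b' φ₀ i)) ⊗ₜ[A] b i) :=
  (thetaKA_rTensor_xiZero h).trans (deltaK_underline_eq P C k _).symm

end Theta

section Coord

variable {P P' : ModuleCat.{u + 1} A} {n k' : ℕ} (b : Module.Basis (Fin n) A P)
  (b' : Module.Basis (Fin k') A P') (φ₀ : P ⟶ P')

/-- `i`-th coordinate of an element of `C ⊗ P` with respect to the basis `b` -/
noncomputable def coordL (C : Type u) [CommRing C] [Algebra A C] (i : Fin n) :
    C ⊗[A] P →ₗ[A] C :=
  (TensorProduct.rid A C).toLinearMap ∘ₗ (b.coord i).lTensor C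

theorem coordL_tmul (C : Type u) [CommRing C] [Algebra A C] (i : Fin n) (c : C) (p : P) :
    coordL b C i (c ⊗ₜ[A] p) = b.repr p i • c := by
  simp [coordL]

theorem sum_coordL_tmul (C : Type u) [CommRing C] [Algebra A C] (t : C ⊗[A] P) :
    ∑ i, (coordL b C i t) ⊗ₜ[A] b i = t := by
  induction t using TensorProduct.induction_on with
  | zero => simp
  | tmul c p =>
    simp_rw [coordL_tmul, TensorProduct.smul_tmul, ← TensorProduct.tmul_sum]
    rw [b.sum_repr]
  | add x y hx hy =>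
    simp_rw [map_add, TensorProduct.add_tmul, Finset.sum_add_distrib]
    rw [hx, hy]

theorem coordL_smul (C : Type u) [CommRing C] [Algebra A C] (i : Fin n) (d : C) (t : C ⊗[A] P) :
    coordL b C i (d • t) = d * coordL b C i t := by
  induction t using TensorProduct.induction_on with
  | zero => simp
  | tmul c p =>
    rw [TensorProduct.smul_tmul', coordL_tmul, coordL_tmul, smul_eq_mul, mul_smul_comm]
  | add x y hx hy => rw [smul_add, map_add, map_add, hx, hy, mul_add]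

theorem coordL_rTensor {C C' : Type u} [CommRing C] [Algebra A C] [CommRing C'] [Algebra A C']
    (f : C →ₐ[A] C') (i : Fin n) (t : C ⊗[A] P) :
    coordL b C' i ((f.toLinearMap.rTensor P) t) = f (coordL b C i t) := by
  induction t using TensorProduct.induction_on with
  | zero => simp
  | tmul c p =>
    rw [LinearMap.rTensor_tmul, coordL_tmul, coordL_tmul, map_smul]
    rfl
  | add x y hx hy => rw [map_add, map_add, map_add, map_add, hx, hy]

theorem coordL_relations (C : Type u) [CommRing C] [Algebra A C] (t : C ⊗[A] P)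
    (ht : (φ₀.hom.baseChange C) t = 0) (j : Fin k') :
    ∑ i, relMat b b' φ₀ i j • coordL b C i t = 0 := by
  have h1 := baseChange_sum_tmul b b' φ₀ C (fun i => coordL b C i t)
  rw [sum_coordL_tmul, ht] at h1
  exact eq_zero_of_sum_tmul_basis b' C _ h1.symm j

/-- the linear map `W → C` attached to an element of `ker(C ⊗ P → C ⊗ P')` -/
noncomputable def hPt (C : Type u) [CommRing C] [Algebra A C] (t : C ⊗[A] P)
    (ht : (φ₀.hom.baseChange C) t = 0) : relQuot b b' φ₀ →ₗ[A] C :=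
  hOf b b' φ₀ (fun i => coordL b C i t) (coordL_relations b b' φ₀ C t ht)

theorem hPt_mkQ (C : Type u) [CommRing C] [Algebra A C] (t : C ⊗[A] P)
    (ht : (φ₀.hom.baseChange C) t = 0) (v : Fin n → A) :
    hPt b b' φ₀ C t ht ((relSub b b' φ₀).mkQ v) = ∑ i, v i • coordL b C i t :=
  hOf_mkQ b b' φ₀ _ _ v

theorem hPt_xbar (C : Type u) [CommRing C] [Algebra A C] (t : C ⊗[A] P)
    (ht : (φ₀.hom.baseChange C) t = 0) (i : Fin n) :
    hPt b b' φ₀ C t ht (xbar b b' φ₀ i) = coordL b C i t :=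
  hOf_xbar b b' φ₀ _ _ i

theorem sum_hPt_xbar (C : Type u) [CommRing C] [Algebra A C] (t : C ⊗[A] P)
    (ht : (φ₀.hom.baseChange C) t = 0) :
    ∑ i, (hPt b b' φ₀ C t ht (xbar b b' φ₀ i)) ⊗ₜ[A] b i = t := by
  simp_rw [hPt_xbar]
  exact sum_coordL_tmul b C t

theorem hPt_add (C : Type u) [CommRing C] [Algebra A C] (t t' : C ⊗[A] P)
    (ht : (φ₀.hom.baseChange C) t = 0) (ht' : (φ₀.hom.baseChange C) t' = 0)
    (htt : (φ₀.hom.baseChange C) (t + t') = 0) (w : relQuot b b' φ₀) :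
    hPt b b' φ₀ C (t + t') htt w = hPt b b' φ₀ C t ht w + hPt b b' φ₀ C t' ht' w := by
  obtain ⟨v, rfl⟩ := (relSub b b' φ₀).mkQ_surjective w
  rw [hPt_mkQ, hPt_mkQ, hPt_mkQ, ← Finset.sum_add_distrib]
  refine Finset.sum_congr rfl fun i _ => ?_
  rw [map_add, smul_add]

theorem hPt_smul (C : Type u) [CommRing C] [Algebra A C] (d : C) (t : C ⊗[A] P)
    (ht : (φ₀.hom.baseChange C) t = 0) (hdt : (φ₀.hom.baseChange C) (d • t) = 0)
    (w : relQuot b b' φ₀) :
    hPt b b' φ₀ C (d • t) hdt w = d * hPt b b' φ₀ C t ht w := by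
  obtain ⟨v, rfl⟩ := (relSub b b' φ₀).mkQ_surjective w
  rw [hPt_mkQ, hPt_mkQ, Finset.mul_sum]
  refine Finset.sum_congr rfl fun i _ => ?_
  rw [coordL_smul, mul_smul_comm]

theorem hPt_map {C C' : Type u} [CommRing C] [Algebra A C] [CommRing C'] [Algebra A C']
    (f : C →ₐ[A] C') (t : C ⊗[A] P) (ht : (φ₀.hom.baseChange C) t = 0)
    (hft : (φ₀.hom.baseChange C') ((f.toLinearMap.rTensor P) t) = 0) (w : relQuot b b' φ₀) :
    hPt b b' φ₀ C' ((f.toLinearMap.rTensor P) t) hft w = f (hPt b b' φ₀ C t ht w) := by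
  obtain ⟨v, rfl⟩ := (relSub b b' φ₀).mkQ_surjective w
  rw [hPt_mkQ, hPt_mkQ, map_sum]
  refine Finset.sum_congr rfl fun i _ => ?_
  rw [coordL_rTensor, map_smul]

end Coord

end Groth.Agent.Lib.Helper44
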