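import Groth.Agent.Lib.Helper44.AdeqSplit2
import Mathlib

/-!
# The section of an extension of a linearly adequate functor by `underline M`
-/

set_option autoImplicit false
universe u
open CategoryTheory CategoryTheory.Limits Opposite TensorProduct

namespace Groth.Agent.Lib.Helper44

variable {A : Type u} [CommRing A]

section Section

variable {P P' : ModuleCat.{u + 1} A} {n k' : ℕ} (b : Module.Basis (Fin n) A P)
  (b' : Module.Basis (Fin k') A P') (φ₀ : P ⟶ P')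
  {G L : Adeq.MVF A} (g : G ⟶ L) (j : L ⟶ (Adeq.underline A).obj P)
  (hjzero : j ≫ (Adeq.underline A).map φ₀ = 0)

/-- a morphism to `underline P` on elements, with plain codomain -/
noncomputable def jE {L : Adeq.MVF A} (j : L ⟶ (Adeq.underline A).obj P) (C : Adeq.Alg A)
    (x : L.obj (Adeq.pt C)) : (C : Type u) ⊗[A] P := j.app (Adeq.pt C) x

theorem jE_add (C : Adeq.Alg A) (x y : L.obj (Adeq.pt C)) :
    jE j C (x + y) = jE j C x + jE j C y := map_add (j.app (Adeq.pt C)).hom x y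

theorem jE_smul (C : Adeq.Alg A) (d : C) (x : L.obj (Adeq.pt C)) :
    jE j C (d • x) = d • jE j C x := (j.app (Adeq.pt C)).hom.map_smul d x

theorem jE_mapE {C C' : Adeq.Alg A} (f : C ⟶ C') (x : L.obj (Adeq.pt C)) :
    jE j C' (mapE L f x) = (f.hom.toLinearMap.rTensor P) (jE j C x) :=
  nat_mapE j f x

include hjzero in
theorem baseChange_jE (C : Adeq.Alg A) (x : L.obj (Adeq.pt C)) :
    (φ₀.hom.baseChange (C : Type u)) (jE j C x) = 0 := by
  change (j ≫ (Adeq.underline A).map φ₀).app (Adeq.pt C) x = 0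
  rw [hjzero]
  rfl

theorem hPt_congr (C : Type u) [CommRing C] [Algebra A C] {t t' : C ⊗[A] P} (h : t = t')
    (ht : (φ₀.hom.baseChange C) t = 0) (ht' : (φ₀.hom.baseChange C) t' = 0) :
    hPt b b' φ₀ C t ht = hPt b b' φ₀ C t' ht' := by
  subst h
  rfl

/-- the linear map `W → C` attached to a section of `L` over `C` -/
noncomputable def hx (C : Adeq.Alg A) (x : L.obj (Adeq.pt C)) : relQuot b b' φ₀ →ₗ[A] (C : Type u) :=
  hPt b b' φ₀ (C : Type u) (jE j C x) (baseChange_jE φ₀ j hjzero C x)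

theorem hx_add (C : Adeq.Alg A) (x y : L.obj (Adeq.pt C)) :
    hx b b' φ₀ j hjzero C (x + y) = hx b b' φ₀ j hjzero C x + hx b b' φ₀ j hjzero C y := by
  apply LinearMap.ext
  intro w
  have h0 := baseChange_jE φ₀ j hjzero C (x + y)
  rw [jE_add] at h0
  have := hPt_add b b' φ₀ (C : Type u) _ _ (baseChange_jE φ₀ j hjzero C x)
    (baseChange_jE φ₀ j hjzero C y) h0 w
  rw [LinearMap.add_apply]
  refine Eq.trans ?_ this
  unfold hx
  rw [hPt_congr b b' φ₀ (C : Type u) (jE_add j C x y) _ h0]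

theorem hx_smul (C : Adeq.Alg A) (d : C) (x : L.obj (Adeq.pt C)) (w : relQuot b b' φ₀) :
    hx b b' φ₀ j hjzero C (d • x) w = d * hx b b' φ₀ j hjzero C x w := by
  have h0 := baseChange_jE φ₀ j hjzero C (d • x)
  rw [jE_smul] at h0
  refine Eq.trans ?_ (hPt_smul b b' φ₀ (C : Type u) d _ (baseChange_jE φ₀ j hjzero C x) h0 w)
  unfold hx
  rw [hPt_congr b b' φ₀ (C : Type u) (jE_smul j C d x) _ h0]

theorem hx_mapE {C C' : Adeq.Alg A} (f : C ⟶ C') (x : L.obj (Adeq.pt C)) (w : relQuot b b' φ₀) :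
    hx b b' φ₀ j hjzero C' (mapE L f x) w = f.hom (hx b b' φ₀ j hjzero C x w) := by
  have h0 := baseChange_jE φ₀ j hjzero C' (mapE L f x)
  rw [jE_mapE] at h0
  refine Eq.trans ?_ (hPt_map b b' φ₀ f.hom _ (baseChange_jE φ₀ j hjzero C x) h0 w)
  unfold hx
  rw [hPt_congr b b' φ₀ (C' : Type u) (jE_mapE j f x) _ h0]

theorem sum_hx_xbar (C : Adeq.Alg A) (x : L.obj (Adeq.pt C)) :
    ∑ i, (hx b b' φ₀ j hjzero C x (xbar b b' φ₀ i)) ⊗ₜ[A] b i = jE j C x :=
  sum_hPt_xbar b b' φ₀ (C : Type u) _ _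

variable (hG : ∀ (C : Adeq.Alg A) (k : ℕ), Function.Bijective (deltaK G C k))
  (η₁ : G.obj (Adeq.pt (B1 b b' φ₀)))
  (hη : jE j (B1 b b' φ₀) (g.app (Adeq.pt (B1 b b' φ₀)) η₁) = xiZero b b' φ₀)

/-- the image of the universal lift under the map attached to a section -/
noncomputable def zeta (C : Adeq.Alg A) (x : L.obj (Adeq.pt C)) : G.obj (Adeq.pt (Ck C 1)) :=
  mapE G (thetaK (fun _ : Fin 1 => hx b b' φ₀ j hjzero C x)) η₁

/-- the section on elements -/
noncomputable def sE (C : Adeq.Alg A) (x : L.obj (Adeq.pt C)) : G.obj (Adeq.pt C) :=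
  ((Equiv.ofBijective _ (hG C 1)).symm (zeta b b' φ₀ j hjzero η₁ C x)).2 0

theorem sE_eq (C : Adeq.Alg A) (x : L.obj (Adeq.pt C))
    (u : G.obj (Adeq.pt C) × (Fin 1 → G.obj (Adeq.pt C)))
    (h : deltaK G C 1 u = zeta b b' φ₀ j hjzero η₁ C x) :
    sE b b' φ₀ j hjzero hG η₁ C x = u.2 0 := by
  unfold sE
  rw [← h]
  have := (Equiv.ofBijective _ (hG C 1)).symm_apply_apply u
  rw [Equiv.ofBijective_apply] at this
  rw [this]

theorem sE_spec (C : Adeq.Alg A) (x : L.obj (Adeq.pt C)) :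
    ∃ u : G.obj (Adeq.pt C) × (Fin 1 → G.obj (Adeq.pt C)),
      deltaK G C 1 u = zeta b b' φ₀ j hjzero η₁ C x ∧ u.2 0 = sE b b' φ₀ j hjzero hG η₁ C x :=
  ⟨(Equiv.ofBijective _ (hG C 1)).symm (zeta b b' φ₀ j hjzero η₁ C x),
    (Equiv.ofBijective _ (hG C 1)).apply_symm_apply _, rfl⟩

include hη in
/-- `g ∘ s = id` after composing with `j` -/
theorem jE_g_sE (C : Adeq.Alg A) (x : L.obj (Adeq.pt C)) :
    jE j C (g.app (Adeq.pt C) (sE b b' φ₀ j hjzero hG η₁ C x)) = jE j C x := by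
  obtain ⟨u, hu, hu0⟩ := sE_spec b b' φ₀ j hjzero hG η₁ C x
  rw [← hu0]
  -- apply `g ≫ j` to `hu`
  have h1 := congrArg (fun z => (g ≫ j).app (Adeq.pt (Ck C 1)) z) hu
  simp only [] at h1
  rw [deltaK_nat] at h1
  unfold zeta at h1
  rw [nat_mapE] at h1
  have h2 : (g ≫ j).app (Adeq.pt (B1 b b' φ₀)) η₁ = xiZero b b' φ₀ := hη
  rw [h2, mapE_thetaK_xiZero] at h1
  have h3 := (deltaK_underline_bijective P C 1).1 h1
  rw [Prod.ext_iff] at h3
  have h4 := congrFun h3.2 0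
  exact h4.trans (sum_hx_xbar b b' φ₀ j hjzero C x)

/-- naturality of the section -/
theorem sE_mapE {C C' : Adeq.Alg A} (f : C ⟶ C') (x : L.obj (Adeq.pt C)) :
    sE b b' φ₀ j hjzero hG η₁ C' (mapE L f x) = mapE G f (sE b b' φ₀ j hjzero hG η₁ C x) := by
  obtain ⟨u, hu, hu0⟩ := sE_spec b b' φ₀ j hjzero hG η₁ C x
  rw [← hu0]
  refine sE_eq b b' φ₀ j hjzero hG η₁ C' (mapE L f x)
    (mapE G f u.1, fun l => mapE G f (u.2 l)) ?_
  rw [← deltaK_mapRing, hu]
  unfold zeta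
  rw [mapE_comp, thetaK_mapRing]
  congr 2
  funext l
  apply LinearMap.ext
  intro w
  exact (hx_mapE b b' φ₀ j hjzero f x w).symm

/-- linearity of the section -/
theorem sE_smul (C : Adeq.Alg A) (d : C) (x : L.obj (Adeq.pt C)) :
    sE b b' φ₀ j hjzero hG η₁ C (d • x) = d • sE b b' φ₀ j hjzero hG η₁ C x := by
  classical
  obtain ⟨u, hu, hu0⟩ := sE_spec b b' φ₀ j hjzero hG η₁ C x
  rw [← hu0]
  let m : (Fin 1 → (C : Type u)) →ₗ[(C : Type u)] (Fin 1 → (C : Type u)) := d • LinearMap.id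
  have key : deltaK G C 1 (u.1, fun l' => ∑ l, (m (Pi.single l 1) l') • u.2 l) =
      zeta b b' φ₀ j hjzero η₁ C (d • x) := by
    rw [← deltaK_mapLin, hu]
    unfold zeta
    rw [mapE_comp, thetaK_mapLin]
    congr 2
    funext l
    apply LinearMap.ext
    intro w
    change d * hx b b' φ₀ j hjzero C x w = _
    exact (hx_smul b b' φ₀ j hjzero C d x w).symm
  rw [sE_eq b b' φ₀ j hjzero hG η₁ C (d • x) _ key]
  simp [m]

/-- additivity of the section -/
theorem sE_add (C : Adeq.Alg A) (x y : L.obj (Adeq.pt C)) :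
    sE b b' φ₀ j hjzero hG η₁ C (x + y) =
      sE b b' φ₀ j hjzero hG η₁ C x + sE b b' φ₀ j hjzero hG η₁ C y := by
  classical
  let h2 : Fin 2 → (relQuot b b' φ₀ →ₗ[A] (C : Type u)) :=
    ![hx b b' φ₀ j hjzero C x, hx b b' φ₀ j hjzero C y]
  obtain ⟨u, hu⟩ := (hG C 2).2 (mapE G (thetaK h2) η₁)
  -- projections
  let m0 : (Fin 2 → (C : Type u)) →ₗ[(C : Type u)] (Fin 1 → (C : Type u)) :=
    LinearMap.pi (fun _ => (LinearMap.proj 0 : (Fin 2 → (C : Type u)) →ₗ[(C : Type u)] (C : Type u)))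
  let m1 : (Fin 2 → (C : Type u)) →ₗ[(C : Type u)] (Fin 1 → (C : Type u)) :=
    LinearMap.pi (fun _ => (LinearMap.proj 1 : (Fin 2 → (C : Type u)) →ₗ[(C : Type u)] (C : Type u)))
  let ms : (Fin 2 → (C : Type u)) →ₗ[(C : Type u)] (Fin 1 → (C : Type u)) :=
    LinearMap.pi (fun _ => (LinearMap.proj 0 : (Fin 2 → (C : Type u)) →ₗ[(C : Type u)] (C : Type u)) +
      (LinearMap.proj 1 : (Fin 2 → (C : Type u)) →ₗ[(C : Type u)] (C : Type u)))
  have key0 : deltaK G C 1 (u.1, fun l' => ∑ l, (m0 (Pi.single l 1) l') • u.2 l) =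
      zeta b b' φ₀ j hjzero η₁ C x := by
    rw [← deltaK_mapLin, hu]
    unfold zeta
    rw [mapE_comp, thetaK_mapLin]
    congr 2
  have key1 : deltaK G C 1 (u.1, fun l' => ∑ l, (m1 (Pi.single l 1) l') • u.2 l) =
      zeta b b' φ₀ j hjzero η₁ C y := by
    rw [← deltaK_mapLin, hu]
    unfold zeta
    rw [mapE_comp, thetaK_mapLin]
    congr 2
  have keys : deltaK G C 1 (u.1, fun l' => ∑ l, (ms (Pi.single l 1) l') • u.2 l) =
      zeta b b' φ₀ j hjzero η₁ C (x + y) := by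
    rw [← deltaK_mapLin, hu]
    unfold zeta
    rw [mapE_comp, thetaK_mapLin]
    congr 2
    funext l
    apply LinearMap.ext
    intro w
    rw [hx_add]
    rfl
  rw [sE_eq b b' φ₀ j hjzero hG η₁ C x _ key0, sE_eq b b' φ₀ j hjzero hG η₁ C y _ key1,
    sE_eq b b' φ₀ j hjzero hG η₁ C (x + y) _ keys]
  simp [m0, m1, ms, Fin.sum_univ_two, add_smul]

/-- the section as a morphism of presheaves of abelian groups -/
noncomputable def sNat : L.presheaf ⟶ G.presheaf where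
  app X := AddCommGrpCat.ofHom (AddMonoidHom.mk'
    (fun x : L.obj X => (sE b b' φ₀ j hjzero hG η₁ X.unop.unop x : G.obj X))
    (fun x y => sE_add b b' φ₀ j hjzero hG η₁ X.unop.unop x y))
  naturality X Y f := by
    ext x
    exact sE_mapE b b' φ₀ j hjzero hG η₁ f.unop.unop x

/-- the section as a morphism of module-valued functors -/
noncomputable def sHom : L ⟶ G :=
  PresheafOfModules.homMk (sNat b b' φ₀ j hjzero hG η₁)
    (fun X r m => sE_smul b b' φ₀ j hjzero hG η₁ X.unop.unop r m)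

theorem sHom_app_apply (C : Adeq.Alg A) (x : L.obj (Adeq.pt C)) :
    (sHom b b' φ₀ j hjzero hG η₁).app (Adeq.pt C) x = sE b b' φ₀ j hjzero hG η₁ C x := rfl

include hη in
theorem sHom_comp (hjinj : ∀ X : (Adeq.Alg A)ᵒᵖᵒᵖ, Function.Injective (j.app X)) :
    sHom b b' φ₀ j hjzero hG η₁ ≫ g = 𝟙 L := by
  apply PresheafOfModules.hom_ext
  intro X
  obtain ⟨⟨C⟩⟩ := X
  ext x
  apply hjinj
  exact jE_g_sE b b' φ₀ g j hjzero hG η₁ hη C x

end Section

end Groth.Agent.Lib.Helper44
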