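import Groth.Agent.Lib.Helper44.AdeqSplit3
import Groth.Agent.Lib.Helper44.AdeqAdjoint
import Mathlib

/-!
# Extensions of linearly adequate functors by `underline M` split
-/

set_option autoImplicit false
universe u
open CategoryTheory CategoryTheory.Limits Opposite TensorProduct

namespace Groth.Agent.Lib.Helper44

variable {A : Type u} [CommRing A]

theorem adequate_underline (M : ModuleCat.{u + 1} A) :
    Adeq.adequate A ((Adeq.underline A).obj M) := by
  refine adequate_of_exact (0 : M ⟶ ModuleCat.of A PUnit.{u + 2}) (𝟙 _) ?_ ?_ ?_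
  · rw [Functor.map_zero, comp_zero]
  · intro X x y h
    exact h
  · intro X x _
    exact ⟨x, rfl⟩

theorem adequate_of_linAdequate {F : Adeq.MVF A} (h : Adeq.linAdequate A F) :
    Adeq.adequate A F := by
  obtain ⟨M, N, φ, _, _, _, _, hi⟩ := h
  exact ⟨M, N, φ, hi⟩

theorem splitting_of_basis (S : ShortComplex (Adeq.MVF A)) (hS : S.ShortExact)
    (M : ModuleCat.{u + 1} A) (e : S.X₁ ≅ (Adeq.underline A).obj M)
    {P P' : ModuleCat.{u + 1} A} {n k' : ℕ} (b : Module.Basis (Fin n) A P)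
    (b' : Module.Basis (Fin k') A P') (φ₀ : P ⟶ P')
    (i₃ : S.X₃ ≅ kernel ((Adeq.underline A).map φ₀)) : Nonempty S.Splitting := by
  have := hS.mono_f
  have := hS.epi_g
  let j : S.X₃ ⟶ (Adeq.underline A).obj P := i₃.hom ≫ kernel.ι _
  have hjzero : j ≫ (Adeq.underline A).map φ₀ = 0 := by
    rw [Category.assoc, kernel.condition, comp_zero]
  have hi₃inj : ∀ X : (Adeq.Alg A)ᵒᵖᵒᵖ, Function.Injective (i₃.hom.app X) := by
    intro X x y hxy
    have := congrArg (i₃.inv.app X) hxy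
    change (i₃.hom ≫ i₃.inv).app X x = (i₃.hom ≫ i₃.inv).app X y at this
    rw [i₃.hom_inv_id] at this
    exact this
  have hjinj : ∀ X : (Adeq.Alg A)ᵒᵖᵒᵖ, Function.Injective (j.app X) := by
    intro X x y hxy
    exact hi₃inj X (kernel_ι_app_injective _ X hxy)
  have hjex : ∀ (X : (Adeq.Alg A)ᵒᵖᵒᵖ) (t : ((Adeq.underline A).obj P).obj X),
      ((Adeq.underline A).map φ₀).app X t = 0 → ∃ y, j.app X y = t := by
    intro X t ht
    obtain ⟨z, hz⟩ := exists_kernel_preimage _ X t ht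
    refine ⟨i₃.inv.app X z, ?_⟩
    change (kernel.ι ((Adeq.underline A).map φ₀)).app X ((i₃.inv ≫ i₃.hom).app X z) = t
    rw [i₃.inv_hom_id]
    exact hz
  have hgsurj : ∀ X : (Adeq.Alg A)ᵒᵖᵒᵖ, Function.Surjective (S.g.app X) :=
    fun X => PresheafOfModules.surjective_of_epi _ X
  have hfinj : ∀ X : (Adeq.Alg A)ᵒᵖᵒᵖ, Function.Injective (S.f.app X) :=
    fun X => PresheafOfModules.injective_of_mono _ X
  have hfex : ∀ (X : (Adeq.Alg A)ᵒᵖᵒᵖ) (x : S.X₂.obj X), S.g.app X x = 0 →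
      ∃ y, S.f.app X y = x := fun X x hx => exact_app S hS.exact X x hx
  -- decompositions
  have hL : ∀ (C : Adeq.Alg A) (k : ℕ), Function.Bijective (deltaK S.X₃ C k) := by
    intro C k
    exact deltaK_bijective_of_kernel j ((Adeq.underline A).map φ₀) hjzero hjinj hjex C k
      (deltaK_underline_bijective P C k) (deltaK_underline_bijective P' C k).1
  have hG : ∀ (C : Adeq.Alg A) (k : ℕ), Function.Bijective (deltaK S.X₂ C k) := by
    intro C k
    refine deltaK_bijective_of_extension (e.inv ≫ S.f) S.g ?_ ?_ hgsurj C k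
      (deltaK_underline_bijective M C k) (hL C k)
    · intro X x y hxy
      have h1 := hfinj X hxy
      have := congrArg (e.hom.app X) h1
      change (e.inv ≫ e.hom).app X x = (e.inv ≫ e.hom).app X y at this
      rw [e.inv_hom_id] at this
      exact this
    · intro X x hx
      obtain ⟨y, hy⟩ := hfex X x hx
      refine ⟨e.hom.app X y, ?_⟩
      change S.f.app X ((e.hom ≫ e.inv).app X y) = x
      rw [e.hom_inv_id]
      exact hy
  -- the universal lift
  obtain ⟨l₁, hl₁⟩ := hjex (Adeq.pt (B1 b b' φ₀)) (xiZero b b' φ₀) (baseChange_xiZero b b' φ₀)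
  obtain ⟨η₁, hη₁⟩ := hgsurj (Adeq.pt (B1 b b' φ₀)) l₁
  have hη : jE j (B1 b b' φ₀) (S.g.app (Adeq.pt (B1 b b' φ₀)) η₁) = xiZero b b' φ₀ := by
    rw [hη₁]
    exact hl₁
  exact ⟨ShortComplex.Splitting.ofExactOfSection S hS.exact
    (sHom b b' φ₀ j hjzero hG η₁) (sHom_comp b b' φ₀ S.g j hjzero hG η₁ hη hjinj) hS.mono_f⟩

theorem splitting_of_shortExact_underline_linAdequate
    (S : ShortComplex (Adeq.MVF A)) (hS : S.ShortExact) (M : ModuleCat.{u + 1} A)
    (e : S.X₁ ≅ (Adeq.underline A).obj M) (hL : Adeq.linAdequate A S.X₃) :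
    Nonempty S.Splitting ∧ Adeq.adequate A S.X₂ := by
  obtain ⟨P, P', φ₀, _, _, _, _, ⟨i₃⟩⟩ := hL
  have hsplit : Nonempty S.Splitting :=
    splitting_of_basis S hS M e
      ((Module.Free.chooseBasis A P).reindex (Fintype.equivFin _))
      ((Module.Free.chooseBasis A P').reindex (Fintype.equivFin _)) φ₀ i₃
  refine ⟨hsplit, ?_⟩
  obtain ⟨σ⟩ := hsplit
  have h₁ : Adeq.adequate A S.X₁ :=
    (Adeq.adequate A).prop_of_iso e.symm (adequate_underline M)
  have h₃ : Adeq.adequate A S.X₃ := ⟨P, P', φ₀, ⟨i₃⟩⟩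
  have h := (Adeq.adequate A).prop_prod S.X₁ S.X₃ h₁ h₃
  exact (Adeq.adequate A).prop_of_iso
    ((biprod.isoProd S.X₁ S.X₃).symm ≪≫ σ.isoBinaryBiproduct.symm) h

end Groth.Agent.Lib.Helper44
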