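import Groth.Agent.Lib.Helper65.ArtTorsor

/-!
# `k[ε] → k` is a small extension; versality for small prolongations
-/

set_option autoImplicit false
universe u v
open CategoryTheory

namespace Groth.Agent.Lib.Helper44

open ArtFun ArtFun.Art Groth.Agent.Lib.Helper65

variable {Λ : Type u} {k : Type u} [CommRing Λ] [Field k] [Algebra Λ k]

theorem ker_toBase_dual (x : (dual Λ k).carrier) :
    x ∈ RingHom.ker (toBase (dual Λ k)).toAlgHom ↔ dfst x = 0 := by
  rw [RingHom.mem_ker]
  exact Iff.rfl

theorem isSmallExt_toBase_dual : IsSmallExt (toBase (dual Λ k)) := by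
  have hker : RingHom.ker (toBase (dual Λ k)).toAlgHom =
      Ideal.span {(dmk (Λ := Λ) 0 1 : (dual Λ k).carrier)} := by
    apply le_antisymm
    · intro x hx
      rw [ker_toBase_dual] at hx
      rw [Ideal.mem_span_singleton']
      refine ⟨dmk (dsnd x) 0, ?_⟩
      apply dual_ext
      · rw [hx]
        change (dsnd x) * 0 = 0
        ring
      · rw [dsnd_mul]
        simp only [dfst_dmk, dsnd_dmk]
        ring
    · rw [Ideal.span_le, Set.singleton_subset_iff]
      change dmk (Λ := Λ) 0 1 ∈ RingHom.ker (toBase (dual Λ k)).toAlgHom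
      rw [ker_toBase_dual]
      rfl
  refine ⟨(dual Λ k).res_surjective, ?_, ?_, ?_⟩
  · intro h
    have h1 : (dmk (Λ := Λ) 0 1 : (dual Λ k).carrier) ∈
        RingHom.ker (toBase (dual Λ k)).toAlgHom := by
      rw [ker_toBase_dual]; rfl
    rw [h, Ideal.mem_bot] at h1
    have h2 := congrArg dsnd h1
    rw [dsnd_dmk, dsnd_zero] at h2
    exact one_ne_zero h2
  · rw [hker]
    exact ⟨⟨_, rfl⟩⟩
  · rw [eq_bot_iff]
    rw [Ideal.mul_le]
    intro m hm x hx
    rw [Art.mem_maximalIdeal_iff] at hm
    rw [ker_toBase_dual] at hx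
    rw [Ideal.mem_bot]
    have hm' : dfst m = 0 := hm
    apply dual_ext
    · change dfst m * dfst x = 0
      rw [hm', zero_mul]
    · rw [dsnd_mul, hm', hx, dsnd_zero]
      ring

end Groth.Agent.Lib.Helper44
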