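import Mathlib.RingTheory.Artinian.Ring
import Mathlib.RingTheory.HopkinsLevitzki
import Mathlib.RingTheory.Nakayama
import Mathlib.RingTheory.LocalRing.MaximalIdeal.Basic

/-! One step of a composition series of an ideal in an Artinian local ring. -/

set_option autoImplicit false

namespace Groth.Agent.Lib.Helper44.ArtinStep

variable {A : Type*} [CommRing A] [IsArtinianRing A] [IsLocalRing A]

theorem isNilpotent_of_mem_maximalIdeal {t : A} (ht : t ∈ IsLocalRing.maximalIdeal A) :
    IsNilpotent t := by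
  obtain ⟨n, hn⟩ := IsArtinianRing.isNilpotent_jacobson_bot (R := A)
  rw [IsLocalRing.jacobson_eq_maximalIdeal ⊥ bot_ne_top] at hn
  refine ⟨n, ?_⟩
  have h1 : t ^ n ∈ (IsLocalRing.maximalIdeal A) ^ n := Ideal.pow_mem_pow ht n
  rw [hn] at h1
  exact h1

theorem exists_step (J : Ideal A) (hJ : J ≤ IsLocalRing.maximalIdeal A) (hJ0 : J ≠ ⊥) :
    ∃ (J' : Ideal A) (t : A), J' < J ∧ t ∈ J ∧ J = J' ⊔ Ideal.span {t} ∧
      (∀ a : A, a * t ∈ J' ↔ a ∈ IsLocalRing.maximalIdeal A) := by
  haveI : IsNoetherianRing A := inferInstance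
  let S : Set (Ideal A) := {J' | J' < J}
  have hS : S.Nonempty := ⟨⊥, bot_lt_iff_ne_bot.2 hJ0⟩
  obtain ⟨J', hJ'S, hmax⟩ := (wellFounded_gt (α := Ideal A)).has_min S hS
  have hlt : J' < J := hJ'S
  obtain ⟨t, htJ, htJ'⟩ := SetLike.exists_of_lt hlt
  have hsup : J = J' ⊔ Ideal.span {t} := by
    by_contra hne
    have h1 : J' ⊔ Ideal.span {t} ≤ J :=
      sup_le hlt.le ((Ideal.span_singleton_le_iff_mem J).2 htJ)
    have h2 : J' ⊔ Ideal.span {t} < J := lt_of_le_of_ne h1 (fun h => hne h.symm)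
    have h3 : J' < J' ⊔ Ideal.span {t} := by
      refine lt_of_le_of_ne le_sup_left (fun h => htJ' ?_)
      rw [h]
      exact Ideal.mem_sup_right (Ideal.mem_span_singleton_self t)
    exact hmax _ h2 h3
  have hmJ : IsLocalRing.maximalIdeal A • J ≤ J' := by
    by_contra hn
    have h1 : J' ⊔ IsLocalRing.maximalIdeal A • J ≤ J := sup_le hlt.le (Ideal.mul_le_right (I := IsLocalRing.maximalIdeal A) (J := J))
    have h3 : J' < J' ⊔ IsLocalRing.maximalIdeal A • J :=
      lt_of_le_of_ne le_sup_left (fun h => hn (by rw [h]; exact le_sup_right))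
    have h2 : ¬ J' ⊔ IsLocalRing.maximalIdeal A • J < J := fun h2 => hmax _ h2 h3
    have h4 : J' ⊔ IsLocalRing.maximalIdeal A • J = J := by
      by_contra hne
      exact h2 (lt_of_le_of_ne h1 hne)
    have h5 : J ≤ J' := by
      refine Submodule.le_of_le_smul_of_le_jacobson_bot (I := IsLocalRing.maximalIdeal A)
        (IsNoetherian.noetherian J) ?_ ?_
      · rw [IsLocalRing.jacobson_eq_maximalIdeal ⊥ bot_ne_top]
      · rw [h4]
    exact not_le_of_gt hlt h5
  refine ⟨J', t, hlt, htJ, hsup, fun a => ⟨fun h => ?_, fun h => ?_⟩⟩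
  · by_contra hn
    have hu : IsUnit a := by
      by_contra hu
      exact hn ((IsLocalRing.mem_maximalIdeal a).2 hu)
    obtain ⟨u, rfl⟩ := hu
    have : t = (↑u⁻¹ : A) * ((u : A) * t) := by
      rw [← mul_assoc, Units.inv_mul, one_mul]
    apply htJ'
    rw [this]
    exact Ideal.mul_mem_left _ _ h
  · apply hmJ
    exact Ideal.mul_mem_mul h htJ

end Groth.Agent.Lib.Helper44.ArtinStep
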