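import Mathlib

/-! Vanishing of `Ext` into the middle term of a short exact sequence, and into zero objects. -/

set_option autoImplicit false
universe w v u

open CategoryTheory Abelian Limits

namespace Groth.Agent.Lib.Helper44

variable {C : Type u} [Category.{v} C] [Abelian C] [HasExt.{w} C]

theorem ext_subsingleton_middle {T : ShortComplex C} (hT : T.ShortExact) (Z : C) (n : ℕ)
    (h1 : Subsingleton (Ext.{w} Z T.X₁ n)) (h3 : Subsingleton (Ext.{w} Z T.X₃ n)) :
    Subsingleton (Ext.{w} Z T.X₂ n) := by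
  refine subsingleton_of_forall_eq 0 (fun x₂ => ?_)
  obtain ⟨x₁, rfl⟩ := Ext.covariant_sequence_exact₂ Z hT x₂ (Subsingleton.elim _ _)
  rw [Subsingleton.elim x₁ 0, Ext.zero_comp]

theorem ext_subsingleton_of_isZero {X : C} (hX : IsZero X) (Z : C) (n : ℕ) :
    Subsingleton (Ext.{w} Z X n) := by
  refine subsingleton_of_forall_eq 0 (fun x => ?_)
  have h : x = x.comp (Ext.mk₀ (𝟙 X)) (add_zero n) := (Ext.comp_mk₀_id x).symm
  rw [h, hX.eq_of_src (𝟙 X) 0, Ext.mk₀_zero, Ext.comp_zero]

end Groth.Agent.Lib.Helper44
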