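import Mathlib.RingTheory.Flat.Basic
import Mathlib.RingTheory.Ideal.Maps
import Mathlib.LinearAlgebra.TensorProduct.Quotient
import Mathlib.RingTheory.Ideal.Quotient.Operations

/-! Flat base change of a colon ideal: if `B` is flat over `A` and `(J' : t) = I` in `A`, then
`(J' B : t) = I B` in `B`. -/

set_option autoImplicit false
open TensorProduct

namespace Groth.Agent.Lib.Helper44.FlatAnn

theorem mul_mem_map_iff_of_flat {A B : Type*} [CommRing A] [CommRing B] [Algebra A B]
    [Module.Flat A B] (t : A) (J' I : Ideal A) (h : ∀ a : A, a * t ∈ J' ↔ a ∈ I) (b : B) :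
    algebraMap A B t * b ∈ Ideal.map (algebraMap A B) J' ↔
      b ∈ Ideal.map (algebraMap A B) I := by
  constructor
  · intro hb
    let g : A →ₗ[A] A ⧸ J' := (Submodule.mkQ J') ∘ₗ LinearMap.mulRight A t
    have hg : ∀ a, g a = Submodule.Quotient.mk (a * t) := fun a => rfl
    have hex : Function.Exact (I.subtype : I →ₗ[A] A) g := by
      rw [LinearMap.exact_iff]
      ext a
      simp only [LinearMap.mem_ker, hg, LinearMap.mem_range, Submodule.coe_subtype,
        Subtype.exists, exists_prop, exists_eq_right, Submodule.Quotient.mk_eq_zero]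
      exact h a
    have hex' := Module.Flat.lTensor_exact B hex
    have h1 : (g.lTensor B) (b ⊗ₜ[A] (1 : A)) = 0 := by
      rw [LinearMap.lTensor_tmul, hg, one_mul]
      apply (TensorProduct.tensorQuotEquivQuotSMul B J').injective
      rw [map_zero]
      have h2 := TensorProduct.tensorQuotEquivQuotSMul_tmul_mk (M := B) J' b t
      refine h2.trans ?_
      rw [Submodule.Quotient.mk_eq_zero, Ideal.smul_top_eq_map, Submodule.restrictScalars_mem,
        Algebra.smul_def]
      exact hb
    obtain ⟨z, hz⟩ := (hex' (b ⊗ₜ[A] (1 : A))).1 h1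
    have h2 := congrArg (TensorProduct.rid A B) hz
    rw [TensorProduct.rid_tmul, one_smul] at h2
    rw [← h2]
    clear hz h2 h1
    induction z using TensorProduct.induction_on with
    | zero => simp
    | tmul x y =>
      rw [LinearMap.lTensor_tmul, Submodule.coe_subtype, TensorProduct.rid_tmul,
        Algebra.smul_def]
      exact Ideal.mul_mem_right _ _ (Ideal.mem_map_of_mem _ y.2)
    | add x y hx hy =>
      rw [map_add, map_add]
      exact Ideal.add_mem _ hx hy
  · intro hb
    refine Submodule.span_induction ?_ ?_ ?_ ?_ hb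
    · rintro _ ⟨a, ha, rfl⟩
      rw [← map_mul, mul_comm]
      exact Ideal.mem_map_of_mem _ ((h a).2 ha)
    · rw [mul_zero]
      exact Ideal.zero_mem _
    · intro x y _ _ hx hy
      rw [mul_add]
      exact Ideal.add_mem _ hx hy
    · intro c x _ hx
      rw [smul_eq_mul, mul_left_comm]
      exact Ideal.mul_mem_left _ _ hx

end Groth.Agent.Lib.Helper44.FlatAnn
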