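import Groth.Agent.Lib.Helper44.FlatFibreRetract
import Groth.Agent.Lib.Helper44.FlatAnn2
import Groth.Agent.Lib.Helper44.ArtinStep
import Groth.Agent.Lib.Helper44.ExtMiddle

set_option autoImplicit false
set_option linter.unusedSectionVars false
universe u
open CategoryTheory CategoryTheory.Limits AlgebraicGeometry Opposite TopologicalSpace

namespace Groth.Agent.Lib.Helper44.ArtinUnits

open Groth.Agent.Lib.Lead Groth.Agent.Lib.Helper44.ZarSheafBasics Groth.Agent.Lib.Helper45
  Groth.Agent.Lib.Helper49 Groth.Agent.Lib.Helper44.SqZeroUnits Groth.Agent.Lib.Helper44.FlatFibre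
  Groth.Agent.Lib.Helper44.ZarPicGrp

section Facts

variable {A : Type u} [CommRing A] {X' : Scheme.{u}} (s : X' ⟶ Spec (CommRingCat.of A))

/-- the base change of `X'` to `A/J` -/
noncomputable abbrev iJ (J : Ideal A) :
    pullback s (Spec.map (CommRingCat.ofHom (Ideal.Quotient.mk J))) ⟶ X' :=
  ι s (Ideal.Quotient.mk J)

instance (J : Ideal A) : IsClosedImmersion (iJ s J) :=
  isClosedImmersion_ι s Ideal.Quotient.mk_surjective

lemma ker_app_iJ (J : Ideal A) (W : X'.Opens) (hW : IsAffineOpen W) :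
    RingHom.ker ((iJ s J).app W).hom = Ideal.map (rho s W) J := by
  rw [ker_app s Ideal.Quotient.mk_surjective W hW, Ideal.mk_ker]

/-- elements of `J` vanish on `X_J` -/
lemma app_rho_of_mem {J : Ideal A} {a : A} (ha : a ∈ J) (U : X'.Opens) :
    ((iJ s J).app U).hom (rho s U a) = 0 := by
  apply eq_zero_of_affine (iJ s J) U
  intro W hW hWU
  rw [← app_fres (iJ s J) hWU, fres_rho, ← RingHom.mem_ker, ker_app_iJ s J W hW]
  exact Ideal.mem_map_of_mem _ ha

/-- functions vanishing on `X_{J'}` vanish on `X_J` for `J' ≤ J` -/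
lemma app_eq_zero_of_le {J' J : Ideal A} (h : J' ≤ J) (U : X'.Opens) (x : Γ(X', U))
    (hx : ((iJ s J').app U).hom x = 0) : ((iJ s J).app U).hom x = 0 := by
  apply eq_zero_of_affine (iJ s J) U
  intro W hW hWU
  rw [← app_fres (iJ s J) hWU, ← RingHom.mem_ker, ker_app_iJ s J W hW]
  have h1 : ((iJ s J').app W).hom (fres hWU x) = 0 := by
    have := app_fres (iJ s J') hWU x
    rw [this]
    erw [hx]
    rw [map_zero]
  rw [← RingHom.mem_ker, ker_app_iJ s J' W hW] at h1
  exact Ideal.map_mono h h1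

section Flat
variable [Flat s] {B₀ : Type u} [CommRing B₀] {φ₀ : A →+* B₀} (hφ₀ : Function.Surjective φ₀)
  (t : A) (J' : Ideal A) (hk : ∀ a : A, a * t ∈ J' ↔ φ₀ a = 0)
include hφ₀ hk

lemma rho_mul_app_eq_zero_iff_affine (W : X'.Opens) (hW : IsAffineOpen W) (b : Γ(X', W)) :
    ((iJ s J').app W).hom (rho s W t * b) = 0 ↔ ((ι s φ₀).app W).hom b = 0 := by
  rw [← RingHom.mem_ker, ker_app_iJ s J' W hW, ← RingHom.mem_ker, ker_app s hφ₀ W hW]
  letI := (rho s W).toAlgebra
  haveI : Module.Flat A Γ(X', W) := rho_flat s W hW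
  exact FlatAnn.mul_mem_map_iff_of_flat t J' (RingHom.ker φ₀)
    (fun a => by rw [RingHom.mem_ker]; exact hk a) b

/-- flatness: `t b` vanishes on `X_{J'}` iff `b` vanishes on the fibre over `A/(J' : t)` -/
theorem rho_mul_app_eq_zero_iff (U : X'.Opens) (b : Γ(X', U)) :
    ((iJ s J').app U).hom (rho s U t * b) = 0 ↔ ((ι s φ₀).app U).hom b = 0 := by
  constructor
  · intro h
    apply eq_zero_of_affine (ι s φ₀) U
    intro W hW hWU
    rw [← app_fres (ι s φ₀) hWU]
    apply (rho_mul_app_eq_zero_iff_affine s hφ₀ t J' hk W hW _).1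
    rw [← fres_rho s hWU, ← map_mul]
    have := app_fres (iJ s J') hWU (rho s U t * b)
    rw [this]
    erw [h]
    rw [map_zero]
  · intro h
    apply eq_zero_of_affine (iJ s J') U
    intro W hW hWU
    rw [← app_fres (iJ s J') hWU, map_mul, fres_rho]
    apply (rho_mul_app_eq_zero_iff_affine s hφ₀ t J' hk W hW _).2
    have := app_fres (ι s φ₀) hWU b
    rw [this]
    erw [h]
    rw [map_zero]

end Flat

/-- decomposition of functions vanishing on `X_{J' + (t)}` over an affine open -/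
lemma exists_decomp (J' : Ideal A) (t : A) (W : X'.Opens) (hW : IsAffineOpen W) (x : Γ(X', W))
    (hx : ((iJ s (J' ⊔ Ideal.span {t})).app W).hom x = 0) :
    ∃ a' b : Γ(X', W), x = a' + rho s W t * b ∧ ((iJ s J').app W).hom a' = 0 := by
  rw [← RingHom.mem_ker, ker_app_iJ s _ W hW, Ideal.map_sup, Ideal.map_span, Set.image_singleton,
    Submodule.mem_sup] at hx
  obtain ⟨a', ha', c, hc, rfl⟩ := hx
  obtain ⟨b, rfl⟩ := Ideal.mem_span_singleton'.1 hc
  refine ⟨a', b, by rw [mul_comm], ?_⟩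
  rw [← RingHom.mem_ker, ker_app_iJ s J' W hW]
  exact ha'

end Facts

end Groth.Agent.Lib.Helper44.ArtinUnits
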