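import Groth.Agent.Lib.Helper44.ArtinFacts

set_option autoImplicit false
set_option linter.unusedSectionVars false
universe u
open CategoryTheory CategoryTheory.Limits AlgebraicGeometry Opposite TopologicalSpace

namespace Groth.Agent.Lib.Helper44.ArtinUnits

open Groth.Agent.Lib.Lead Groth.Agent.Lib.Helper44.ZarSheafBasics Groth.Agent.Lib.Helper45
  Groth.Agent.Lib.Helper49 Groth.Agent.Lib.Helper44.SqZeroUnits Groth.Agent.Lib.Helper44.FlatFibre
  Groth.Agent.Lib.Helper44.ZarPicGrp

section Kernel

variable {X' Z : Scheme.{u}} (i : Z ⟶ X')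

/-- a unit lies in the kernel of the units map iff it is `1` on the subscheme -/
lemma comap_app_eq_zero_iff (U : X'.Opens) (r : (Γ(X', U))ˣ) :
    (UnitsSh.comap i).hom.app (op U) (zgmOf U r) = 0 ↔
      (i.app U).hom ((r : Γ(X', U)) - 1) = 0 := by
  rw [map_sub, map_one, sub_eq_zero]
  constructor
  · intro h
    have h1 : Units.map (i.app U).hom.toMonoidHom r = 1 := h
    exact congrArg Units.val h1
  · intro h
    have h1 : Units.map (i.app U).hom.toMonoidHom r = 1 := Units.ext h
    exact congrArg (fun v => ZarPicPush.pgmOf i U v) h1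

/-- the sheaf of units which are `1` on the subscheme -/
noncomputable abbrev P : CohTop.Ab X'.toTopCat := kernel (UnitsSh.comap i)

/-- its inclusion into the units -/
noncomputable abbrev κ : P i ⟶ UnitsSh.unitsAb X' := kernel.ι (UnitsSh.comap i)

lemma κ_injective (U : X'.Opens) : Function.Injective ((κ i).hom.app (op U)) :=
  sheaf_sections_injective_of_mono (κ i) U

lemma comap_κ (U : X'.Opens) (p : (P i).obj.obj (op U)) :
    (UnitsSh.comap i).hom.app (op U) ((κ i).hom.app (op U) p) = 0 := by
  rw [← ZarSheafExact.comp_apply_sections, kernel.condition]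
  rfl

lemma exists_κ_eq (U : X'.Opens) (σ : (UnitsSh.unitsAb X').obj.obj (op U))
    (h : (UnitsSh.comap i).hom.app (op U) σ = 0) : ∃ p, (κ i).hom.app (op U) p = σ := by
  have hex : (ShortComplex.mk (κ i) (UnitsSh.comap i) (kernel.condition _)).Exact :=
    ShortComplex.exact_kernel _
  exact TopCat.Sheaf.sections_exact_of_left_exact hex (inferInstanceAs (Mono (κ i))) σ h

/-- the unit of a section of `P` -/
noncomputable def unitP (U : X'.Opens) (p : (P i).obj.obj (op U)) : (Γ(X', U))ˣ :=
  zunitOf U ((κ i).hom.app (op U) p)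

lemma app_unitP (U : X'.Opens) (p : (P i).obj.obj (op U)) :
    (i.app U).hom ((unitP i U p : Γ(X', U)) - 1) = 0 :=
  (comap_app_eq_zero_iff i U _).1 (comap_κ i U p)

lemma exists_unitP_eq (U : X'.Opens) (r : (Γ(X', U))ˣ)
    (h : (i.app U).hom ((r : Γ(X', U)) - 1) = 0) : ∃ p, unitP i U p = r := by
  obtain ⟨p, hp⟩ := exists_κ_eq i U (zgmOf U r) ((comap_app_eq_zero_iff i U r).2 h)
  refine ⟨p, ?_⟩
  unfold unitP
  rw [hp]
  rfl

lemma unitP_injective (U : X'.Opens) : Function.Injective (unitP i U) := by
  intro p p' h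
  apply κ_injective i U
  exact h

lemma unitP_add (U : X'.Opens) (p p' : (P i).obj.obj (op U)) :
    unitP i U (p + p') = unitP i U p * unitP i U p' := by
  unfold unitP
  rw [map_add]
  rfl

lemma unitP_zero (U : X'.Opens) : unitP i U 0 = 1 := by
  unfold unitP
  rw [map_zero]
  rfl

lemma unitP_neg (U : X'.Opens) (p : (P i).obj.obj (op U)) :
    unitP i U (-p) = (unitP i U p)⁻¹ := by
  unfold unitP
  rw [map_neg]
  rfl

lemma unitP_res {U W : X'.Opens} (h : W ≤ U) (p : (P i).obj.obj (op U)) :
    unitP i W (res (P i).obj h p) = Units.map (fres h).toMonoidHom (unitP i U p) := by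
  unfold unitP
  have hn := (κ i).hom.naturality (homOfLE h).op
  have h1 := congrArg (fun f => f.hom p) hn
  change (κ i).hom.app (op W) (res (P i).obj h p) =
    res (UnitsSh.unitsAb X').obj h ((κ i).hom.app (op U) p) at h1
  rw [h1]
  rfl

end Kernel

end Groth.Agent.Lib.Helper44.ArtinUnits
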