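import Groth.Agent.Lib.Helper44.ArtinNu

set_option autoImplicit false
set_option linter.unusedSectionVars false
universe u
open CategoryTheory CategoryTheory.Limits AlgebraicGeometry Opposite TopologicalSpace

namespace Groth.Agent.Lib.Helper44.ArtinUnits

open Groth.Agent.Lib.Lead Groth.Agent.Lib.Helper44.ZarSheafBasics Groth.Agent.Lib.Helper45
  Groth.Agent.Lib.Helper49 Groth.Agent.Lib.Helper44.SqZeroUnits Groth.Agent.Lib.Helper44.FlatFibre
  Groth.Agent.Lib.Helper44.ZarPicGrp

section Step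

variable {A : Type u} [CommRing A] {X' : Scheme.{u}} (s : X' ⟶ Spec (CommRingCat.of A))
  (J J' : Ideal A) (hJ'J : J' ≤ J) (t : A) (ht : t ∈ J) (htn : IsNilpotent t) (htt : t * t ∈ J')
  [Flat s] {B₀ : Type u} [CommRing B₀] (φ₀ : A →+* B₀) (hφ₀ : Function.Surjective φ₀)
  [IsClosedImmersion (ι s φ₀)]
  (hk : ∀ a : A, a * t ∈ J' ↔ φ₀ a = 0) (hJ : J = J' ⊔ Ideal.span {t})

/-- the quotient `P_J / P_{J'}` is the structure sheaf of the fibre over `A / (J' : t)` -/
noncomputable def isoQ : QJ s J J' hJ'J ≅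
    Coh.toAb ((Coh.push (ι s φ₀)).obj (Coh.structureModule (pullback s (Spec.map (CommRingCat.ofHom φ₀))))) :=
  IsColimit.coconePointUniqueUpToIso (shortExact_S₃ s J J' hJ'J t ht htn htt φ₀ hφ₀ hk hJ).gIsCokernel
    (shortExact_S₂ s φ₀).gIsCokernel

include ht htn htt hφ₀ hk hJ in
theorem nonempty_H_Q_addEquiv (n : ℕ) :
    Nonempty (Sheaf.H (QJ s J J' hJ'J) n ≃+
      Coh.HH (pullback s (Spec.map (CommRingCat.ofHom φ₀)))
        (Coh.structureModule (pullback s (Spec.map (CommRingCat.ofHom φ₀)))) n) := by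
  have e0 := Groth.Agent.S0012.result (ι s φ₀)
    (Coh.structureModule (pullback s (Spec.map (CommRingCat.ofHom φ₀)))) n
  obtain ⟨e⟩ := e0
  let ε := Groth.Agent.Lib.Helper33.BigSiteCoh.extCongrRightAdd
    ((constantSheaf (Opens.grothendieckTopology X') AddCommGrpCat.{u}).obj
      (AddCommGrpCat.of (ULift ℤ))) (isoQ s J J' hJ'J t ht htn htt φ₀ hφ₀ hk hJ) n
  exact ⟨ε.trans e.symm⟩

include hJ'J ht htn htt hφ₀ hk hJ in
theorem subsingleton_step (n : ℕ)
    (h0 : Subsingleton (Coh.HH (pullback s (Spec.map (CommRingCat.ofHom φ₀)))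
        (Coh.structureModule (pullback s (Spec.map (CommRingCat.ofHom φ₀)))) n))
    (h' : Subsingleton (Sheaf.H (P (iJ s J')) n)) :
    Subsingleton (Sheaf.H (P (iJ s J)) n) := by
  obtain ⟨e⟩ := nonempty_H_Q_addEquiv s J J' hJ'J t ht htn htt φ₀ hφ₀ hk hJ n
  have h3 : Subsingleton (Sheaf.H (QJ s J J' hJ'J) n) := e.toEquiv.subsingleton
  exact ext_subsingleton_middle (shortExact_lam (iJ s J) (iJ s J') (hle_of_le s J J' hJ'J)) _ n h' h3

end Step

section Base

variable {A : Type u} [CommRing A] {X' : Scheme.{u}} (s : X' ⟶ Spec (CommRingCat.of A))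

instance isIso_iJ_bot : IsIso (iJ s (⊥ : Ideal A)) := by
  haveI : IsIso (CommRingCat.ofHom (Ideal.Quotient.mk (⊥ : Ideal A))) := by
    rw [ConcreteCategory.isIso_iff_bijective]
    exact ⟨(RingHom.injective_iff_ker_eq_bot _).2 Ideal.mk_ker, Ideal.Quotient.mk_surjective⟩
  unfold iJ ι
  infer_instance

theorem subsingleton_base (n : ℕ) : Subsingleton (Sheaf.H (P (iJ s (⊥ : Ideal A))) n) := by
  haveI : IsIso (UnitsSh.comap (iJ s (⊥ : Ideal A))) := isIso_comap _
  exact ext_subsingleton_of_isZero (isZero_kernel_of_mono _) _ n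

end Base

section Main

variable {A : Type u} [CommRing A] [IsArtinianRing A] [IsLocalRing A] {X' : Scheme.{u}}
  (s : X' ⟶ Spec (CommRingCat.of A)) [Flat s]

theorem subsingleton_H_P (n : ℕ)
    (hvan : Subsingleton (Coh.HH (pullback s (Spec.map (CommRingCat.ofHom (IsLocalRing.residue A))))
      (Coh.structureModule _) n)) :
    ∀ J : Ideal A, J ≤ IsLocalRing.maximalIdeal A → Subsingleton (Sheaf.H (P (iJ s J)) n) := by
  haveI : IsClosedImmersion (ι s (IsLocalRing.residue A)) :=
    isClosedImmersion_ι s IsLocalRing.residue_surjective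
  intro J
  induction J using WellFoundedLT.induction with
  | ind J ih =>
    intro hJ
    by_cases hJ0 : J = ⊥
    · subst hJ0
      exact subsingleton_base s n
    · obtain ⟨J', t, hlt, htJ, hsup, hk⟩ := ArtinStep.exists_step J hJ hJ0
      have hk' : ∀ a : A, a * t ∈ J' ↔ IsLocalRing.residue A a = 0 := fun a => by
        rw [hk a, IsLocalRing.residue_eq_zero_iff]
      exact subsingleton_step s J J' hlt.le t htJ
        (ArtinStep.isNilpotent_of_mem_maximalIdeal (hJ htJ)) ((hk t).2 (hJ htJ))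
        (IsLocalRing.residue A) IsLocalRing.residue_surjective hk' hsup n hvan
        (ih J' hlt (hlt.le.trans hJ))

end Main

end Groth.Agent.Lib.Helper44.ArtinUnits
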