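import Groth.Agent.Lib.Helper44.ArtinQuot

set_option autoImplicit false
set_option linter.unusedSectionVars false
universe u
open CategoryTheory CategoryTheory.Limits AlgebraicGeometry Opposite TopologicalSpace

namespace Groth.Agent.Lib.Helper44.ArtinUnits

open Groth.Agent.Lib.Lead Groth.Agent.Lib.Helper44.ZarSheafBasics Groth.Agent.Lib.Helper45
  Groth.Agent.Lib.Helper49 Groth.Agent.Lib.Helper44.SqZeroUnits Groth.Agent.Lib.Helper44.FlatFibre
  Groth.Agent.Lib.Helper44.ZarPicGrp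

section Nu

variable {A : Type u} [CommRing A] {X' : Scheme.{u}} (s : X' ⟶ Spec (CommRingCat.of A))
  (J J' : Ideal A) (hJ'J : J' ≤ J) (t : A) (ht : t ∈ J) (htn : IsNilpotent t) (htt : t * t ∈ J')

include htn in
lemma isUnit_one_add (U : X'.Opens) (b : Γ(X', U)) : IsUnit (1 + rho s U t * b) :=
  IsNilpotent.isUnit_one_add ((Commute.all _ b).isNilpotent_mul_right (htn.map (rho s U)))

/-- the unit `1 + t b` -/
noncomputable def oneAdd (U : X'.Opens) (b : Γ(X', U)) : (Γ(X', U))ˣ :=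
  (isUnit_one_add s t htn U b).unit

lemma oneAdd_val (U : X'.Opens) (b : Γ(X', U)) :
    (oneAdd s t htn U b : Γ(X', U)) = 1 + rho s U t * b := rfl

include ht in
lemma exists_pOf (U : X'.Opens) (b : Γ(X', U)) :
    ∃ p : (P (iJ s J)).obj.obj (op U), unitP (iJ s J) U p = oneAdd s t htn U b := by
  apply exists_unitP_eq
  rw [oneAdd_val, add_sub_cancel_left, map_mul, app_rho_of_mem s ht U, zero_mul]

/-- the section of `P` with unit `1 + t b` -/
noncomputable def pOf (U : X'.Opens) (b : Γ(X', U)) : (P (iJ s J)).obj.obj (op U) :=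
  Classical.choose (exists_pOf s J t ht htn U b)

lemma unitP_pOf (U : X'.Opens) (b : Γ(X', U)) :
    unitP (iJ s J) U (pOf s J t ht htn U b) = oneAdd s t htn U b :=
  Classical.choose_spec (exists_pOf s J t ht htn U b)

lemma unitP_pOf_val (U : X'.Opens) (b : Γ(X', U)) :
    (unitP (iJ s J) U (pOf s J t ht htn U b) : Γ(X', U)) = 1 + rho s U t * b := by
  rw [unitP_pOf]; rfl

lemma pOf_res {U W : X'.Opens} (h : W ≤ U) (b : Γ(X', U)) :
    res (P (iJ s J)).obj h (pOf s J t ht htn U b) = pOf s J t ht htn W (fres h b) := by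
  apply unitP_injective (iJ s J) W
  rw [unitP_res]
  apply Units.ext
  rw [unitP_pOf_val]
  change fres h (unitP (iJ s J) U (pOf s J t ht htn U b) : Γ(X', U)) = _
  rw [unitP_pOf_val, map_add, map_one, map_mul, fres_rho]

include hJ'J in
/-- functions vanishing on the smaller thickening vanish on the bigger one -/
lemma hle_of_le : ∀ (U : X'.Opens) (x : Γ(X', U)),
    ((iJ s J').app U).hom x = 0 → ((iJ s J).app U).hom x = 0 :=
  fun U x hx => app_eq_zero_of_le s hJ'J U x hx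

/-- the quotient `P_J / P_{J'}` -/
noncomputable abbrev QJ : CohTop.Ab X'.toTopCat := Q (iJ s J) (iJ s J') (hle_of_le s J J' hJ'J)

/-- the projection `P_J ⟶ P_J / P_{J'}` -/
noncomputable abbrev pqJ : P (iJ s J) ⟶ QJ s J J' hJ'J :=
  pq (iJ s J) (iJ s J') (hle_of_le s J J' hJ'J)

include htt in
lemma pq_pOf_add (U : X'.Opens) (b b' : Γ(X', U)) :
    (pqJ s J J' hJ'J).hom.app (op U) (pOf s J t ht htn U (b + b')) =
      (pqJ s J J' hJ'J).hom.app (op U) (pOf s J t ht htn U b) +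
        (pqJ s J J' hJ'J).hom.app (op U) (pOf s J t ht htn U b') := by
  rw [← map_add, ← sub_eq_zero, ← map_sub]
  apply pq_eq_zero_of
  set w := ((unitP (iJ s J) U (pOf s J t ht htn U b) * unitP (iJ s J) U (pOf s J t ht htn U b'))⁻¹ :
    (Γ(X', U))ˣ) with hw
  have h0 : unitP (iJ s J) U (pOf s J t ht htn U (b + b') -
      (pOf s J t ht htn U b + pOf s J t ht htn U b')) =
      unitP (iJ s J) U (pOf s J t ht htn U (b + b')) * w := by
    rw [sub_eq_add_neg, unitP_add, unitP_neg, unitP_add]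
  rw [h0, Units.val_mul, unitP_pOf_val]
  have h1 : (1 + rho s U t * b) * (1 + rho s U t * b') * (w : Γ(X', U)) = 1 := by
    rw [← unitP_pOf_val s J t ht htn U b, ← unitP_pOf_val s J t ht htn U b', ← Units.val_mul,
      ← Units.val_mul, hw, mul_inv_cancel]
    rfl
  have h2 : (1 + rho s U t * (b + b')) * (w : Γ(X', U)) - 1 =
      rho s U (t * t) * (- (b * b' * (w : Γ(X', U)))) := by
    rw [map_mul]
    linear_combination h1
  rw [h2, map_mul, app_rho_of_mem s htt U, zero_mul]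

/-- `b ↦ [1 + t b]` on sections -/
noncomputable def nuApp (U : X'.Opens) : OSec X' U →+ (QJ s J J' hJ'J).obj.obj (op U) :=
  AddMonoidHom.mk' (fun b => (pqJ s J J' hJ'J).hom.app (op U)
    (pOf s J t ht htn U (show Γ(X', U) from b)))
    (fun b b' => pq_pOf_add s J J' hJ'J t ht htn htt U (show Γ(X', U) from b) (show Γ(X', U) from b'))

lemma nuApp_apply (U : X'.Opens) (b : OSec X' U) :
    nuApp s J J' hJ'J t ht htn htt U b =
      (pqJ s J J' hJ'J).hom.app (op U) (pOf s J t ht htn U (show Γ(X', U) from b)) := rfl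

/-- `b ↦ [1 + t b]` as a morphism of abelian sheaves `O ⟶ P_J / P_{J'}` -/
noncomputable def nu : Coh.toAb (Coh.structureModule X') ⟶ QJ s J J' hJ'J :=
  ⟨{ app := fun U => AddCommGrpCat.ofHom (nuApp s J J' hJ'J t ht htn htt U.unop)
     naturality := by
       intro U V i
       ext a
       change nuApp s J J' hJ'J t ht htn htt V.unop
           (res (Coh.toAb (Coh.structureModule X')).obj (leOfHom i.unop) a) =
         res (QJ s J J' hJ'J).obj (leOfHom i.unop)
           (nuApp s J J' hJ'J t ht htn htt U.unop a)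
       rw [nuApp_apply, nuApp_apply]
       have hn := (pqJ s J J' hJ'J).hom.naturality (homOfLE (leOfHom i.unop)).op
       have h1 := congrArg (fun f => f.hom (pOf s J t ht htn U.unop (show Γ(X', U.unop) from a))) hn
       change (pqJ s J J' hJ'J).hom.app (op V.unop) (res (P (iJ s J)).obj (leOfHom i.unop) _) =
         res (QJ s J J' hJ'J).obj (leOfHom i.unop) ((pqJ s J J' hJ'J).hom.app (op U.unop) _) at h1
       rw [← h1, pOf_res]
       rfl }⟩

lemma nu_app (U : X'.Opens) (b : OSec X' U) :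
    (nu s J J' hJ'J t ht htn htt).hom.app (op U) b = nuApp s J J' hJ'J t ht htn htt U b := rfl

end Nu

section SES3

variable {A : Type u} [CommRing A] {X' : Scheme.{u}} (s : X' ⟶ Spec (CommRingCat.of A))
  (J J' : Ideal A) (hJ'J : J' ≤ J) (t : A) (ht : t ∈ J) (htn : IsNilpotent t) (htt : t * t ∈ J')
  [Flat s] {B₀ : Type u} [CommRing B₀] (φ₀ : A →+* B₀) (hφ₀ : Function.Surjective φ₀)
  [IsClosedImmersion (ι s φ₀)]
  (hk : ∀ a : A, a * t ∈ J' ↔ φ₀ a = 0) (hJ : J = J' ⊔ Ideal.span {t})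

include hφ₀ hk in
lemma incl₀_nu : incl₀ s φ₀ ≫ nu s J J' hJ'J t ht htn htt = 0 := by
  apply Sheaf.hom_ext
  ext U c
  change nuApp s J J' hJ'J t ht htn htt U.unop ((incl₀ s φ₀).hom.app (op U.unop) c) = 0
  rw [nuApp_apply]
  apply pq_eq_zero_of
  rw [unitP_pOf_val, add_sub_cancel_left]
  apply (rho_mul_app_eq_zero_iff s hφ₀ t J' hk U.unop _).2
  exact (exists_fn_eq_iff (ι s φ₀) U.unop _).1 ⟨c, rfl⟩

/-- `0 ⟶ K₀ ⟶ O ⟶ P_J / P_{J'} ⟶ 0` -/
noncomputable abbrev S₃ : ShortComplex (CohTop.Ab X'.toTopCat) :=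
  ShortComplex.mk (incl₀ s φ₀) (nu s J J' hJ'J t ht htn htt)
    (incl₀_nu s J J' hJ'J t ht htn htt φ₀ hφ₀ hk)

include hJ in
theorem shortExact_S₃ : (S₃ s J J' hJ'J t ht htn htt φ₀ hφ₀ hk).ShortExact := by
  apply ZarSheafExact.shortExact_of_sections
  · intro V
    exact fn_injective (ι s φ₀).ker V
  · intro V z hz
    have hz' : (pqJ s J J' hJ'J).hom.app (op V) (pOf s J t ht htn V (show Γ(X', V) from z)) = 0 := hz
    have h1 := app_of_pq_eq_zero _ _ _ V _ hz'
    rw [unitP_pOf_val, add_sub_cancel_left] at h1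
    have h2 := (rho_mul_app_eq_zero_iff s hφ₀ t J' hk V _).1 h1
    obtain ⟨c, hc⟩ := (exists_fn_eq_iff (ι s φ₀) V _).2 h2
    exact ⟨c, hc⟩
  · intro V q x hx
    obtain ⟨W₁, hW₁, hxW₁, p, hp⟩ := exists_local_lift_of_epi (pqJ s J J' hJ'J) V q x hx
    obtain ⟨W, hW, hxW, hWW₁⟩ := exists_affine hxW₁
    refine ⟨W, hWW₁.trans hW₁, hxW, ?_⟩
    have h1 := app_unitP (iJ s J) W (res (P (iJ s J)).obj hWW₁ p)
    subst hJ
    obtain ⟨a', b, hab, ha'⟩ := exists_decomp s J' t W hW _ h1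
    refine ⟨(show OSec X' W from b), ?_⟩
    have hq : res (QJ s _ J' hJ'J).obj (hWW₁.trans hW₁) q =
        (pqJ s _ J' hJ'J).hom.app (op W) (res (P (iJ s _)).obj hWW₁ p) := by
      have hn := (pqJ s _ J' hJ'J).hom.naturality (homOfLE hWW₁).op
      have h2 := congrArg (fun f => f.hom p) hn
      change (pqJ s _ J' hJ'J).hom.app (op W) (res (P (iJ s _)).obj hWW₁ p) =
        res (QJ s _ J' hJ'J).obj hWW₁ ((pqJ s _ J' hJ'J).hom.app (op W₁) p) at h2
      rw [h2, hp, res_res]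
    rw [hq]
    change (pqJ s _ J' hJ'J).hom.app (op W) (pOf s _ t ht htn W b) = _
    rw [← sub_eq_zero, ← map_sub]
    apply pq_eq_zero_of
    set w := ((unitP (iJ s _) W (res (P (iJ s _)).obj hWW₁ p))⁻¹ : (Γ(X', W))ˣ) with hw
    have h0 : unitP (iJ s _) W (pOf s _ t ht htn W b - res (P (iJ s _)).obj hWW₁ p) =
        unitP (iJ s _) W (pOf s _ t ht htn W b) * w := by
      rw [sub_eq_add_neg, unitP_add, unitP_neg]
    rw [h0, Units.val_mul, unitP_pOf_val]
    have h3 : (unitP (iJ s _) W (res (P (iJ s _)).obj hWW₁ p) : Γ(X', W)) * (w : Γ(X', W)) = 1 := by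
      rw [← Units.val_mul, hw, mul_inv_cancel]
      rfl
    have h4 : (1 + rho s W t * b) * (w : Γ(X', W)) - 1 = a' * (- (w : Γ(X', W))) := by
      linear_combination h3 - (w : Γ(X', W)) * hab
    rw [h4, map_mul, ha', zero_mul]

end SES3

end Groth.Agent.Lib.Helper44.ArtinUnits
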