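import Groth.Agent.Lib.Helper44.ArtinKernel

set_option autoImplicit false
set_option linter.unusedSectionVars false
universe u
open CategoryTheory CategoryTheory.Limits AlgebraicGeometry Opposite TopologicalSpace

namespace Groth.Agent.Lib.Helper44.ArtinUnits

open Groth.Agent.Lib.Lead Groth.Agent.Lib.Helper44.ZarSheafBasics Groth.Agent.Lib.Helper45
  Groth.Agent.Lib.Helper49 Groth.Agent.Lib.Helper44.SqZeroUnits Groth.Agent.Lib.Helper44.FlatFibre
  Groth.Agent.Lib.Helper44.ZarPicGrp

section Epi
variable {T : TopCat.{u}}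

/-- local lifts along an epimorphism of abelian sheaves -/
lemma exists_local_lift_of_epi {F G : CohTop.Ab T} (g : F ⟶ G) [Epi g] (V : Opens T)
    (q : G.obj.obj (op V)) (x : T) (hx : x ∈ V) :
    ∃ (W : Opens T) (hW : W ≤ V), x ∈ W ∧ ∃ t : F.obj.obj (op W),
      g.hom.app (op W) t = res G.obj hW q := by
  have : Sheaf.IsLocallySurjective g := (Sheaf.isLocallySurjective_iff_epi' (φ := g)).2 inferInstance
  have hs := Presheaf.imageSieve_mem (Opens.grothendieckTopology T) g.hom q
  obtain ⟨W, f, ⟨t, ht⟩, hxW⟩ := hs x hx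
  exact ⟨W, leOfHom f, hxW, t, ht⟩

end Epi

section Quot
variable {X' Z Z' : Scheme.{u}} (i : Z ⟶ X') (i' : Z' ⟶ X')
  (hle : ∀ (U : X'.Opens) (x : Γ(X', U)), (i'.app U).hom x = 0 → (i.app U).hom x = 0)

include hle in
lemma κ_comap_eq_zero : κ i' ≫ UnitsSh.comap i = 0 := by
  apply Sheaf.hom_ext
  ext U p
  change (UnitsSh.comap i).hom.app (op U.unop) ((κ i').hom.app (op U.unop) p) = 0
  exact (comap_app_eq_zero_iff i U.unop (unitP i' U.unop p)).2 (hle _ _ (app_unitP i' U.unop p))

/-- the inclusion of the units which are `1` on the bigger subscheme -/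
noncomputable def lam : P i' ⟶ P i := kernel.lift _ (κ i') (κ_comap_eq_zero i i' hle)

lemma lam_κ : lam i i' hle ≫ κ i = κ i' := kernel.lift_ι _ _ _

instance mono_lam : Mono (lam i i' hle) := mono_of_mono_fac (lam_κ i i' hle)

lemma unitP_lam (U : X'.Opens) (p' : (P i').obj.obj (op U)) :
    unitP i U ((lam i i' hle).hom.app (op U) p') = unitP i' U p' := by
  unfold unitP
  rw [← ZarSheafExact.comp_apply_sections, lam_κ]

/-- the quotient sheaf -/
noncomputable abbrev Q : CohTop.Ab X'.toTopCat := cokernel (lam i i' hle)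

/-- the projection -/
noncomputable abbrev pq : P i ⟶ Q i i' hle := cokernel.π (lam i i' hle)

lemma shortExact_lam :
    (ShortComplex.mk (lam i i' hle) (pq i i' hle) (cokernel.condition _)).ShortExact :=
  { exact := ShortComplex.exact_cokernel _
    mono_f := mono_lam i i' hle
    epi_g := inferInstanceAs (Epi (cokernel.π (lam i i' hle))) }

lemma pq_eq_zero_of (U : X'.Opens) (p : (P i).obj.obj (op U))
    (h : (i'.app U).hom ((unitP i U p : Γ(X', U)) - 1) = 0) :
    (pq i i' hle).hom.app (op U) p = 0 := by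
  obtain ⟨p', hp'⟩ := exists_unitP_eq i' U (unitP i U p) h
  have h1 : (lam i i' hle).hom.app (op U) p' = p := by
    apply unitP_injective i U
    rw [unitP_lam, hp']
  rw [← h1]
  exact sections_gf (ShortComplex.mk (lam i i' hle) (pq i i' hle) (cokernel.condition _)) U p'

lemma app_of_pq_eq_zero (U : X'.Opens) (p : (P i).obj.obj (op U))
    (h : (pq i i' hle).hom.app (op U) p = 0) :
    (i'.app U).hom ((unitP i U p : Γ(X', U)) - 1) = 0 := by
  obtain ⟨p', hp'⟩ := sections_exact (shortExact_lam i i' hle) U p h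
  have h1 : (lam i i' hle).hom.app (op U) p' = p := hp'
  rw [← h1, unitP_lam]
  exact app_unitP i' U p'

end Quot

end Groth.Agent.Lib.Helper44.ArtinUnits
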