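import Mathlib

/-!
# Artin–Rees and power torsion (helper44)

For a finite module `N` over a Noetherian ring `B` and an ideal `𝔟`, there is `m₀` such that
`𝔟 ^ m N` contains no non-zero `𝔟`-power torsion for `m ≥ m₀`.
-/

set_option autoImplicit false
universe u

namespace Groth.Agent.Lib.Helper44.ArtinReesTorsion

variable {B : Type*} [CommRing B] {N : Type*} [AddCommGroup N] [Module B N]

/-- the elements killed by `𝔟 ^ t` -/
def killedBy (𝔟 : Ideal B) (t : ℕ) : Submodule B N where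
  carrier := {y | ∀ b ∈ 𝔟 ^ t, b • y = 0}
  add_mem' := by
    intro x y hx hy b hb
    rw [smul_add, hx b hb, hy b hb, add_zero]
  zero_mem' := by
    intro b _
    exact smul_zero b
  smul_mem' := by
    intro a x hx b hb
    rw [smul_comm, hx b hb, smul_zero]

theorem mem_killedBy (𝔟 : Ideal B) (t : ℕ) (y : N) :
    y ∈ killedBy (N := N) 𝔟 t ↔ ∀ b ∈ 𝔟 ^ t, b • y = 0 := Iff.rfl

theorem killedBy_mono (𝔟 : Ideal B) : Monotone (killedBy (N := N) 𝔟) := by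
  intro s t hst y hy b hb
  exact hy b (Ideal.pow_le_pow_right hst hb)

theorem pow_smul_killedBy (𝔟 : Ideal B) (t : ℕ) : 𝔟 ^ t • killedBy (N := N) 𝔟 t = ⊥ := by
  rw [eq_bot_iff, Submodule.smul_le]
  intro b hb y hy
  rw [Submodule.mem_bot]
  exact hy b hb

/-- **Artin–Rees consequence**: high powers `𝔟 ^ m N` contain no non-zero power torsion. -/
theorem exists_pow_smul_inf_torsion_eq_bot [IsNoetherianRing B] [Module.Finite B N]
    (𝔟 : Ideal B) :
    ∃ m₀ : ℕ, ∀ m ≥ m₀, ∀ y ∈ (𝔟 ^ m • ⊤ : Submodule B N), ∀ t : ℕ,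
      (∀ b ∈ 𝔟 ^ t, b • y = 0) → y = 0 := by
  have : IsNoetherian B N := isNoetherian_of_isNoetherianRing_of_finite B N
  obtain ⟨t₀, ht₀⟩ := monotone_stabilizes_iff_noetherian.mpr ‹IsNoetherian B N›
    ⟨killedBy (N := N) 𝔟, killedBy_mono 𝔟⟩
  obtain ⟨k, hk⟩ := Ideal.exists_pow_inf_eq_pow_smul 𝔟 (killedBy (N := N) 𝔟 t₀)
  refine ⟨k + t₀, fun m hm y hy t ht => ?_⟩
  have hyt : y ∈ killedBy (N := N) 𝔟 t₀ := by
    have h1 : y ∈ killedBy (N := N) 𝔟 (max t t₀) := killedBy_mono 𝔟 (le_max_left t t₀) ht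
    have h2 := ht₀ (max t t₀) (le_max_right t t₀)
    simp only [OrderHom.coe_mk] at h2
    rw [h2]
    exact h1
  have hmem : y ∈ (𝔟 ^ m • ⊤ ⊓ killedBy (N := N) 𝔟 t₀ : Submodule B N) := ⟨hy, hyt⟩
  rw [hk m (by omega)] at hmem
  have hle : 𝔟 ^ (m - k) • (𝔟 ^ k • ⊤ ⊓ killedBy (N := N) 𝔟 t₀) ≤
      𝔟 ^ t₀ • killedBy (N := N) 𝔟 t₀ :=
    Submodule.smul_mono (Ideal.pow_le_pow_right (by omega)) inf_le_right
  have := hle hmem
  rw [pow_smul_killedBy, Submodule.mem_bot] at this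
  exact this

end Groth.Agent.Lib.Helper44.ArtinReesTorsion
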