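import Groth.Agent.Lib.Helper44.ArtinMain

set_option autoImplicit false
set_option linter.unusedSectionVars false
universe u
open CategoryTheory CategoryTheory.Limits AlgebraicGeometry Opposite TopologicalSpace

namespace Groth.Agent.Lib.Helper44.ArtinUnits

open Groth.Agent.Lib.Lead Groth.Agent.Lib.Helper44.ZarSheafBasics Groth.Agent.Lib.Helper45
  Groth.Agent.Lib.Helper49 Groth.Agent.Lib.Helper44.SqZeroUnits Groth.Agent.Lib.Helper44.FlatFibre
  Groth.Agent.Lib.Helper44.ZarPicGrp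

section EpiComap

variable {X' Z : Scheme.{u}} (i : Z ⟶ X') [IsClosedImmersion i]
  (hnil : ∀ (W : X'.Opens), IsAffineOpen W → ∀ a : Γ(X', W), (i.app W).hom a = 0 → IsNilpotent a)

include hnil in
lemma exists_local_lift_units (V : X'.Opens) (q : (ZarPicPush.G i).obj.obj (op V)) (x : X')
    (hx : x ∈ V) :
    ∃ (W : X'.Opens) (hW : W ≤ V), x ∈ W ∧ ∃ t : (UnitsSh.unitsAb X').obj.obj (op W),
      (UnitsSh.comap i).hom.app (op W) t = res (ZarPicPush.G i).obj hW q := by
  obtain ⟨W, hWaff, hxW, hWV⟩ := exists_affine hx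
  refine ⟨W, hWV, hxW, ?_⟩
  obtain ⟨v, hv⟩ : ∃ v : (Γ(Z, i ⁻¹ᵁ W))ˣ,
      v = ZarPicPush.punitOf i W (res (ZarPicPush.G i).obj hWV q) := ⟨_, rfl⟩
  obtain ⟨r, hr1⟩ : ∃ r : Γ(X', W), (i.app W).hom r = (v : Γ(Z, i ⁻¹ᵁ W)) :=
    i.app_surjective W hWaff _
  obtain ⟨r', hr2⟩ : ∃ r' : Γ(X', W), (i.app W).hom r' =
      ((v⁻¹ : (Γ(Z, i ⁻¹ᵁ W))ˣ) : Γ(Z, i ⁻¹ᵁ W)) := i.app_surjective W hWaff _
  have ha : (i.app W).hom (r * r' - 1) = 0 := by
    rw [map_sub, map_mul, map_one, hr1, hr2, Units.mul_inv, sub_self]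
  have hn : IsNilpotent (r * r' - 1) := hnil W hWaff _ ha
  have hu1 : IsUnit (r * r') := by
    have := IsNilpotent.isUnit_one_add hn
    rwa [add_sub_cancel] at this
  have hu : IsUnit r := isUnit_of_mul_isUnit_left hu1
  refine ⟨zgmOf W hu.unit, ?_⟩
  rw [← ZarPicPush.pgmOf_punitOf i W (res (ZarPicPush.G i).obj hWV q), ← hv]
  change ZarPicPush.pgmOf i W (Units.map (i.app W).hom.toMonoidHom hu.unit) = _
  congr 1
  apply Units.ext
  exact hr1

include hnil in
theorem epi_comap : Epi (UnitsSh.comap i) :=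
  ZarSheafExact.epi_of_locally_surjective _ (exists_local_lift_units i hnil)

include hnil in
theorem shortExact_κ :
    (ShortComplex.mk (κ i) (UnitsSh.comap i) (kernel.condition _)).ShortExact :=
  { exact := ShortComplex.exact_kernel _
    mono_f := inferInstanceAs (Mono (kernel.ι (UnitsSh.comap i)))
    epi_g := epi_comap i hnil }

include hnil in
theorem surjective_H_comap_of_subsingleton (q : ℕ) (h : Subsingleton (Sheaf.H (P i) (q + 1))) :
    Function.Surjective (Sheaf.H.map (UnitsSh.comap i) q) := by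
  intro y
  obtain ⟨x, hx⟩ := Abelian.Ext.covariant_sequence_exact₃ _ (shortExact_κ i hnil) y rfl
    (Subsingleton.elim _ _)
  exact ⟨x, hx⟩

end EpiComap

section Main

variable {A : Type u} [CommRing A] [IsArtinianRing A] [IsLocalRing A] {X' : Scheme.{u}}
  (s : X' ⟶ Spec (CommRingCat.of A)) [Flat s]

lemma isNilpotent_of_app_iJ_eq_zero (J : Ideal A) (hJ : J ≤ IsLocalRing.maximalIdeal A)
    (W : X'.Opens) (hW : IsAffineOpen W) (a : Γ(X', W)) (ha : ((iJ s J).app W).hom a = 0) :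
    IsNilpotent a := by
  rw [← RingHom.mem_ker, ker_app_iJ s J W hW] at ha
  have h1 : Ideal.map (rho s W) J ≤ nilradical Γ(X', W) := by
    rw [Ideal.map_le_iff_le_comap]
    intro b hb
    rw [Ideal.mem_comap, mem_nilradical]
    exact (ArtinStep.isNilpotent_of_mem_maximalIdeal (hJ hb)).map (rho s W)
  exact mem_nilradical.1 (h1 ha)

theorem surjective_H_comap_iJ (q : ℕ)
    (hvan : Subsingleton (Coh.HH (pullback s (Spec.map (CommRingCat.ofHom (IsLocalRing.residue A))))
      (Coh.structureModule _) (q + 1)))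
    (J : Ideal A) (hJ : J ≤ IsLocalRing.maximalIdeal A) :
    Function.Surjective (Sheaf.H.map (UnitsSh.comap (iJ s J)) q) :=
  surjective_H_comap_of_subsingleton (iJ s J) (isNilpotent_of_app_iJ_eq_zero s J hJ) q
    (subsingleton_H_P s (q + 1) hvan J hJ)

end Main

end Groth.Agent.Lib.Helper44.ArtinUnits
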