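import Mathlib

/-!
# Inverse systems of Artinian modules with Artinian limit are essentially constant (helper44)

An inverse system `(H_n)` of Artinian modules together with an Artinian module `H₀` and a
compatible family `c_n : H₀ → H_n` inducing a bijection `H₀ → lim H_n` is essentially constant
with value `H₀`.
-/

set_option autoImplicit false
universe u v w

namespace Groth.Agent.Lib.Helper44

section

variable {A : Type u} [CommRing A] (H : ℕ → Type v) [∀ n, AddCommGroup (H n)]
  [∀ n, Module A (H n)] [∀ n, IsArtinian A (H n)]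
  (t : ∀ {n m : ℕ}, n ≤ m → H m →ₗ[A] H n)
  (t_id : ∀ (n : ℕ) (x : H n), t (le_refl n) x = x)
  (t_comp : ∀ {n m l : ℕ} (h₁ : n ≤ m) (h₂ : m ≤ l) (x : H l), t h₁ (t h₂ x) = t (h₁.trans h₂) x)

include t_id t_comp

/-- Mittag-Leffler: the images of the transition maps into `H n` stabilize. -/
theorem exists_stable_range (n : ℕ) :
    ∃ r : ℕ, ∀ m (hm : n + r ≤ m),
      LinearMap.range (t (le_trans (Nat.le_add_right n r) hm)) =
        LinearMap.range (t (Nat.le_add_right n r)) := by
  classical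
  let f : ℕ →o (Submodule A (H n))ᵒᵈ :=
    ⟨fun s => OrderDual.toDual (LinearMap.range (t (Nat.le_add_right n s))), by
      intro s s' h
      change LinearMap.range (t (Nat.le_add_right n s')) ≤ LinearMap.range (t (Nat.le_add_right n s))
      rintro _ ⟨y, rfl⟩
      have h' : n + s ≤ n + s' := Nat.add_le_add_left h n
      exact ⟨t h' y, t_comp (Nat.le_add_right n s) h' y⟩⟩
  obtain ⟨r, hr⟩ := WellFoundedGT.monotone_chain_condition f
  refine ⟨r, fun m hm => ?_⟩
  have h1 : m = n + (m - n) := by omega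
  have h2 : r ≤ m - n := by omega
  have h3 := congrArg OrderDual.ofDual (hr (m - n) h2)
  change LinearMap.range (t (Nat.le_add_right n r)) =
    LinearMap.range (t (Nat.le_add_right n (m - n))) at h3
  rw [h3]
  -- transport along `m = n + (m - n)`
  apply le_antisymm
  · rintro _ ⟨y, rfl⟩
    have hle : m ≤ n + (m - n) := by omega
    have hge : n + (m - n) ≤ m := by omega
    refine ⟨t hge y, ?_⟩
    rw [t_comp]
  · rintro _ ⟨y, rfl⟩
    have hle : m ≤ n + (m - n) := by omega
    refine ⟨t hle y, ?_⟩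
    rw [t_comp]

end

section Main

variable {A : Type u} [CommRing A] (H : ℕ → Type v) [∀ n, AddCommGroup (H n)]
  [∀ n, Module A (H n)] [∀ n, IsArtinian A (H n)]
  (t : ∀ {n m : ℕ}, n ≤ m → H m →ₗ[A] H n)
  (t_id : ∀ (n : ℕ) (x : H n), t (le_refl n) x = x)
  (t_comp : ∀ {n m l : ℕ} (h₁ : n ≤ m) (h₂ : m ≤ l) (x : H l), t h₁ (t h₂ x) = t (h₁.trans h₂) x)
  (H₀ : Type w) [AddCommGroup H₀] [Module A H₀] [IsArtinian A H₀]
  (c : ∀ n, H₀ →ₗ[A] H n)
  (hc : ∀ {n m : ℕ} (h : n ≤ m) (x : H₀), t h (c m x) = c n x)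
  (hinj : ∀ x : H₀, (∀ n, c n x = 0) → x = 0)
  (hsurj : ∀ y : ∀ n, H n, (∀ (n m : ℕ) (h : n ≤ m), t h (y m) = y n) → ∃ x : H₀, ∀ n, c n x = y n)

include t_id t_comp hc hinj in
/-- the maps `c n` are injective for large `n` -/
theorem exists_injective_from : ∃ i₀ : ℕ, ∀ n, i₀ ≤ n → Function.Injective (c n) := by
  classical
  let f : ℕ →o (Submodule A H₀)ᵒᵈ :=
    ⟨fun n => OrderDual.toDual (LinearMap.ker (c n)), by
      intro n m h
      change LinearMap.ker (c m) ≤ LinearMap.ker (c n)
      intro x hx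
      rw [LinearMap.mem_ker] at hx ⊢
      rw [← hc h, hx, map_zero]⟩
  obtain ⟨i₀, hi₀⟩ := WellFoundedGT.monotone_chain_condition f
  have hker : ∀ m, i₀ ≤ m → LinearMap.ker (c m) = LinearMap.ker (c i₀) := fun m hm =>
    (congrArg OrderDual.ofDual (hi₀ m hm)).symm
  have hbot : LinearMap.ker (c i₀) = ⊥ := by
    rw [eq_bot_iff]
    intro x hx
    rw [Submodule.mem_bot]
    apply hinj
    intro n
    rcases le_total n i₀ with h | h
    · rw [← hc h, LinearMap.mem_ker.mp hx, map_zero]
    · have : x ∈ LinearMap.ker (c n) := by rw [hker n h]; exact hx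
      exact LinearMap.mem_ker.mp this
  refine ⟨i₀, fun n hn => ?_⟩
  rw [← LinearMap.ker_eq_bot, hker n hn, hbot]

include t_id t_comp hc hsurj in
/-- the stable image in `H n` is contained in the image of `c n` -/
theorem stable_range_le_range_c (n r : ℕ)
    (hr : ∀ m (hm : n + r ≤ m), LinearMap.range (t (le_trans (Nat.le_add_right n r) hm)) =
        LinearMap.range (t (Nat.le_add_right n r))) :
    LinearMap.range (t (Nat.le_add_right n r)) ≤ LinearMap.range (c n) := by
  classical
  -- stable images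
  choose ρ hρ using fun n => exists_stable_range H t t_id t_comp n
  let S : ∀ m, Submodule A (H m) := fun m => LinearMap.range (t (Nat.le_add_right m (ρ m)))
  have hS : ∀ m l (hl : m + ρ m ≤ l),
      LinearMap.range (t (le_trans (Nat.le_add_right m (ρ m)) hl)) = S m := fun m l hl => hρ m l hl
  -- surjectivity of the transition maps on stable images
  have step : ∀ (m : ℕ) (y : H m), y ∈ S m →
      ∃ y' : H (m + 1), y' ∈ S (m + 1) ∧ t (Nat.le_succ m) y' = y := by
    intro m y hy
    set l := max (m + ρ m) (m + 1 + ρ (m + 1)) with hl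
    have h1 : m + ρ m ≤ l := le_max_left _ _
    have h2 : m + 1 + ρ (m + 1) ≤ l := le_max_right _ _
    rw [← hS m l h1] at hy
    obtain ⟨z, rfl⟩ := hy
    have h3 : m + 1 ≤ l := le_trans (Nat.le_add_right _ _) h2
    refine ⟨t h3 z, ?_, ?_⟩
    · rw [← hS (m + 1) l h2]
      exact ⟨z, rfl⟩
    · rw [t_comp]
  rintro _ ⟨y₁, rfl⟩
  -- the element lies in the stable image
  have hy₀ : t (Nat.le_add_right n r) y₁ ∈ S n := by
    set l := max (n + r) (n + ρ n) with hl
    have h1 : n + r ≤ l := le_max_left _ _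
    have h2 : n + ρ n ≤ l := le_max_right _ _
    have : t (Nat.le_add_right n r) y₁ ∈ LinearMap.range (t (Nat.le_add_right n r)) := ⟨y₁, rfl⟩
    rw [← hr l h1] at this
    obtain ⟨z, hz⟩ := this
    rw [← hS n l h2]
    exact ⟨z, hz⟩
  set y₀ := t (Nat.le_add_right n r) y₁ with hy₀def
  -- build a compatible sequence through `y₀`
  let z : ∀ s : ℕ, {y : H (n + s) // y ∈ S (n + s)} := fun s =>
    Nat.rec (motive := fun s => {y : H (n + s) // y ∈ S (n + s)}) ⟨y₀, hy₀⟩
      (fun s ih => ⟨Classical.choose (step (n + s) ih.1 ih.2),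
        (Classical.choose_spec (step (n + s) ih.1 ih.2)).1⟩) s
  have hz0 : (z 0).1 = y₀ := rfl
  have hzs : ∀ s, t (Nat.le_succ (n + s)) (z (s + 1)).1 = (z s).1 := fun s =>
    (Classical.choose_spec (step (n + s) (z s).1 (z s).2)).2
  have hzc : ∀ a b (h : a ≤ b), t (Nat.add_le_add_left h n) (z b).1 = (z a).1 := by
    intro a b h
    induction b, h using Nat.le_induction with
    | base => exact t_id _ _
    | succ b hab ih =>
      have h1 : n + a ≤ n + b := Nat.add_le_add_left hab n
      have := t_comp h1 (Nat.le_succ (n + b)) (z (b + 1)).1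
      rw [hzs b, ih] at this
      rw [← this]
  let y : ∀ m, H m := fun m => t (Nat.le_add_left m n) (z m).1
  have hycompat : ∀ (a b : ℕ) (h : a ≤ b), t h (y b) = y a := by
    intro a b h
    change t h (t (Nat.le_add_left b n) (z b).1) = t (Nat.le_add_left a n) (z a).1
    rw [t_comp, ← hzc a b h, t_comp]
  obtain ⟨x, hx⟩ := hsurj y hycompat
  refine ⟨x, ?_⟩
  rw [hx n]
  change t (Nat.le_add_left n n) (z n).1 = y₀
  rw [← hz0, ← hzc 0 n (Nat.zero_le n)]

include t_id t_comp hc hinj hsurj in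
/-- essential constancy -/
theorem essConst_of_artinian :
    ∃ (i : ℕ) (s : H i →ₗ[A] H₀), (∀ x, s (c i x) = x) ∧
      ∀ j : ℕ, ∃ (k : ℕ) (hi : i ≤ k) (hj : j ≤ k), ∀ y : H k, t hj y = c j (s (t hi y)) := by
  classical
  obtain ⟨i₀, hi₀⟩ := exists_injective_from H t t_id t_comp H₀ c hc hinj
  choose ρ hρ using fun n => exists_stable_range H t t_id t_comp n
  have hrange : ∀ n, LinearMap.range (t (Nat.le_add_right n (ρ n))) ≤ LinearMap.range (c n) :=
    fun n => stable_range_le_range_c H t t_id t_comp H₀ c hc hsurj n (ρ n) (hρ n)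
  -- for `k ≥ n + ρ n`, the transition `H k → H n` has image in the image of `c n`
  have hfac : ∀ n k (hk : n + ρ n ≤ k) (y : H k),
      ∃ x : H₀, c n x = t (le_trans (Nat.le_add_right n (ρ n)) hk) y := by
    intro n k hk y
    have : t (le_trans (Nat.le_add_right n (ρ n)) hk) y ∈
        LinearMap.range (t (Nat.le_add_right n (ρ n))) := by
      rw [← hρ n k hk]; exact ⟨y, rfl⟩
    obtain ⟨x, hx⟩ := hrange n this
    exact ⟨x, hx⟩
  -- the index `i` and the retraction
  set i := i₀ + ρ i₀ with hi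
  have hinj₀ : Function.Injective (c i₀) := hi₀ i₀ le_rfl
  -- `s y` is the unique `x` with `c i₀ x = t y`
  have hex : ∀ y : H i, ∃ x : H₀, c i₀ x = t (Nat.le_add_right i₀ (ρ i₀)) y :=
    fun y => hfac i₀ i le_rfl y
  choose s₀ hs₀ using hex
  let s : H i →ₗ[A] H₀ :=
    { toFun := s₀
      map_add' := fun y y' => by
        apply hinj₀
        rw [map_add, hs₀, hs₀, hs₀, map_add]
      map_smul' := fun a y => by
        apply hinj₀
        rw [map_smul, hs₀, hs₀, map_smul, RingHom.id_apply] }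
  have hs : ∀ y, c i₀ (s y) = t (Nat.le_add_right i₀ (ρ i₀)) y := hs₀
  refine ⟨i, s, ?_, ?_⟩
  · intro x
    apply hinj₀
    rw [hs, hc]
  · intro j
    set J := max i₀ j with hJ
    have hi₀J : i₀ ≤ J := le_max_left _ _
    have hjJ : j ≤ J := le_max_right _ _
    set k := max i (J + ρ J) with hk
    have hik : i ≤ k := le_max_left _ _
    have hJk : J + ρ J ≤ k := le_max_right _ _
    have hJk' : J ≤ k := le_trans (Nat.le_add_right _ _) hJk
    refine ⟨k, hik, le_trans hjJ hJk', fun y => ?_⟩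
    obtain ⟨x', hx'⟩ := hfac J k hJk y
    -- `x' = s (t y)`
    have hxx : s (t hik y) = x' := by
      apply hinj₀
      rw [hs, t_comp, ← hc hi₀J x', hx', t_comp]
    rw [hxx, ← hc hjJ x', hx', t_comp]

end Main

end Groth.Agent.Lib.Helper44
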