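import Mathlib.CategoryTheory.Preadditive.Projective.Resolution
import Mathlib.CategoryTheory.Preadditive.Injective.Resolution
import Mathlib.CategoryTheory.Abelian.Projective.Resolution
import Mathlib.CategoryTheory.Abelian.Injective.Resolution

/-!
# Exactness of an augmented complex whose augmentation is a quasi-isomorphism

The exactness statements that Mathlib proves for projective and injective resolutions, for an
arbitrary (co)augmented complex whose (co)augmentation is a quasi-isomorphism.
-/

set_option autoImplicit false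

open CategoryTheory Category Limits HomologicalComplex

namespace Groth.Agent.Lib.Helper44

section Chain

open ChainComplex

variable {C : Type*} [Category C] [Abelian C] (K : ChainComplex C ℕ) {Z : C}
  (π : K ⟶ (ChainComplex.single₀ C).obj Z) [QuasiIso π]

include π in
lemma aug_exactAt_succ (n : ℕ) : K.ExactAt (n + 1) := by
  rw [← quasiIsoAt_iff_exactAt' π (n + 1) (exactAt_succ_single_obj _ _)]
  infer_instance

include π in
lemma aug_exact_succ (n : ℕ) :
    (ShortComplex.mk _ _ (K.d_comp_d (n + 2) (n + 1) n)).Exact :=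
  ((HomologicalComplex.exactAt_iff' _ (n + 2) (n + 1) n) (by simp only [ChainComplex.prev]; rfl)
    (by simp)).1 (aug_exactAt_succ K π n)

omit [QuasiIso π] in
theorem aug_d_comp_π_f_zero : K.d 1 0 ≫ π.f 0 = 0 := by
  rw [← π.comm 1 0, single_obj_d, comp_zero]

/-- The cokernel cofork `K₁ → K₀ → Z`. -/
noncomputable def augCokernelCofork : CokernelCofork (K.d 1 0) :=
  CokernelCofork.ofπ _ (aug_d_comp_π_f_zero K π)

set_option backward.isDefEq.respectTransparency.types false in
set_option backward.defeqAttrib.useBackward true in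
/-- `Z` is the cokernel of `K₁ → K₀`. -/
noncomputable def augIsColimitCokernelCofork : IsColimit (augCokernelCofork K π) := by
  refine IsColimit.ofIsoColimit (K.opcyclesIsCokernel 1 0 (by simp)) ?_
  refine Cofork.ext (K.isoHomologyι₀.symm ≪≫ isoOfQuasiIsoAt π 0 ≪≫
    singleObjHomologySelfIso _ _ _) ?_
  rw [← cancel_mono (singleObjHomologySelfIso (ComplexShape.down ℕ) 0 _).inv,
    ← cancel_mono (isoHomologyι₀ _).hom]
  dsimp [augCokernelCofork]
  simp only [isoHomologyι₀_inv_naturality_assoc, p_opcyclesMap_assoc, single₀_obj_zero, assoc,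
    Iso.hom_inv_id, comp_id, isoHomologyι_inv_hom_id, singleObjHomologySelfIso_inv_homologyι,
    singleObjOpcyclesSelfIso_hom, single₀ObjXSelf, Iso.refl_inv, id_comp]

lemma aug_exact₀ : (ShortComplex.mk _ _ (aug_d_comp_π_f_zero K π)).Exact :=
  ShortComplex.exact_of_g_is_cokernel _ (augIsColimitCokernelCofork K π)

lemma aug_epi : Epi (π.f 0) :=
  epi_of_isColimit_cofork (augIsColimitCokernelCofork K π)

end Chain

section Cochain

open CochainComplex

variable {C : Type*} [Category C] [Abelian C] (K : CochainComplex C ℕ) {Z : C}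
  (ι : (CochainComplex.single₀ C).obj Z ⟶ K) [QuasiIso ι]

include ι in
lemma coaug_exactAt_succ (n : ℕ) : K.ExactAt (n + 1) := by
  rw [← quasiIsoAt_iff_exactAt ι (n + 1) (exactAt_succ_single_obj _ _)]
  infer_instance

include ι in
lemma coaug_exact_succ (n : ℕ) :
    (ShortComplex.mk _ _ (K.d_comp_d n (n + 1) (n + 2))).Exact :=
  (HomologicalComplex.exactAt_iff' _ n (n + 1) (n + 2) (by simp)
    (by simp only [CochainComplex.next]; rfl)).1 (coaug_exactAt_succ K ι n)

omit [QuasiIso ι] in
theorem coaug_ι_f_zero_comp_d : ι.f 0 ≫ K.d 0 1 = 0 := by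
  rw [ι.comm 0 1, single_obj_d, zero_comp]

/-- The kernel fork `Z → K⁰ → K¹`. -/
noncomputable def coaugKernelFork : KernelFork (K.d 0 1) :=
  KernelFork.ofι _ (coaug_ι_f_zero_comp_d K ι)

set_option backward.defeqAttrib.useBackward true in
set_option backward.isDefEq.respectTransparency false in
/-- `Z` is the kernel of `K⁰ → K¹`. -/
noncomputable def coaugIsLimitKernelFork : IsLimit (coaugKernelFork K ι) := by
  refine IsLimit.ofIsoLimit (K.cyclesIsKernel 0 1 (by simp)) (Iso.symm ?_)
  refine Fork.ext ((singleObjHomologySelfIso _ _ _).symm ≪≫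
    isoOfQuasiIsoAt ι 0 ≪≫ K.isoHomologyπ₀.symm) ?_
  rw [← cancel_epi (singleObjHomologySelfIso (ComplexShape.up ℕ) _ _).hom,
    ← cancel_epi (isoHomologyπ₀ _).hom,
    ← cancel_epi (singleObjCyclesSelfIso (ComplexShape.up ℕ) _ _).inv]
  simp [coaugKernelFork]

lemma coaug_exact₀ : (ShortComplex.mk _ _ (coaug_ι_f_zero_comp_d K ι)).Exact :=
  ShortComplex.exact_of_f_is_kernel _ (coaugIsLimitKernelFork K ι)

lemma coaug_mono : Mono (ι.f 0) :=
  mono_of_isLimit_fork (coaugIsLimitKernelFork K ι)

end Cochain

end Groth.Agent.Lib.Helper44
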