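import Mathlib.Algebra.Homology.QuasiIso
import Mathlib.Algebra.Homology.SingleHomology
import Mathlib.Algebra.Homology.ShortComplex.Exact
import Mathlib.CategoryTheory.Abelian.Basic

/-!
# Quasi-isomorphisms from exactness of (co)augmented complexes
-/

set_option autoImplicit false

open CategoryTheory Category Limits HomologicalComplex

namespace Groth.Agent.Lib.Helper44

variable {C : Type*} [Category C] [Abelian C]

/-- A map from a cochain complex concentrated in degree `0` to a cochain complex `K` is a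
quasi-isomorphism as soon as `0 → L⁰ → K⁰ → K¹ → …` is exact. -/
theorem quasiIso_of_coaug {L K : CochainComplex C ℕ} (φ : L ⟶ K)
    (hL : ∀ n : ℕ, IsZero (L.X (n + 1)))
    (h0 : (ShortComplex.mk (φ.f 0) (K.d 0 1)
      (by rw [φ.comm 0 1, (hL 0).eq_of_tgt (L.d 0 1) 0, zero_comp])).Exact)
    (hm : Mono (φ.f 0)) (hK : ∀ n : ℕ, K.ExactAt (n + 1)) : QuasiIso φ := by
  refine ⟨fun n => ?_⟩
  cases n with
  | zero =>
    rw [CochainComplex.quasiIsoAt₀_iff, ShortComplex.quasiIso_iff_of_zeros]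
    · exact ⟨h0, hm⟩
    · exact L.shape 0 0 (by simp)
    · exact (hL 0).eq_of_tgt _ _
    · exact K.shape 0 0 (by simp)
  | succ n =>
    rw [quasiIsoAt_iff_exactAt φ (n + 1) (ShortComplex.exact_of_isZero_X₂ _ (hL n))]
    exact hK n

/-- A map from a chain complex `K` to a chain complex concentrated in degree `0` is a
quasi-isomorphism as soon as `… → K₁ → K₀ → L₀ → 0` is exact. -/
theorem quasiIso_of_aug {K L : ChainComplex C ℕ} (φ : K ⟶ L)
    (hL : ∀ n : ℕ, IsZero (L.X (n + 1)))
    (h0 : (ShortComplex.mk (K.d 1 0) (φ.f 0)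
      (by rw [← φ.comm 1 0, (hL 0).eq_of_src (L.d 1 0) 0, comp_zero])).Exact)
    (he : Epi (φ.f 0)) (hK : ∀ n : ℕ, K.ExactAt (n + 1)) : QuasiIso φ := by
  refine ⟨fun n => ?_⟩
  cases n with
  | zero =>
    rw [ChainComplex.quasiIsoAt₀_iff, ShortComplex.quasiIso_iff_of_zeros']
    · exact ⟨h0, he⟩
    · exact K.shape 0 0 (by simp)
    · exact (hL 0).eq_of_src _ _
    · exact L.shape 0 0 (by simp)
  | succ n =>
    rw [quasiIsoAt_iff_exactAt' φ (n + 1) (ShortComplex.exact_of_isZero_X₂ _ (hL n))]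
    exact hK n

end Groth.Agent.Lib.Helper44
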