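import Groth.Agent.Lib.Helper44.BigAdeqExtGeom
import Mathlib

/-! Gluing sections of abelian sheaves on the big fppf site along finite disjoint decompositions,
and local surjectivity of epimorphisms. -/

set_option autoImplicit false
universe u w
open CategoryTheory CategoryTheory.Limits Opposite TensorProduct AlgebraicGeometry

namespace Groth.Agent.Lib.Helper44

section
variable {T₀ : Scheme.{u}}

theorem ab_epi_locally_surjective {G H : BigSite.Ab Scheme.fppfPrecoverage T₀} (π : G ⟶ H) [Epi π]
    (V : Over T₀) (s : H.obj.obj (op V)) :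
    Presheaf.imageSieve π.hom s ∈ QuotSh.J Scheme.fppfPrecoverage T₀ V := by
  have : Sheaf.IsLocallySurjective π := (Sheaf.isLocallySurjective_iff_epi' (φ := π)).2 inferInstance
  exact Presheaf.imageSieve_mem (QuotSh.J Scheme.fppfPrecoverage T₀) π.hom s

theorem ab_isSheaf_type (G : BigSite.Ab Scheme.fppfPrecoverage T₀) :
    Presieve.IsSheaf (QuotSh.J Scheme.fppfPrecoverage T₀) (G.obj ⋙ forget Ab) :=
  (isSheaf_iff_isSheaf_of_type _ _).1
    ((Presheaf.isSheaf_iff_isSheaf_forget (QuotSh.J Scheme.fppfPrecoverage T₀) G.obj (forget Ab)).1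
      G.property)

variable (P : (Over T₀)ᵒᵖ ⥤ Ab.{u + 1})
  (hP : Presieve.IsSheaf (QuotSh.J Scheme.fppfPrecoverage T₀) (P ⋙ forget Ab))

include hP in
/-- the sheaf condition for a family of arrows whose underlying family is an fppf covering -/
theorem ab_isSheafFor_ofArrows {J' : Type w} (Vp : Over T₀) (V : J' → Over T₀)
    (e : ∀ j, V j ⟶ Vp)
    (hcov : Presieve.ofArrows (fun j => (V j).left) (fun j => (e j).left) ∈
      Scheme.fppfPrecoverage.coverings Vp.left) :
    Presieve.IsSheafFor (P ⋙ forget Ab) (Presieve.ofArrows V e) := by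
  rw [Presieve.isSheafFor_iff_generate]
  apply hP
  change Sieve.ofArrows _ _ ∈ _
  rw [GrothendieckTopology.mem_over_iff, Sieve.overEquiv_ofArrows]
  exact Precoverage.generate_mem_toGrothendieck hcov

include hP in
set_option backward.isDefEq.respectTransparency.types false in
/-- sections of a sheaf over an empty scheme vanish -/
theorem ab_subsingleton_of_isEmpty (Z : Over T₀) [IsEmpty Z.left] :
    Subsingleton (P.obj (op Z)) := by
  have hcov : Presieve.ofArrows (fun i : PEmpty.{1} => ((i.elim : Over T₀)).left)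
      (fun i : PEmpty.{1} => ((i.elim : (i.elim : Over T₀) ⟶ Z)).left) ∈
        Scheme.fppfPrecoverage.coverings Z.left :=
    (Scheme.ofArrows_mem_precoverage_iff (@Flat ⊓ @LocallyOfFinitePresentation)).2
      ⟨fun x => (IsEmpty.false x).elim, fun i => i.elim⟩
  have hs := (ab_isSheafFor_ofArrows P hP Z (fun i : PEmpty.{1} => (i.elim : Over T₀))
    (fun i => i.elim) hcov).isSeparatedFor
  refine ⟨fun x y => ?_⟩
  refine hs.ext (t₁ := x) (t₂ := y) ?_
  intro Y g hg
  obtain ⟨i⟩ := hg
  exact i.elim

include hP in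
/-- gluing of sections along a covering by disjoint monomorphisms -/
theorem ab_glue_disjoint {J' : Type w} (Vp : Over T₀) (V : J' → Over T₀) (e : ∀ j, V j ⟶ Vp)
    (hcov : Presieve.ofArrows (fun j => (V j).left) (fun j => (e j).left) ∈
      Scheme.fppfPrecoverage.coverings Vp.left)
    (hmono : ∀ j, Mono (e j).left)
    (hdisj : ∀ i j, i ≠ j → ∀ (Z : Scheme.{u}) (gi : Z ⟶ (V i).left) (gj : Z ⟶ (V j).left),
      gi ≫ (e i).left = gj ≫ (e j).left → IsEmpty Z)
    (t : ∀ j, P.obj (op (V j))) :
    ∃ t' : P.obj (op Vp), ∀ j, P.map (e j).op t' = t j := by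
  have hs := (Presieve.isSheafFor_arrows_iff _ _).1 (ab_isSheafFor_ofArrows P hP Vp V e hcov)
  have hcompat : Presieve.Arrows.Compatible (P ⋙ forget Ab) e
      (fun j => (show (P ⋙ forget Ab).obj (op (V j)) from t j)) := by
    intro i j Z gi gj hg
    have hgl : gi.left ≫ (e i).left = gj.left ≫ (e j).left := congrArg CommaMorphism.left hg
    by_cases hij : i = j
    · subst hij
      have := hmono i
      have hgij : gi = gj := by
        apply Over.OverMorphism.ext
        exact (cancel_mono (e i).left).1 hgl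
      rw [hgij]
    · have hemp : IsEmpty Z.left := hdisj i j hij Z.left gi.left gj.left hgl
      have := ab_subsingleton_of_isEmpty P hP Z
      exact Subsingleton.elim (α := P.obj (op Z)) _ _
  obtain ⟨t', ht', -⟩ := hs _ hcompat
  exact ⟨t', ht'⟩

include hP in
/-- separatedness for a family whose underlying family is an fppf covering -/
theorem ab_sep_ofArrows {J' : Type w} (Vp : Over T₀) (V : J' → Over T₀) (e : ∀ j, V j ⟶ Vp)
    (hcov : Presieve.ofArrows (fun j => (V j).left) (fun j => (e j).left) ∈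
      Scheme.fppfPrecoverage.coverings Vp.left)
    (x y : P.obj (op Vp)) (hxy : ∀ j, P.map (e j).op x = P.map (e j).op y) : x = y := by
  have hs := (ab_isSheafFor_ofArrows P hP Vp V e hcov).isSeparatedFor
  refine hs.ext (t₁ := x) (t₂ := y) ?_
  intro Y g hg
  obtain ⟨j⟩ := hg
  exact hxy j

end

section
variable {J' : Type u} [Finite J'] (B' : J' → CommRingCat.{u})

/-- the coordinate projections `Spec B'_j ⟶ Spec ∏ B'` form an fppf covering -/
theorem pi_cover_plain :
    Presieve.ofArrows (fun j => Spec (B' j))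
      (fun j => Spec.map (CommRingCat.ofHom (Pi.evalRingHom (fun j => (B' j : Type u)) j))) ∈
      Scheme.fppfPrecoverage.coverings (Spec (CommRingCat.of (∀ j, B' j))) := by
  refine (Scheme.ofArrows_mem_precoverage_iff (@Flat ⊓ @LocallyOfFinitePresentation)).2
    ⟨fun x => ?_, fun j => ?_⟩
  · obtain ⟨⟨j, q⟩, hq⟩ := (PrimeSpectrum.sigmaToPi_bijective (fun j => (B' j : Type u))).2 x
    exact ⟨j, q, hq⟩
  · have : IsOpenImmersion
        (Spec.map (CommRingCat.ofHom (Pi.evalRingHom (fun j => (B' j : Type u)) j))) :=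
      instIsOpenImmersionMapOfHomForallEvalRingHom.{u, u} j (fun j => (B' j : Type u))
    exact ⟨inferInstance, inferInstance⟩

omit [Finite J'] in
/-- the images of `Spec B'_i` and `Spec B'_j` in `Spec ∏ B'` are disjoint for `i ≠ j` -/
theorem pi_disjoint_plain {i j : J'} (hij : i ≠ j) (Z : Scheme.{u}) (gi : Z ⟶ Spec (B' i))
    (gj : Z ⟶ Spec (B' j))
    (h : gi ≫ Spec.map (CommRingCat.ofHom (Pi.evalRingHom (fun j => (B' j : Type u)) i)) =
      gj ≫ Spec.map (CommRingCat.ofHom (Pi.evalRingHom (fun j => (B' j : Type u)) j))) :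
    IsEmpty Z := by
  classical
  refine ⟨fun x => ?_⟩
  have h1 := congrArg (fun f : Z ⟶ Spec (CommRingCat.of (∀ j, B' j)) => f x) h
  simp only [Scheme.Hom.comp_apply] at h1
  let ee : ∀ k, (B' k : Type u) := Pi.single i 1
  have h2 : ee ∉ (PrimeSpectrum.comap (Pi.evalRingHom (fun j => (B' j : Type u)) i)
      (gi x)).asIdeal := by
    intro he
    have h3 : (Pi.evalRingHom (fun j => (B' j : Type u)) i) ee ∈ (gi x).asIdeal := he
    have h4 : (Pi.evalRingHom (fun j => (B' j : Type u)) i) ee = 1 := by
      change ee i = 1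
      simp [ee]
    rw [h4] at h3
    exact (gi x).isPrime.ne_top ((Ideal.eq_top_iff_one _).2 h3)
  have h5 : ee ∈ (PrimeSpectrum.comap (Pi.evalRingHom (fun j => (B' j : Type u)) j)
      (gj x)).asIdeal := by
    change (Pi.evalRingHom (fun j => (B' j : Type u)) j) ee ∈ (gj x).asIdeal
    have h4 : (Pi.evalRingHom (fun j => (B' j : Type u)) j) ee = 0 := by
      change ee j = 0
      simp [ee, Ne.symm hij]
    rw [h4]
    exact (gj x).asIdeal.zero_mem
  have h6 : PrimeSpectrum.comap (Pi.evalRingHom (fun j => (B' j : Type u)) i) (gi x) =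
      PrimeSpectrum.comap (Pi.evalRingHom (fun j => (B' j : Type u)) j) (gj x) := h1
  rw [h6] at h2
  exact h2 h5

end

end Groth.Agent.Lib.Helper44
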