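import Groth.Agent.Lib.Helper44.BigCech5
import Groth.Agent.Lib.Lead.FreeSheaf
import Mathlib

/-! Cartan's criterion on large sites, for coverings by a single morphism. -/

set_option autoImplicit false
universe u
open CategoryTheory CategoryTheory.Limits Opposite

namespace Groth.Agent.Lib.Helper44.BigCech

open Groth.Agent.Lib.Lead

variable {C : Type (u + 1)} [Category.{u} C] (J : GrothendieckTopology C)
  [∀ U : C, HasFiniteProducts (Over U)]
  [HasSheafify J AddCommGrpCat.{u + 1}]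
  [HasExt.{u + 1} (Sheaf J AddCommGrpCat.{u + 1})]
  [EnoughInjectives (Sheaf J AddCommGrpCat.{u + 1})]

/-- the single-element family attached to an object over `U` -/
abbrev single {U : C} (W : Over U) : PUnit.{u + 2} → Over U := fun _ => W

theorem big_cartan (T : C) (hT : IsTerminal T) (B : Set C) (Cov : ∀ U : C, Over U → Prop)
    (h1 : ∀ (U : C) (W : Over U), Cov U W →
      Sieve.ofArrows (fun _ : PUnit.{u + 2} => W.left) (fun _ => W.hom) ∈ J U ∧
      ∀ p : ℕ, ∃ V' ∈ B, Nonempty ((∏ᶜ fun _ : Fin (p + 1) => W).left ≅ V'))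
    (h2 : ∀ (G H : Sheaf J AddCommGrpCat.{u + 1}) (π : G ⟶ H), Epi π → ∀ U : C, U ∈ B →
      ∀ s : H.obj.obj (op U), ∃ W : Over U, Cov U W ∧
        ∃ t : G.obj.obj (op W.left), π.hom.app (op W.left) t = H.obj.map W.hom.op s)
    (F : Sheaf J AddCommGrpCat.{u + 1})
    (h3 : ∀ (U : C) (W : Over U), Cov U W → ∀ p : ℕ,
      IsZero ((gCx (single W) (sPU F.obj)).homology (p + 1)))
    (hTB : T ∈ B) (p : ℕ) : Subsingleton (Sheaf.H F (p + 1)) := by
  have key := ext_succ_eq_zero
    ((constantSheaf J AddCommGrpCat.{u + 1}).obj (AddCommGrpCat.of (ULift ℤ)))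
    (fun G : Sheaf J AddCommGrpCat.{u + 1} => ∀ (U : C) (W : Over U), Cov U W → ∀ p : ℕ,
      IsZero ((gCx (single W) (sPU G.obj)).homology (p + 1))) (fun G hG => by
    let S : ShortComplex (Sheaf J AddCommGrpCat.{u + 1}) :=
      ShortComplex.mk (Injective.ι G) (cokernel.π (Injective.ι G)) (cokernel.condition _)
    have hS : S.ShortExact :=
      { exact := ShortComplex.exact_of_g_is_cokernel _ (cokernelIsCokernel S.f) }
    haveI hI : Injective S.X₂ := inferInstanceAs (Injective (Injective.under G))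
    have hsurj : ∀ W ∈ B, Function.Surjective (S.g.hom.app (op W)) := by
      intro V hV s
      haveI : Epi S.g := hS.epi_g
      obtain ⟨W, hcov, t, ht⟩ := h2 S.X₂ S.X₃ S.g inferInstance V hV s
      exact exists_lift_of_sCech_h1 (single W) S hS (h1 V W hcov).1 (hG V W hcov 0) s
        (fun _ => t) (fun _ => ht)
    refine ⟨S, hS, rfl, hI, ?_, fun ψ => ?_⟩
    · intro V W hcov n
      refine sCech_shift_up (single W) S hS n ?_ (hG V W hcov (n + 1))
        (isZero_sCechH_of_injective (single W) J S.X₂ n)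
      intro x
      obtain ⟨V', hV', ⟨e⟩⟩ := (h1 V W hcov).2 (n + 1)
      intro z
      obtain ⟨y, hy⟩ := hsurj V' hV' (S.X₃.obj.map e.inv.op z)
      refine ⟨S.X₂.obj.map e.hom.op y, ?_⟩
      have hn := NatTrans.naturality_apply S.g.hom e.hom.op y
      refine hn.trans ?_
      rw [hy]
      change (S.X₃.obj.map e.inv.op ≫ S.X₃.obj.map e.hom.op) z = z
      rw [← S.X₃.obj.map_comp, ← op_comp, e.hom_inv_id, op_id, S.X₃.obj.map_id]
      rfl
    · obtain ⟨t, ht⟩ := hsurj T hTB (Sheaf.H.equiv₀ S.X₃ hT (Abelian.Ext.mk₀ ψ))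
      refine ⟨Abelian.Ext.addEquiv₀ ((Sheaf.H.equiv₀ S.X₂ hT).symm t), ?_⟩
      rw [← Sheaf.H.addEquiv₀_map, Sheaf.H.equiv₀_symm_naturality, ht,
        AddEquiv.symm_apply_apply]
      exact Abelian.Ext.addEquiv₀.apply_symm_apply ψ) p F h3
  exact subsingleton_of_forall_eq 0 key

end Groth.Agent.Lib.Helper44.BigCech
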