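import Groth.Agent.Lib.Helper44.CechGeom2
import Groth.Agent.Lib.Helper44.BigCartan
import Mathlib

/-! Cech acyclicity of adequate modules for single affine fppf coverings, in the form used by
`big_cartan`. -/

set_option autoImplicit false
universe u
open CategoryTheory CategoryTheory.Limits Opposite TensorProduct AlgebraicGeometry

namespace Groth.Agent.Lib.Helper44

open Groth.Agent.Lib.Lead Groth.Agent.Lib.Helper44.BigCech

section
variable {T₀ : Scheme.{u}} (N : BigSite.Mod Scheme.fppfPrecoverage T₀) {R : CommRingCat.{u}}
  (a : Spec R ⟶ T₀) (B : Type u) [CommRing B] [Algebra R B]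

/-- the iterated slice functor -/
noncomputable abbrev EE : Over (Spec R) ⥤ Over (Over.mk a : Over T₀) :=
  Over.iteratedSliceBackward (Over.mk a)

/-- the covering object in the iterated slice -/
noncomputable abbrev WW : Over (Over.mk a : Over T₀) := (EE a).obj (X0 R B)

/-- the iterated slice functor preserves the product fans -/
noncomputable def hEE (m : ℕ) : IsLimit (Fan.mk ((EE a).obj (specO R (Tw R B m)))
    (fun j : Fin m => (EE a).map (specOMap R (twι R B m j))) :
      Fan (fun _ : Fin m => (EE a).obj (X0 R B))) :=
  haveI : (EE a).IsEquivalence := (Over.iteratedSliceEquiv (Over.mk a)).isEquivalence_inverse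
  (isLimitMapConeFanMkEquiv (EE a) _ _) (isLimitOfPreserves (EE a) (isLimitFanT R B m))

/-- the abelian sheaf underlying a module -/
noncomputable abbrev FF : BigSite.Ab Scheme.fppfPrecoverage T₀ :=
  (BigSite.toAbMod Scheme.fppfPrecoverage T₀).obj N

/-- sections of the functor of sections as sections of the presheaf on the iterated slice -/
noncomputable def tauE (T : Adeq.Alg R) :
    valR (GG N a) T ≃+ (sPU (U := (Over.mk a : Over T₀)) (FF N).obj).obj
      (op ((EE a).obj (specO R T))) where
  toFun x := x
  invFun z := z
  left_inv _ := rfl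
  right_inv _ := rfl
  map_add' _ _ := rfl

theorem tauE_map {T T' : Adeq.Alg R} (g : T ⟶ T') (x : valR (GG N a) T) :
    (sPU (U := (Over.mk a : Over T₀)) (FF N).obj).map ((EE a).map (specOMap R g)).op
      (tauE N a T x) = tauE N a T' (mapR (GG N a) g x) := rfl

set_option backward.isDefEq.respectTransparency.types false in
/-- adequate modules are Cech acyclic for a single faithfully flat affine covering -/
theorem adeq_cech_acyclic (hN : Adeq.adequateMod Scheme.fppfPrecoverage T₀ N)
    [Module.FaithfullyFlat R B] (p : ℕ) :
    IsZero ((gCx (single (WW a B)) (sPU (U := (Over.mk a : Over T₀)) (FF N).obj)).homology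
      (p + 1)) := by
  have hG : Adeq.adequate R (GG N a) := adequate_toMVF_fppf T₀ N hN R a
  rw [isZero_gH_succ_iff]
  intro c hc
  have hc0 := congrFun hc (fun _ : Fin (p + 1 + 2) => PUnit.unit)
  obtain ⟨t0, ht0⟩ := cech_plain_exact_gen R B (EE a) (hEE a B)
    (sPU (U := (Over.mk a : Over T₀)) (FF N).obj) (GG N a) (tauE N a)
    (fun g x => tauE_map N a g x) hG p
    (c (fun _ : Fin (p + 1 + 1) => PUnit.unit)) hc0
  refine ⟨fun _ => t0, ?_⟩
  funext y
  exact ht0

end

end Groth.Agent.Lib.Helper44
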