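import Groth.Agent.Lib.Helper44.BigAbGlue
import Groth.Agent.Lib.Helper44.BigAdeqCech
import Mathlib

/-! Local lifting of sections along epimorphisms of abelian sheaves on the big fppf site, over a
single faithfully flat affine covering. -/

set_option autoImplicit false
universe u w
open CategoryTheory CategoryTheory.Limits Opposite TensorProduct AlgebraicGeometry

namespace Groth.Agent.Lib.Helper44

open Groth.Agent.Lib.Helper44.BigCech

section
variable {R : CommRingCat.{u}} {J' : Type u} [Finite J'] (B' : J' → CommRingCat.{u})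
  (g : ∀ j, R ⟶ B' j)

set_option backward.isDefEq.respectTransparency.types false in
/-- a finite fppf covering family of affines gives a single fppf covering by the product -/
theorem pi_singleton_cover_plain
    (hcov : Presieve.ofArrows (fun j => Spec (B' j)) (fun j => Spec.map (g j)) ∈
      Scheme.fppfPrecoverage.coverings (Spec R)) :
    Presieve.ofArrows (fun _ : PUnit.{w + 1} => Spec (CommRingCat.of (∀ j, B' j)))
      (fun _ => Spec.map (CommRingCat.ofHom (RingHom.pi (fun j => (g j).hom)))) ∈
        Scheme.fppfPrecoverage.coverings (Spec R) := by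
  classical
  have := Fintype.ofFinite J'
  let _ : ∀ j, Algebra R (B' j) := fun j => (g j).hom.toAlgebra
  obtain ⟨h1, h2⟩ := (Scheme.ofArrows_mem_precoverage_iff _).1 hcov
  have hfl : ∀ j, Module.Flat R (B' j) := by
    intro j
    have h3 : Flat (Spec.map (g j)) := (h2 j).1
    exact Flat.SpecMap_iff.1 h3
  have hfp : ∀ j, Algebra.FinitePresentation R (B' j) := by
    intro j
    have h3 : LocallyOfFinitePresentation (Spec.map (g j)) := (h2 j).2
    have h4 : (algebraMap R (B' j)).FinitePresentation :=
      (HasRingHomProperty.Spec_iff (P := @LocallyOfFinitePresentation)).1 h3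
    exact RingHom.finitePresentation_algebraMap.1 h4
  have hflat : Module.Flat R (∀ j, (B' j : Type u)) :=
    Module.Flat.of_linearEquiv
      (DFinsupp.linearEquivFunOnFintype (R := R) (M := fun j => (B' j : Type u))).symm
  have hfpp : Algebra.FinitePresentation R (∀ j, (B' j : Type u)) :=
    Algebra.FinitePresentation.pi (fun j => (B' j : Type u))
  refine (Scheme.ofArrows_mem_precoverage_iff (@Flat ⊓ @LocallyOfFinitePresentation)).2
    ⟨fun x => ?_, fun _ => ⟨?_, ?_⟩⟩
  · obtain ⟨j, q, hq⟩ := h1 x
    refine ⟨PUnit.unit, PrimeSpectrum.comap (Pi.evalRingHom (fun j => (B' j : Type u)) j) q, ?_⟩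
    rw [← hq]
    rfl
  · have h4 : (algebraMap R (∀ j, (B' j : Type u))).Flat := RingHom.flat_algebraMap_iff.2 hflat
    exact Flat.SpecMap_iff.2 h4
  · have h4 : (algebraMap R (∀ j, (B' j : Type u))).FinitePresentation :=
      RingHom.finitePresentation_algebraMap.2 hfpp
    exact (HasRingHomProperty.Spec_iff (P := @LocallyOfFinitePresentation)).2 h4

end

/-- the coverings used in Cartan's criterion: a single faithfully flat, finitely presented map of
affines -/
inductive CovS (T₀ : Scheme.{u}) : ∀ V : Over T₀, Over V → Prop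
  | mk (R : CommRingCat.{u}) (a : Spec R ⟶ T₀) (B : Type u) [CommRing B] [Algebra R B]
      (hff : Module.FaithfullyFlat R B)
      (hcov : Presieve.ofArrows (fun _ : PUnit.{u + 2} => Spec (CommRingCat.of B))
        (fun _ => Spec.map (CommRingCat.ofHom (algebraMap R B))) ∈
          Scheme.fppfPrecoverage.coverings (Spec R)) :
      CovS T₀ (Over.mk a) (WW a B)

section
variable {T₀ : Scheme.{u}}

set_option backward.isDefEq.respectTransparency.types false in
/-- local lifting along an epimorphism of abelian sheaves, over a single covering -/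
theorem ab_local_lift {G H : BigSite.Ab Scheme.fppfPrecoverage T₀} (π : G ⟶ H) [Epi π]
    {R : CommRingCat.{u}} (a : Spec R ⟶ T₀) (s : H.obj.obj (op (Over.mk a))) :
    ∃ W : Over (Over.mk a : Over T₀), CovS T₀ (Over.mk a) W ∧
      ∃ t : G.obj.obj (op W.left), π.hom.app (op W.left) t = H.obj.map W.hom.op s := by
  have h1 := ab_epi_locally_surjective π (Over.mk a) s
  have h2 : Sieve.overEquiv _ (Presheaf.imageSieve π.hom s) ∈
      Scheme.fppfPrecoverage.toGrothendieck (Spec R) :=
    (GrothendieckTopology.mem_over_iff _ _).1 h1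
  obtain ⟨J', hfin, B', g, hT', hcov⟩ := exists_finite_affine_in_sieve R _ h2
  let _ : ∀ j, Algebra R (B' j) := fun j => (g j).hom.toAlgebra
  have hff : Module.FaithfullyFlat R (∀ j, B' j) := faithfullyFlat_pi_of_cover B' g hcov
  have hcov1 := pi_singleton_cover_plain.{u, u + 1} B' g hcov
  refine ⟨WW a (∀ j, B' j), CovS.mk R a (∀ j, B' j) hff hcov1, ?_⟩
  have h3 : ∀ j, ∃ t : G.obj.obj (op (Over.mk (Spec.map (g j) ≫ a))),
      π.hom.app _ t = H.obj.map
        (Over.homMk (Spec.map (g j)) : Over.mk (Spec.map (g j) ≫ a) ⟶ Over.mk a).op s :=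
    fun j => (Sieve.overEquiv_iff _ _).1 (hT' j)
  choose t ht using h3
  have hg : ∀ j, CommRingCat.ofHom (algebraMap R (∀ j, B' j)) ≫
      CommRingCat.ofHom (Pi.evalRingHom (fun j => (B' j : Type u)) j) = g j := by
    intro j
    ext x
    rfl
  have hg' : ∀ j, Spec.map (CommRingCat.ofHom (Pi.evalRingHom (fun j => (B' j : Type u)) j)) ≫
      Spec.map (CommRingCat.ofHom (algebraMap R (∀ j, B' j))) = Spec.map (g j) := by
    intro j
    rw [← Spec.map_comp, hg]
  let e : ∀ j, (Over.mk (Spec.map (g j) ≫ a) : Over T₀) ⟶ (WW a (∀ j, B' j)).left := fun j =>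
    Over.homMk (Spec.map (CommRingCat.ofHom (Pi.evalRingHom (fun j => (B' j : Type u)) j))) (by
      change Spec.map (CommRingCat.ofHom (Pi.evalRingHom (fun j => (B' j : Type u)) j)) ≫
        (Spec.map (CommRingCat.ofHom (algebraMap R (∀ j, B' j))) ≫ a) = Spec.map (g j) ≫ a
      rw [← Category.assoc, hg'])
  have hcov2 : Presieve.ofArrows (fun j => (Over.mk (Spec.map (g j) ≫ a) : Over T₀).left)
      (fun j => (e j).left) ∈
        Scheme.fppfPrecoverage.coverings (WW a (∀ j, B' j)).left.left := pi_cover_plain B'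
  have hmono : ∀ j, Mono (e j).left := by
    intro j
    have : IsOpenImmersion
        (Spec.map (CommRingCat.ofHom (Pi.evalRingHom (fun j => (B' j : Type u)) j))) :=
      instIsOpenImmersionMapOfHomForallEvalRingHom.{u, u} j (fun j => (B' j : Type u))
    change Mono (Spec.map (CommRingCat.ofHom (Pi.evalRingHom (fun j => (B' j : Type u)) j)))
    infer_instance
  have hdisj : ∀ i j, i ≠ j → ∀ (Z : Scheme.{u})
      (gi : Z ⟶ (Over.mk (Spec.map (g i) ≫ a) : Over T₀).left)
      (gj : Z ⟶ (Over.mk (Spec.map (g j) ≫ a) : Over T₀).left),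
      gi ≫ (e i).left = gj ≫ (e j).left → IsEmpty Z :=
    fun i j hij Z gi gj h => pi_disjoint_plain B' hij Z gi gj h
  obtain ⟨t', ht'⟩ := ab_glue_disjoint G.obj (ab_isSheaf_type G) (WW a (∀ j, B' j)).left
    (fun j => (Over.mk (Spec.map (g j) ≫ a) : Over T₀)) e hcov2 hmono hdisj t
  refine ⟨t', ?_⟩
  refine ab_sep_ofArrows H.obj (ab_isSheaf_type H) (WW a (∀ j, B' j)).left
    (fun j => (Over.mk (Spec.map (g j) ≫ a) : Over T₀)) e hcov2 _ _ (fun j => ?_)
  have e1 : H.obj.map (e j).op (π.hom.app (op (WW a (∀ j, B' j)).left) t') =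
      π.hom.app _ (G.obj.map (e j).op t') :=
    (NatTrans.naturality_apply π.hom (e j).op t').symm
  rw [e1, ht', ht]
  refine Eq.trans ?_ (sheaf_map_map_apply H.obj (e j) (WW a (∀ j, B' j)).hom s).symm
  have e2 : (Over.homMk (Spec.map (g j)) : (Over.mk (Spec.map (g j) ≫ a) : Over T₀) ⟶ Over.mk a) =
      e j ≫ (WW a (∀ j, B' j)).hom := by
    apply Over.OverMorphism.ext
    exact (hg' j).symm
  exact congrArg (fun k : (Over.mk (Spec.map (g j) ≫ a) : Over T₀) ⟶ Over.mk a =>
    H.obj.map k.op s) e2

end

end Groth.Agent.Lib.Helper44
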