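import Groth.Agent.Lib.Helper44.BigAdeqSheafify
import Mathlib

set_option autoImplicit false
universe u v₂ u₂
open CategoryTheory CategoryTheory.Limits Opposite TensorProduct AlgebraicGeometry

namespace Groth.Agent.Lib.Helper44

section
variable (K : Precoverage Scheme.{u}) [BigSite.OSh K] {S : Scheme.{u}}
variable {R : CommRingCat.{u}} (a : Spec R ⟶ S)

instance toPresheaf_reflectsIsomorphisms {C : Type*} [Category C] (R₀ : Cᵒᵖ ⥤ RingCat.{u}) :
    (PresheafOfModules.toPresheaf.{u + 1} R₀).ReflectsIsomorphisms := inferInstance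

theorem toMVFPre_comp_toPresheaf :
    Adeq.toMVFPre K a ⋙ PresheafOfModules.toPresheaf (Adeq.ringOf R) =
      PresheafOfModules.toPresheaf (BigSite.ORing K S).obj ⋙
        (Functor.whiskeringLeft _ _ _).obj (Adeq.specOver a).op := rfl

instance toMVFPre_preservesColimitsOfShape (J : Type u₂) [Category.{v₂} J]
    [HasColimitsOfShape J AddCommGrpCat.{u + 1}] :
    PreservesColimitsOfShape J (Adeq.toMVFPre K a) := by
  have h1 : PreservesColimitsOfShape J
      (Adeq.toMVFPre K a ⋙ PresheafOfModules.toPresheaf (Adeq.ringOf R)) := by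
    rw [toMVFPre_comp_toPresheaf]
    infer_instance
  have h2 : ReflectsColimitsOfShape J (PresheafOfModules.toPresheaf.{u + 1} (Adeq.ringOf R)) :=
    reflectsColimitsOfShape_of_reflectsIsomorphisms
  exact preservesColimitsOfShape_of_reflects_of_preserves (Adeq.toMVFPre K a)
    (PresheafOfModules.toPresheaf (Adeq.ringOf R))

end

section
variable {S : Scheme.{u}}

/-- the forgetful functor from sheaves of modules to presheaves of modules -/
noncomputable abbrev modG : BigSite.Mod Scheme.fppfPrecoverage S ⥤
    PresheafOfModules.{u + 1} (BigSite.ORing Scheme.fppfPrecoverage S).obj :=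
  SheafOfModules.forget _ ⋙ PresheafOfModules.restrictScalars (𝟙 _)

/-- sheafification of presheaves of modules -/
noncomputable abbrev modL : PresheafOfModules.{u + 1} (BigSite.ORing Scheme.fppfPrecoverage S).obj ⥤
    BigSite.Mod Scheme.fppfPrecoverage S :=
  PresheafOfModules.sheafification (𝟙 (BigSite.ORing Scheme.fppfPrecoverage S).obj)

/-- the sheafification adjunction -/
noncomputable abbrev modLG : modL (S := S) ⊣ modG :=
  PresheafOfModules.sheafificationAdjunction (𝟙 (BigSite.ORing Scheme.fppfPrecoverage S).obj)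

theorem adequateMod_cokernel_fppf {M N : BigSite.Mod Scheme.fppfPrecoverage S} (φ : M ⟶ N)
    (hM : Adeq.adequateMod Scheme.fppfPrecoverage S M)
    (hN : Adeq.adequateMod Scheme.fppfPrecoverage S N) :
    Adeq.adequateMod Scheme.fppfPrecoverage S (cokernel φ) := by
  let P := cokernel (modG.map φ)
  have hP : ∀ (R : CommRingCat.{u}) (a : Spec R ⟶ S),
      Adeq.adequate R ((Adeq.toMVFPre Scheme.fppfPrecoverage a).obj P) := by
    intro R a
    have e := PreservesCokernel.iso (Adeq.toMVFPre Scheme.fppfPrecoverage a) (modG.map φ)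
    refine (Adeq.adequate R).prop_of_iso e.symm ?_
    exact adequate_cokernel _ (adequate_toMVF_fppf S M hM R a) (adequate_toMVF_fppf S N hN R a)
  have h1 := adequateMod_sheafification_fppf P hP
  have : PreservesColimit (parallelPair (modG.map φ) 0) (modL (S := S)) :=
    (modLG (S := S)).leftAdjoint_preservesColimits.preservesColimitsOfShape.preservesColimit
  have : (modL (S := S)).PreservesZeroMorphisms := by
    have : (modL (S := S)).Additive := (modLG (S := S)).left_adjoint_additive
    infer_instance
  have e1 : modL.obj P ≅ cokernel (modL.map (modG.map φ)) :=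
    PreservesCokernel.iso modL (modG.map φ)
  have e2 : cokernel (modL.map (modG.map φ)) ≅ cokernel φ :=
    cokernel.mapIso _ _ (asIso (modLG.counit.app M)) (asIso (modLG.counit.app N))
      (modLG.counit.naturality φ)
  exact (Adeq.adequateMod Scheme.fppfPrecoverage S).prop_of_iso (e1 ≪≫ e2) h1

theorem adequateMod_colimit_fppf {J : Type (u + 1)} [SmallCategory J]
    (D : J ⥤ BigSite.Mod Scheme.fppfPrecoverage S)
    (hD : ∀ j, Adeq.adequateMod Scheme.fppfPrecoverage S (D.obj j)) :
    Adeq.adequateMod Scheme.fppfPrecoverage S (colimit D) := by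
  let P := colimit (D ⋙ modG)
  have hP : ∀ (R : CommRingCat.{u}) (a : Spec R ⟶ S),
      Adeq.adequate R ((Adeq.toMVFPre Scheme.fppfPrecoverage a).obj P) := by
    intro R a
    have e := preservesColimitIso (Adeq.toMVFPre Scheme.fppfPrecoverage a) (D ⋙ modG)
    refine (Adeq.adequate R).prop_of_iso e.symm ?_
    exact adequate_colimit _ (fun j => adequate_toMVF_fppf S (D.obj j) (hD j) R a)
  have h1 := adequateMod_sheafification_fppf P hP
  have : PreservesColimit (D ⋙ modG) (modL (S := S)) :=
    (modLG (S := S)).leftAdjoint_preservesColimits.preservesColimitsOfShape.preservesColimit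
  have e1 : modL.obj P ≅ colimit ((D ⋙ modG) ⋙ modL) := preservesColimitIso modL (D ⋙ modG)
  have e2 : colimit ((D ⋙ modG) ⋙ modL) ≅ colimit D :=
    HasColimit.isoOfNatIso (Functor.isoWhiskerLeft D (asIso modLG.counit) ≪≫ D.rightUnitor)
  exact (Adeq.adequateMod Scheme.fppfPrecoverage S).prop_of_iso (e1 ≪≫ e2) h1

end
end Groth.Agent.Lib.Helper44
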