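import Groth.Agent.Lib.Helper44.BigAdeqRestr
import Mathlib

set_option autoImplicit false
universe u w
open CategoryTheory CategoryTheory.Limits Opposite TensorProduct AlgebraicGeometry

namespace Groth.Agent.Lib.Helper44

section
variable (K : Precoverage Scheme.{u}) [BigSite.OSh K] {S : Scheme.{u}}
variable {R : CommRingCat.{u}} (a : Spec R ⟶ S) (M : BigSite.Mod K S)

theorem toMVF_map_apply {B C : Adeq.Alg R} (f : B ⟶ C)
    (x : ((Adeq.toMVF K a).obj M).obj (Adeq.pt B)) :
    ((Adeq.toMVF K a).obj M).map (Adeq.ptHom f) x =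
      M.val.presheaf.map ((Adeq.specOver a).map f.op).op x := rfl

theorem mod_isSheaf_type : Presieve.IsSheaf (QuotSh.J K S) (M.val.presheaf ⋙ forget Ab) :=
  (isSheaf_iff_isSheaf_of_type _ _).1
    ((Presheaf.isSheaf_iff_isSheaf_forget (QuotSh.J K S) M.val.presheaf (forget Ab)).1 M.isSheaf)

theorem toMVF_isSheafFor {J : Type w} (B : Adeq.Alg R) (C : J → Adeq.Alg R) (f : ∀ j, B ⟶ C j)
    (hcov : Presieve.ofArrows (fun j => Spec (CommRingCat.of (C j)))
      (fun j => Spec.map (CommRingCat.ofHom (f j).hom.toRingHom)) ∈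
        K.coverings (Spec (CommRingCat.of B))) :
    Presieve.IsSheafFor (M.val.presheaf ⋙ forget Ab)
      (Presieve.ofArrows (fun j => (Adeq.specOver a).obj (op (C j)))
        (fun j => (Adeq.specOver a).map (f j).op)) := by
  rw [Presieve.isSheafFor_iff_generate]
  apply mod_isSheaf_type K M
  change Sieve.ofArrows _ _ ∈ _
  rw [GrothendieckTopology.mem_over_iff, Sieve.overEquiv_ofArrows]
  exact Precoverage.generate_mem_toGrothendieck hcov

theorem toMVF_inj {J : Type w} (B : Adeq.Alg R) (C : J → Adeq.Alg R) (f : ∀ j, B ⟶ C j)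
    (hcov : Presieve.ofArrows (fun j => Spec (CommRingCat.of (C j)))
      (fun j => Spec.map (CommRingCat.ofHom (f j).hom.toRingHom)) ∈
        K.coverings (Spec (CommRingCat.of B)))
    (x : ((Adeq.toMVF K a).obj M).obj (Adeq.pt B))
    (hx : ∀ j, ((Adeq.toMVF K a).obj M).map (Adeq.ptHom (f j)) x = 0) : x = 0 := by
  have hs := (toMVF_isSheafFor K a M B C f hcov).isSeparatedFor
  refine hs.ext (t₁ := x) (t₂ := (0 : M.val.presheaf.obj (op ((Adeq.specOver a).obj (op B))))) ?_
  intro Y g hg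
  obtain ⟨j⟩ := hg
  change M.val.presheaf.map ((Adeq.specOver a).map (f j).op).op x =
    M.val.presheaf.map ((Adeq.specOver a).map (f j).op).op 0
  rw [map_zero]
  exact hx j

omit [BigSite.OSh K] in
theorem over_lift {C : Type*} [Category C] {T : C} {Z D Ci : Over T} (P : D ⟶ Ci) (gi : Z ⟶ Ci)
    (v : Z.left ⟶ D.left) (hv : v ≫ P.left = gi.left) :
    ∃ v' : Z ⟶ D, v'.left = v ∧ v' ≫ P = gi :=
  ⟨Over.homMk v (by rw [← Over.w P, ← Category.assoc, hv, Over.w gi]), rfl, by
    apply Over.OverMorphism.ext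
    exact hv⟩

theorem specOver_map_left {B C : Adeq.Alg R} (f : B ⟶ C) :
    ((Adeq.specOver a).map f.op).left = Spec.map (CommRingCat.ofHom f.hom.toRingHom) := rfl

theorem toMVF_glue {J : Type w} (B : Adeq.Alg R) (C : J → Adeq.Alg R) (f : ∀ j, B ⟶ C j)
    (hcov : Presieve.ofArrows (fun j => Spec (CommRingCat.of (C j)))
      (fun j => Spec.map (CommRingCat.ofHom (f j).hom.toRingHom)) ∈
        K.coverings (Spec (CommRingCat.of B)))
    (D : J → J → Adeq.Alg R) (p : ∀ j j', C j ⟶ D j j') (q : ∀ j j', C j' ⟶ D j j')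
    (hpb : ∀ j j', IsPullback (Spec.map (CommRingCat.ofHom (p j j').hom.toRingHom))
      (Spec.map (CommRingCat.ofHom (q j j').hom.toRingHom))
      (Spec.map (CommRingCat.ofHom (f j).hom.toRingHom))
      (Spec.map (CommRingCat.ofHom (f j').hom.toRingHom)))
    (y : ∀ j, ((Adeq.toMVF K a).obj M).obj (Adeq.pt (C j)))
    (hy : ∀ j j', ((Adeq.toMVF K a).obj M).map (Adeq.ptHom (p j j')) (y j) =
      ((Adeq.toMVF K a).obj M).map (Adeq.ptHom (q j j')) (y j')) :
    ∃ x : ((Adeq.toMVF K a).obj M).obj (Adeq.pt B),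
      ∀ j, ((Adeq.toMVF K a).obj M).map (Adeq.ptHom (f j)) x = y j := by
  have hs := (Presieve.isSheafFor_arrows_iff _ _).1 (toMVF_isSheafFor K a M B C f hcov)
  have hcompat : Presieve.Arrows.Compatible (M.val.presheaf ⋙ forget Ab)
      (fun j => (Adeq.specOver a).map (f j).op)
      (fun j => (show (M.val.presheaf ⋙ forget Ab).obj (op ((Adeq.specOver a).obj (op (C j)))) from
        y j)) := by
    intro i j Z gi gj hg
    have hgl : gi.left ≫ Spec.map (CommRingCat.ofHom (f i).hom.toRingHom) =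
        gj.left ≫ Spec.map (CommRingCat.ofHom (f j).hom.toRingHom) :=
      congrArg CommaMorphism.left hg
    let v : Z.left ⟶ Spec (CommRingCat.of (D i j)) := (hpb i j).lift gi.left gj.left hgl
    have hv1 : v ≫ Spec.map (CommRingCat.ofHom (p i j).hom.toRingHom) = gi.left :=
      (hpb i j).lift_fst _ _ _
    have hv2 : v ≫ Spec.map (CommRingCat.ofHom (q i j).hom.toRingHom) = gj.left :=
      (hpb i j).lift_snd _ _ _
    obtain ⟨v', hv', e1⟩ := over_lift ((Adeq.specOver a).map (p i j).op) gi v hv1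
    have e2 : v' ≫ (Adeq.specOver a).map (q i j).op = gj := by
      apply Over.OverMorphism.ext
      refine Eq.trans ?_ hv2
      change v'.left ≫ Spec.map (CommRingCat.ofHom (q i j).hom.toRingHom) = _
      rw [hv']
      rfl
    change M.val.presheaf.map gi.op (y i) = M.val.presheaf.map gj.op (y j)
    rw [← e1, ← e2]
    refine (sheaf_map_map_apply M.val.presheaf v' ((Adeq.specOver a).map (p i j).op) (y i)).symm.trans
      (Eq.trans ?_ (sheaf_map_map_apply M.val.presheaf v' ((Adeq.specOver a).map (q i j).op) (y j)))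
    exact congrArg (fun t => M.val.presheaf.map v'.op t) (hy i j)
  obtain ⟨t, ht, -⟩ := hs _ hcompat
  exact ⟨t, ht⟩

end

end Groth.Agent.Lib.Helper44
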