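import Groth.Agent.Lib.Helper44.AdeqDescent2
import Mathlib

set_option autoImplicit false
universe u
open CategoryTheory CategoryTheory.Limits Opposite TensorProduct AlgebraicGeometry

namespace Groth.Agent.Lib.Helper44

section
variable {A : Type u} [CommRing A]

/-- the ring map underlying a map of algebras, bundled -/
noncomputable abbrev algRingHom {B C : Adeq.Alg A} (f : B ⟶ C) :
    CommRingCat.of B ⟶ CommRingCat.of C := CommRingCat.ofHom f.hom.toRingHom

theorem algRingHom_comp {B C D : Adeq.Alg A} (f : B ⟶ C) (g : C ⟶ D) :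
    algRingHom (f ≫ g) = algRingHom f ≫ algRingHom g := rfl

end

section
variable (A A' : Type u) [CommRing A] [CommRing A'] [Algebra A A']

theorem isPullback_unit (B : Adeq.Alg A) :
    IsPullback (Spec.map (algRingHom (Adeq.Alg.unit A A' B)))
      (Spec.map (CommRingCat.ofHom
        (Algebra.TensorProduct.includeLeftRingHom : A' →+* A' ⊗[A] (B : Type u))))
      (Spec.map (CommRingCat.ofHom (algebraMap A B)))
      (Spec.map (CommRingCat.ofHom (algebraMap A A'))) :=
  (isPullback_SpecMap_of_isPushout _ _ _ _ (CommRingCat.isPushout_tensorProduct A A' B)).flip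

theorem isPushout_unit_map {B C : Adeq.Alg A} (f : B ⟶ C) :
    IsPushout (algRingHom f) (algRingHom (Adeq.Alg.unit A A' B))
      (algRingHom (Adeq.Alg.unit A A' C)) (algRingHom ((algT A A').map f)) := by
  have s := (CommRingCat.isPushout_tensorProduct A A' C).flip
  have t := (CommRingCat.isPushout_tensorProduct A A' B).flip
  have e1 : CommRingCat.ofHom (algebraMap A C) =
      CommRingCat.ofHom (algebraMap A B) ≫ algRingHom f := by
    ext x
    exact (f.hom.commutes x).symm
  have e2 : (CommRingCat.ofHom
      (Algebra.TensorProduct.includeLeftRingHom : A' →+* A' ⊗[A] (C : Type u))) =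
      CommRingCat.ofHom
        (Algebra.TensorProduct.includeLeftRingHom : A' →+* A' ⊗[A] (B : Type u)) ≫
        algRingHom ((algT A A').map f) := by
    ext x
    change x ⊗ₜ[A] (1 : C) = Algebra.TensorProduct.map (AlgHom.id A' A') f.hom (x ⊗ₜ[A] (1 : B))
    rw [Algebra.TensorProduct.map_tmul, map_one]
    rfl
  rw [e1, e2] at s
  refine IsPushout.of_left s ?_ t
  rw [← algRingHom_comp, ← algRingHom_comp, algUnit_naturality]

theorem isPullback_unit_unit (A₁ A₂ : Type u) [CommRing A₁] [CommRing A₂] [Algebra A A₁]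
    [Algebra A A₂] (B : Adeq.Alg A) :
    IsPullback (Spec.map (algRingHom ((algT A A₁).map (Adeq.Alg.unit A A₂ B))))
      (Spec.map (algRingHom (Adeq.Alg.unit A A₁ ((algT A A₂).obj B))))
      (Spec.map (algRingHom (Adeq.Alg.unit A A₁ B)))
      (Spec.map (algRingHom (Adeq.Alg.unit A A₂ B))) :=
  (isPullback_SpecMap_of_isPushout _ _ _ _
    (isPushout_unit_map A A₁ (Adeq.Alg.unit A A₂ B))).flip

end

end Groth.Agent.Lib.Helper44
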