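import Groth.Agent.Lib.Helper44.AdeqFamily
import Groth.Agent.Lib.Helper44.BigAdeqGlue
import Groth.Agent.Lib.Helper44.BigAdeqPushout
import Mathlib

/-!
# Adequate modules on the big site: `F_{M,R}` is adequate for every affine object
-/

set_option autoImplicit false
universe u
open CategoryTheory CategoryTheory.Limits Opposite TensorProduct AlgebraicGeometry

namespace Groth.Agent.Lib.Helper44

theorem exists_affine_refinement (P : MorphismProperty Scheme.{u}) [P.RespectsLeft @IsOpenImmersion]
    [(Scheme.precoverage P).IsStableUnderBaseChange]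
    (hqc : Scheme.precoverage P ≤ Scheme.qcPrecoverage)
    {S : Scheme.{u}} (ι : Type u) (Ri : ι → CommRingCat.{u}) (ai : ∀ i, Spec (Ri i) ⟶ S)
    (hcov : Presieve.ofArrows (fun i => Spec (Ri i)) ai ∈ (Scheme.precoverage P).coverings S)
    (R : CommRingCat.{u}) (a : Spec R ⟶ S) :
    ∃ (J : Type u) (_ : Finite J) (R' : J → CommRingCat.{u}) (g : ∀ j, R ⟶ R' j) (s : J → ι)
      (h : ∀ j, Ri (s j) ⟶ R' j),
      (∀ j, Spec.map (h j) ≫ ai (s j) = Spec.map (g j) ≫ a) ∧
      Presieve.ofArrows (fun j => Spec (R' j)) (fun j => Spec.map (g j)) ∈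
        (Scheme.precoverage P).coverings (Spec R) := by
  let 𝒰 : S.Cover (Scheme.precoverage P) := ⟨⟨ι, fun i => Spec (Ri i), ai⟩, hcov⟩
  let 𝒱 : (Spec R).Cover (Scheme.precoverage P) := 𝒰.pullback₁ a
  have : QuasiCompactCover 𝒱.toPreZeroHypercover :=
    Scheme.presieve₀_mem_qcPrecoverage_iff.1 (hqc _ 𝒱.mem₀)
  obtain ⟨𝒲, φ, hfin, -⟩ := QuasiCompactCover.exists_hom.{u} 𝒱
  refine ⟨𝒲.I₀, hfin, 𝒲.X, fun j => Spec.preimage (𝒲.f j), fun j => φ.s₀ j,
    fun j => Spec.preimage (φ.h₀ j ≫ pullback.snd a (ai (φ.s₀ j))), ?_, ?_⟩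
  · intro j
    rw [Spec.map_preimage, Spec.map_preimage]
    have h1 : φ.h₀ j ≫ pullback.fst a (ai (φ.s₀ j)) = 𝒲.f j := φ.w₀ j
    exact (Category.assoc _ _ _).trans ((congrArg (φ.h₀ j ≫ ·) pullback.condition.symm).trans
      ((Category.assoc _ _ _).symm.trans (congrArg (· ≫ a) h1)))
  · have h := 𝒲.cover.mem₀
    have e : (fun j => Spec.map (Spec.preimage (𝒲.f j))) = 𝒲.f := by
      funext j
      exact Spec.map_preimage _
    rw [e]
    exact h

section
variable (K : Precoverage Scheme.{u}) [BigSite.OSh K] [K.IsStableUnderBaseChange] {S : Scheme.{u}}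
variable {R : CommRingCat.{u}} (a : Spec R ⟶ S) (M : BigSite.Mod K S)

/-- descent of adequacy of `F_{M,R}` along a finite covering family of `Spec R` by affines -/
theorem adequate_toMVF_of_cover {J : Type u} [Finite J] (R' : J → CommRingCat.{u})
    (g : ∀ j, R ⟶ R' j)
    (hcov : Presieve.ofArrows (fun j => Spec (R' j)) (fun j => Spec.map (g j)) ∈
      K.coverings (Spec R))
    (hadq : ∀ j, Adeq.adequate (R' j) ((Adeq.toMVF K (Spec.map (g j) ≫ a)).obj M)) :
    Adeq.adequate R ((Adeq.toMVF K a).obj M) := by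
  let _ : ∀ j, Algebra R (R' j) := fun j => (g j).hom.toAlgebra
  have hg : ∀ j, CommRingCat.ofHom (algebraMap R (R' j)) = g j := fun j => rfl
  have h₁ : ∀ j, Adeq.adequate (R' j) ((Adeq.restr R (R' j)).obj ((Adeq.toMVF K a).obj M)) := by
    intro j
    exact (adequate_restr_toMVF_iff K (R₂ := R' j) a M).2 (hadq j)
  have hcovB : ∀ B : Adeq.Alg R,
      Presieve.ofArrows (fun j => Spec (CommRingCat.of ((algT R (R' j)).obj B)))
        (fun j => Spec.map (algRingHom (Adeq.Alg.unit R (R' j) B))) ∈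
        K.coverings (Spec (CommRingCat.of B)) := by
    intro B
    refine Precoverage.mem_coverings_of_isPullback (fun j => Spec.map (g j)) hcov
      (Spec.map (CommRingCat.ofHom (algebraMap R B))) _
      (fun j => Spec.map (CommRingCat.ofHom
        (Algebra.TensorProduct.includeLeftRingHom : R' j →+* R' j ⊗[R] (B : Type u)))) ?_
    intro j
    exact isPullback_unit R (R' j) B
  refine adequate_of_family R (fun j => R' j) _ h₁ ?_ ?_
  · intro B x hx
    exact toMVF_inj K a M B (fun j => (algT R (R' j)).obj B) (fun j => Adeq.Alg.unit R (R' j) B)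
      (hcovB B) x hx
  · intro B y hy
    exact toMVF_glue K a M B (fun j => (algT R (R' j)).obj B) (fun j => Adeq.Alg.unit R (R' j) B)
      (hcovB B)
      (fun k l => (algT R (R' k)).obj ((algT R (R' l)).obj B))
      (fun k l => (algT R (R' k)).map (Adeq.Alg.unit R (R' l) B))
      (fun k l => Adeq.Alg.unit R (R' k) ((algT R (R' l)).obj B))
      (fun k l => isPullback_unit_unit R (R' k) (R' l) B) y hy

end

/-- **Key lemma**: for an adequate module `M` on the big site of `S` (for a topology given by a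
class `P` of morphisms whose coverings are quasi-compact), `F_{M,R}` is adequate for every affine
object `Spec R ⟶ S`. -/
theorem adequate_toMVF_of_adequateMod (P : MorphismProperty Scheme.{u})
    [P.RespectsLeft @IsOpenImmersion] [(Scheme.precoverage P).IsStableUnderBaseChange]
    (hqc : Scheme.precoverage P ≤ Scheme.qcPrecoverage) [BigSite.OSh (Scheme.precoverage P)]
    (S : Scheme.{u}) (M : BigSite.Mod (Scheme.precoverage P) S)
    (hM : Adeq.adequateMod (Scheme.precoverage P) S M) (R : CommRingCat.{u}) (a : Spec R ⟶ S) :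
    Adeq.adequate R ((Adeq.toMVF (Scheme.precoverage P) a).obj M) := by
  obtain ⟨ι, Ri, ai, hcov, hadq⟩ := hM
  obtain ⟨J, hJ, R', g, s, h, hcomm, hcov'⟩ := exists_affine_refinement P hqc ι Ri ai hcov R a
  refine adequate_toMVF_of_cover _ a M R' g hcov' (fun j => ?_)
  rw [← hcomm j]
  let _ : Algebra (Ri (s j)) (R' j) := (h j).hom.toAlgebra
  exact adequate_toMVF_compSpec _ (R₂ := R' j) (ai (s j)) M (hadq (s j))

set_option backward.isDefEq.respectTransparency.types false in
/-- the fppf case -/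
theorem adequate_toMVF_fppf (S : Scheme.{u}) (M : BigSite.Mod Scheme.fppfPrecoverage S)
    (hM : Adeq.adequateMod Scheme.fppfPrecoverage S M) (R : CommRingCat.{u}) (a : Spec R ⟶ S) :
    Adeq.adequate R ((Adeq.toMVF Scheme.fppfPrecoverage a).obj M) :=
  @adequate_toMVF_of_adequateMod (@Flat ⊓ @LocallyOfFinitePresentation) inferInstance
    (inferInstanceAs (Scheme.fppfPrecoverage.IsStableUnderBaseChange))
    (le_trans Scheme.fppfPrecoverage_le_fpqcPrecoverage inf_le_left)
    (inferInstanceAs (BigSite.OSh Scheme.fppfPrecoverage)) S M hM R a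

/-- the Zariski case -/
theorem adequate_toMVF_zariski (S : Scheme.{u}) (M : BigSite.Mod Scheme.zariskiPrecoverage S)
    (hM : Adeq.adequateMod Scheme.zariskiPrecoverage S M) (R : CommRingCat.{u}) (a : Spec R ⟶ S) :
    Adeq.adequate R ((Adeq.toMVF Scheme.zariskiPrecoverage a).obj M) :=
  adequate_toMVF_of_adequateMod @IsOpenImmersion Scheme.zariskiPrecoverage_le_qcPrecoverage S M hM R a

end Groth.Agent.Lib.Helper44
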