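import Groth.Agent.Lib.Helper44.SigmaOver
import Groth.Agent.Lib.Helper44.AdeqFFDescent
import Groth.Agent.Lib.Helper44.BigAdeqMain
import Mathlib

set_option autoImplicit false
universe u
open CategoryTheory CategoryTheory.Limits Opposite TensorProduct AlgebraicGeometry

namespace Groth.Agent.Lib.Helper44

section
variable (K : Precoverage Scheme.{u}) [BigSite.OSh K] {S : Scheme.{u}} (M : BigSite.Mod K S)

/-- the underlying presheaf of types of a big-site module -/
noncomputable abbrev modType : (Over S)ᵒᵖ ⥤ Type (u + 1) := M.val.presheaf ⋙ forget Ab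

theorem yoneda_isSheafFor_singleton_SpecMap {R R' : CommRingCat.{u}} (f : R ⟶ R')
    (hf : Flat (Spec.map f)) (hs : Surjective (Spec.map f)) :
    Presieve.IsSheafFor (yoneda.obj S) (Presieve.singleton (Spec.map f)) := by
  exact (GrothendieckTopology.Subcanonical.isSheaf_of_isRepresentable
    (J := Scheme.fpqcTopology) (yoneda.obj S)).isSheafFor _
    (Precoverage.generate_mem_toGrothendieck (Spec.map f).singleton_mem_fpqcPrecoverage)

theorem toMVF_map_eq_sres {R : CommRingCat.{u}} (g : Spec R ⟶ S) {B C : Adeq.Alg R} (φ : B ⟶ C)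
    (x : ((Adeq.toMVF K g).obj M).obj (Adeq.pt B)) :
    ((Adeq.toMVF K g).obj M).map (Adeq.ptHom φ) x =
      sres (modType K M) (Spec.map (CommRingCat.ofHom φ.hom.toRingHom))
        (Over.w ((Adeq.specOver g).map φ.op))
        (show (modType K M).obj (op (Over.mk
          (Spec.map (CommRingCat.ofHom (algebraMap R B)) ≫ g))) from x) := rfl

theorem sigmaPsh_isSheafFor_singleton
    (hadq : ∀ (R : CommRingCat.{u}) (a : Spec R ⟶ S), Adeq.adequate R ((Adeq.toMVF K a).obj M))
    {R R' : CommRingCat.{u}} (f : R ⟶ R') (hf : Flat (Spec.map f))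
    (hs : Surjective (Spec.map f)) :
    Presieve.IsSheafFor (sigmaPsh (modType K M)) (Presieve.singleton (Spec.map f)) := by
  rw [Presieve.isSheafFor_singleton]
  rintro ⟨g', y⟩ hcompat
  obtain ⟨g, hg, hguniq⟩ :=
    (Presieve.isSheafFor_singleton.1 (yoneda_isSheafFor_singleton_SpecMap (S := S) f hf hs)) g'
      (fun p₁ p₂ hp => congrArg Sigma.fst (hcompat p₁ p₂ hp))
  have hg' : Spec.map f ≫ g = g' := hg
  subst hg'
  let _ : Algebra R R' := f.hom.toAlgebra
  have hff : Module.FaithfullyFlat R R' := (flat_and_surjective_SpecMap_iff f).1 ⟨hf, hs⟩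
  obtain ⟨hinj, hex⟩ := adequate_ff_descent R R' ((Adeq.toMVF K g).obj M) (hadq R g)
  -- the two projections
  let ι₁ : Adeq.algOf R R' ⟶ Adeq.algOf R (R' ⊗[R] R') :=
    CommAlgCat.ofHom (Algebra.TensorProduct.includeLeft : R' →ₐ[R] R' ⊗[R] R')
  let ι₂ : Adeq.algOf R R' ⟶ Adeq.algOf R (R' ⊗[R] R') :=
    CommAlgCat.ofHom (Algebra.TensorProduct.includeRight : R' →ₐ[R] R' ⊗[R] R')
  let p₁ : Spec (CommRingCat.of (R' ⊗[R] R')) ⟶ Spec R' :=
    Spec.map (CommRingCat.ofHom ι₁.hom.toRingHom)
  let p₂ : Spec (CommRingCat.of (R' ⊗[R] R')) ⟶ Spec R' :=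
    Spec.map (CommRingCat.ofHom ι₂.hom.toRingHom)
  have hp : p₁ ≫ Spec.map f = p₂ ≫ Spec.map f := by
    have e : f ≫ CommRingCat.ofHom ι₁.hom.toRingHom = f ≫ CommRingCat.ofHom ι₂.hom.toRingHom := by
      apply CommRingCat.hom_ext
      apply RingHom.ext
      intro r
      exact (ι₁.hom.commutes r).trans (ι₂.hom.commutes r).symm
    exact (Spec.map_comp _ _).symm.trans ((congrArg Spec.map e).trans (Spec.map_comp _ _))
  have hc := hcompat p₁ p₂ hp
  have hc2 := sig_snd_eq (modType K M) hc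
    (g' := Spec.map (CommRingCat.ofHom (algebraMap R (R' ⊗[R] R'))) ≫ g)
    ((Category.id_comp _).trans (Over.w ((Adeq.specOver g).map ι₁.op)))
    ((Category.id_comp _).trans (Over.w ((Adeq.specOver g).map ι₂.op)))
  let y' : ((Adeq.toMVF K g).obj M).obj (Adeq.pt (Adeq.algOf R R')) := y
  have hy : ((Adeq.toMVF K g).obj M).map (Adeq.ptHom ι₁) y' =
      ((Adeq.toMVF K g).obj M).map (Adeq.ptHom ι₂) y' := by
    refine (toMVF_map_eq_sres K M g ι₁ y').trans
      (Eq.trans ?_ (toMVF_map_eq_sres K M g ι₂ y').symm)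
    have h1 : sres (modType K M) (𝟙 _)
        ((Category.id_comp _).trans (Over.w ((Adeq.specOver g).map ι₁.op)))
        (sres (modType K M) p₁ rfl y) =
        sres (modType K M) p₁ (Over.w ((Adeq.specOver g).map ι₁.op)) y :=
      (sres_sres' (modType K M) _ _ _ _ _).trans (sres_congr (modType K M) (Category.id_comp _) _ _ _)
    have h2 : sres (modType K M) (𝟙 _)
        ((Category.id_comp _).trans (Over.w ((Adeq.specOver g).map ι₂.op)))
        (sres (modType K M) p₂ rfl y) =
        sres (modType K M) p₂ (Over.w ((Adeq.specOver g).map ι₂.op)) y :=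
      (sres_sres' (modType K M) _ _ _ _ _).trans (sres_congr (modType K M) (Category.id_comp _) _ _ _)
    exact h1.symm.trans (hc2.trans h2)
  obtain ⟨t, ht⟩ := hex y' hy
  let ι₀ : Adeq.algOf R R ⟶ Adeq.algOf R R' := CommAlgCat.ofHom (Algebra.ofId R R')
  have hid : Spec.map (CommRingCat.ofHom (algebraMap R R)) = 𝟙 (Spec R) := Spec.map_id R
  have e₀ : 𝟙 (Spec R) ≫ Spec.map (CommRingCat.ofHom (algebraMap R R)) ≫ g = g := by
    rw [hid]
    exact (Category.id_comp _).trans (Category.id_comp _)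
  have hι₀ : Spec.map (CommRingCat.ofHom ι₀.hom.toRingHom) = Spec.map f := rfl
  refine ⟨⟨g, sres (modType K M) (𝟙 (Spec R)) e₀ t⟩, ?_, ?_⟩
  · change (⟨Spec.map f ≫ g, sres (modType K M) (Spec.map f) rfl
      (sres (modType K M) (𝟙 (Spec R)) e₀ t)⟩ :
        Σ g : Spec R' ⟶ S, (modType K M).obj (op (Over.mk g))) = ⟨Spec.map f ≫ g, y⟩
    refine congrArg (Sigma.mk (Spec.map f ≫ g)) ?_
    refine (sres_sres' (modType K M) _ _ _ _ _).trans ?_
    refine Eq.trans ?_ ((toMVF_map_eq_sres K M g ι₀ t).symm.trans ht)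
    exact sres_congr (modType K M) ((Category.comp_id _).trans hι₀.symm) _ _ _
  · rintro ⟨g₂, t₂⟩ h2
    obtain ⟨e, he⟩ := sig_inj (modType K M) h2
    have hg2 : g₂ = g := hguniq g₂ e
    subst hg2
    refine congrArg (Sigma.mk g₂) ?_
    have e₀' : 𝟙 (Spec R) ≫ g₂ = Spec.map (CommRingCat.ofHom (algebraMap R R)) ≫ g₂ := by
      rw [hid]
    let t₂' : ((Adeq.toMVF K g₂).obj M).obj (Adeq.pt (Adeq.algOf R R)) :=
      sres (modType K M) (𝟙 (Spec R)) e₀' t₂
    have h3 : ((Adeq.toMVF K g₂).obj M).map (Adeq.ptHom ι₀) t₂' = y' := by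
      refine (toMVF_map_eq_sres K M g₂ ι₀ t₂').trans ?_
      refine (sres_sres' (modType K M) _ _ _ _ _).trans ?_
      refine Eq.trans ?_ he
      refine Eq.trans ?_ (sres_sres' (modType K M) _ _ _ _ _).symm
      exact sres_congr (modType K M)
        ((congrArg (· ≫ 𝟙 (Spec R)) hι₀).trans
          ((Category.comp_id _).trans (Category.id_comp _).symm)) _ _ _
    have h4 : t₂' = t := hinj (h3.trans ht.symm)
    rw [← h4]
    refine Eq.trans ?_ (sres_sres' (modType K M) _ _ _ _ _).symm
    exact (sres_id (modType K M) (Category.id_comp _) t₂).symm.trans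
      (sres_congr (modType K M) (Category.id_comp _).symm _ _ _)

set_option backward.isDefEq.respectTransparency.types false in
/-- an `O`-module all of whose affine restrictions are adequate satisfies the fpqc sheaf property -/
theorem isSheaf_fpqc_of_adequate_affine (hK : Scheme.zariskiPrecoverage ≤ K)
    (hadq : ∀ (R : CommRingCat.{u}) (a : Spec R ⟶ S), Adeq.adequate R ((Adeq.toMVF K a).obj M)) :
    Presheaf.IsSheaf (QuotSh.J Scheme.fpqcPrecoverage S) ((BigSite.toAbMod K S).obj M).obj := by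
  rw [Presheaf.isSheaf_iff_isSheaf_forget _ _ (forget Ab), isSheaf_iff_isSheaf_of_type]
  change Presieve.IsSheaf (Scheme.fpqcTopology.over S) (modType K M)
  refine isSheaf_of_sigmaPsh (modType K M) Scheme.fpqcTopology ?_ ?_
  · exact (GrothendieckTopology.Subcanonical.isSheaf_of_isRepresentable
      (J := Scheme.fpqcTopology) (yoneda.obj S)).isSeparated
  · rw [Scheme.fpqcTopology_eq_propQCTopology, isSheaf_type_propQCTopology_iff]
    refine ⟨?_, fun f hf hs => sigmaPsh_isSheafFor_singleton K M hadq f hf hs⟩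
    refine isSheaf_sigmaPsh (modType K M) Scheme.zariskiTopology
      (GrothendieckTopology.Subcanonical.isSheaf_of_isRepresentable (yoneda.obj S)) ?_
    have hM : Presieve.IsSheaf (QuotSh.J K S) (modType K M) := mod_isSheaf_type K M
    exact Presieve.isSheaf_of_le _ (BigSite.J_mono hK S) hM

end

theorem isSheaf_fpqc_of_adequateMod_zariski (S : Scheme.{u})
    (M : BigSite.Mod Scheme.zariskiPrecoverage S)
    (hM : Adeq.adequateMod Scheme.zariskiPrecoverage S M) :
    Presheaf.IsSheaf (QuotSh.J Scheme.fpqcPrecoverage S)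
      ((BigSite.toAbMod Scheme.zariskiPrecoverage S).obj M).obj :=
  isSheaf_fpqc_of_adequate_affine Scheme.zariskiPrecoverage M le_rfl
    (fun R a => adequate_toMVF_zariski S M hM R a)

theorem isSheaf_fpqc_of_adequateMod_fppf (S : Scheme.{u})
    (M : BigSite.Mod Scheme.fppfPrecoverage S)
    (hM : Adeq.adequateMod Scheme.fppfPrecoverage S M) :
    Presheaf.IsSheaf (QuotSh.J Scheme.fpqcPrecoverage S)
      ((BigSite.toAbMod Scheme.fppfPrecoverage S).obj M).obj :=
  isSheaf_fpqc_of_adequate_affine Scheme.fppfPrecoverage M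
    Scheme.zariskiPrecoverage_le_fppfPrecoverage
    (fun R a => adequate_toMVF_fppf S M hM R a)

end Groth.Agent.Lib.Helper44
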