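import Groth.Agent.Lib.Helper44.BigAdeqParasitic
import Groth.Agent.Lib.Helper44.AdeqProd
import Mathlib

set_option autoImplicit false
universe u
open CategoryTheory CategoryTheory.Limits Opposite TensorProduct AlgebraicGeometry

namespace Groth.Agent.Lib.Helper44

set_option backward.isDefEq.respectTransparency.types false in
/-- a covering sieve of an affine scheme for the fppf topology contains a finite fppf covering
family by affine schemes -/
theorem exists_finite_affine_in_sieve (B : CommRingCat.{u}) (T₀ : Sieve (Spec B))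
    (hT₀ : T₀ ∈ Scheme.fppfPrecoverage.toGrothendieck (Spec B)) :
    ∃ (J : Type u) (_ : Finite J) (B' : J → CommRingCat.{u}) (g : ∀ j, B ⟶ B' j),
      (∀ j, T₀ (Spec.map (g j))) ∧
      Presieve.ofArrows (fun j => Spec (B' j)) (fun j => Spec.map (g j)) ∈
        Scheme.fppfPrecoverage.coverings (Spec B) := by
  obtain ⟨R', hR', hle⟩ :=
    (Precoverage.mem_toGrothendieck_iff_of_isStableUnderComposition).1 hT₀
  obtain ⟨ι, X, f, rfl⟩ := R'.exists_eq_ofArrows
  let 𝒰 : (Spec B).Cover (Scheme.precoverage (@Flat ⊓ @LocallyOfFinitePresentation)) :=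
    ⟨⟨ι, X, f⟩, hR'⟩
  have : QuasiCompactCover 𝒰.toPreZeroHypercover :=
    Scheme.presieve₀_mem_qcPrecoverage_iff.1
      ((le_trans Scheme.fppfPrecoverage_le_fpqcPrecoverage inf_le_left) _ 𝒰.mem₀)
  obtain ⟨𝒲, φ, hfin, -⟩ := QuasiCompactCover.exists_hom 𝒰
  obtain ⟨n, ⟨e⟩⟩ := Finite.exists_equiv_fin 𝒲.I₀
  obtain ⟨h1, h2⟩ := (Scheme.ofArrows_mem_precoverage_iff _).1 𝒲.cover.mem₀
  refine ⟨ULift.{u} (Fin n), inferInstance, fun j => 𝒲.X (e.symm j.down),
    fun j => Spec.preimage (𝒲.f (e.symm j.down)), ?_, ?_⟩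
  · intro j
    rw [Spec.map_preimage]
    have h3 : φ.h₀ (e.symm j.down) ≫ f (φ.s₀ (e.symm j.down)) = 𝒲.f (e.symm j.down) := φ.w₀ _
    rw [← h3]
    exact T₀.downward_closed (hle _ _ (Presieve.ofArrows.mk (φ.s₀ (e.symm j.down)))) _
  · refine (Scheme.ofArrows_mem_precoverage_iff (@Flat ⊓ @LocallyOfFinitePresentation)).2
      ⟨fun x => ?_, fun j => ?_⟩
    · obtain ⟨i, hi⟩ := h1 x
      obtain ⟨k, rfl⟩ : ∃ k, e.symm k = i := ⟨e i, e.symm_apply_apply i⟩
      refine ⟨⟨k⟩, ?_⟩
      rw [Spec.map_preimage]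
      exact hi
    · rw [Spec.map_preimage]
      exact h2 _

theorem faithfullyFlat_pi {B : Type u} [CommRing B] {J : Type u} [Finite J] (C : J → Type u)
    [∀ j, CommRing (C j)] [∀ j, Algebra B (C j)] [∀ j, Module.Flat B (C j)]
    (hsurj : ∀ p : PrimeSpectrum B, ∃ (j : J) (q : PrimeSpectrum (C j)),
      PrimeSpectrum.comap (algebraMap B (C j)) q = p) :
    Module.FaithfullyFlat B (∀ j, C j) := by
  classical
  have := Fintype.ofFinite J
  have hflat : Module.Flat B (∀ j, C j) :=
    Module.Flat.of_linearEquiv (DFinsupp.linearEquivFunOnFintype (R := B) (M := C)).symm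
  apply Module.FaithfullyFlat.of_comap_surjective
  intro p
  obtain ⟨j, q, hq⟩ := hsurj p
  refine ⟨PrimeSpectrum.comap (Pi.evalRingHom C j) q, ?_⟩
  rw [← hq]
  rfl

/-- a finite fppf covering family of an affine scheme by affines gives a faithfully flat map to the
product ring -/
theorem faithfullyFlat_pi_of_cover {B : CommRingCat.{u}} {J : Type u} [Finite J]
    (B' : J → CommRingCat.{u}) (g : ∀ j, B ⟶ B' j)
    (hcov : Presieve.ofArrows (fun j => Spec (B' j)) (fun j => Spec.map (g j)) ∈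
      Scheme.fppfPrecoverage.coverings (Spec B)) :
    @Module.FaithfullyFlat B (∀ j, B' j) _ _
      (@Pi.module J (fun j => B' j) B _ _ (fun j => (g j).hom.toAlgebra.toModule)) := by
  let _ : ∀ j, Algebra B (B' j) := fun j => (g j).hom.toAlgebra
  obtain ⟨h1, h2⟩ := (Scheme.ofArrows_mem_precoverage_iff _).1 hcov
  have hfl : ∀ j, Module.Flat B (B' j) := by
    intro j
    have h3 : Flat (Spec.map (g j)) := (h2 j).1
    exact Flat.SpecMap_iff.1 h3
  apply faithfullyFlat_pi (fun j => B' j)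
  intro p
  obtain ⟨j, q, hq⟩ := h1 p
  exact ⟨j, q, hq⟩

/-- the projections `Spec C_j → Spec (∏ C_j)` form a covering family -/
theorem piEv_cover {A : Type u} [CommRing A] {J : Type u} [Finite J] (C : J → Adeq.Alg A) :
    Presieve.ofArrows (fun j => Spec (CommRingCat.of (C j)))
      (fun j => Spec.map (CommRingCat.ofHom (piEv C j).hom.toRingHom)) ∈
      Scheme.fppfPrecoverage.coverings (Spec (CommRingCat.of (piAlg C))) := by
  refine (Scheme.ofArrows_mem_precoverage_iff (@Flat ⊓ @LocallyOfFinitePresentation)).2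
    ⟨fun x => ?_, fun j => ?_⟩
  · obtain ⟨⟨j, q⟩, hq⟩ := (PrimeSpectrum.sigmaToPi_bijective (fun j => (C j : Type u))).2 x
    exact ⟨j, q, hq⟩
  · have : IsOpenImmersion (Spec.map (CommRingCat.ofHom (piEv C j).hom.toRingHom)) :=
      instIsOpenImmersionMapOfHomForallEvalRingHom.{u, u} j (fun j => (C j : Type u))
    exact ⟨inferInstance, inferInstance⟩

end Groth.Agent.Lib.Helper44
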