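import Groth.Agent.Lib.Helper44.BigAdeqParasitic
import Groth.Agent.Lib.Helper44.BigAdeqMain
import Groth.Agent.Lib.Helper44.AdeqFlat
import Mathlib

/-!
# Parasitic adequate modules: the equivalent conditions (fppf)
-/

set_option autoImplicit false
universe u w
open CategoryTheory CategoryTheory.Limits Opposite TensorProduct AlgebraicGeometry

namespace Groth.Agent.Lib.Helper44

section
variable (K : Precoverage Scheme.{u}) [BigSite.OSh K] {S : Scheme.{u}} (M : BigSite.Mod K S)

omit [BigSite.OSh K] in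
theorem presheaf_iso_inj {C : Type*} [Category C] (P : Cᵒᵖ ⥤ Ab.{u + 1}) {V V' : C} (e : V ≅ V')
    (x y : P.obj (op V')) (h : P.map e.hom.op x = P.map e.hom.op y) : x = y := by
  have hx : P.map e.inv.op (P.map e.hom.op x) = x := by
    refine (sheaf_map_map_apply P e.inv e.hom x).trans ?_
    rw [e.inv_hom_id]
    exact sheaf_map_id_apply P _ x
  have hy : P.map e.inv.op (P.map e.hom.op y) = y := by
    refine (sheaf_map_map_apply P e.inv e.hom y).trans ?_
    rw [e.inv_hom_id]
    exact sheaf_map_id_apply P _ y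
  rw [← hx, ← hy, h]

/-- vanishing of sections is invariant under isomorphism of objects of the big site -/
theorem sect_subsingleton_of_iso {V V' : Over S} (e : V ≅ V')
    (h : Subsingleton (BigSite.sectMod K M V)) : Subsingleton (BigSite.sectMod K M V') := by
  refine ⟨fun x y => ?_⟩
  exact presheaf_iso_inj M.val.presheaf e x y (h.elim (α := M.val.obj (op V)) _ _)

end
section
variable (K : Precoverage Scheme.{u}) [BigSite.OSh K] {S : Scheme.{u}} (M : BigSite.Mod K S)

/-- sections vanish if they vanish on the members of a covering -/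
theorem sect_subsingleton_of_cover (V : Over S) (R' : Presieve V.left)
    (hR' : R' ∈ K.coverings V.left)
    (h : ∀ ⦃W : Scheme.{u}⦄ (g : W ⟶ V.left), R' g →
      Subsingleton (BigSite.sectMod K M (Over.mk (g ≫ V.hom)))) :
    Subsingleton (BigSite.sectMod K M V) := by
  suffices h0 : ∀ x : M.val.obj (op V), x = 0 from ⟨fun a b => (h0 a).trans (h0 b).symm⟩
  intro x
  have hcov : (Sieve.overEquiv V).symm (Sieve.generate R') ∈ QuotSh.J K S V :=
    GrothendieckTopology.overEquiv_symm_mem_over _ V _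
      (Precoverage.generate_mem_toGrothendieck hR')
  have hsep := ((mod_isSheaf_type K M) _ hcov).isSeparatedFor
  refine hsep.ext (t₁ := x) (t₂ := (0 : M.val.obj (op V))) ?_
  intro Z g hg
  obtain ⟨W, a, h', hh, hah⟩ := (Sieve.overEquiv_symm_iff _ _).1 hg
  obtain ⟨a', ha', e⟩ := over_lift (Over.homMk h' : Over.mk (h' ≫ V.hom) ⟶ V) g a hah
  change M.val.presheaf.map g.op x = M.val.presheaf.map g.op 0
  rw [map_zero, ← e]
  refine (sheaf_map_map_apply M.val.presheaf a' (Over.homMk h' : Over.mk (h' ≫ V.hom) ⟶ V) x).symm.trans ?_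
  have h0 : M.val.presheaf.map (Over.homMk h' : Over.mk (h' ≫ V.hom) ⟶ V).op x = 0 :=
    (h h' hh).elim (α := M.val.obj (op (Over.mk (h' ≫ V.hom)))) _ _
  rw [h0, map_zero]

theorem sect_subsingleton_of_ofArrows (V : Over S) {I : Type w} (X : I → Scheme.{u})
    (f : ∀ i, X i ⟶ V.left) (hcov : Presieve.ofArrows X f ∈ K.coverings V.left)
    (h : ∀ i, Subsingleton (BigSite.sectMod K M (Over.mk (f i ≫ V.hom)))) :
    Subsingleton (BigSite.sectMod K M V) := by
  refine sect_subsingleton_of_cover K M V _ hcov ?_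
  intro W g hg
  obtain ⟨i⟩ := hg
  exact h i

end
theorem subsingleton_of_adequate_flat {A : Type u} [CommRing A] (F : Adeq.MVF A)
    (hF : Adeq.adequate A F) {B B' : Adeq.Alg A} (f : B ⟶ B') (hf : f.hom.toRingHom.Flat)
    (h0 : Subsingleton (F.obj (Adeq.pt B))) : Subsingleton (F.obj (Adeq.pt B')) := by
  have hiso := isIso_bc_of_adequate_flat F hF f hf
  have hsurj : Function.Surjective (F.bc f) :=
    ((ConcreteCategory.isIso_iff_bijective _).1 hiso).2
  suffices h : ∀ y : F.obj (Adeq.pt B'), y = 0 from ⟨fun a b => (h a).trans (h b).symm⟩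
  intro y
  obtain ⟨w, rfl⟩ := hsurj y
  have key : ∀ w : ((ModuleCat.restrictScalars f.hom.toRingHom).obj (ModuleCat.of B' B')) ⊗[B]
      (F.obj (Adeq.pt B)), w = 0 := by
    intro w
    induction w using TensorProduct.induction_on with
    | zero => rfl
    | tmul b x => rw [h0.elim x 0, TensorProduct.tmul_zero]
    | add x y hx hy => rw [hx, hy, add_zero]
  have hw : w = 0 := key w
  rw [hw, map_zero]


theorem sect_subsingleton_of_flat_over_affineOpen (S : Scheme.{u})
    (M : BigSite.Mod Scheme.fppfPrecoverage S)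
    (hM : Adeq.adequateMod Scheme.fppfPrecoverage S M) (U : S.Opens) (hU : IsAffineOpen U)
    (h0 : Subsingleton (BigSite.sectMod Scheme.fppfPrecoverage M ((BigSite.zarIncl S).obj U)))
    (B : CommRingCat.{u}) (c : Spec B ⟶ (U : Scheme.{u})) [Flat c] :
    Subsingleton (BigSite.sectMod Scheme.fppfPrecoverage M (Over.mk (c ≫ U.ι))) := by
  let R : CommRingCat.{u} := Γ(S, U)
  let a : Spec R ⟶ S := hU.fromSpec
  have hF := adequate_toMVF_fppf S M hM R a
  let φ : R ⟶ B := Spec.preimage (c ≫ hU.isoSpec.hom)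
  have hφ : Spec.map φ = c ≫ hU.isoSpec.hom := Spec.map_preimage _
  have hφflat : φ.hom.Flat := by
    rw [← Flat.SpecMap_iff, hφ]
    infer_instance
  let _ : Algebra R B := φ.hom.toAlgebra
  let B₀ : Adeq.Alg R := CommAlgCat.of R R
  let B' : Adeq.Alg R := CommAlgCat.of R B
  let f : B₀ ⟶ B' := CommAlgCat.ofHom (Algebra.ofId R B)
  have hf : f.hom.toRingHom.Flat := hφflat
  have e0 : (BigSite.zarIncl S).obj U ≅ (Adeq.specOver a).obj (op B₀) := by
    refine Over.isoMk hU.isoSpec ?_
    change hU.isoSpec.hom ≫ Spec.map (CommRingCat.ofHom (algebraMap R R)) ≫ hU.fromSpec = U.ι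
    have h1 : Spec.map (CommRingCat.ofHom (algebraMap R R)) = 𝟙 _ := Spec.map_id R
    rw [h1]
    have h2 : 𝟙 (Spec R) ≫ hU.fromSpec = hU.fromSpec := Category.id_comp _
    exact (congrArg (hU.isoSpec.hom ≫ ·) h2).trans hU.isoSpec_hom_fromSpec
  have h1 : Subsingleton (((Adeq.toMVF Scheme.fppfPrecoverage a).obj M).obj (Adeq.pt B₀)) :=
    sect_subsingleton_of_iso Scheme.fppfPrecoverage M e0 h0
  have h2 := subsingleton_of_adequate_flat _ hF f hf h1
  have e : c ≫ U.ι = Spec.map φ ≫ a := by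
    rw [hφ, Category.assoc]
    exact congrArg (c ≫ ·) hU.isoSpec_hom_fromSpec.symm
  rw [e]
  exact h2

theorem parasitic_of_affine_cover (S : Scheme.{u}) (M : BigSite.Mod Scheme.fppfPrecoverage S)
    (hM : Adeq.adequateMod Scheme.fppfPrecoverage S M) (ι : Type u) (U : ι → S.Opens)
    (hU : ∀ i, IsAffineOpen (U i)) (hcov : (⨆ i, U i) = ⊤)
    (h0 : ∀ i, Subsingleton
      (BigSite.sectMod Scheme.fppfPrecoverage M ((BigSite.zarIncl S).obj (U i)))) :
    Adeq.parasitic Scheme.fppfPrecoverage S M := by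
  intro V hV
  let 𝒰 : S.OpenCover := S.openCoverOfIsOpenCover U hcov
  let 𝒱 : V.left.OpenCover := 𝒰.pullback₁ V.hom
  let 𝒲 := 𝒱.affineRefinement
  refine sect_subsingleton_of_ofArrows Scheme.fppfPrecoverage M V (fun j => Spec (𝒲.X j)) 𝒲.f
    (Scheme.zariskiPrecoverage_le_fppfPrecoverage _ 𝒲.openCover.mem₀) ?_
  rintro ⟨i, k⟩
  have hw : 𝒲.f ⟨i, k⟩ ≫ V.hom =
      ((𝒱.X i).affineCover.f k ≫ pullback.snd V.hom (U i).ι) ≫ (U i).ι := by
    change ((𝒱.X i).affineCover.f k ≫ pullback.fst V.hom (U i).ι) ≫ V.hom = _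
    exact (Category.assoc _ _ _).trans ((congrArg ((𝒱.X i).affineCover.f k ≫ ·)
      pullback.condition).trans (Category.assoc _ _ _).symm)
  rw [hw]
  have : Flat V.hom := hV
  have h1 : IsOpenImmersion ((𝒱.X i).affineCover.f k) := inferInstance
  have h1' : Flat ((𝒱.X i).affineCover.f k) := inferInstance
  have h2 : Flat (pullback.snd V.hom (U i).ι) := inferInstance
  have : Flat ((𝒱.X i).affineCover.f k ≫ pullback.snd V.hom (U i).ι) :=
    Flat.comp (hf := h1') (hg := h2) _ _
  exact @sect_subsingleton_of_flat_over_affineOpen S M hM (U i) (hU i) (h0 i) _ _ this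


theorem parasitic_tfae_fppf (S : Scheme.{u}) (M : BigSite.Mod Scheme.fppfPrecoverage S)
    (hM : Adeq.adequateMod Scheme.fppfPrecoverage S M) :
    List.TFAE [Adeq.parasitic Scheme.fppfPrecoverage S M, Adeq.parasiticFor Scheme.fppfPrecoverage S M,
      ∀ U : S.Opens, Subsingleton (BigSite.sectMod Scheme.fppfPrecoverage M ((BigSite.zarIncl S).obj U)),
      ∃ (ι : Type u) (U : ι → S.Opens), (∀ i, IsAffineOpen (U i)) ∧ (⨆ i, U i) = ⊤ ∧
        ∀ i, Subsingleton (BigSite.sectMod Scheme.fppfPrecoverage M ((BigSite.zarIncl S).obj (U i)))] := by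
  tfae_have 1 → 2 := by
    intro h P hP V g hg
    exact h (Over.mk g) (show Flat g from (hP.2 hg).1)
  tfae_have 2 → 3 := by
    intro h U
    let W : Bool → S.Opens := fun b => cond b U ⊤
    have hW : TopologicalSpace.IsOpenCover W := top_le_iff.1 (le_iSup W false)
    let 𝒰 : S.OpenCover := S.openCoverOfIsOpenCover W hW
    exact h (Scheme.zariskiPrecoverage_le_fppfPrecoverage _ 𝒰.mem₀) (𝒰.f true)
      (Presieve.ofArrows.mk true)
  tfae_have 3 → 4 := by
    intro h
    exact ⟨S.affineOpens, fun i => i.1, fun i => i.2, iSup_affineOpens_eq_top S, fun i => h i.1⟩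
  tfae_have 4 → 1 := by
    rintro ⟨ι, U, hU, hcov, h0⟩
    exact parasitic_of_affine_cover S M hM ι U hU hcov h0
  tfae_finish

end Groth.Agent.Lib.Helper44
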