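import Groth.Agent.Lib.Helper44.SheafModEpi
import Groth.Agent.Lib.Helper44.BigAdeqFpqc
import Groth.Agent.Lib.Helper44.BigAdeqRefine
import Groth.Agent.Lib.Helper44.AdeqFamilyDescent
import Groth.Agent.Lib.Helper44.BigAdeqTFAE
import Mathlib

set_option autoImplicit false
universe u
open CategoryTheory CategoryTheory.Limits Opposite TensorProduct AlgebraicGeometry

namespace Groth.Agent.Lib.Helper44

section
variable (K : Precoverage Scheme.{u}) [BigSite.OSh K] {S : Scheme.{u}}
variable (P : PresheafOfModules.{u + 1} (BigSite.ORing K S).obj)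

/-- the sheafification of a presheaf of modules on the big site -/
noncomputable abbrev shfMod : BigSite.Mod K S :=
  (PresheafOfModules.sheafification (𝟙 (BigSite.ORing K S).obj)).obj P

/-- the unit `P ⟶ P^#` as a morphism of presheaves of modules -/
noncomputable def shfUnit : P ⟶ (shfMod K P).val :=
  (PresheafOfModules.sheafificationAdjunction (𝟙 (BigSite.ORing K S).obj)).unit.app P

theorem shfUnit_toPresheaf :
    (PresheafOfModules.toPresheaf _).map (shfUnit K P) =
      CategoryTheory.toSheafify (QuotSh.J K S) P.presheaf :=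
  unit_toPresheaf P

theorem shfUnit_app_apply (V : Over S) (x : P.obj (op V)) :
    (shfUnit K P).app (op V) x =
      (CategoryTheory.toSheafify (QuotSh.J K S) P.presheaf).app (op V) x := by
  rw [← shfUnit_toPresheaf]
  rfl

theorem shfUnit_locally_injective (V : Over S) (x : P.obj (op V))
    (hx : (shfUnit K P).app (op V) x = 0) :
    ∃ T : Sieve V, T ∈ QuotSh.J K S V ∧
      ∀ ⦃W : Over S⦄ (f : W ⟶ V), T f → P.presheaf.map f.op x = 0 := by
  have h5 : (CategoryTheory.toSheafify (QuotSh.J K S) P.presheaf).app (op V) x =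
      (CategoryTheory.toSheafify (QuotSh.J K S) P.presheaf).app (op V) 0 := by
    refine (shfUnit_app_apply K P V x).symm.trans (hx.trans ?_)
    exact (map_zero _).symm
  have h6 := Presheaf.equalizerSieve_mem (QuotSh.J K S)
    (CategoryTheory.toSheafify (QuotSh.J K S) P.presheaf) x 0 h5
  refine ⟨_, h6, fun W f hf => ?_⟩
  have h7 : P.presheaf.map f.op x = P.presheaf.map f.op 0 := hf
  rw [h7, map_zero]

theorem shfUnit_locally_surjective (V : Over S) (z : (shfMod K P).val.obj (op V)) :
    ∃ T : Sieve V, T ∈ QuotSh.J K S V ∧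
      ∀ ⦃W : Over S⦄ (f : W ⟶ V), T f → ∃ t : P.obj (op W),
        (shfUnit K P).app (op W) t = (shfMod K P).val.presheaf.map f.op z := by
  have h6 := Presheaf.imageSieve_mem (QuotSh.J K S)
    (CategoryTheory.toSheafify (QuotSh.J K S) P.presheaf) (U := op V) z
  refine ⟨_, h6, fun W f hf => ?_⟩
  obtain ⟨t, ht⟩ := hf
  exact ⟨t, (shfUnit_app_apply K P W t).trans ht⟩

end

section
variable {S : Scheme.{u}}

set_option backward.isDefEq.respectTransparency.types false in
/-- a covering sieve of an affine object contains a finite faithfully flat family of affines -/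
theorem exists_family_of_sieve {B : CommRingCat.{u}} (b : Spec B ⟶ S)
    (T : Sieve ((Adeq.specOver b).obj (op (Adeq.algOf B B))))
    (hT : T ∈ QuotSh.J Scheme.fppfPrecoverage S ((Adeq.specOver b).obj (op (Adeq.algOf B B)))) :
    ∃ (J : Type u) (_ : Finite J) (C : J → Adeq.Alg B),
      Module.FaithfullyFlat B (∀ j, (C j : Type u)) ∧
      Presieve.ofArrows (fun j => Spec (CommRingCat.of (C j)))
        (fun j => Spec.map (CommRingCat.ofHom (ofIdTo (C j)).hom.toRingHom)) ∈
          Scheme.fppfPrecoverage.coverings (Spec (CommRingCat.of (Adeq.algOf B B))) ∧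
      ∀ j, T ((Adeq.specOver b).map (ofIdTo (C j)).op) := by
  have hT₀ : Sieve.overEquiv _ T ∈ Scheme.fppfPrecoverage.toGrothendieck (Spec (CommRingCat.of B)) :=
    (GrothendieckTopology.mem_over_iff _ _).1 hT
  obtain ⟨J, hfin, B', g, hT', hcov⟩ := exists_finite_affine_in_sieve (CommRingCat.of B) _ hT₀
  let _ : ∀ j, Algebra B (B' j) := fun j => (g j).hom.toAlgebra
  have hff : Module.FaithfullyFlat B (∀ j, ((Adeq.algOf B (B' j) : Adeq.Alg B) : Type u)) :=
    faithfullyFlat_pi_of_cover B' g hcov
  have hcov' : Presieve.ofArrows (fun j => Spec (CommRingCat.of (Adeq.algOf B (B' j) : Adeq.Alg B)))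
      (fun j => Spec.map (CommRingCat.ofHom (ofIdTo (Adeq.algOf B (B' j))).hom.toRingHom)) ∈
        Scheme.fppfPrecoverage.coverings (Spec (CommRingCat.of (Adeq.algOf B B))) := hcov
  refine ⟨J, hfin, fun j => Adeq.algOf B (B' j), hff, hcov', ?_⟩
  intro j
  have h1 : T (Over.homMk (Spec.map (g j)) : Over.mk (Spec.map (g j) ≫
      ((Adeq.specOver b).obj (op (Adeq.algOf B B))).hom) ⟶
        (Adeq.specOver b).obj (op (Adeq.algOf B B))) := (Sieve.overEquiv_iff T _).1 (hT' j)
  have hv : 𝟙 (Spec (B' j)) ≫ Spec.map (g j) = Spec.map (g j) := Category.id_comp (Spec.map (g j))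
  obtain ⟨v', -, e⟩ := over_lift
    (Over.homMk (Spec.map (g j)) : Over.mk (Spec.map (g j) ≫
      ((Adeq.specOver b).obj (op (Adeq.algOf B B))).hom) ⟶ (Adeq.specOver b).obj (op (Adeq.algOf B B)))
    ((Adeq.specOver b).map (ofIdTo (Adeq.algOf B (B' j))).op) (𝟙 (Spec (B' j))) hv
  have h2 := T.downward_closed h1 v'
  rw [e] at h2
  exact h2

variable (P : PresheafOfModules.{u + 1} (BigSite.ORing Scheme.fppfPrecoverage S).obj)

/-- the comparison `F_{P,B} ⟶ F_{P^#,B}` -/
noncomputable abbrev shfTheta {B : CommRingCat.{u}} (b : Spec B ⟶ S) :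
    (Adeq.toMVFPre Scheme.fppfPrecoverage b).obj P ⟶
      (Adeq.toMVF Scheme.fppfPrecoverage b).obj (shfMod Scheme.fppfPrecoverage P) :=
  (Adeq.toMVFPre Scheme.fppfPrecoverage b).map (shfUnit Scheme.fppfPrecoverage P)

theorem shfTheta_app_apply {B : CommRingCat.{u}} (b : Spec B ⟶ S) (D : Adeq.Alg B)
    (x : ((Adeq.toMVFPre Scheme.fppfPrecoverage b).obj P).obj (Adeq.pt D)) :
    (shfTheta P b).app (Adeq.pt D) x =
      (shfUnit Scheme.fppfPrecoverage P).app (op ((Adeq.specOver b).obj (op D))) x := rfl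

theorem toMVFPre_mmap_apply {B : CommRingCat.{u}} (b : Spec B ⟶ S) {D D' : Adeq.Alg B}
    (f : D ⟶ D') (x : ((Adeq.toMVFPre Scheme.fppfPrecoverage b).obj P).obj (Adeq.pt D)) :
    mmap ((Adeq.toMVFPre Scheme.fppfPrecoverage b).obj P) f x =
      P.presheaf.map ((Adeq.specOver b).map f.op).op x := rfl

variable (hP : ∀ (R : CommRingCat.{u}) (a : Spec R ⟶ S),
  Adeq.adequate R ((Adeq.toMVFPre Scheme.fppfPrecoverage a).obj P))

include hP in
theorem shfTheta_injective_base {B : CommRingCat.{u}} (b : Spec B ⟶ S) :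
    Function.Injective ((shfTheta P b).app (Adeq.pt (Adeq.algOf B B))) := by
  intro x₁ x₂ h12
  rw [← sub_eq_zero]
  have h0 : (shfTheta P b).app (Adeq.pt (Adeq.algOf B B)) (x₁ - x₂) = 0 := by
    rw [map_sub, h12, sub_self]
  generalize x₁ - x₂ = x₀ at h0
  obtain ⟨T, hT, hT'⟩ := shfUnit_locally_injective Scheme.fppfPrecoverage P _ x₀ h0
  obtain ⟨J, hfin, C, hff, hcov, hTC⟩ := exists_family_of_sieve b T hT
  refine adequate_family_inj C _ (hP B b) x₀ (fun j => ?_)
  exact hT' _ (hTC j)

omit hP in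
/-- the base object of `specOver c` is `Over.mk c` -/
noncomputable def specOverBaseIso {B : CommRingCat.{u}} (c : Spec B ⟶ S) :
    (Adeq.specOver c).obj (op (Adeq.algOf B B)) ≅ Over.mk c :=
  Over.isoMk (Iso.refl _) (by
    change 𝟙 (Spec B) ≫ c = Spec.map (CommRingCat.ofHom (algebraMap B B)) ≫ c
    have h1 : Spec.map (CommRingCat.ofHom (algebraMap B B)) = 𝟙 (Spec B) := Spec.map_id B
    rw [h1])

omit hP in
theorem shfUnit_injective_of_iso {V V' : Over S} (ε : V ≅ V')
    (h : Function.Injective ((shfUnit Scheme.fppfPrecoverage P).app (op V))) :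
    Function.Injective ((shfUnit Scheme.fppfPrecoverage P).app (op V')) := by
  intro x' y' hxy
  apply presheaf_iso_inj P.presheaf ε x' y'
  apply h
  have hx := PresheafOfModules.naturality_apply (shfUnit Scheme.fppfPrecoverage P) ε.hom.op x'
  have hy := PresheafOfModules.naturality_apply (shfUnit Scheme.fppfPrecoverage P) ε.hom.op y'
  exact hx.trans ((congrArg _ hxy).trans hy.symm)

omit hP in
theorem shfUnit_surjective_of_iso {V V' : Over S} (ε : V ≅ V')
    (h : Function.Surjective ((shfUnit Scheme.fppfPrecoverage P).app (op V))) :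
    Function.Surjective ((shfUnit Scheme.fppfPrecoverage P).app (op V')) := by
  intro z'
  obtain ⟨x, hx⟩ := h ((shfMod Scheme.fppfPrecoverage P).val.presheaf.map ε.hom.op z')
  refine ⟨P.presheaf.map ε.inv.op x, ?_⟩
  have h1 := PresheafOfModules.naturality_apply (shfUnit Scheme.fppfPrecoverage P) ε.inv.op x
  refine h1.trans ?_
  have h2 : (shfMod Scheme.fppfPrecoverage P).val.presheaf.map ε.inv.op
      ((shfUnit Scheme.fppfPrecoverage P).app (op V) x) =
      (shfMod Scheme.fppfPrecoverage P).val.presheaf.map ε.inv.op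
        ((shfMod Scheme.fppfPrecoverage P).val.presheaf.map ε.hom.op z') :=
    congrArg (fun t => (shfMod Scheme.fppfPrecoverage P).val.presheaf.map ε.inv.op t) hx
  refine h2.trans ?_
  refine (sheaf_map_map_apply (shfMod Scheme.fppfPrecoverage P).val.presheaf ε.inv ε.hom z').trans ?_
  rw [ε.inv_hom_id]
  exact sheaf_map_id_apply _ _ z'

include hP in
theorem shfTheta_injective {B : CommRingCat.{u}} (b : Spec B ⟶ S) (D : Adeq.Alg B) :
    Function.Injective ((shfTheta P b).app (Adeq.pt D)) :=
  shfUnit_injective_of_iso P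
    (specOverBaseIso (Spec.map (CommRingCat.ofHom (algebraMap B D)) ≫ b))
    (shfTheta_injective_base P hP (Spec.map (CommRingCat.ofHom (algebraMap B D)) ≫ b))

include hP in
theorem shfTheta_surjective_base {B : CommRingCat.{u}} (b : Spec B ⟶ S) :
    Function.Surjective ((shfTheta P b).app (Adeq.pt (Adeq.algOf B B))) := by
  intro z₀
  obtain ⟨T, hT, hT'⟩ := shfUnit_locally_surjective Scheme.fppfPrecoverage P _ z₀
  obtain ⟨J, hfin, C, hff, hcov, hTC⟩ := exists_family_of_sieve b T hT
  choose x hx using fun j => hT' _ (hTC j)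
  refine adequate_family_surj C _ _ (shfTheta P b) (hP B b) ?_ ?_ ?_ z₀ x hx
  · intro w hw
    exact toMVF_inj Scheme.fppfPrecoverage b (shfMod Scheme.fppfPrecoverage P) (Adeq.algOf B B) C
      (fun j => ofIdTo (C j)) hcov w hw
  · intro w hw
    exact toMVF_inj Scheme.fppfPrecoverage b (shfMod Scheme.fppfPrecoverage P) (piAlg C) C
      (piEv C) (piEv_cover C) w hw
  · exact shfTheta_injective P hP b _

include hP in
theorem shfTheta_bijective {B : CommRingCat.{u}} (b : Spec B ⟶ S) (D : Adeq.Alg B) :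
    Function.Bijective ((shfTheta P b).app (Adeq.pt D)) :=
  ⟨shfTheta_injective P hP b D,
    shfUnit_surjective_of_iso P
      (specOverBaseIso (Spec.map (CommRingCat.ofHom (algebraMap B D)) ≫ b))
      (shfTheta_surjective_base P hP (Spec.map (CommRingCat.ofHom (algebraMap B D)) ≫ b))⟩

include hP in
theorem adequate_toMVF_shfMod {B : CommRingCat.{u}} (b : Spec B ⟶ S) :
    Adeq.adequate B ((Adeq.toMVF Scheme.fppfPrecoverage b).obj (shfMod Scheme.fppfPrecoverage P)) := by
  have : IsIso (shfTheta P b) := by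
    apply isIso_of_app_bijective
    intro X
    obtain ⟨⟨D⟩⟩ := X
    exact shfTheta_bijective P hP b D
  exact (Adeq.adequate B).prop_of_iso (asIso (shfTheta P b)) (hP B b)

include hP in
/-- **Sheafification**: if all `F_{P,R}` are adequate then the sheafification of `P` is adequate. -/
theorem adequateMod_sheafification_fppf :
    Adeq.adequateMod Scheme.fppfPrecoverage S
      ((PresheafOfModules.sheafification (𝟙 (BigSite.ORing Scheme.fppfPrecoverage S).obj)).obj P) := by
  refine ⟨S.affineOpenCover.I₀, S.affineOpenCover.X, S.affineOpenCover.f,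
    Scheme.zariskiPrecoverage_le_fppfPrecoverage _ S.affineOpenCover.cover.mem₀, fun j => ?_⟩
  exact adequate_toMVF_shfMod P hP (S.affineOpenCover.f j)

end
end Groth.Agent.Lib.Helper44
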