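import Groth.Agent.Lib.Helper44.AdeqExtLift
import Groth.Agent.Lib.Helper44.BigAdeqSheafify
import Mathlib

set_option autoImplicit false
universe u w
open CategoryTheory CategoryTheory.Limits Opposite TensorProduct AlgebraicGeometry

namespace Groth.Agent.Lib.Helper44

section
variable {S : Scheme.{u}} (M : BigSite.Mod Scheme.fppfPrecoverage S)

set_option backward.isDefEq.respectTransparency.types false in
/-- sections of a sheaf over an empty scheme vanish -/
theorem sect_subsingleton_of_isEmpty (V : Over S) [IsEmpty V.left] :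
    Subsingleton (BigSite.sectMod Scheme.fppfPrecoverage M V) := by
  refine sect_subsingleton_of_ofArrows Scheme.fppfPrecoverage M V (I := PEmpty.{1})
    (fun i => i.elim) (fun i => i.elim) ?_ (fun i => i.elim)
  refine (Scheme.ofArrows_mem_precoverage_iff (@Flat ⊓ @LocallyOfFinitePresentation)).2
    ⟨fun x => (IsEmpty.false x).elim, fun i => i.elim⟩


/-- the images of `Spec C_i` and `Spec C_j` in `Spec ∏ C` are disjoint for `i ≠ j` -/
theorem piEv_disjoint {A : Type u} [CommRing A] {J : Type u} (C : J → Adeq.Alg A) {i j : J}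
    (hij : i ≠ j) (p : PrimeSpectrum (C i)) (q : PrimeSpectrum (C j))
    (h : PrimeSpectrum.comap (piEv C i).hom.toRingHom p =
      PrimeSpectrum.comap (piEv C j).hom.toRingHom q) : False := by
  classical
  let e : ∀ k, (C k : Type u) := Pi.single i 1
  have h1 : e ∉ (PrimeSpectrum.comap (piEv C i).hom.toRingHom p).asIdeal := by
    intro he
    have : (piEv C i).hom.toRingHom e ∈ p.asIdeal := he
    have h2 : (piEv C i).hom.toRingHom e = 1 := by
      change e i = 1
      simp [e]
    rw [h2] at this
    exact p.isPrime.ne_top ((Ideal.eq_top_iff_one _).2 this)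
  have h3 : e ∈ (PrimeSpectrum.comap (piEv C j).hom.toRingHom q).asIdeal := by
    change (piEv C j).hom.toRingHom e ∈ q.asIdeal
    have h2 : (piEv C j).hom.toRingHom e = 0 := by
      change e j = 0
      simp [e, Ne.symm hij]
    rw [h2]
    exact q.asIdeal.zero_mem
  rw [h] at h1
  exact h1 h3

set_option backward.isDefEq.respectTransparency.types false in
/-- a sheaf on the big fppf site turns finite products of rings into products -/
theorem toMVF_gp {R : CommRingCat.{u}} (a : Spec R ⟶ S) {J : Type u} [Finite J]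
    (C : J → Adeq.Alg R)
    (y : ∀ j, ((Adeq.toMVF Scheme.fppfPrecoverage a).obj M).obj (Adeq.pt (C j))) :
    ∃ y' : ((Adeq.toMVF Scheme.fppfPrecoverage a).obj M).obj (Adeq.pt (piAlg C)),
      ∀ j, mmap ((Adeq.toMVF Scheme.fppfPrecoverage a).obj M) (piEv C j) y' = y j := by
  have hs := (Presieve.isSheafFor_arrows_iff _ _).1
    (toMVF_isSheafFor Scheme.fppfPrecoverage a M (piAlg C) C (piEv C) (piEv_cover C))
  have hcompat : Presieve.Arrows.Compatible (M.val.presheaf ⋙ forget Ab)
      (fun j => (Adeq.specOver a).map (piEv C j).op)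
      (fun j => (show (M.val.presheaf ⋙ forget Ab).obj (op ((Adeq.specOver a).obj (op (C j)))) from
        y j)) := by
    intro i j Z gi gj hg
    have hgl : gi.left ≫ Spec.map (CommRingCat.ofHom (piEv C i).hom.toRingHom) =
        gj.left ≫ Spec.map (CommRingCat.ofHom (piEv C j).hom.toRingHom) :=
      congrArg CommaMorphism.left hg
    by_cases hij : i = j
    · subst hij
      have : IsOpenImmersion (Spec.map (CommRingCat.ofHom (piEv C i).hom.toRingHom)) :=
        instIsOpenImmersionMapOfHomForallEvalRingHom.{u, u} i (fun j => (C j : Type u))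
      have hgij : gi = gj := by
        apply Over.OverMorphism.ext
        exact (cancel_mono (Spec.map (CommRingCat.ofHom (piEv C i).hom.toRingHom))).1 hgl
      rw [hgij]
    · have hemp : IsEmpty Z.left := by
        refine ⟨fun x => ?_⟩
        have h1 := congrArg (fun f : Z.left ⟶ Spec (CommRingCat.of (piAlg C)) => f x) hgl
        simp only [Scheme.Hom.comp_apply] at h1
        exact piEv_disjoint C hij (gi.left x) (gj.left x) h1
      have := sect_subsingleton_of_isEmpty M Z
      exact Subsingleton.elim (α := M.val.obj (op Z)) _ _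
  obtain ⟨t, ht, -⟩ := hs _ hcompat
  exact ⟨t, ht⟩

theorem isPullback_inc (R : Type u) [CommRing R] (P : Type u) [CommRing P] [Algebra R P] :
    IsPullback (Spec.map (CommRingCat.ofHom (inc1 R P).hom.toRingHom))
      (Spec.map (CommRingCat.ofHom (inc2 R P).hom.toRingHom))
      (Spec.map (CommRingCat.ofHom (ofIdTo (Adeq.algOf R P)).hom.toRingHom))
      (Spec.map (CommRingCat.ofHom (ofIdTo (Adeq.algOf R P)).hom.toRingHom)) :=
  isPullback_SpecMap_of_isPushout _ _ _ _ (CommRingCat.isPushout_tensorProduct R P P)

/-- descent of sections of a sheaf along a single fppf covering of affines -/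
theorem toMVF_ds {R : CommRingCat.{u}} (a : Spec R ⟶ S) (P : Type u) [CommRing P] [Algebra R P]
    (hcov : Presieve.ofArrows (fun _ : PUnit.{1} => Spec (CommRingCat.of (Adeq.algOf R P)))
      (fun _ => Spec.map (CommRingCat.ofHom (ofIdTo (Adeq.algOf R P)).hom.toRingHom)) ∈
        Scheme.fppfPrecoverage.coverings (Spec (CommRingCat.of (Adeq.algOf R R))))
    (y : ((Adeq.toMVF Scheme.fppfPrecoverage a).obj M).obj (Adeq.pt (Adeq.algOf R P)))
    (hy : mmap ((Adeq.toMVF Scheme.fppfPrecoverage a).obj M) (inc1 R P) y =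
      mmap ((Adeq.toMVF Scheme.fppfPrecoverage a).obj M) (inc2 R P) y) :
    ∃ y₀ : ((Adeq.toMVF Scheme.fppfPrecoverage a).obj M).obj (Adeq.pt (Adeq.algOf R R)),
      mmap ((Adeq.toMVF Scheme.fppfPrecoverage a).obj M) (ofIdTo (Adeq.algOf R P)) y₀ = y := by
  obtain ⟨x, hx⟩ := toMVF_glue Scheme.fppfPrecoverage a M (J := PUnit.{1}) (Adeq.algOf R R)
    (fun _ => Adeq.algOf R P) (fun _ => ofIdTo (Adeq.algOf R P)) hcov
    (fun _ _ => BB R P) (fun _ _ => inc1 R P) (fun _ _ => inc2 R P)
    (fun _ _ => isPullback_inc R P) (fun _ => y) (fun _ _ => hy)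
  exact ⟨x, hx PUnit.unit⟩


set_option backward.isDefEq.respectTransparency.types false in
/-- a finite fppf covering family of affines gives a single fppf covering by the product -/
theorem pi_singleton_cover {B : CommRingCat.{u}} {J : Type u} [Finite J] (C : J → Adeq.Alg B)
    (hcov : Presieve.ofArrows (fun j => Spec (CommRingCat.of (C j)))
        (fun j => Spec.map (CommRingCat.ofHom (ofIdTo (C j)).hom.toRingHom)) ∈
          Scheme.fppfPrecoverage.coverings (Spec (CommRingCat.of (Adeq.algOf B B)))) :
    Presieve.ofArrows (fun _ : PUnit.{1} => Spec (CommRingCat.of (piAlg C)))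
      (fun _ => Spec.map (CommRingCat.ofHom (ofIdTo (piAlg C)).hom.toRingHom)) ∈
        Scheme.fppfPrecoverage.coverings (Spec (CommRingCat.of (Adeq.algOf B B))) := by
  classical
  have := Fintype.ofFinite J
  obtain ⟨h1, h2⟩ := (Scheme.ofArrows_mem_precoverage_iff _).1 hcov
  have hfl : ∀ j, Module.Flat B (C j) := by
    intro j
    have h3 : Flat (Spec.map (CommRingCat.ofHom (ofIdTo (C j)).hom.toRingHom)) := (h2 j).1
    have h4 : (algebraMap B (C j)).Flat := Flat.SpecMap_iff.1 h3
    exact RingHom.flat_algebraMap_iff.1 h4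
  have hfp : ∀ j, Algebra.FinitePresentation B (C j) := by
    intro j
    have h3 : LocallyOfFinitePresentation
        (Spec.map (CommRingCat.ofHom (ofIdTo (C j)).hom.toRingHom)) := (h2 j).2
    have h4 : (algebraMap B (C j)).FinitePresentation :=
      (HasRingHomProperty.Spec_iff (P := @LocallyOfFinitePresentation)).1 h3
    exact RingHom.finitePresentation_algebraMap.1 h4
  have hflat : Module.Flat B (∀ j, (C j : Type u)) :=
    Module.Flat.of_linearEquiv
      (DFinsupp.linearEquivFunOnFintype (R := B) (M := fun j => (C j : Type u))).symm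
  have hfpp : Algebra.FinitePresentation B (∀ j, (C j : Type u)) :=
    Algebra.FinitePresentation.pi (fun j => (C j : Type u))
  refine (Scheme.ofArrows_mem_precoverage_iff (@Flat ⊓ @LocallyOfFinitePresentation)).2
    ⟨fun x => ?_, fun _ => ⟨?_, ?_⟩⟩
  · obtain ⟨j, q, hq⟩ := h1 x
    refine ⟨PUnit.unit, PrimeSpectrum.comap (Pi.evalRingHom (fun j => (C j : Type u)) j) q, ?_⟩
    rw [← hq]
    rfl
  · have h4 : (algebraMap B (∀ j, (C j : Type u))).Flat := RingHom.flat_algebraMap_iff.2 hflat
    exact Flat.SpecMap_iff.2 h4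
  · have h4 : (algebraMap B (∀ j, (C j : Type u))).FinitePresentation :=
      RingHom.finitePresentation_algebraMap.2 hfpp
    exact (HasRingHomProperty.Spec_iff (P := @LocallyOfFinitePresentation)).2 h4

end
end Groth.Agent.Lib.Helper44
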