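import Groth.Agent.Lib.Helper44.BigAdeqRestr
import Mathlib

set_option autoImplicit false
universe u
open CategoryTheory CategoryTheory.Limits Opposite TensorProduct AlgebraicGeometry

namespace Groth.Agent.Lib.Helper44

section
variable (K : Precoverage Scheme.{u}) [BigSite.OSh K] {S T : Scheme.{u}} (f : T ⟶ S)
variable {R : CommRingCat.{u}} (b : Spec R ⟶ T)

noncomputable def specOverPullHom (B : Adeq.Alg R) :
    (Adeq.specOver (b ≫ f)).obj (op B) ⟶ (Over.map f).obj ((Adeq.specOver b).obj (op B)) :=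
  Over.homMk (𝟙 (Spec (CommRingCat.of B))) (by
    change 𝟙 _ ≫ ((Spec.map (CommRingCat.ofHom (algebraMap R B)) ≫ b) ≫ f) =
      Spec.map (CommRingCat.ofHom (algebraMap R B)) ≫ b ≫ f
    rw [Category.id_comp, Category.assoc])

noncomputable def specOverPullInv (B : Adeq.Alg R) :
    (Over.map f).obj ((Adeq.specOver b).obj (op B)) ⟶ (Adeq.specOver (b ≫ f)).obj (op B) :=
  Over.homMk (𝟙 (Spec (CommRingCat.of B))) (by
    change 𝟙 _ ≫ (Spec.map (CommRingCat.ofHom (algebraMap R B)) ≫ b ≫ f) =
      (Spec.map (CommRingCat.ofHom (algebraMap R B)) ≫ b) ≫ f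
    rw [Category.id_comp, Category.assoc])

theorem specOverPullHom_inv (B : Adeq.Alg R) :
    specOverPullHom f b B ≫ specOverPullInv f b B = 𝟙 _ := by
  apply Over.OverMorphism.ext
  change 𝟙 (Spec (CommRingCat.of B)) ≫ 𝟙 (Spec (CommRingCat.of B)) = 𝟙 (Spec (CommRingCat.of B))
  rw [Category.id_comp]

theorem specOverPullInv_hom (B : Adeq.Alg R) :
    specOverPullInv f b B ≫ specOverPullHom f b B = 𝟙 _ := by
  apply Over.OverMorphism.ext
  change 𝟙 (Spec (CommRingCat.of B)) ≫ 𝟙 (Spec (CommRingCat.of B)) = 𝟙 (Spec (CommRingCat.of B))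
  rw [Category.id_comp]

theorem specOverPullHom_naturality {B B' : Adeq.Alg R} (φ : B ⟶ B') :
    (Adeq.specOver (b ≫ f)).map φ.op ≫ specOverPullHom f b B =
      specOverPullHom f b B' ≫ (Over.map f).map ((Adeq.specOver b).map φ.op) := by
  apply Over.OverMorphism.ext
  change Spec.map (CommRingCat.ofHom φ.hom.toRingHom) ≫ 𝟙 (Spec (CommRingCat.of B)) =
    𝟙 (Spec (CommRingCat.of B')) ≫ Spec.map (CommRingCat.ofHom φ.hom.toRingHom)
  rw [Category.id_comp, Category.comp_id]

variable (M : BigSite.Mod K S)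

noncomputable def pullToMVFNat :
    ((Adeq.toMVF K b).obj ((BigSite.pullMod K f).obj M)).presheaf ⟶
      ((Adeq.toMVF K (b ≫ f)).obj M).presheaf where
  app := fun X => M.val.presheaf.map (specOverPullHom f b X.unop.unop).op
  naturality := by
    intro X Y φ
    change M.val.presheaf.map ((Over.map f).map ((Adeq.specOver b).map φ.unop.unop.op)).op ≫
        M.val.presheaf.map (specOverPullHom f b Y.unop.unop).op =
      M.val.presheaf.map (specOverPullHom f b X.unop.unop).op ≫
        M.val.presheaf.map ((Adeq.specOver (b ≫ f)).map φ.unop.unop.op).op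
    rw [← Functor.map_comp, ← Functor.map_comp, ← op_comp, ← op_comp, specOverPullHom_naturality]

theorem pullToMVFNat_smul (X : (Adeq.Alg R)ᵒᵖᵒᵖ) (r : (Adeq.ringOf R).obj X)
    (m : ((Adeq.toMVF K b).obj ((BigSite.pullMod K f).obj M)).obj X) :
    (show ((Adeq.toMVF K (b ≫ f)).obj M).obj X from (pullToMVFNat K f b M).app X (r • m)) =
      r • (show ((Adeq.toMVF K (b ≫ f)).obj M).obj X from (pullToMVFNat K f b M).app X m) := by
  have h := M.val.map_smul (specOverPullHom f b X.unop.unop).op
    (Adeq.toSect K (b ≫ f) X.unop.unop r) m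
  refine h.trans ?_
  congr 1

noncomputable def pullToMVFHom :
    (Adeq.toMVF K b).obj ((BigSite.pullMod K f).obj M) ⟶ (Adeq.toMVF K (b ≫ f)).obj M :=
  PresheafOfModules.homMk (pullToMVFNat K f b M) (pullToMVFNat_smul K f b M)

instance pullToMVFHom_isIso : IsIso (pullToMVFHom K f b M) := by
  apply isIso_of_app_bijective
  intro X
  obtain ⟨⟨B⟩⟩ := X
  refine Function.bijective_iff_has_inverse.2
    ⟨fun y => M.val.presheaf.map (specOverPullInv f b B).op y, ?_, ?_⟩
  · intro x
    refine (sheaf_map_map_apply M.val.presheaf (specOverPullInv f b B) (specOverPullHom f b B) x).trans ?_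
    rw [specOverPullInv_hom]
    exact sheaf_map_id_apply M.val.presheaf _ x
  · intro x
    refine (sheaf_map_map_apply M.val.presheaf (specOverPullHom f b B) (specOverPullInv f b B) x).trans ?_
    rw [specOverPullHom_inv]
    exact sheaf_map_id_apply M.val.presheaf _ x

theorem adequate_toMVF_pullMod_iff :
    Adeq.adequate R ((Adeq.toMVF K b).obj ((BigSite.pullMod K f).obj M)) ↔
      Adeq.adequate R ((Adeq.toMVF K (b ≫ f)).obj M) :=
  (Adeq.adequate R).prop_iff_of_iso (asIso (pullToMVFHom K f b M))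

end

end Groth.Agent.Lib.Helper44
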