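import Groth.Agent.Lib.Helper44.BigAdeqMain
import Groth.Agent.Lib.Helper44.BigAdeqPull
import Mathlib

/-!
# Operations on adequate modules on the big site: pullback, descent, kernels
-/

set_option autoImplicit false
universe u v v₁ u₁
open CategoryTheory CategoryTheory.Limits Opposite AlgebraicGeometry

namespace Groth.Agent.Lib.Helper44

section
variable {C : Type u₁} [Category.{v₁} C] {J : GrothendieckTopology C} {R : Sheaf J RingCat.{u}}

instance sheafEvaluation_preservesZeroMorphisms (X : Cᵒᵖ) :
    (SheafOfModules.evaluation.{v} R X).PreservesZeroMorphisms where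
  map_zero _ _ := rfl

theorem sheafOfModules_kernel_ι_injective {M N : SheafOfModules.{v} R} (φ : M ⟶ N) (X : Cᵒᵖ) :
    Function.Injective ((kernel.ι φ).val.app X) := by
  have : Mono ((SheafOfModules.evaluation.{v} R X).map (kernel.ι φ)) := inferInstance
  exact (ModuleCat.mono_iff_injective _).1 this

variable [HasSheafify J AddCommGrpCat.{v}] [J.WEqualsLocallyBijective AddCommGrpCat.{v}]

theorem sheafOfModules_kernel_exact {M N : SheafOfModules.{v} R} (φ : M ⟶ N) (X : Cᵒᵖ)
    (x : M.val.obj X) (hx : φ.val.app X x = 0) :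
    ∃ y : (kernel φ).val.obj X, (kernel.ι φ).val.app X y = x := by
  let Sc : ShortComplex (SheafOfModules.{v} R) := ShortComplex.mk (kernel.ι φ) φ (kernel.condition φ)
  have hS : Sc.Exact := ShortComplex.exact_of_f_is_kernel _ (kernelIsKernel φ)
  have hS' : (Sc.map (SheafOfModules.evaluation.{v} R X)).Exact :=
    hS.map_of_mono_of_preservesKernel _ (inferInstanceAs (Mono (kernel.ι φ))) inferInstance
  exact (ShortComplex.moduleCat_exact_iff _).1 hS' x hx

end

section
variable (P : MorphismProperty Scheme.{u}) [P.RespectsLeft @IsOpenImmersion]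
  [(Scheme.precoverage P).IsStableUnderBaseChange]
  (hqc : Scheme.precoverage P ≤ Scheme.qcPrecoverage) [BigSite.OSh (Scheme.precoverage P)]

include hqc in
/-- kernels of maps of adequate modules are adequate -/
theorem adequateMod_kernel (S : Scheme.{u}) {M N : BigSite.Mod (Scheme.precoverage P) S} (φ : M ⟶ N)
    (hM : Adeq.adequateMod (Scheme.precoverage P) S M)
    (hN : Adeq.adequateMod (Scheme.precoverage P) S N) :
    Adeq.adequateMod (Scheme.precoverage P) S (kernel φ) := by
  obtain ⟨ι, Ri, ai, hcov, hadq⟩ := hM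
  refine ⟨ι, Ri, ai, hcov, fun i => ?_⟩
  have hNi := adequate_toMVF_of_adequateMod P hqc S N hN (Ri i) (ai i)
  refine adequate_of_exact' (hadq i) hNi ((Adeq.toMVF (Scheme.precoverage P) (ai i)).map (kernel.ι φ))
    ((Adeq.toMVF (Scheme.precoverage P) (ai i)).map φ) ?_ ?_ ?_
  · rw [← Functor.map_comp, kernel.condition, Functor.map_zero]
  · intro X
    obtain ⟨⟨B⟩⟩ := X
    exact sheafOfModules_kernel_ι_injective φ (op ((Adeq.specOver (ai i)).obj (op B)))
  · intro X x hx
    obtain ⟨⟨B⟩⟩ := X
    exact sheafOfModules_kernel_exact φ (op ((Adeq.specOver (ai i)).obj (op B))) x hx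

include hqc in
/-- pullbacks of adequate modules are adequate -/
theorem adequateMod_pullMod (hzar : Scheme.zariskiPrecoverage ≤ Scheme.precoverage P)
    {S T : Scheme.{u}} (f : T ⟶ S) (M : BigSite.Mod (Scheme.precoverage P) S)
    (hM : Adeq.adequateMod (Scheme.precoverage P) S M) :
    Adeq.adequateMod (Scheme.precoverage P) T ((BigSite.pullMod (Scheme.precoverage P) f).obj M) := by
  refine ⟨T.affineOpenCover.I₀, T.affineOpenCover.X, T.affineOpenCover.f,
    hzar _ T.affineOpenCover.cover.mem₀, fun j => ?_⟩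
  exact (adequate_toMVF_pullMod_iff (Scheme.precoverage P) f (T.affineOpenCover.f j) M).2
    (adequate_toMVF_of_adequateMod P hqc S M hM (T.affineOpenCover.X j) (T.affineOpenCover.f j ≫ f))

omit [P.RespectsLeft @IsOpenImmersion] [(Scheme.precoverage P).IsStableUnderBaseChange] in
/-- adequacy descends along coverings -/
theorem adequateMod_of_cover [(Scheme.precoverage P).IsStableUnderComposition]
    (S : Scheme.{u}) (M : BigSite.Mod (Scheme.precoverage P) S) (ι : Type u)
    (T : ι → Scheme.{u}) (f : ∀ i, T i ⟶ S)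
    (hcov : Presieve.ofArrows T f ∈ (Scheme.precoverage P).coverings S)
    (h : ∀ i, Adeq.adequateMod (Scheme.precoverage P) (T i)
      ((BigSite.pullMod (Scheme.precoverage P) (f i)).obj M)) :
    Adeq.adequateMod (Scheme.precoverage P) S M := by
  choose ιi Ri bi hcovi hadqi using h
  refine ⟨Σ i, ιi i, fun p => Ri p.1 p.2, fun p => bi p.1 p.2 ≫ f p.1, ?_, fun p => ?_⟩
  · exact Precoverage.comp_mem_coverings f hcov (fun i j => bi i j) (fun i => hcovi i)
  · exact (adequate_toMVF_pullMod_iff (Scheme.precoverage P) (f p.1) (bi p.1 p.2) M).1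
      (hadqi p.1 p.2)

end

section Fppf

theorem fppf_le_qc : Scheme.fppfPrecoverage.{u} ≤ Scheme.qcPrecoverage :=
  le_trans Scheme.fppfPrecoverage_le_fpqcPrecoverage inf_le_left

set_option backward.isDefEq.respectTransparency.types false in
theorem adequateMod_kernel_fppf (S : Scheme.{u}) {M N : BigSite.Mod Scheme.fppfPrecoverage S}
    (φ : M ⟶ N) (hM : Adeq.adequateMod Scheme.fppfPrecoverage S M)
    (hN : Adeq.adequateMod Scheme.fppfPrecoverage S N) :
    Adeq.adequateMod Scheme.fppfPrecoverage S (kernel φ) :=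
  @adequateMod_kernel (@Flat ⊓ @LocallyOfFinitePresentation) inferInstance
    (inferInstanceAs (Scheme.fppfPrecoverage.IsStableUnderBaseChange)) fppf_le_qc
    (inferInstanceAs (BigSite.OSh Scheme.fppfPrecoverage)) S M N φ hM hN

set_option backward.isDefEq.respectTransparency.types false in
theorem adequateMod_pullMod_fppf {S T : Scheme.{u}} (f : T ⟶ S)
    (M : BigSite.Mod Scheme.fppfPrecoverage S) (hM : Adeq.adequateMod Scheme.fppfPrecoverage S M) :
    Adeq.adequateMod Scheme.fppfPrecoverage T ((BigSite.pullMod Scheme.fppfPrecoverage f).obj M) :=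
  @adequateMod_pullMod (@Flat ⊓ @LocallyOfFinitePresentation) inferInstance
    (inferInstanceAs (Scheme.fppfPrecoverage.IsStableUnderBaseChange)) fppf_le_qc
    (inferInstanceAs (BigSite.OSh Scheme.fppfPrecoverage))
    Scheme.zariskiPrecoverage_le_fppfPrecoverage S T f M hM

theorem adequateMod_of_cover_fppf (S : Scheme.{u}) (M : BigSite.Mod Scheme.fppfPrecoverage S)
    (ι : Type u) (T : ι → Scheme.{u}) (f : ∀ i, T i ⟶ S)
    (hcov : Presieve.ofArrows T f ∈ Scheme.fppfPrecoverage.coverings S)
    (h : ∀ i, Adeq.adequateMod Scheme.fppfPrecoverage (T i)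
      ((BigSite.pullMod Scheme.fppfPrecoverage (f i)).obj M)) :
    Adeq.adequateMod Scheme.fppfPrecoverage S M :=
  @adequateMod_of_cover (@Flat ⊓ @LocallyOfFinitePresentation)
    (inferInstanceAs (BigSite.OSh Scheme.fppfPrecoverage))
    (inferInstanceAs (Scheme.fppfPrecoverage.IsStableUnderComposition)) S M ι T f hcov h

end Fppf

end Groth.Agent.Lib.Helper44
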