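import Groth.Agent.Lib.Helper44.BigAdeqExtGeom
import Groth.Agent.Lib.Helper44.AdeqExt
import Groth.Agent.Lib.Helper44.BigAdeqOps
import Groth.Agent.Lib.Helper44.SheafModEpi
import Mathlib

set_option autoImplicit false
universe u v v₁ u₁
open CategoryTheory CategoryTheory.Limits Opposite TensorProduct AlgebraicGeometry

namespace Groth.Agent.Lib.Helper44

section Psh
variable {C : Type u₁} [Category.{v₁} C] {R₀ : Cᵒᵖ ⥤ RingCat.{u}}

/-- a sectionwise exact complex of presheaves of modules is exact -/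
theorem psh_exact_of_app (S : ShortComplex (PresheafOfModules.{v} R₀))
    (h : ∀ (X : Cᵒᵖ) (x : S.X₂.obj X), S.g.app X x = 0 → ∃ y, S.f.app X y = x) : S.Exact := by
  rw [S.exact_iff_kernel_ι_comp_cokernel_π_zero]
  ext X x
  have h1 : S.g.app X ((kernel.ι S.g).app X x) = 0 := by
    change (kernel.ι S.g ≫ S.g).app X x = 0
    rw [kernel.condition]
    rfl
  obtain ⟨y, hy⟩ := h X _ h1
  change (cokernel.π S.f).app X ((kernel.ι S.g).app X x) = 0
  rw [← hy]
  change (S.f ≫ cokernel.π S.f).app X y = 0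
  rw [cokernel.condition]
  rfl

end Psh

section Sh
variable {C : Type u₁} [Category.{v₁} C] {J : GrothendieckTopology C} {R : Sheaf J RingCat.{u}}

theorem sheafOfModules_mono_injective {M N : SheafOfModules.{v} R} (φ : M ⟶ N) [Mono φ] (X : Cᵒᵖ) :
    Function.Injective (φ.val.app X) := by
  have : Mono ((SheafOfModules.evaluation.{v} R X).map φ) := inferInstance
  exact (ModuleCat.mono_iff_injective _).1 this

variable [HasSheafify J AddCommGrpCat.{v}] [J.WEqualsLocallyBijective AddCommGrpCat.{v}]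

theorem sheafOfModules_exact_app (Sc : ShortComplex (SheafOfModules.{v} R)) (hS : Sc.Exact)
    [Mono Sc.f] (X : Cᵒᵖ) (x : Sc.X₂.val.obj X) (hx : Sc.g.val.app X x = 0) :
    ∃ y : Sc.X₁.val.obj X, Sc.f.val.app X y = x := by
  have hS' : (Sc.map (SheafOfModules.evaluation.{v} R X)).Exact :=
    hS.map_of_mono_of_preservesKernel _ (inferInstanceAs (Mono Sc.f)) inferInstance
  exact (ShortComplex.moduleCat_exact_iff _).1 hS' x hx

end Sh

section
variable {S : Scheme.{u}} (Sc : ShortComplex (BigSite.Mod Scheme.fppfPrecoverage S))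
  (hC : Sc.ShortExact)
  (h₁ : Adeq.adequateMod Scheme.fppfPrecoverage S Sc.X₁)
  (h₃ : Adeq.adequateMod Scheme.fppfPrecoverage S Sc.X₃)

theorem toMVF_map_app_apply {M N : BigSite.Mod Scheme.fppfPrecoverage S} (φ : M ⟶ N)
    {B : CommRingCat.{u}} (b : Spec B ⟶ S) (D : Adeq.Alg B)
    (x : ((Adeq.toMVF Scheme.fppfPrecoverage b).obj M).obj (Adeq.pt D)) :
    ((Adeq.toMVF Scheme.fppfPrecoverage b).map φ).app (Adeq.pt D) x =
      φ.val.app (op ((Adeq.specOver b).obj (op D))) x := rfl

include hC h₁ h₃ in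
theorem ext_surjective_base {B : CommRingCat.{u}} (b : Spec B ⟶ S) :
    Function.Surjective (((Adeq.toMVF Scheme.fppfPrecoverage b).map Sc.g).app
      (Adeq.pt (Adeq.algOf B B))) := by
  have := hC.mono_f
  have := hC.epi_g
  intro z
  obtain ⟨T, hT, hT'⟩ := sheafOfModules_epi_locally_surjective Sc.g
    (op ((Adeq.specOver b).obj (op (Adeq.algOf B B)))) z
  obtain ⟨J, hfin, C, hff, hcov, hTC⟩ := exists_family_of_sieve b T hT
  choose y hy using fun j => hT' _ (hTC j)
  refine adequate_ext_lift C _ _ _ ((Adeq.toMVF Scheme.fppfPrecoverage b).map Sc.f)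
    ((Adeq.toMVF Scheme.fppfPrecoverage b).map Sc.g)
    (adequate_toMVF_fppf S Sc.X₁ h₁ B b) (adequate_toMVF_fppf S Sc.X₃ h₃ B b) ?_ ?_ ?_
    (toMVF_gp Sc.X₂ b C)
    (toMVF_ds Sc.X₂ b (∀ j, (C j : Type u)) (pi_singleton_cover C hcov)) z y hy
  · intro X x
    have h0 : (Adeq.toMVF Scheme.fppfPrecoverage b).map Sc.f ≫
        (Adeq.toMVF Scheme.fppfPrecoverage b).map Sc.g = 0 := by
      rw [← Functor.map_comp, Sc.zero, Functor.map_zero]
    change ((Adeq.toMVF Scheme.fppfPrecoverage b).map Sc.f ≫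
        (Adeq.toMVF Scheme.fppfPrecoverage b).map Sc.g).app X x = 0
    rw [h0]
    rfl
  · intro X
    obtain ⟨⟨D⟩⟩ := X
    exact sheafOfModules_mono_injective Sc.f (op ((Adeq.specOver b).obj (op D)))
  · intro X x hx
    obtain ⟨⟨D⟩⟩ := X
    exact sheafOfModules_exact_app Sc hC.exact (op ((Adeq.specOver b).obj (op D))) x hx

omit hC h₁ h₃ in
theorem sheafHom_surjective_of_iso {M N : BigSite.Mod Scheme.fppfPrecoverage S} (φ : M ⟶ N)
    {V V' : Over S} (ε : V ≅ V') (h : Function.Surjective (φ.val.app (op V))) :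
    Function.Surjective (φ.val.app (op V')) := by
  intro z'
  obtain ⟨x, hx⟩ := h (N.val.presheaf.map ε.hom.op z')
  refine ⟨M.val.presheaf.map ε.inv.op x, ?_⟩
  have h1 := PresheafOfModules.naturality_apply φ.val ε.inv.op x
  refine h1.trans ?_
  have h2 : N.val.presheaf.map ε.inv.op (φ.val.app (op V) x) =
      N.val.presheaf.map ε.inv.op (N.val.presheaf.map ε.hom.op z') :=
    congrArg (fun t => N.val.presheaf.map ε.inv.op t) hx
  refine h2.trans ?_
  refine (sheaf_map_map_apply N.val.presheaf ε.inv ε.hom z').trans ?_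
  rw [ε.inv_hom_id]
  exact sheaf_map_id_apply N.val.presheaf V' z'

include hC h₁ h₃ in
theorem ext_surjective {B : CommRingCat.{u}} (b : Spec B ⟶ S) (D : Adeq.Alg B) :
    Function.Surjective (((Adeq.toMVF Scheme.fppfPrecoverage b).map Sc.g).app (Adeq.pt D)) :=
  sheafHom_surjective_of_iso Sc.g
    (specOverBaseIso (Spec.map (CommRingCat.ofHom (algebraMap B D)) ≫ b))
    (ext_surjective_base Sc hC h₁ h₃ (Spec.map (CommRingCat.ofHom (algebraMap B D)) ≫ b))

include hC h₁ h₃ in
theorem adequate_toMVF_ext {B : CommRingCat.{u}} (b : Spec B ⟶ S) :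
    Adeq.adequate B ((Adeq.toMVF Scheme.fppfPrecoverage b).obj Sc.X₂) := by
  have := hC.mono_f
  let S' : ShortComplex (Adeq.MVF B) :=
    ShortComplex.mk ((Adeq.toMVF Scheme.fppfPrecoverage b).map Sc.f)
      ((Adeq.toMVF Scheme.fppfPrecoverage b).map Sc.g)
      (by rw [← Functor.map_comp, Sc.zero, Functor.map_zero])
  have hex : S'.Exact := by
    apply psh_exact_of_app
    intro X x hx
    obtain ⟨⟨D⟩⟩ := X
    exact sheafOfModules_exact_app Sc hC.exact (op ((Adeq.specOver b).obj (op D))) x hx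
  have hmono : Mono S'.f := by
    apply PresheafOfModules.mono_of_injective
    intro X
    obtain ⟨⟨D⟩⟩ := X
    exact sheafOfModules_mono_injective Sc.f (op ((Adeq.specOver b).obj (op D)))
  have hepi : Epi S'.g := by
    apply PresheafOfModules.epi_of_surjective
    intro X
    obtain ⟨⟨D⟩⟩ := X
    exact ext_surjective Sc hC h₁ h₃ b D
  have hS' : S'.ShortExact := ShortComplex.ShortExact.mk hex
  exact adequate_of_shortExact_adequate S' hS' (adequate_toMVF_fppf S Sc.X₁ h₁ B b)
    (adequate_toMVF_fppf S Sc.X₃ h₃ B b)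

include hC h₁ h₃ in
/-- **Extensions**: the middle term of a short exact sequence of `O`-modules on the big fppf site
with adequate outer terms is adequate. -/
theorem adequateMod_of_shortExact_fppf :
    Adeq.adequateMod Scheme.fppfPrecoverage S Sc.X₂ := by
  refine ⟨S.affineOpenCover.I₀, S.affineOpenCover.X, S.affineOpenCover.f,
    Scheme.zariskiPrecoverage_le_fppfPrecoverage _ S.affineOpenCover.cover.mem₀, fun j => ?_⟩
  exact adequate_toMVF_ext Sc hC h₁ h₃ (S.affineOpenCover.f j)

end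

end Groth.Agent.Lib.Helper44
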