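import Groth.Agent.Lib.Helper44.SheafModEpi
import Groth.Agent.Lib.Helper44.BigAdeqOps
import Mathlib

set_option autoImplicit false
universe u v v₁ u₁
open CategoryTheory CategoryTheory.Limits Opposite AlgebraicGeometry

namespace Groth.Agent.Lib.Helper44

section
variable {C : Type u₁} [Category.{v₁} C] {J : GrothendieckTopology C} {R : Sheaf J RingCat.{u}}
  [HasSheafify J AddCommGrpCat.{v}] [J.WEqualsLocallyBijective AddCommGrpCat.{v}]

/-- an exact sequence of sheaves of modules is sectionwise "locally exact" -/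
theorem sheafOfModules_exact_locally (S : ShortComplex (SheafOfModules.{v} R)) (hS : S.Exact)
    (U : Cᵒᵖ) (x : S.X₂.val.obj U) (hx : S.g.val.app U x = 0) :
    ∃ T : Sieve U.unop, T ∈ J U.unop ∧ ∀ ⦃V : C⦄ (f : V ⟶ U.unop), T f →
      ∃ y : S.X₁.val.obj (op V), S.f.val.app (op V) y = S.X₂.val.map f.op x := by
  have hepi : Epi (kernel.lift S.g S.f S.zero) := S.exact_iff_epi_kernel_lift.1 hS
  obtain ⟨k, hk⟩ := sheafOfModules_kernel_exact S.g U x hx
  obtain ⟨T, hT, hT'⟩ := sheafOfModules_epi_locally_surjective (kernel.lift S.g S.f S.zero) U k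
  refine ⟨T, hT, fun V f hf => ?_⟩
  obtain ⟨y, hy⟩ := hT' f hf
  refine ⟨y, ?_⟩
  have h1 : S.f.val.app (op V) y =
      (kernel.ι S.g).val.app (op V) ((kernel.lift S.g S.f S.zero).val.app (op V) y) := by
    change _ = (kernel.lift S.g S.f S.zero ≫ kernel.ι S.g).val.app (op V) y
    rw [kernel.lift_ι]
  rw [h1, hy, ← hk]
  exact PresheafOfModules.naturality_apply (kernel.ι S.g).val f.op k

end

section
variable (P : MorphismProperty Scheme.{u}) (hPflat : P ≤ @Flat)
  [BigSite.OSh (Scheme.precoverage P)]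
  [(Scheme.precoverage P).IsStableUnderComposition] [(Scheme.precoverage P).IsStableUnderBaseChange]
  [(Scheme.precoverage P).HasIsos] [(Scheme.precoverage P).HasPullbacks]

include hPflat in
theorem parasitic_of_exact (S : Scheme.{u}) (C : ShortComplex (BigSite.Mod (Scheme.precoverage P) S))
    (hC : C.Exact) (p₁ : Adeq.parasitic (Scheme.precoverage P) S C.X₁)
    (p₃ : Adeq.parasitic (Scheme.precoverage P) S C.X₃) :
    Adeq.parasitic (Scheme.precoverage P) S C.X₂ := by
  intro U hU
  suffices h : ∀ x : C.X₂.val.obj (op U), x = 0 from ⟨fun a b => (h a).trans (h b).symm⟩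
  intro x
  have hx : C.g.val.app (op U) x = 0 := (p₃ U hU).elim _ _
  obtain ⟨T, hT, hT'⟩ := sheafOfModules_exact_locally C hC (op U) x hx
  have hT2 : Sieve.overEquiv U T ∈ (Scheme.precoverage P).toGrothendieck U.left :=
    (GrothendieckTopology.mem_over_iff _ _).1 hT
  obtain ⟨R', hR', hle⟩ :=
    (Precoverage.mem_toGrothendieck_iff_of_isStableUnderComposition).1 hT2
  have hvan : ∀ ⦃W : Scheme.{u}⦄ (h : W ⟶ U.left), R' h →
      C.X₂.val.map (Over.homMk h : Over.mk (h ≫ U.hom) ⟶ U).op x = 0 := by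
    intro W h hh
    have hTh : T (Over.homMk h : Over.mk (h ≫ U.hom) ⟶ U) :=
      (Sieve.overEquiv_iff _ _).1 (hle _ h hh)
    obtain ⟨y, hy⟩ := hT' _ hTh
    have hfl : Flat h := hPflat _ (hR'.2 hh)
    have hflat : Flat (Over.mk (h ≫ U.hom)).hom := by
      change Flat (h ≫ U.hom)
      infer_instance
    have hy0 : y = 0 := (p₁ (Over.mk (h ≫ U.hom)) hflat).elim y 0
    rw [← hy, hy0, map_zero]
    rfl
  have hcov : (Sieve.overEquiv U).symm (Sieve.generate R') ∈ QuotSh.J (Scheme.precoverage P) S U :=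
    GrothendieckTopology.overEquiv_symm_mem_over _ U _
      (Precoverage.generate_mem_toGrothendieck hR')
  have hsep := ((mod_isSheaf_type (Scheme.precoverage P) C.X₂) _ hcov).isSeparatedFor
  refine hsep.ext (t₁ := x) (t₂ := (0 : C.X₂.val.obj (op U))) ?_
  intro Z g hg
  obtain ⟨W, a, h, hh, hah⟩ := (Sieve.overEquiv_symm_iff _ _).1 hg
  obtain ⟨a', ha', e⟩ := over_lift (Over.homMk h : Over.mk (h ≫ U.hom) ⟶ U) g a hah
  change C.X₂.val.presheaf.map g.op x = C.X₂.val.presheaf.map g.op 0
  rw [map_zero, ← e]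
  refine (sheaf_map_map_apply C.X₂.val.presheaf a' (Over.homMk h : Over.mk (h ≫ U.hom) ⟶ U) x).symm.trans ?_
  have h0 : C.X₂.val.presheaf.map (Over.homMk h : Over.mk (h ≫ U.hom) ⟶ U).op x = 0 := hvan h hh
  rw [h0, map_zero]

end

instance fppfPrecoverage_hasIsos : (Scheme.fppfPrecoverage.{u}).HasIsos where
  mem_coverings_of_isIso f _ := Scheme.Hom.singleton_mem_fppfPrecoverage f

set_option backward.isDefEq.respectTransparency.types false in
theorem parasitic_of_exact_fppf (S : Scheme.{u})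
    (C : ShortComplex (BigSite.Mod Scheme.fppfPrecoverage S))
    (hC : C.Exact) (p₁ : Adeq.parasitic Scheme.fppfPrecoverage S C.X₁)
    (p₃ : Adeq.parasitic Scheme.fppfPrecoverage S C.X₃) :
    Adeq.parasitic Scheme.fppfPrecoverage S C.X₂ :=
  @parasitic_of_exact (@Flat ⊓ @LocallyOfFinitePresentation) inf_le_left
    (inferInstanceAs (BigSite.OSh Scheme.fppfPrecoverage))
    (inferInstanceAs (Scheme.fppfPrecoverage.IsStableUnderComposition))
    (inferInstanceAs (Scheme.fppfPrecoverage.IsStableUnderBaseChange))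
    (inferInstanceAs (Scheme.fppfPrecoverage.HasIsos)) inferInstance S C hC p₁ p₃

end Groth.Agent.Lib.Helper44
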