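import Groth.Agent.Lib.Helper44.AdeqRestr
import Groth.Prelude.Def_Adeq2
import Mathlib

set_option autoImplicit false
universe u
open CategoryTheory CategoryTheory.Limits Opposite TensorProduct AlgebraicGeometry

namespace Groth.Agent.Lib.Helper44

section
variable (K : Precoverage Scheme.{u}) [BigSite.OSh K] {S : Scheme.{u}}
variable {R₁ R₂ : CommRingCat.{u}} [Algebra R₁ R₂] (a : Spec R₁ ⟶ S)

/-- the structure map to `S` of `Spec R₂` -/
noncomputable abbrev compSpec : Spec R₂ ⟶ S := Spec.map (CommRingCat.ofHom (algebraMap R₁ R₂)) ≫ a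

/-- comparison of the two objects of the big site attached to an `R₂`-algebra -/
noncomputable def specOverRestrHom (B' : Adeq.Alg R₂) :
    (Adeq.specOver (compSpec a)).obj (op B') ⟶
      (Adeq.specOver a).obj (op ((Adeq.Alg.restr R₁ R₂).obj B')) :=
  Over.homMk (𝟙 (Spec (CommRingCat.of B'))) (by
    change 𝟙 _ ≫ Spec.map (CommRingCat.ofHom ((algebraMap R₂ B').comp (algebraMap R₁ R₂))) ≫ a =
      Spec.map (CommRingCat.ofHom (algebraMap R₂ B')) ≫
        Spec.map (CommRingCat.ofHom (algebraMap R₁ R₂)) ≫ a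
    rw [Category.id_comp, CommRingCat.ofHom_comp, Spec.map_comp, Category.assoc])

noncomputable def specOverRestrInv (B' : Adeq.Alg R₂) :
    (Adeq.specOver a).obj (op ((Adeq.Alg.restr R₁ R₂).obj B')) ⟶
      (Adeq.specOver (compSpec a)).obj (op B') :=
  Over.homMk (𝟙 (Spec (CommRingCat.of B'))) (by
    change 𝟙 _ ≫ Spec.map (CommRingCat.ofHom (algebraMap R₂ B')) ≫
        Spec.map (CommRingCat.ofHom (algebraMap R₁ R₂)) ≫ a =
      Spec.map (CommRingCat.ofHom ((algebraMap R₂ B').comp (algebraMap R₁ R₂))) ≫ a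
    rw [Category.id_comp, CommRingCat.ofHom_comp, Spec.map_comp, Category.assoc])

theorem specOverRestrHom_inv (B' : Adeq.Alg R₂) :
    specOverRestrHom a B' ≫ specOverRestrInv a B' = 𝟙 _ := by
  apply Over.OverMorphism.ext
  change 𝟙 (Spec (CommRingCat.of B')) ≫ 𝟙 (Spec (CommRingCat.of B')) = 𝟙 (Spec (CommRingCat.of B'))
  rw [Category.id_comp]

theorem specOverRestrInv_hom (B' : Adeq.Alg R₂) :
    specOverRestrInv a B' ≫ specOverRestrHom a B' = 𝟙 _ := by
  apply Over.OverMorphism.ext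
  change 𝟙 (Spec (CommRingCat.of B')) ≫ 𝟙 (Spec (CommRingCat.of B')) = 𝟙 (Spec (CommRingCat.of B'))
  rw [Category.id_comp]

theorem specOverRestrHom_naturality {B' B'' : Adeq.Alg R₂} (φ : B' ⟶ B'') :
    (Adeq.specOver (compSpec a)).map φ.op ≫ specOverRestrHom a B' =
      specOverRestrHom a B'' ≫ (Adeq.specOver a).map ((Adeq.Alg.restr R₁ R₂).map φ).op := by
  apply Over.OverMorphism.ext
  change Spec.map (CommRingCat.ofHom φ.hom.toRingHom) ≫ 𝟙 (Spec (CommRingCat.of B')) =
    𝟙 (Spec (CommRingCat.of B'')) ≫ Spec.map (CommRingCat.ofHom φ.hom.toRingHom)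
  rw [Category.id_comp, Category.comp_id]

variable (M : BigSite.Mod K S)

noncomputable def restrToMVFNat :
    ((Adeq.restr R₁ R₂).obj ((Adeq.toMVF K a).obj M)).presheaf ⟶
      ((Adeq.toMVF K (compSpec a)).obj M).presheaf where
  app := fun X => M.val.presheaf.map (specOverRestrHom a X.unop.unop).op
  naturality := by
    intro X Y f
    change M.val.presheaf.map ((Adeq.specOver a).map ((Adeq.Alg.restr R₁ R₂).map f.unop.unop).op).op ≫
        M.val.presheaf.map (specOverRestrHom a Y.unop.unop).op =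
      M.val.presheaf.map (specOverRestrHom a X.unop.unop).op ≫
        M.val.presheaf.map ((Adeq.specOver (compSpec a)).map f.unop.unop.op).op
    rw [← Functor.map_comp, ← Functor.map_comp, ← op_comp, ← op_comp, specOverRestrHom_naturality]

theorem restrToMVFNat_smul (X : (Adeq.Alg R₂)ᵒᵖᵒᵖ) (r : (Adeq.ringOf R₂).obj X)
    (m : ((Adeq.restr R₁ R₂).obj ((Adeq.toMVF K a).obj M)).obj X) :
    (show ((Adeq.toMVF K (compSpec a)).obj M).obj X from (restrToMVFNat K a M).app X (r • m)) =
      r • (show ((Adeq.toMVF K (compSpec a)).obj M).obj X from (restrToMVFNat K a M).app X m) := by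
  have h := M.val.map_smul (specOverRestrHom a X.unop.unop).op
    (Adeq.toSect K a ((Adeq.Alg.restr R₁ R₂).obj X.unop.unop) r) m
  refine h.trans ?_
  congr 1

noncomputable def restrToMVFHom :
    (Adeq.restr R₁ R₂).obj ((Adeq.toMVF K a).obj M) ⟶ (Adeq.toMVF K (compSpec a)).obj M :=
  PresheafOfModules.homMk (restrToMVFNat K a M) (restrToMVFNat_smul K a M)

theorem restrToMVFHom_app_apply (B' : Adeq.Alg R₂)
    (x : ((Adeq.restr R₁ R₂).obj ((Adeq.toMVF K a).obj M)).obj (Adeq.pt B')) :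
    (restrToMVFHom K a M).app (Adeq.pt B') x =
      M.val.presheaf.map (specOverRestrHom a B').op x := rfl

omit [BigSite.OSh K] in
theorem sheaf_map_map_apply {C : Type*} [Category C] (P : Cᵒᵖ ⥤ Ab.{u + 1}) {U V W : C} (f : U ⟶ V) (g : V ⟶ W)
    (x : P.obj (op W)) :
    P.map f.op (P.map g.op x) = P.map (f ≫ g).op x := by
  rw [op_comp, Functor.map_comp]
  rfl

omit [BigSite.OSh K] in
theorem sheaf_map_id_apply {C : Type*} [Category C] (P : Cᵒᵖ ⥤ Ab.{u + 1}) (U : C) (x : P.obj (op U)) :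
    P.map (𝟙 U).op x = x := by
  rw [op_id, CategoryTheory.Functor.map_id]
  rfl

instance restrToMVFHom_isIso : IsIso (restrToMVFHom K (R₂ := R₂) a M) := by
  apply isIso_of_app_bijective
  intro X
  obtain ⟨⟨B'⟩⟩ := X
  refine Function.bijective_iff_has_inverse.2
    ⟨fun y => M.val.presheaf.map (specOverRestrInv a B').op y, ?_, ?_⟩
  · intro x
    refine (sheaf_map_map_apply M.val.presheaf (specOverRestrInv a B') (specOverRestrHom a B') x).trans ?_
    rw [specOverRestrInv_hom]
    exact sheaf_map_id_apply M.val.presheaf _ x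
  · intro x
    refine (sheaf_map_map_apply M.val.presheaf (specOverRestrHom a B') (specOverRestrInv a B') x).trans ?_
    rw [specOverRestrHom_inv]
    exact sheaf_map_id_apply M.val.presheaf _ x

theorem adequate_restr_toMVF_iff :
    Adeq.adequate R₂ ((Adeq.restr R₁ R₂).obj ((Adeq.toMVF K a).obj M)) ↔
      Adeq.adequate R₂ ((Adeq.toMVF K (compSpec (R₂ := R₂) a)).obj M) :=
  (Adeq.adequate R₂).prop_iff_of_iso (asIso (restrToMVFHom K (R₂ := R₂) a M))

theorem adequate_toMVF_compSpec (h : Adeq.adequate R₁ ((Adeq.toMVF K a).obj M)) :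
    Adeq.adequate R₂ ((Adeq.toMVF K (compSpec (R₂ := R₂) a)).obj M) :=
  (adequate_restr_toMVF_iff K a M).1 (adequate_restr R₁ R₂ _ h)

end

end Groth.Agent.Lib.Helper44
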