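import Groth.Agent.Lib.Helper44.BigAbLift
import Groth.Agent.Lib.Helper44.BigAdeqOps
import Mathlib

/-! Vanishing of the higher fppf cohomology of adequate modules over affine schemes. -/

set_option autoImplicit false
universe u
open CategoryTheory CategoryTheory.Limits Opposite TensorProduct AlgebraicGeometry

namespace Groth.Agent.Lib.Helper44

open Groth.Agent.Lib.Helper44.BigCech

section
variable (T₀ : Scheme.{u})

/-- the affine objects of the big site -/
def affObjs : Set (Over T₀) := {V | ∃ (R : CommRingCat.{u}) (a : Spec R ⟶ T₀), V = Over.mk a}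

set_option backward.isDefEq.respectTransparency.types false in
theorem covS_h1 (U : Over T₀) (W : Over U) (hc : CovS T₀ U W) :
    Sieve.ofArrows (fun _ : PUnit.{u + 2} => W.left) (fun _ => W.hom) ∈
      QuotSh.J Scheme.fppfPrecoverage T₀ U ∧
    ∀ p : ℕ, ∃ V' ∈ affObjs T₀, Nonempty ((∏ᶜ fun _ : Fin (p + 1) => W).left ≅ V') := by
  cases hc with
  | mk R a B hff hcov =>
    refine ⟨?_, fun p => ?_⟩
    · rw [GrothendieckTopology.mem_over_iff, Sieve.overEquiv_ofArrows]
      exact Precoverage.generate_mem_toGrothendieck hcov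
    · refine ⟨((EE a).obj (specO R (Tw R B (p + 1)))).left, ⟨_, _, rfl⟩, ?_⟩
      exact ⟨(Over.forget _).mapIso (thetaE R B (EE a) (hEE a B) (p + 1))⟩

end

section
variable (T₀ : Scheme.{u}) [IsAffine T₀] (N : BigSite.Mod Scheme.fppfPrecoverage T₀)

set_option backward.isDefEq.respectTransparency.types false in
/-- the higher cohomology of an adequate module on the big fppf site of an affine scheme
vanishes -/
theorem H_affine_vanish (hN : Adeq.adequateMod Scheme.fppfPrecoverage T₀ N) (p : ℕ) :
    Subsingleton (Sheaf.H ((BigSite.toAbMod Scheme.fppfPrecoverage T₀).obj N) (p + 1)) := by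
  have hT : IsTerminal (Over.mk T₀.isoSpec.inv : Over T₀) :=
    IsTerminal.ofIso Over.mkIdTerminal
      (Over.isoMk T₀.isoSpec (by simp) : Over.mk (𝟙 T₀) ≅ Over.mk T₀.isoSpec.inv)
  refine big_cartan (QuotSh.J Scheme.fppfPrecoverage T₀) (Over.mk T₀.isoSpec.inv) hT
    (affObjs T₀) (CovS T₀) (covS_h1 T₀) ?_ _ ?_ ⟨_, _, rfl⟩ p
  · intro G H π hπ U hU s
    obtain ⟨R, a, rfl⟩ := hU
    exact ab_local_lift π a s
  · intro U W hc p
    cases hc with
    | mk R a B hff hcov => exact adeq_cech_acyclic N a B hN p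

end

end Groth.Agent.Lib.Helper44
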