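import Groth.Agent.Lib.Helper44.BigCech1
import Mathlib

/-! Port of `Groth.Agent.Lib.Lead.CechSite2` to large sites. -/

set_option autoImplicit false
universe u
open CategoryTheory CategoryTheory.Limits Opposite
namespace Groth.Agent.Lib.Helper44.BigCech

open Groth.Agent.Lib.Lead
variable {C : Type (u + 1)} [Category.{u} C] {U : C} [HasFiniteProducts (Over U)] {ι : Type (u + 1)}
  (Y : ι → Over U)

variable {Y} in
/-- The tuple of indices of a generator. -/
def sIdx {n : ℕ} {W : C} (τ : sGen Y n W) : Fin (n + 1) → ι := fun a => (τ.1 a).1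

variable {Y} in
/-- The map to the iterated fibre product attached to a generator, in `Over U`. -/
noncomputable def sToProdOver {n : ℕ} {W : C} (τ : sGen Y n W) :
    Over.mk (sStr (τ.1 0)) ⟶ gObj Y (sIdx τ) :=
  Pi.lift (fun a => (Over.homMk (τ.1 a).2 (τ.2 a 0) : Over.mk (sStr (τ.1 0)) ⟶ Y (sIdx τ a)))

variable {Y} in
/-- The map to the iterated fibre product attached to a generator. -/
noncomputable def sToProd {n : ℕ} {W : C} (τ : sGen Y n W) : W ⟶ (gObj Y (sIdx τ)).left :=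
  (sToProdOver τ).left

variable {Y} in
lemma sToProd_π {n : ℕ} {W : C} (τ : sGen Y n W) (a : Fin (n + 1)) :
    sToProd τ ≫ (Pi.π (Y ∘ sIdx τ) a).left = (τ.1 a).2 := by
  have h : sToProdOver τ ≫ Pi.π (Y ∘ sIdx τ) a =
      (Over.homMk (τ.1 a).2 (τ.2 a 0) : Over.mk (sStr (τ.1 0)) ⟶ Y (sIdx τ a)) := by
    unfold sToProdOver
    exact Pi.lift_π _ _
  have h' := congrArg (fun φ => φ.left) h
  exact h'

/-- Maps to an iterated fibre product are determined by their components. -/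
lemma prod_left_ext {n : ℕ} {W : C} (x : Fin (n + 1) → ι) (f f' : W ⟶ (gObj Y x).left)
    (h : ∀ a, f ≫ (Pi.π (Y ∘ x) a).left = f' ≫ (Pi.π (Y ∘ x) a).left) : f = f' := by
  have hw : f' ≫ (gObj Y x).hom = f ≫ (gObj Y x).hom := by
    have h0 := h 0
    have e : (Pi.π (Y ∘ x) 0).left ≫ (Y (x 0)).hom = (gObj Y x).hom := Over.w (Pi.π (Y ∘ x) 0)
    rw [← e, ← Category.assoc, ← Category.assoc, h0]
  let F : Over.mk (f ≫ (gObj Y x).hom) ⟶ gObj Y x := Over.homMk f rfl
  let F' : Over.mk (f ≫ (gObj Y x).hom) ⟶ gObj Y x := Over.homMk f' hw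
  have hFF' : F = F' := by
    apply Pi.hom_ext
    intro a
    apply Over.OverMorphism.ext
    exact h a
  have := congrArg (fun φ => φ.left) hFF'
  exact this



variable (P : Cᵒᵖ ⥤ AddCommGrpCat.{u + 1})

/-- The presheaf on `Over U` whose Čech complex is considered. -/
abbrev sPU : (Over U)ᵒᵖ ⥤ AddCommGrpCat.{u + 1} := (Over.forget U).op ⋙ P

variable {Y} in
lemma sToProd_restr {n : ℕ} {W W' : C} (h : W' ⟶ W) (τ : sGen Y n W) :
    sToProd (sGenRestr h τ) = h ≫ sToProd τ := by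
  apply prod_left_ext Y (sIdx τ)
  intro a
  have h1 := sToProd_π (sGenRestr h τ) a
  have h2 := sToProd_π τ a
  rw [Category.assoc, h2]
  exact h1

variable {Y} in
lemma sToProd_face {n : ℕ} {W : C} (i : Fin (n + 2)) (τ : sGen Y (n + 1) W) :
    sToProd (sGenFace i τ) = sToProd τ ≫ (gFace Y (sIdx τ) i).left := by
  apply prod_left_ext Y (sIdx τ ∘ Fin.succAbove i)
  intro a
  have h1 := sToProd_π (sGenFace i τ) a
  have h2 := sToProd_π τ (Fin.succAbove i a)
  have h3 : gFace Y (sIdx τ) i ≫ Pi.π (Y ∘ (sIdx τ ∘ Fin.succAbove i)) a =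
      Pi.π (Y ∘ sIdx τ) (Fin.succAbove i a) := by
    unfold gFace
    exact Pi.lift_π _ _
  have h3' := congrArg (fun φ => φ.left) h3
  have h4 : (gFace Y (sIdx τ) i).left ≫ (Pi.π (Y ∘ (sIdx τ ∘ Fin.succAbove i)) a).left =
      (Pi.π (Y ∘ sIdx τ) (Fin.succAbove i a)).left := h3'
  refine h1.trans ?_
  refine Eq.trans ?_ (Category.assoc _ _ _).symm
  exact ((congrArg (fun m => sToProd τ ≫ m) h4).trans h2).symm

variable {Y} in
lemma map_sToProd_restr {n : ℕ} {W W' : C} (h : W' ⟶ W) (τ : sGen Y n W)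
    (z : P.obj (op (gObj Y (sIdx τ)).left)) :
    P.map (sToProd (sGenRestr h τ)).op z = P.map h.op (P.map (sToProd τ).op z) := by
  have key : ∀ (f' : W' ⟶ (gObj Y (sIdx τ)).left), f' = h ≫ sToProd τ →
      P.map f'.op z = P.map h.op (P.map (sToProd τ).op z) := by
    rintro _ rfl
    rw [op_comp, P.map_comp]
    rfl
  exact key _ (sToProd_restr h τ)

/-- The morphism `K_n ⟶ P` attached to a cochain. -/
noncomputable def sKDesc (n : ℕ) (c : GCochain Y (sPU P) n) : sK Y n ⟶ P where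
  app W := AddCommGrpCat.ofHom
    (FreeAbelianGroup.lift (fun τ : sGen Y n W.unop => P.map (sToProd τ).op (c (sIdx τ))))
  naturality W W' f := by
    refine AddCommGrpCat.hom_ext (FreeAbelianGroup.lift_ext _ _ fun τ => ?_)
    simp only [sK, AddCommGrpCat.hom_comp, AddCommGrpCat.hom_ofHom, AddMonoidHom.comp_apply,
      FreeAbelianGroup.map_of_apply, FreeAbelianGroup.lift_apply_of]
    exact map_sToProd_restr P f.unop τ (c (sIdx τ))

lemma sKDesc_app_of (n : ℕ) (c : GCochain Y (sPU P) n) (W : Cᵒᵖ) (τ : sGen Y n W.unop) :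
    (sKDesc Y P n c).app W (sKGen Y n W τ) = P.map (sToProd τ).op (c (sIdx τ)) :=
  FreeAbelianGroup.lift_apply_of _ _

/-- The canonical generator over an iterated fibre product. -/
noncomputable def sCanon {n : ℕ} (x : Fin (n + 1) → ι) : sGen Y n (gObj Y x).left :=
  ⟨fun a => ⟨x a, (Pi.π (Y ∘ x) a).left⟩, fun a b => by
    simp only [sStr]
    exact (Over.w (Pi.π (Y ∘ x) a)).trans (Over.w (Pi.π (Y ∘ x) b)).symm⟩

lemma sToProd_canon {n : ℕ} (x : Fin (n + 1) → ι) : sToProd (sCanon Y x) = 𝟙 _ := by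
  apply prod_left_ext Y x
  intro a
  rw [Category.id_comp]
  exact sToProd_π (sCanon Y x) a

/-- The cochain attached to a morphism `K_n ⟶ P`. -/
noncomputable def sKEval (n : ℕ) (ψ : sK Y n ⟶ P) : GCochain Y (sPU P) n :=
  fun x => ψ.app (op (gObj Y x).left) (sKGen Y n (op (gObj Y x).left) (sCanon Y x))

lemma sKEval_desc (n : ℕ) (c : GCochain Y (sPU P) n) : sKEval Y P n (sKDesc Y P n c) = c := by
  funext x
  dsimp only [sKEval]
  rw [sKDesc_app_of]
  have h := sToProd_canon Y x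
  change (P.map (sToProd (sCanon Y x)).op) (c x) = c x
  rw [h]
  change (P.map (𝟙 _)) (c x) = c x
  rw [P.map_id]
  rfl

variable {Y} in
lemma sGenRestr_canon {n : ℕ} {W : C} (τ : sGen Y n W) :
    sGenRestr (sToProd τ) (sCanon Y (sIdx τ)) = τ := by
  apply Subtype.ext
  funext a
  exact Sigma.ext rfl (heq_of_eq (sToProd_π τ a))

lemma sKDesc_eval (n : ℕ) (ψ : sK Y n ⟶ P) : sKDesc Y P n (sKEval Y P n ψ) = ψ := by
  apply sK_hom_ext
  intro W τ
  rw [sKDesc_app_of]
  dsimp only [sKEval]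
  have h := NatTrans.naturality_apply ψ (sToProd τ).op
    (sKGen Y n (op (gObj Y (sIdx τ)).left) (sCanon Y (sIdx τ)))
  rw [← h, sK_map_of]
  congr 2
  exact sGenRestr_canon τ

variable {Y} in
lemma map_sToProd_face {n : ℕ} {W : C} (i : Fin (n + 2)) (τ : sGen Y (n + 1) W)
    (z : P.obj (op (gObj Y (sIdx τ ∘ Fin.succAbove i)).left)) :
    P.map (sToProd (sGenFace i τ)).op z =
      P.map (sToProd τ).op (P.map (gFace Y (sIdx τ) i).left.op z) := by
  have key : ∀ (f' : W ⟶ (gObj Y (sIdx τ ∘ Fin.succAbove i)).left),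
      f' = sToProd τ ≫ (gFace Y (sIdx τ) i).left →
      P.map f'.op z = P.map (sToProd τ).op (P.map (gFace Y (sIdx τ) i).left.op z) := by
    rintro _ rfl
    rw [op_comp, P.map_comp]
    rfl
  exact key _ (sToProd_face i τ)

lemma sKd_desc (n : ℕ) (c : GCochain Y (sPU P) n) :
    sKd Y n ≫ sKDesc Y P n c = sKDesc Y P (n + 1) (gCoboundary Y (sPU P) n c) := by
  apply sK_hom_ext
  intro W τ
  rw [NatTrans.comp_app, ConcreteCategory.comp_apply, sKd_app_of, map_sum, sKDesc_app_of]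
  have hR : (gCoboundary Y (sPU P) n c (sIdx τ) : P.obj (op (gObj Y (sIdx τ)).left)) =
      ∑ i : Fin (n + 2), (-1 : ℤ) ^ (i : ℕ) •
        (P.map (gFace Y (sIdx τ) i).left.op) (c (sIdx τ ∘ Fin.succAbove i)) := rfl
  rw [hR, map_sum]
  refine Finset.sum_congr rfl fun i _ => ?_
  rw [map_zsmul, map_zsmul, sKDesc_app_of]
  congr 1
  exact map_sToProd_face P i τ (c (sIdx τ ∘ Fin.succAbove i))

end Groth.Agent.Lib.Helper44.BigCech
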