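import Groth.Agent.Lib.Helper44.BigCech2
import Mathlib

/-! Port of `Groth.Agent.Lib.Lead.CechSite3` to large sites. -/

set_option autoImplicit false
universe u
open CategoryTheory CategoryTheory.Limits Opposite
namespace Groth.Agent.Lib.Helper44.BigCech

open Groth.Agent.Lib.Lead
variable {C : Type (u + 1)} [Category.{u} C] {U : C} [HasFiniteProducts (Over U)] {ι : Type (u + 1)}
  (Y : ι → Over U)

section Homotopy

variable {Y}

/-- A chosen element of `sT` with given structure map. -/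
noncomputable def sBp {W : C} (g : W ⟶ U) (h : ∃ t : sT Y W, sStr t = g) : sT Y W := h.choose

lemma sBp_spec {W : C} (g : W ⟶ U) (h : ∃ t : sT Y W, sStr t = g) : sStr (sBp g h) = g :=
  h.choose_spec

lemma sBp_congr {W : C} {g g' : W ⟶ U} (e : g = g') (h : ∃ t : sT Y W, sStr t = g)
    (h' : ∃ t : sT Y W, sStr t = g') : sBp g h = sBp g' h' := by
  subst e
  rfl

/-- Prepending the chosen base point. -/
noncomputable def sGenCons {m : ℕ} {W : C} (τ : sGen Y m W) : sGen Y (m + 1) W :=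
  ⟨Fin.cons (sBp (sStr (τ.1 0)) ⟨τ.1 0, rfl⟩) τ.1, by
    have h0 : ∀ a : Fin (m + 2),
        sStr ((Fin.cons (sBp (sStr (τ.1 0)) ⟨τ.1 0, rfl⟩) τ.1 : Fin (m + 2) → sT Y W) a) =
          sStr (τ.1 0) := by
      intro a
      refine Fin.cases ?_ (fun b => ?_) a
      · simpa using sBp_spec (sStr (τ.1 0)) ⟨τ.1 0, rfl⟩
      · simpa using τ.2 b 0
    intro a b
    rw [h0 a, h0 b]⟩

lemma sGenFace_zero_cons {m : ℕ} {W : C} (τ : sGen Y m W) : sGenFace 0 (sGenCons τ) = τ := by
  apply Subtype.ext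
  funext a
  simp [sGenFace, sGenCons, Fin.succAbove_zero]

lemma sGenFace_succ_cons {m : ℕ} {W : C} (k : Fin (m + 2)) (τ : sGen Y (m + 1) W) :
    sGenFace k.succ (sGenCons τ) = sGenCons (sGenFace k τ) := by
  apply Subtype.ext
  funext a
  refine Fin.cases ?_ (fun b => ?_) a
  · simp only [sGenFace, sGenCons, Function.comp_apply, Fin.succ_succAbove_zero, Fin.cons_zero]
    exact sBp_congr (τ.2 _ _) _ _
  · simp [sGenFace, sGenCons, Fin.removeNth]

variable (Y) in
/-- The contracting homotopy on sections over `W`. -/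
noncomputable def sKh (m : ℕ) (W : Cᵒᵖ) : (sK Y m).obj W →+ (sK Y (m + 1)).obj W :=
  FreeAbelianGroup.map (sGenCons (m := m) (W := W.unop))

lemma sKh_gen (m : ℕ) (W : Cᵒᵖ) (τ : sGen Y m W.unop) :
    sKh Y m W (sKGen Y m W τ) = sKGen Y (m + 1) W (sGenCons τ) :=
  FreeAbelianGroup.map_of_apply _

lemma sK_homotopy (n : ℕ) (W : Cᵒᵖ) (z : (sK Y (n + 1)).obj W) :
    (sKd Y (n + 1)).app W (sKh Y (n + 1) W z) =
      z - sKh Y n W ((sKd Y n).app W z) := by
  have key : ((sKd Y (n + 1)).app W).hom.comp (sKh Y (n + 1) W) =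
      AddMonoidHom.id _ - (sKh Y n W).comp ((sKd Y n).app W).hom := by
    refine FreeAbelianGroup.lift_ext _ _ fun τ => ?_
    change (sKd Y (n + 1)).app W (sKh Y (n + 1) W (sKGen Y (n + 1) W τ)) =
      sKGen Y (n + 1) W τ - sKh Y n W ((sKd Y n).app W (sKGen Y (n + 1) W τ))
    rw [sKh_gen, sKd_app_of, sKd_app_of, Fin.sum_univ_succ, map_sum]
    simp only [Fin.val_zero, pow_zero, one_smul, sGenFace_zero_cons, Fin.val_succ,
      sGenFace_succ_cons, map_zsmul, sKh_gen, pow_succ, mul_neg, mul_one, neg_smul,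
      Finset.sum_neg_distrib]
    abel
  exact DFunLike.congr_fun key z

/-- Sectionwise exactness of the free presheaf complex. -/
lemma sK_exact_app (n : ℕ) (W : Cᵒᵖ) (z : (sK Y (n + 1)).obj W)
    (hz : (sKd Y n).app W z = 0) :
    ∃ w : (sK Y (n + 2)).obj W, (sKd Y (n + 1)).app W w = z := by
  refine ⟨sKh Y (n + 1) W z, ?_⟩
  rw [sK_homotopy, hz, map_zero, sub_zero]

end Homotopy

variable (P : Cᵒᵖ ⥤ AddCommGrpCat.{u + 1})

lemma sKDesc_zero (n : ℕ) : sKDesc Y P n 0 = 0 := by
  apply sK_hom_ext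
  intro W τ
  rw [sKDesc_app_of]
  change (P.map (sToProd τ).op) 0 = 0
  exact map_zero _

/-- `d ∘ d = 0` for the free presheaf complex. -/
lemma sKd_comp (n : ℕ) : sKd Y (n + 1) ≫ sKd Y n = 0 := by
  have h1 : sKd Y n = sKDesc Y (sK Y n) (n + 1)
      (gCoboundary Y (sPU (sK Y n)) n (sKEval Y (sK Y n) n (𝟙 _))) := by
    rw [← sKd_desc, sKDesc_eval, Category.comp_id]
  rw [h1, sKd_desc, gCoboundary_comp, sKDesc_zero]

/-- Čech cocycles of positive degree with values in an injective presheaf are coboundaries. -/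
theorem sCech_exact_of_injective_presheaf (I : Cᵒᵖ ⥤ AddCommGrpCat.{u + 1}) [Injective I]
    (n : ℕ) (c : GCochain Y (sPU I) (n + 1)) (hc : gCoboundary Y (sPU I) (n + 1) c = 0) :
    ∃ b : GCochain Y (sPU I) n, gCoboundary Y (sPU I) n b = c := by
  let S : ShortComplex (Cᵒᵖ ⥤ AddCommGrpCat.{u + 1}) :=
    ShortComplex.mk (sKd Y (n + 1)) (sKd Y n) (sKd_comp Y n)
  have hS : S.Exact := shortComplex_exact_of_evaluation S (fun W => by
    rw [ShortComplex.ab_exact_iff]
    intro z hz
    exact sK_exact_app n W z hz)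
  have hφ : S.f ≫ sKDesc Y I (n + 1) c = 0 := by
    change sKd Y (n + 1) ≫ sKDesc Y I (n + 1) c = 0
    rw [sKd_desc, hc, sKDesc_zero]
  have hψ : sKd Y n ≫ hS.descToInjective _ hφ = sKDesc Y I (n + 1) c :=
    hS.comp_descToInjective _ hφ
  refine ⟨sKEval Y I n (hS.descToInjective _ hφ), ?_⟩
  have h : sKDesc Y I (n + 1) (gCoboundary Y (sPU I) n (sKEval Y I n (hS.descToInjective _ hφ))) =
      sKDesc Y I (n + 1) c := by
    rw [← sKd_desc, sKDesc_eval, hψ]
  have h' := congrArg (sKEval Y I (n + 1)) h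
  rwa [sKEval_desc, sKEval_desc] at h'

/-- The underlying presheaf of an injective abelian sheaf on a site is an injective presheaf. -/
lemma injective_presheaf_of_injective_sheaf_site (J : GrothendieckTopology C)
    (I : Sheaf J AddCommGrpCat.{u + 1}) [Injective I] :
    Injective (I.obj : Cᵒᵖ ⥤ AddCommGrpCat.{u + 1}) := by
  have := Injective.injective_of_adjoint
    (sheafificationAdjunction J AddCommGrpCat.{u + 1}) I
  exact this

/-- **Injective abelian sheaves on a site are Čech-acyclic** for every family over `U`. -/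
theorem isZero_sCechH_of_injective (J : GrothendieckTopology C)
    (I : Sheaf J AddCommGrpCat.{u + 1}) [Injective I] (n : ℕ) :
    IsZero ((gCx Y (sPU I.obj)).homology (n + 1)) := by
  haveI := injective_presheaf_of_injective_sheaf_site J I
  rw [isZero_gH_succ_iff]
  intro c hc
  exact sCech_exact_of_injective_presheaf Y I.obj n c hc

end Groth.Agent.Lib.Helper44.BigCech
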