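import Groth.Agent.Lib.Helper44.BigCech3
import Mathlib

/-! Port of `Groth.Agent.Lib.Lead.CechSiteSES` to large sites. -/

set_option autoImplicit false
universe u
open CategoryTheory CategoryTheory.Limits Opposite
namespace Groth.Agent.Lib.Helper44.BigCech

open Groth.Agent.Lib.Lead
variable {C : Type (u + 1)} [Category.{u} C] {J : GrothendieckTopology C}

section Sections

variable (S : ShortComplex (Sheaf J AddCommGrpCat.{u + 1})) (hS : S.ShortExact)

lemma sses_sections_gf (V : C) (z : S.X₁.obj.obj (op V)) :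
    S.g.hom.app (op V) (S.f.hom.app (op V) z) = 0 := by
  have h := S.zero
  have h' : S.f.hom ≫ S.g.hom = 0 := by
    rw [← ObjectProperty.FullSubcategory.comp_hom, h]; rfl
  have h'' := congrArg (fun φ => φ.app (op V)) h'
  exact ConcreteCategory.congr_hom h'' z

include hS in
lemma sses_sections_exact (V : C) (z : S.X₂.obj.obj (op V)) (hz : S.g.hom.app (op V) z = 0) :
    ∃ c : S.X₁.obj.obj (op V), S.f.hom.app (op V) c = z := by
  let F : Sheaf J AddCommGrpCat.{u + 1} ⥤ AddCommGrpCat.{u + 1} :=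
    sheafToPresheaf J AddCommGrpCat.{u + 1} ⋙ (evaluation Cᵒᵖ AddCommGrpCat.{u + 1}).obj (op V)
  have hF : PreservesFiniteLimits F := inferInstance
  have h := ((Functor.preservesFiniteLimits_tfae F).out 1 3 rfl rfl).mpr hF S ⟨hS.exact, hS.mono_f⟩
  exact (ShortComplex.ab_exact_iff (S.map F)).mp h.1 z hz

include hS in
lemma sses_sections_injective (V : C) : Function.Injective (S.f.hom.app (op V)) := by
  haveI := hS.mono_f
  have h1 : Mono S.f.hom := (Sheaf.Hom.mono_iff_presheaf_mono _ _ S.f).1 inferInstance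
  have h2 : Mono (S.f.hom.app (op V)) := inferInstance
  exact (AddCommGrpCat.mono_iff_injective _).1 h2

end Sections

section SES

variable {U : C} [HasFiniteProducts (Over U)] {ι : Type (u + 1)} (Y : ι → Over U)

/-- The morphism of presheaves on `Over U` induced by a morphism of presheaves on `C`. -/
abbrev sPUMap {P Q : Cᵒᵖ ⥤ AddCommGrpCat.{u + 1}} (φ : P ⟶ Q) : sPU (U := U) P ⟶ sPU Q :=
  Functor.whiskerLeft (Over.forget U).op φ

variable (S : ShortComplex (Sheaf J AddCommGrpCat.{u + 1})) (hS : S.ShortExact)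

lemma sses_cochain_gf (n : ℕ) (e : GCochain Y (sPU S.X₁.obj) n) :
    gCochainMap Y (sPUMap S.g.hom) n (gCochainMap Y (sPUMap S.f.hom) n e) = 0 := by
  funext x
  exact sses_sections_gf S _ _

include hS in
lemma sses_cochain_exact (n : ℕ) (i : GCochain Y (sPU S.X₂.obj) n)
    (hi : gCochainMap Y (sPUMap S.g.hom) n i = 0) :
    ∃ e : GCochain Y (sPU S.X₁.obj) n, gCochainMap Y (sPUMap S.f.hom) n e = i := by
  have h : ∀ x : Fin (n + 1) → ι, ∃ c : S.X₁.obj.obj (op (gObj Y x).left),
      S.f.hom.app (op (gObj Y x).left) c = i x :=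
    fun x => sses_sections_exact S hS _ (i x) (congrFun hi x)
  choose e he using h
  exact ⟨e, funext he⟩

include hS in
lemma sses_cochain_injective (n : ℕ) (e e' : GCochain Y (sPU S.X₁.obj) n)
    (h : gCochainMap Y (sPUMap S.f.hom) n e = gCochainMap Y (sPUMap S.f.hom) n e') : e = e' := by
  funext x
  exact sses_sections_injective S hS _ (congrFun h x)

lemma sses_cochain_surjective (n : ℕ)
    (hsurj : ∀ x : Fin (n + 1) → ι, Function.Surjective (S.g.hom.app (op (gObj Y x).left)))
    (q : GCochain Y (sPU S.X₃.obj) n) :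
    ∃ i : GCochain Y (sPU S.X₂.obj) n, gCochainMap Y (sPUMap S.g.hom) n i = q := by
  choose i hi using fun x => hsurj x (q x)
  exact ⟨i, funext hi⟩

/-- Vanishing of Čech cohomology on a site in terms of explicit cochains. -/
lemma isZero_sCechH_succ_iff (P : Cᵒᵖ ⥤ AddCommGrpCat.{u + 1}) (n : ℕ) :
    IsZero ((gCx Y (sPU P)).homology (n + 1)) ↔
      ∀ c : GCochain Y (sPU P) (n + 1), gCoboundary Y (sPU P) (n + 1) c = 0 →
        ∃ b : GCochain Y (sPU P) n, gCoboundary Y (sPU P) n b = c :=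
  isZero_gH_succ_iff Y (sPU P) n

include hS in
/-- Shift up: Čech acyclicity of the kernel and middle term gives that of the quotient. -/
theorem sCech_shift_up (n : ℕ)
    (hsurj : ∀ x : Fin (n + 2) → ι, Function.Surjective (S.g.hom.app (op (gObj Y x).left)))
    (h₁ : IsZero ((gCx Y (sPU S.X₁.obj)).homology (n + 2)))
    (h₂ : IsZero ((gCx Y (sPU S.X₂.obj)).homology (n + 1))) :
    IsZero ((gCx Y (sPU S.X₃.obj)).homology (n + 1)) := by
  rw [isZero_sCechH_succ_iff] at h₁ h₂ ⊢
  intro q hq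
  obtain ⟨i, rfl⟩ := sses_cochain_surjective Y S (n + 1) hsurj q
  rw [← gCochainMap_coboundary] at hq
  obtain ⟨e, he⟩ := sses_cochain_exact Y S hS (n + 2) _ hq
  have hde : gCoboundary Y (sPU S.X₁.obj) (n + 2) e = 0 := by
    apply sses_cochain_injective Y S hS
    rw [gCochainMap_coboundary, he, gCoboundary_comp, gCochainMap_zero]
  obtain ⟨e', rfl⟩ := h₁ e hde
  have hcl : gCoboundary Y (sPU S.X₂.obj) (n + 1)
      (i - gCochainMap Y (sPUMap S.f.hom) (n + 1) e') = 0 := by
    rw [gCoboundary_sub, ← gCochainMap_coboundary, he, sub_self]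
  obtain ⟨i', hi'⟩ := h₂ _ hcl
  refine ⟨gCochainMap Y (sPUMap S.g.hom) n i', ?_⟩
  rw [← gCochainMap_coboundary, hi', gCochainMap_sub, sses_cochain_gf Y S, sub_zero]

include hS in
/-- Shift down: Čech acyclicity of the quotient and middle term gives that of the kernel one
degree up. -/
theorem sCech_shift_down (n : ℕ)
    (hsurj : ∀ x : Fin (n + 1) → ι, Function.Surjective (S.g.hom.app (op (gObj Y x).left)))
    (h₃ : IsZero ((gCx Y (sPU S.X₃.obj)).homology (n + 1)))
    (h₂ : IsZero ((gCx Y (sPU S.X₂.obj)).homology (n + 2))) :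
    IsZero ((gCx Y (sPU S.X₁.obj)).homology (n + 2)) := by
  rw [isZero_sCechH_succ_iff] at h₃ h₂ ⊢
  intro e he
  have h1 : gCoboundary Y (sPU S.X₂.obj) (n + 2) (gCochainMap Y (sPUMap S.f.hom) (n + 2) e) = 0 := by
    rw [← gCochainMap_coboundary, he, gCochainMap_zero]
  obtain ⟨i, hi⟩ := h₂ _ h1
  have h2 : gCoboundary Y (sPU S.X₃.obj) (n + 1) (gCochainMap Y (sPUMap S.g.hom) (n + 1) i) = 0 := by
    rw [← gCochainMap_coboundary, hi, sses_cochain_gf Y S]
  obtain ⟨q', hq'⟩ := h₃ _ h2
  obtain ⟨i', rfl⟩ := sses_cochain_surjective Y S n hsurj q'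
  have h3 : gCochainMap Y (sPUMap S.g.hom) (n + 1) (i - gCoboundary Y (sPU S.X₂.obj) n i') = 0 := by
    rw [gCochainMap_sub, gCochainMap_coboundary, hq', sub_self]
  obtain ⟨e', he'⟩ := sses_cochain_exact Y S hS (n + 1) _ h3
  refine ⟨e', ?_⟩
  apply sses_cochain_injective Y S hS
  rw [gCochainMap_coboundary, he', gCoboundary_sub, gCoboundary_comp, sub_zero, hi]

end SES

end Groth.Agent.Lib.Helper44.BigCech
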