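import Groth.Agent.Lib.Helper44.BigZarFppf
import Mathlib

/-! Zariski cohomology of the restriction of an adequate module versus its fppf cohomology:
the comparison. -/

set_option autoImplicit false
universe u
open CategoryTheory CategoryTheory.Limits Opposite TensorProduct AlgebraicGeometry Abelian
  TopologicalSpace

namespace Groth.Agent.Lib.Helper44

open Groth.Agent.Lib.Helper44.BigCech Groth.Agent.Lib.Helper33.BigZarCoh

section
variable (S : Scheme.{u}) [BigSite.ZarCont Scheme.fppfPrecoverage.{u} S]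

set_option backward.isDefEq.respectTransparency.types false in
/-- restriction to the Zariski site keeps a short exact sequence exact if its epimorphism is
surjective on sections over affine objects -/
theorem shortExact_map_resZar (T : ShortComplex (BigSite.Ab Scheme.fppfPrecoverage.{u} S))
    (hT : T.ShortExact)
    (hsurj : ∀ (V V' : Over S), V' ∈ affObjs S → (V ≅ V') →
      Function.Surjective (T.g.hom.app (op V))) :
    (T.map (BigSite.resZar Scheme.fppfPrecoverage.{u} S)).ShortExact := by
  have hm : Mono T.f := hT.mono_f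
  have hex : (T.map (BigSite.resZar Scheme.fppfPrecoverage.{u} S)).Exact :=
    hT.exact.map_of_mono_of_preservesKernel _ hm inferInstance
  have hmono : Mono ((BigSite.resZar Scheme.fppfPrecoverage.{u} S).map T.f) := inferInstance
  have hls : Sheaf.IsLocallySurjective ((BigSite.resZar Scheme.fppfPrecoverage.{u} S).map T.g) := by
    refine ⟨fun {U} s => ?_⟩
    rw [Opens.mem_grothendieckTopology]
    intro x hx
    obtain ⟨V₀, hV, hxV, hVU⟩ := Opens.isBasis_iff_nbhd.1 S.isBasis_affineOpens hx
    let V : S.Opens := V₀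
    have hVaff : IsAffine (V : Scheme.{u}) := hV
    let e : (BigSite.zarIncl S).obj V ≅
        (Over.mk ((V : Scheme.{u}).isoSpec.inv ≫ V.ι) : Over S) :=
      Over.isoMk (V : Scheme.{u}).isoSpec (by
        change (V : Scheme.{u}).isoSpec.hom ≫ ((V : Scheme.{u}).isoSpec.inv ≫ V.ι) = V.ι
        rw [← Category.assoc, Iso.hom_inv_id, Category.id_comp])
    refine ⟨V, homOfLE hVU, ?_, hxV⟩
    obtain ⟨t, ht⟩ := hsurj _ _ ⟨_, _, rfl⟩ e
      (((BigSite.resZar Scheme.fppfPrecoverage.{u} S).obj T.X₃).obj.map (homOfLE hVU).op s)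
    exact ⟨t, ht⟩
  have hepi : Epi ((BigSite.resZar Scheme.fppfPrecoverage.{u} S).map T.g) :=
    Sheaf.epi_of_isLocallySurjective _
  exact ShortComplex.ShortExact.mk' hex hmono hepi

set_option backward.isDefEq.respectTransparency.types false in
/-- the Zariski cohomology of the restriction of an adequate module agrees with its fppf
cohomology -/
theorem zar_fppf_compare (M : BigSite.Mod Scheme.fppfPrecoverage.{u} S)
    (hM : Adeq.adequateMod Scheme.fppfPrecoverage S M) (q : ℕ) :
    Nonempty (EtZar.H ((BigSite.resZar Scheme.fppfPrecoverage S).obj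
      ((BigSite.toAbMod Scheme.fppfPrecoverage S).obj M)) q ≃+
      BigSite.HMod Scheme.fppfPrecoverage S M q) := by
  have h2 : ∀ (G H : BigSite.Ab Scheme.fppfPrecoverage.{u} S) (π : G ⟶ H), Epi π →
      ∀ U : Over S, U ∈ affObjs S → ∀ s : H.obj.obj (op U), ∃ W : Over U, CovS S U W ∧
        ∃ t : G.obj.obj (op W.left), π.hom.app (op W.left) t = H.obj.map W.hom.op s := by
    intro G H π hπ U hU s
    obtain ⟨R, a, rfl⟩ := hU
    exact ab_local_lift π a s
  have hMc : CechAcyclic (QuotSh.J Scheme.fppfPrecoverage.{u} S) (CovS S)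
      ((BigSite.toAbMod Scheme.fppfPrecoverage S).obj M) := by
    intro U W hc p
    cases hc with
    | mk R a B hff hcov => exact adeq_cech_acyclic M a B hM p
  have hP : ∀ F : BigSite.Ab Scheme.fppfPrecoverage.{u} S,
      CechAcyclic (QuotSh.J Scheme.fppfPrecoverage.{u} S) (CovS S) F →
      ∃ T : ShortComplex (BigSite.Ab Scheme.fppfPrecoverage.{u} S), T.ShortExact ∧ T.X₁ = F ∧
        Injective T.X₂ ∧ CechAcyclic (QuotSh.J Scheme.fppfPrecoverage.{u} S) (CovS S) T.X₃ ∧
        (T.map (BigSite.resZar Scheme.fppfPrecoverage.{u} S)).ShortExact := by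
    intro F hF
    obtain ⟨T, hT, h1, hI, hQ, hsurj⟩ := cartan_class_step (QuotSh.J Scheme.fppfPrecoverage.{u} S)
      (affObjs S) (CovS S) (covS_h1 S) h2 F hF
    exact ⟨T, hT, h1, hI, hQ, shortExact_map_resZar S T hT hsurj⟩
  obtain ⟨e⟩ := ext_adj_compare (BigSite.piZarAdj Scheme.fppfPrecoverage.{u} S)
    (injective_resZar_fppf S)
    ((constantSheaf (Opens.grothendieckTopology S) AddCommGrpCat.{u + 1}).obj
      (AddCommGrpCat.of (ULift ℤ)))
    (CechAcyclic (QuotSh.J Scheme.fppfPrecoverage.{u} S) (CovS S)) hP q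
    ((BigSite.toAbMod Scheme.fppfPrecoverage S).obj M) hMc
  exact ⟨e.trans (Groth.Agent.Lib.Helper33.BigSiteCoh.extCongrLeftAdd
    ((piZarPullConstIsoFppf S).app (AddCommGrpCat.of (ULift ℤ))) _ q).symm⟩

end

end Groth.Agent.Lib.Helper44
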