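import Groth.Agent.Lib.Helper33.BigSiteCoh
import Groth.Agent.Lib.Helper44.BigZarFppf2
import Mathlib

/-! Étale cohomology of the restriction of an adequate module to the small étale site versus its
fppf cohomology. -/

set_option autoImplicit false
universe u
open CategoryTheory CategoryTheory.Limits Opposite TensorProduct AlgebraicGeometry Abelian
  TopologicalSpace

namespace Groth.Agent.Lib.Helper44

open Groth.Agent.Lib.Helper44.BigCech Groth.Agent.Lib.Helper33.BigSiteCoh

section
variable (S : Scheme.{u})

instance preservesFiniteLimits_piEtPull_fppf :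
    PreservesFiniteLimits (BigSite.piEtPull Scheme.fppfPrecoverage.{u} S) :=
  Groth.Agent.Lib.Helper6.LanFlat.sheafPullback_preservesFiniteLimits (EtFppf.a S)
    AddCommGrpCat.{u + 1} _ _

instance additive_piEtPull_fppf : (BigSite.piEtPull Scheme.fppfPrecoverage.{u} S).Additive :=
  (BigSite.piEtAdj Scheme.fppfPrecoverage.{u} S).left_adjoint_additive

instance preservesFiniteLimits_resEt_fppf :
    PreservesFiniteLimits (BigSite.resEt Scheme.fppfPrecoverage.{u} S) := by
  have : PreservesLimitsOfSize.{0, 0} (BigSite.resEt Scheme.fppfPrecoverage.{u} S) :=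
    (BigSite.piEtAdj Scheme.fppfPrecoverage.{u} S).rightAdjoint_preservesLimits
  exact PreservesLimitsOfSize.preservesFiniteLimits _

theorem injective_resEt_fppf (I : BigSite.Ab Scheme.fppfPrecoverage.{u} S) (hI : Injective I) :
    Injective ((BigSite.resEt Scheme.fppfPrecoverage.{u} S).obj I) := by
  have : (BigSite.piEtPull Scheme.fppfPrecoverage.{u} S).PreservesMonomorphisms := inferInstance
  have := Functor.preservesInjectiveObjects_of_adjunction_of_preservesMonomorphisms
    (BigSite.piEtAdj Scheme.fppfPrecoverage.{u} S)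
  exact Functor.injective_obj _ _

/-- the two "global sections" functors agree -/
noncomputable def sectionsIsoEtFppf :
    BigSite.resEt Scheme.fppfPrecoverage.{u} S ⋙ EtCore.gsec S ≅
      (sheafSections (QuotSh.J Scheme.fppfPrecoverage.{u} S) AddCommGrpCat.{u + 1}).obj
        (op ((EtFppf.a S).obj (EtCoh.top S))) :=
  NatIso.ofComponents (fun _ => Iso.refl _) (fun _ => by
    simp only [Iso.refl_hom]
    rfl)

/-- the pullback of a constant sheaf to the big fppf site is the constant sheaf. -/
noncomputable def piEtPullConstIsoFppf :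
    constantSheaf S.smallEtaleTopology AddCommGrpCat.{u + 1} ⋙
        BigSite.piEtPull Scheme.fppfPrecoverage.{u} S ≅
      constantSheaf (QuotSh.J Scheme.fppfPrecoverage.{u} S) AddCommGrpCat.{u + 1} :=
  ((EtCore.constAdj S).comp (BigSite.piEtAdj Scheme.fppfPrecoverage.{u} S)).leftAdjointUniq
    ((constantSheafAdj (QuotSh.J Scheme.fppfPrecoverage.{u} S) AddCommGrpCat.{u + 1}
      (bigTopIsTerminal S)).ofNatIsoRight (sectionsIsoEtFppf S).symm)

end

end Groth.Agent.Lib.Helper44
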