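import Groth.Agent.Lib.Helper44.BigAdeqUnit
import Groth.Agent.Lib.Helper43.GaGm
import Groth.Agent.Lib.Helper33.BigSiteCoh
import Groth.Prelude.Def_CGrpSh2
import Mathlib

/-! The sheaf of points of the additive group on the big fppf site is the abelian sheaf underlying
the structure sheaf; its higher cohomology over affine schemes vanishes. -/

set_option autoImplicit false
universe u
open CategoryTheory CategoryTheory.Limits Opposite TensorProduct AlgebraicGeometry MonObj

namespace Groth.Agent.Lib.Helper44

section
variable (S : Scheme.{u})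

/-- the comparison from points of the additive group to functions, on sections -/
noncomputable def ptsGaHomApp (T : (Over S)ᵒᵖ) :
    (CGrpSh.pts Scheme.fppfPrecoverage (Red.Ga S)).obj.obj T →+
      ((BigSite.toAbMod Scheme.fppfPrecoverage S).obj
        (BigSite.unitMod Scheme.fppfPrecoverage S)).obj.obj T where
  toFun x := (ULift.up (Red.gaFn (Additive.toMul (ULift.down x))) :
    ULift.{u + 1} Γ((unop T).left, ⊤))
  map_zero' := by
    apply ULift.ext
    exact Groth.Agent.Lib.Helper43.gaFn_one
  map_add' x y := by
    apply ULift.ext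
    exact Groth.Agent.Lib.Helper43.gaFn_mul _ _

/-- the comparison from points of the additive group to functions -/
noncomputable def ptsGaHom :
    CGrpSh.pts Scheme.fppfPrecoverage (Red.Ga S) ⟶
      (BigSite.toAbMod Scheme.fppfPrecoverage S).obj (BigSite.unitMod Scheme.fppfPrecoverage S) :=
  ⟨{ app := fun T => AddCommGrpCat.ofHom (ptsGaHomApp S T)
     naturality := fun T T' f => by
      ext x
      apply ULift.ext
      exact Groth.Agent.Lib.Helper43.gaFn_comp f.unop (Additive.toMul (ULift.down x)) }⟩

instance ptsGaHom_isIso : IsIso (ptsGaHom S) := by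
  have h1 : ∀ T : (Over S)ᵒᵖ, IsIso ((ptsGaHom S).hom.app T) := by
    intro T
    rw [ConcreteCategory.isIso_iff_bijective]
    constructor
    · intro x y hxy
      have h2 : Red.gaFn (Additive.toMul (ULift.down x)) = Red.gaFn (Additive.toMul (ULift.down y)) :=
        congrArg ULift.down hxy
      have h3 := Groth.Agent.Lib.Helper43.gaFn_injective h2
      exact ULift.ext _ _ h3
    · intro z
      obtain ⟨x, hx⟩ := Groth.Agent.Lib.Helper43.gaFn_surjective (S := S) (X := unop T)
        (ULift.down (z : ULift.{u + 1} Γ((unop T).left, ⊤)))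
      refine ⟨ULift.up (Additive.ofMul x), ?_⟩
      apply ULift.ext
      exact hx
  have h4 : IsIso (ptsGaHom S).hom := NatIso.isIso_of_isIso_app _
  have h5 : IsIso ((sheafToPresheaf _ _).map (ptsGaHom S)) := h4
  exact isIso_of_reflects_iso (ptsGaHom S) (sheafToPresheaf _ _)

/-- the sheaf of points of the additive group is the abelian sheaf underlying `O` -/
noncomputable def ptsGaIso :
    CGrpSh.pts Scheme.fppfPrecoverage (Red.Ga S) ≅
      (BigSite.toAbMod Scheme.fppfPrecoverage S).obj (BigSite.unitMod Scheme.fppfPrecoverage S) :=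
  asIso (ptsGaHom S)

/-- the higher fppf cohomology of the additive group over an affine scheme vanishes -/
theorem H_Ga_affine_vanish [IsAffine S] (p : ℕ) :
    Subsingleton (BigSite.H Scheme.fppfPrecoverage S
      (CGrpSh.pts Scheme.fppfPrecoverage (Red.Ga S)) (p + 1)) := by
  have h := H_affine_vanish S (BigSite.unitMod Scheme.fppfPrecoverage S) (adequateMod_unitMod S) p
  exact (Groth.Agent.Lib.Helper33.BigSiteCoh.extCongrRightAdd _ (ptsGaIso S) (p + 1)).toEquiv.subsingleton

end

end Groth.Agent.Lib.Helper44
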