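import Groth.Agent.Lib.Helper5.ExtShift
import Mathlib

/-! Comparison of `Ext` groups along an adjunction `L ⊣ R` whose left adjoint preserves
monomorphisms, for objects of a class admitting injective embeddings which `R` keeps exact. -/

set_option autoImplicit false
universe w w' v v' u u'

open CategoryTheory Abelian Limits

namespace Groth.Agent.Lib.Helper44

/-- two quotients of isomorphic groups by corresponding kernels are isomorphic -/
theorem nonempty_addEquiv_of_surjective_ker {B C B' C' : Type*} [AddCommGroup B] [AddCommGroup C]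
    [AddCommGroup B'] [AddCommGroup C'] (δ : B →+ C) (δ' : B' →+ C')
    (hδ : Function.Surjective δ) (hδ' : Function.Surjective δ') (β : B ≃+ B')
    (hker : ∀ b, δ b = 0 ↔ δ' (β b) = 0) : Nonempty (C ≃+ C') := by
  have h : AddSubgroup.map (β : B →+ B') δ.ker = δ'.ker := by
    ext b'
    constructor
    · rintro ⟨b, hb, rfl⟩
      exact (hker b).1 hb
    · intro hb'
      refine ⟨β.symm b', ?_, β.apply_symm_apply b'⟩
      refine (hker _).2 ?_
      rw [β.apply_symm_apply]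
      exact hb'
  exact ⟨(QuotientAddGroup.quotientKerEquivOfSurjective δ hδ).symm.trans
    ((QuotientAddGroup.congr δ.ker δ'.ker β h).trans
      (QuotientAddGroup.quotientKerEquivOfSurjective δ' hδ'))⟩

section
variable {𝒜 : Type u} [Category.{v} 𝒜] [Abelian 𝒜] [HasExt.{w} 𝒜]
  {ℬ : Type u'} [Category.{v'} ℬ] [Abelian ℬ] [HasExt.{w'} ℬ]
  {L : ℬ ⥤ 𝒜} {R : 𝒜 ⥤ ℬ} (adj : L ⊣ R) [L.Additive] [R.Additive]

include adj in
/-- the comparison in degree one -/
theorem ext_one_adj_compare (Z : ℬ) (S : ShortComplex 𝒜) (hS : S.ShortExact) [Injective S.X₂]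
    [Injective (R.obj S.X₂)] (hRS : (S.map R).ShortExact) :
    Nonempty (Ext.{w'} Z (R.obj S.X₁) 1 ≃+ Ext.{w} (L.obj Z) S.X₁ 1) := by
  have : Injective (S.map R).X₂ := inferInstanceAs (Injective (R.obj S.X₂))
  refine nonempty_addEquiv_of_surjective_ker
    (Groth.Agent.Lib.Helper5.extBoundary₀ hRS Z) (Groth.Agent.Lib.Helper5.extBoundary₀ hS (L.obj Z))
    (Groth.Agent.Lib.Helper5.extBoundary₀_surjective hRS Z)
    (Groth.Agent.Lib.Helper5.extBoundary₀_surjective hS (L.obj Z))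
    (adj.homAddEquiv Z S.X₃).symm (fun ψ => ?_)
  refine Iff.trans (Groth.Agent.Lib.Helper5.extBoundary₀_eq_zero_iff hRS Z ψ)
    (Iff.trans ?_ (Groth.Agent.Lib.Helper5.extBoundary₀_eq_zero_iff hS (L.obj Z) _).symm)
  constructor
  · rintro ⟨φ, rfl⟩
    refine ⟨(adj.homEquiv Z S.X₂).symm φ, ?_⟩
    exact (adj.homEquiv_naturality_right_symm φ S.g).symm
  · rintro ⟨φ', hφ'⟩
    refine ⟨adj.homEquiv Z S.X₂ φ', ?_⟩
    have h1 : adj.homEquiv Z S.X₃ (φ' ≫ S.g) = adj.homEquiv Z S.X₂ φ' ≫ R.map S.g :=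
      adj.homEquiv_naturality_right φ' S.g
    rw [hφ'] at h1
    refine h1.symm.trans ?_
    exact (adj.homEquiv Z S.X₃).apply_symm_apply ψ

include adj in
/-- the comparison of `Ext` groups for the objects of a class `P` -/
theorem ext_adj_compare (hRinj : ∀ I : 𝒜, Injective I → Injective (R.obj I)) (Z : ℬ)
    (P : 𝒜 → Prop)
    (hP : ∀ F, P F → ∃ S : ShortComplex 𝒜, S.ShortExact ∧ S.X₁ = F ∧ Injective S.X₂ ∧ P S.X₃ ∧
      (S.map R).ShortExact) :
    ∀ (n : ℕ) (F : 𝒜), P F → Nonempty (Ext.{w'} Z (R.obj F) n ≃+ Ext.{w} (L.obj Z) F n) := by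
  have h1 : ∀ F : 𝒜, P F → Nonempty (Ext.{w'} Z (R.obj F) 1 ≃+ Ext.{w} (L.obj Z) F 1) := by
    intro F hF
    obtain ⟨S, hS, rfl, hI, hQ, hRS⟩ := hP F hF
    have := hRinj _ hI
    exact ext_one_adj_compare adj Z S hS hRS
  have hsucc : ∀ n : ℕ, ∀ F : 𝒜, P F →
      Nonempty (Ext.{w'} Z (R.obj F) (n + 1) ≃+ Ext.{w} (L.obj Z) F (n + 1)) := by
    intro n
    induction n with
    | zero => exact h1
    | succ n ih =>
      intro F hF
      obtain ⟨S, hS, rfl, hI, hQ, hRS⟩ := hP F hF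
      have : Injective (S.map R).X₂ := hRinj _ hI
      obtain ⟨e⟩ := ih S.X₃ hQ
      exact ⟨((Groth.Agent.Lib.Helper5.extShiftAddEquiv hRS Z n).symm.trans e).trans
        (Groth.Agent.Lib.Helper5.extShiftAddEquiv hS (L.obj Z) n)⟩
  intro n F hF
  cases n with
  | zero =>
    exact ⟨(Ext.addEquiv₀ (X := Z) (Y := R.obj F)).trans
      ((adj.homAddEquiv Z F).symm.trans (Ext.addEquiv₀ (X := L.obj Z) (Y := F)).symm)⟩
  | succ n => exact hsucc n F hF

end

end Groth.Agent.Lib.Helper44
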