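import Groth.Agent.Lib.Helper44.SpecialOfAdams

set_option autoImplicit false
open Finset

namespace Groth.Agent.Lib.Helper44

open LambdaRing

section BinomialAdams

variable {K : Type*} [CommRing K] [LambdaOps K] [BinomialRing K]

omit [LambdaOps K] in
theorem succ_mul_choose_succ (x : K) (n : ℕ) :
    ((n : K) + 1) * Ring.choose x (n + 1) = Ring.choose x n * (x - n) := by
  have h := Ring.choose_smul_choose x (Nat.le_succ n)
  rw [Nat.choose_succ_self_right, Nat.succ_sub (le_refl n), Nat.sub_self, Ring.choose_one_right,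
    nsmul_eq_mul] at h
  rw [← h]
  push_cast
  rfl

/-- `(1 + t) · (d/dt) λ_t(x) = x · λ_t(x)` for the binomial structure `λ_t(x) = (1 + t)^x`. -/
theorem one_add_X_mul_derivative_lamSeries (hKb : IsBinomial K) (x : K) :
    (1 + PowerSeries.X) * PowerSeries.derivative K (lamSeries x) =
      PowerSeries.C x * lamSeries x := by
  ext n
  rw [add_mul, one_mul, map_add, PowerSeries.coeff_C_mul, coeff_lamSeries,
    PowerSeries.coeff_derivative, coeff_lamSeries]
  rcases n with _ | n
  · rw [PowerSeries.coeff_zero_X_mul, add_zero, hKb, hKb, Ring.choose_one_right,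
      Ring.choose_zero_right]
    simp
  · rw [PowerSeries.coeff_succ_X_mul, PowerSeries.coeff_derivative, coeff_lamSeries, hKb, hKb,
      mul_comm (Ring.choose x (n + 1 + 1))]
    have := succ_mul_choose_succ x (n + 1)
    push_cast at this ⊢
    rw [this]
    ring

theorem logDerivSeries_of_isBinomial (hKb : IsBinomial K) (x : K) :
    logDerivSeries x = PowerSeries.mk fun k => (-1 : K) ^ k * x := by
  have hu : (PowerSeries.mk fun k => (-1 : K) ^ k) * (1 + PowerSeries.X) = 1 := by
    ext n
    rw [mul_add, mul_one, map_add]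
    rcases n with _ | n
    · simp
    · rw [PowerSeries.coeff_succ_mul_X, PowerSeries.coeff_mk, PowerSeries.coeff_mk,
        PowerSeries.coeff_one, if_neg (Nat.succ_ne_zero n)]
      ring
  have h1 : (1 + PowerSeries.X) * logDerivSeries x = PowerSeries.C x := by
    rw [logDerivSeries, ← mul_assoc, one_add_X_mul_derivative_lamSeries hKb, mul_assoc,
      lamSeries_mul_invOfUnit, mul_one]
  calc logDerivSeries x = ((PowerSeries.mk fun k => (-1 : K) ^ k) * (1 + PowerSeries.X)) *
        logDerivSeries x := by rw [hu, one_mul]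
    _ = (PowerSeries.mk fun k => (-1 : K) ^ k) * PowerSeries.C x := by rw [mul_assoc, h1]
    _ = PowerSeries.mk fun k => (-1 : K) ^ k * x := by
      ext n
      rw [mul_comm, PowerSeries.coeff_C_mul, PowerSeries.coeff_mk, PowerSeries.coeff_mk, mul_comm]

/-- The Adams operations of a binomial λ-ring are the identity. -/
theorem adamsOp_eq_self_of_isBinomial (hKb : IsBinomial K) (k : ℕ) (hk : 1 ≤ k) (x : K) :
    adamsOp k x = x := by
  obtain ⟨k, rfl⟩ : ∃ m, k = m + 1 := ⟨k - 1, by omega⟩
  rw [adamsOp_succ, logDerivSeries_of_isBinomial hKb, PowerSeries.coeff_mk, ← mul_assoc, ← mul_pow]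
  simp

/-- A binomial λ-ring is special. -/
theorem isSpecial_of_isBinomial (hKb : IsBinomial K) : IsSpecial K := by
  have : IsAddTorsionFree K := BinomialRing.toIsAddTorsionFree
  have hψ := adamsOp_eq_self_of_isBinomial hKb
  exact ⟨lam_one_eq_zero_of_adamsOp_one (fun k hk => hψ k hk 1),
    lam_mul_of_adamsOp_mul (fun k hk x y => by rw [hψ k hk, hψ k hk, hψ k hk]),
    lam_lam_of_adamsOp (fun k hk => hψ k hk 1)
      (fun k hk x y => by rw [hψ k hk, hψ k hk, hψ k hk])
      (fun k k' hk hk' x => by rw [hψ k' hk', hψ k hk, hψ (k * k') (Nat.mul_pos hk hk')])⟩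

end BinomialAdams

end Groth.Agent.Lib.Helper44
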