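import Groth.Agent.Lib.Helper44.UnivPoly
import Mathlib.Algebra.MvPolynomial.Equiv
import Mathlib.Algebra.Polynomial.Coeff

set_option autoImplicit false
open Finset

namespace Groth.Agent.Lib.Helper44

open LambdaRing

section L1

variable {A : Type*} [CommRing A] {ι : Type*}

/-- `∏_{b ∈ s} (1 + c_b t) = Σ_k e_k(c) t^k` in `A[t]`. -/
theorem prod_one_add_C_mul_X (s : Finset ι) (c : ι → A) :
    ∏ b ∈ s, (1 + Polynomial.C (c b) * Polynomial.X) =
      ∑ k ∈ range (s.card + 1),
        Polynomial.C (∑ t ∈ s.powersetCard k, ∏ b ∈ t, c b) * Polynomial.X ^ k := by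
  rw [Finset.prod_one_add, Finset.powerset_card_disjiUnion, Finset.sum_disjiUnion]
  refine Finset.sum_congr rfl fun k _ => ?_
  rw [map_sum, Finset.sum_mul]
  refine Finset.sum_congr rfl fun t ht => ?_
  rw [Finset.prod_mul_distrib, Finset.prod_const, (Finset.mem_powersetCard.mp ht).2, map_prod]

theorem coeff_sum_range_C_mul_X_pow (a : ℕ → A) (m n : ℕ) :
    (∑ k ∈ range m, Polynomial.C (a k) * Polynomial.X ^ k).coeff n = if n < m then a n else 0 := by
  rw [Polynomial.finsetSum_coeff]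
  simp only [Polynomial.coeff_C_mul_X_pow]
  split_ifs with h
  · rw [Finset.sum_eq_single n]
    · simp
    · intro b _ hb
      rw [if_neg (fun h => hb h.symm)]
    · intro hn
      exact absurd (Finset.mem_range.mpr h) hn
  · apply Finset.sum_eq_zero
    intro k hk
    rw [if_neg]
    rintro rfl
    exact h (Finset.mem_range.mp hk)

end L1

section Construction

open MvPolynomial

variable (n : ℕ)

/-- Placeholder for `e_k(U)` in the base ring `ℤ[Y_1..Y_n]`. -/
noncomputable def yCoef (k : ℕ) : MvPolynomial (Fin n) ℤ :=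
  if k = 0 then 1 else if h : k - 1 < n then X ⟨k - 1, h⟩ else 0

/-- One factor `Σ_k Y_k T_a^k t^k`. -/
noncomputable def genFactor (a : Fin n) : Polynomial (MvPolynomial (Fin n) (MvPolynomial (Fin n) ℤ)) :=
  ∑ k ∈ range (n + 1), Polynomial.C (C (yCoef n k) * X a ^ k) * Polynomial.X ^ k

/-- `∏_a Σ_k Y_k T_a^k t^k`. -/
noncomputable def genPoly : Polynomial (MvPolynomial (Fin n) (MvPolynomial (Fin n) ℤ)) :=
  ∏ a : Fin n, genFactor n a

/-- The coefficient of `t^n`. -/
noncomputable def genF : MvPolynomial (Fin n) (MvPolynomial (Fin n) ℤ) := (genPoly n).coeff n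

theorem map_rename_genFactor (e : Equiv.Perm (Fin n)) (a : Fin n) :
    Polynomial.map (rename e : MvPolynomial (Fin n) (MvPolynomial (Fin n) ℤ) →ₐ[_] _).toRingHom
      (genFactor n a) = genFactor n (e a) := by
  simp [genFactor, Polynomial.map_sum, Polynomial.map_mul, Polynomial.map_pow]

theorem genF_isSymmetric : (genF n).IsSymmetric := by
  intro e
  have h1 : rename e (genF n) = (Polynomial.map
      (rename e : MvPolynomial (Fin n) (MvPolynomial (Fin n) ℤ) →ₐ[_] _).toRingHom (genPoly n)).coeff n := by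
    rw [Polynomial.coeff_map]
    rfl
  rw [h1, genPoly, Polynomial.map_prod]
  simp only [map_rename_genFactor]
  rw [Equiv.prod_comp e (genFactor n)]
  rfl

/-- `Y_k ↦ e_{k+1}(U)`. -/
noncomputable def psi0 : MvPolynomial (Fin n) ℤ →+* MvPolynomial (Fin n ⊕ Fin n) ℤ :=
  (aeval (fun k : Fin n => rename Sum.inr (esymm (Fin n) ℤ ((k : ℕ) + 1)))
    : MvPolynomial (Fin n) ℤ →ₐ[ℤ] MvPolynomial (Fin n ⊕ Fin n) ℤ).toRingHom

/-- `T_a ↦ T_a`, `Y_k ↦ e_{k+1}(U)`. -/
noncomputable def psi1 : MvPolynomial (Fin n) (MvPolynomial (Fin n) ℤ) →+* MvPolynomial (Fin n ⊕ Fin n) ℤ :=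
  eval₂Hom (psi0 n) (fun a => X (Sum.inl a))

theorem psi0_yCoef (k : ℕ) (hk : k ≤ n) :
    psi0 n (yCoef n k) = rename Sum.inr (esymm (Fin n) ℤ k) := by
  rw [yCoef]
  rcases k with _ | k
  · simp
  · have h : k + 1 - 1 < n := by omega
    rw [if_neg (Nat.succ_ne_zero k), dif_pos h, psi0]
    simp

theorem rename_inr_esymm (k : ℕ) :
    rename (Sum.inr : Fin n → Fin n ⊕ Fin n) (esymm (Fin n) ℤ k) =
      ∑ t ∈ (univ : Finset (Fin n)).powersetCard k, ∏ b ∈ t, X (Sum.inr b) := by
  simp [esymm, map_sum, map_prod]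

theorem rename_inl_esymm (k : ℕ) :
    rename (Sum.inl : Fin n → Fin n ⊕ Fin n) (esymm (Fin n) ℤ k) =
      ∑ t ∈ (univ : Finset (Fin n)).powersetCard k, ∏ b ∈ t, X (Sum.inl b) := by
  simp [esymm, map_sum, map_prod]

theorem map_psi1_genFactor (a : Fin n) :
    Polynomial.map (psi1 n) (genFactor n a) =
      ∏ b : Fin n, (1 + Polynomial.C (X (Sum.inr b) * X (Sum.inl a) : MvPolynomial (Fin n ⊕ Fin n) ℤ) * Polynomial.X) := by
  rw [prod_one_add_C_mul_X, genFactor, Polynomial.map_sum, Finset.card_univ, Fintype.card_fin]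
  refine Finset.sum_congr rfl fun k hk => ?_
  have hk' : k ≤ n := by
    have := Finset.mem_range.mp hk; omega
  rw [Polynomial.map_mul, Polynomial.map_pow, Polynomial.map_X, Polynomial.map_C]
  congr 2
  rw [psi1, map_mul, map_pow, eval₂Hom_C, eval₂Hom_X', psi0_yCoef n k hk', rename_inr_esymm,
    Finset.sum_mul]
  refine Finset.sum_congr rfl fun t ht => ?_
  rw [Finset.prod_mul_distrib, Finset.prod_const, (Finset.mem_powersetCard.mp ht).2]

theorem mulGen_eq (N k : ℕ) :
    mulGen N k = ∑ t ∈ (univ : Finset (Fin N × Fin N)).powersetCard k,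
      ∏ ab ∈ t, (X (Sum.inl ab.1) * X (Sum.inr ab.2) : MvPolynomial (Fin N ⊕ Fin N) ℤ) := by
  rw [mulGen, Finset.esymm_map_val]

theorem psi1_genF : psi1 n (genF n) = mulGen n n := by
  have h1 : psi1 n (genF n) = (Polynomial.map (psi1 n) (genPoly n)).coeff n := by
    rw [Polynomial.coeff_map]
    rfl
  rw [h1, genPoly, Polynomial.map_prod]
  simp only [map_psi1_genFactor]
  rw [← Finset.prod_product' (univ : Finset (Fin n)) (univ : Finset (Fin n))
    (fun a b => (1 + Polynomial.C (X (Sum.inr b) * X (Sum.inl a) : MvPolynomial (Fin n ⊕ Fin n) ℤ) * Polynomial.X)),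
    Finset.univ_product_univ, prod_one_add_C_mul_X, coeff_sum_range_C_mul_X_pow, mulGen_eq]
  have hcard : n < (univ : Finset (Fin n × Fin n)).card + 1 := by
    rw [Finset.card_univ, Fintype.card_prod, Fintype.card_fin]
    nlinarith
  rw [if_pos hcard]
  refine Finset.sum_congr rfl fun t _ => Finset.prod_congr rfl fun ab _ => ?_
  ring

/-- The substitution `X_k ↦ e_{k+1}(T)`, `Y_k ↦ e_{k+1}(U)`. -/
noncomputable def phiSubst : MvPolynomial (Fin n ⊕ Fin n) ℤ →ₐ[ℤ] MvPolynomial (Fin n ⊕ Fin n) ℤ :=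
  aeval (Sum.elim (fun k : Fin n => rename Sum.inl (esymm (Fin n) ℤ ((k : ℕ) + 1)))
      (fun k : Fin n => rename Sum.inr (esymm (Fin n) ℤ ((k : ℕ) + 1))))

theorem psi1_comp_aeval :
    (psi1 n).comp ((aeval (fun k : Fin n => esymm (Fin n) (MvPolynomial (Fin n) ℤ) ((k : ℕ) + 1)) :
        MvPolynomial (Fin n) (MvPolynomial (Fin n) ℤ) →ₐ[MvPolynomial (Fin n) ℤ] _) : _ →+* _)
      = ((phiSubst n : _ →+* _)).comp (sumRingEquiv ℤ (Fin n) (Fin n)).symm.toRingHom := by
  apply MvPolynomial.ringHom_ext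
  · intro r
    have : (psi0 n) = (((phiSubst n : _ →+* _)).comp (sumRingEquiv ℤ (Fin n) (Fin n)).symm.toRingHom).comp C := by
      apply MvPolynomial.ringHom_ext
      · intro z
        simp [psi0, phiSubst]
      · intro k
        simp [psi0, phiSubst]
    simp only [RingHom.coe_comp, RingHom.coe_coe, Function.comp_apply, aeval_C, algebraMap_eq]
    rw [psi1, eval₂Hom_C, this]
    simp
  · intro k
    simp only [RingHom.coe_comp, RingHom.coe_coe, Function.comp_apply, aeval_X,
      RingEquiv.toRingHom_eq_coe, sumRingEquiv_symm_X]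
    rw [phiSubst, aeval_X, Sum.elim_inl, rename_inl_esymm, esymm, map_sum]
    refine Finset.sum_congr rfl fun t _ => ?_
    rw [map_prod]
    refine Finset.prod_congr rfl fun a _ => ?_
    rw [psi1, eval₂Hom_X']

/-- Existence of a polynomial with the defining identity of `P_n` (before taking the isobaric part). -/
theorem exists_phiSubst_eq_mulGen : ∃ P : MvPolynomial (Fin n ⊕ Fin n) ℤ, phiSubst n P = mulGen n n := by
  obtain ⟨P', hP'⟩ := esymmAlgHom_fin_surjective (MvPolynomial (Fin n) ℤ) (le_refl n)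
    ⟨genF n, genF_isSymmetric n⟩
  have h0 : aeval (fun k : Fin n => esymm (Fin n) (MvPolynomial (Fin n) ℤ) ((k : ℕ) + 1)) P' = genF n := by
    rw [← esymmAlgHom_apply, hP']
  refine ⟨(sumRingEquiv ℤ (Fin n) (Fin n)).symm P', ?_⟩
  have := congrArg (fun φ => φ P') (psi1_comp_aeval n)
  simp only [RingHom.coe_comp, RingHom.coe_coe, Function.comp_apply,
    RingEquiv.toRingHom_eq_coe] at this
  rw [← this, h0, psi1_genF]

/-- The bidegree weights on `ℤ[T, U]`. -/
def bideg (N : ℕ) : Fin N ⊕ Fin N → ℕ × ℕ := Sum.elim (fun _ => (1, 0)) (fun _ => (0, 1))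

theorem isWH_rename_inl_esymm (N k : ℕ) :
    IsWeightedHomogeneous (bideg N) (rename (Sum.inl : Fin N → Fin N ⊕ Fin N) (esymm (Fin N) ℤ k)) (k, 0) := by
  rw [esymm, map_sum]
  apply IsWeightedHomogeneous.sum
  intro t ht
  rw [map_prod]
  have := IsWeightedHomogeneous.prod (w := bideg N) t
    (fun a => (rename (Sum.inl : Fin N → Fin N ⊕ Fin N) (X a) : MvPolynomial (Fin N ⊕ Fin N) ℤ))
    (fun _ => ((1, 0) : ℕ × ℕ)) (fun a _ => by
      rw [rename_X]
      exact isWeightedHomogeneous_X ℤ (bideg N) (Sum.inl a))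
  convert this using 1
  simp [(Finset.mem_powersetCard.mp ht).2]

theorem isWH_rename_inr_esymm (N k : ℕ) :
    IsWeightedHomogeneous (bideg N) (rename (Sum.inr : Fin N → Fin N ⊕ Fin N) (esymm (Fin N) ℤ k)) (0, k) := by
  rw [esymm, map_sum]
  apply IsWeightedHomogeneous.sum
  intro t ht
  rw [map_prod]
  have := IsWeightedHomogeneous.prod (w := bideg N) t
    (fun a => (rename (Sum.inr : Fin N → Fin N ⊕ Fin N) (X a) : MvPolynomial (Fin N ⊕ Fin N) ℤ))
    (fun _ => ((0, 1) : ℕ × ℕ)) (fun a _ => by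
      rw [rename_X]
      exact isWeightedHomogeneous_X ℤ (bideg N) (Sum.inr a))
  convert this using 1
  simp [(Finset.mem_powersetCard.mp ht).2]

theorem isWH_mulGen (N k : ℕ) : IsWeightedHomogeneous (bideg N) (mulGen N k) (k, k) := by
  rw [mulGen_eq]
  apply IsWeightedHomogeneous.sum
  intro t ht
  have := IsWeightedHomogeneous.prod (w := bideg N) t
    (fun ab : Fin N × Fin N => (X (Sum.inl ab.1) * X (Sum.inr ab.2) : MvPolynomial (Fin N ⊕ Fin N) ℤ))
    (fun _ => ((1, 1) : ℕ × ℕ)) (fun ab _ => by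
      have h1 := isWeightedHomogeneous_X ℤ (bideg N) (Sum.inl ab.1)
      have h2 := isWeightedHomogeneous_X ℤ (bideg N) (Sum.inr ab.2)
      exact h1.mul h2)
  convert this using 1
  simp [(Finset.mem_powersetCard.mp ht).2]

/-- The weights of the variables `X_k`, `Y_k` in the definition of `IsMulPoly`. -/
def mulWeight (n : ℕ) : Fin n ⊕ Fin n → ℕ × ℕ :=
  Sum.elim (fun k : Fin n => (((k : ℕ) + 1, 0) : ℕ × ℕ)) (fun k : Fin n => ((0, (k : ℕ) + 1) : ℕ × ℕ))

/-- Existence of the universal polynomial `P_n`. -/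
theorem exists_isMulPoly : ∃ P : MvPolynomial (Fin n ⊕ Fin n) ℤ, IsMulPoly n P := by
  obtain ⟨P₀, hP₀⟩ := exists_phiSubst_eq_mulGen n
  refine ⟨weightedHomogeneousComponent (mulWeight n) (n, n) P₀, ?_,
    weightedHomogeneousComponent_isWeightedHomogeneous _ _⟩
  have hf : ∀ s, IsWeightedHomogeneous (bideg n)
      ((Sum.elim (fun k : Fin n => rename Sum.inl (esymm (Fin n) ℤ ((k : ℕ) + 1)))
        (fun k : Fin n => rename Sum.inr (esymm (Fin n) ℤ ((k : ℕ) + 1)))) s) (mulWeight n s) := by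
    rintro (k | k)
    · exact isWH_rename_inl_esymm n _
    · exact isWH_rename_inr_esymm n _
  have := aeval_weightedHomogeneousComponent (w := mulWeight n) (w' := bideg n) _ hf P₀ (n, n)
  rw [this]
  have h2 : aeval (Sum.elim (fun k : Fin n => rename Sum.inl (esymm (Fin n) ℤ ((k : ℕ) + 1)))
        (fun k : Fin n => rename Sum.inr (esymm (Fin n) ℤ ((k : ℕ) + 1)))) P₀ = mulGen n n := hP₀
  rw [h2]
  exact (isWH_mulGen n n).weightedHomogeneousComponent_same

end Construction

end Groth.Agent.Lib.Helper44
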