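import Groth.Agent.Lib.Helper44.AdamsMul
import Groth.Agent.Lib.Helper44.BinomialAdams
import Groth.Agent.Lib.Helper44.MulGen
import Groth.Agent.Lib.Helper44.GammaSeries
import Mathlib.RingTheory.PowerSeries.Binomial
import Mathlib.RingTheory.PowerSeries.Derivative

/-!
# The binomial formula `λ_t(κ μ) = λ_t(μ)^κ`

For `κ` in a binomial ring `K` and `μ` in a special λ-ring `A` which is a `K`-λ-algebra,
`λ_t(κ μ) = Σ_r C(κ, r) (λ_t(μ) - 1)^r`, and the same for the γ-series.
-/

set_option autoImplicit false
open Finset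

namespace Groth.Agent.Lib.Helper44

open LambdaRing

section PS

variable {K : Type*} [CommRing K] [BinomialRing K] {S : Type*} [CommRing S] [Algebra K S]

theorem binomialSeries_coeff' (κ : K) (n : ℕ) :
    PowerSeries.coeff n (PowerSeries.binomialSeries S κ) = algebraMap K S (Ring.choose κ n) := by
  rw [PowerSeries.binomialSeries_coeff, Algebra.algebraMap_eq_smul_one]

/-- `(1 + X) · d/dX (1+X)^κ = κ (1+X)^κ`. -/
theorem one_add_X_mul_derivative_binomialSeries (κ : K) :
    (1 + PowerSeries.X) * PowerSeries.derivative S (PowerSeries.binomialSeries S κ) =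
      PowerSeries.C (algebraMap K S κ) * PowerSeries.binomialSeries S κ := by
  ext n
  rw [add_mul, one_mul, map_add, PowerSeries.coeff_C_mul, binomialSeries_coeff',
    PowerSeries.coeff_derivative, binomialSeries_coeff']
  rcases n with _ | n
  · rw [PowerSeries.coeff_zero_X_mul, add_zero]
    have h := succ_mul_choose_succ κ 0
    simp only [Nat.cast_zero, zero_add, one_mul, sub_zero, Ring.choose_zero_right] at h
    rw [h, Ring.choose_zero_right]
    simp
  · rw [PowerSeries.coeff_succ_X_mul, PowerSeries.coeff_derivative, binomialSeries_coeff']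
    have h := succ_mul_choose_succ κ (n + 1)
    have h' := congrArg (algebraMap K S) h
    simp only [map_mul, map_add, map_natCast, map_one, map_sub] at h'
    push_cast at h' ⊢
    linear_combination h'

theorem hasSubst_of_constantCoeff_zero {w : PowerSeries S} (hw : PowerSeries.constantCoeff w = 0) :
    PowerSeries.HasSubst w := PowerSeries.HasSubst.of_constantCoeff_zero' hw

theorem subst_one' {w : PowerSeries S} (hw : PowerSeries.HasSubst w) :
    (1 : PowerSeries S).subst w = 1 := by
  rw [← PowerSeries.coe_substAlgHom hw, map_one]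

/-- `d/dt ((1+w)^κ) · (1 + w) = κ (1+w)^κ · w'`. -/
theorem derivative_binomialSeries_subst (κ : K) {w : PowerSeries S}
    (hw : PowerSeries.constantCoeff w = 0) :
    PowerSeries.derivative S ((PowerSeries.binomialSeries S κ).subst w) * (1 + w) =
      PowerSeries.C (algebraMap K S κ) * ((PowerSeries.binomialSeries S κ).subst w *
        PowerSeries.derivative S w) := by
  have hs := hasSubst_of_constantCoeff_zero hw
  have h1 := congrArg (PowerSeries.subst w) (one_add_X_mul_derivative_binomialSeries (S := S) κ)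
  rw [PowerSeries.subst_mul hs, PowerSeries.subst_add hs, subst_one' hs, PowerSeries.subst_X hs,
    PowerSeries.subst_mul hs, PowerSeries.subst_C] at h1
  rw [PowerSeries.derivative_subst hs]
  have h2 : (MvPowerSeries.C (algebraMap K S κ) : MvPowerSeries Unit S) =
      PowerSeries.C (algebraMap K S κ) := rfl
  rw [h2] at h1
  linear_combination PowerSeries.derivative S w * h1

theorem constantCoeff_binomialSeries_subst (κ : K) {w : PowerSeries S}
    (hw : PowerSeries.constantCoeff w = 0) :
    PowerSeries.constantCoeff ((PowerSeries.binomialSeries S κ).subst w) = 1 := by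
  have hs := hasSubst_of_constantCoeff_zero hw
  rw [← PowerSeries.coeff_zero_eq_constantCoeff_apply, PowerSeries.coeff_subst' hs]
  rw [finsum_eq_single _ 0]
  · simp
  · intro d hd
    rw [PowerSeries.coeff_zero_eq_constantCoeff_apply, map_pow, hw, zero_pow hd, smul_zero]

/-- `logD ((1+w)^κ) = κ logD (1 + w)`. -/
theorem logD_binomialSeries_subst (κ : K) {E : PowerSeries S}
    (hE : PowerSeries.constantCoeff E = 1) :
    logD ((PowerSeries.binomialSeries S κ).subst (E - 1)) =
      PowerSeries.C (algebraMap K S κ) * logD E := by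
  have hw : PowerSeries.constantCoeff (E - 1) = 0 := by rw [map_sub, hE, map_one, sub_self]
  symm
  apply eq_logD (constantCoeff_binomialSeries_subst κ hw)
  have h := derivative_binomialSeries_subst (S := S) κ hw
  rw [add_sub_cancel, map_sub, PowerSeries.derivative_one, sub_zero, ← logD_mul_self hE] at h
  -- cancel the unit `E`
  have hu : E * E.invOfUnit 1 = 1 := mul_invOfUnit_one hE
  calc PowerSeries.C (algebraMap K S κ) * logD E * (PowerSeries.binomialSeries S κ).subst (E - 1)
      = (PowerSeries.C (algebraMap K S κ) * ((PowerSeries.binomialSeries S κ).subst (E - 1) *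
          (logD E * E))) * E.invOfUnit 1 := by
        rw [show PowerSeries.C (algebraMap K S κ) * ((PowerSeries.binomialSeries S κ).subst (E - 1) *
          (logD E * E)) * E.invOfUnit 1 = PowerSeries.C (algebraMap K S κ) * logD E *
          (PowerSeries.binomialSeries S κ).subst (E - 1) * (E * E.invOfUnit 1) by ring, hu, mul_one]
    _ = PowerSeries.derivative S ((PowerSeries.binomialSeries S κ).subst (E - 1)) *
          (E * E.invOfUnit 1) := by rw [← h]; ring
    _ = PowerSeries.derivative S ((PowerSeries.binomialSeries S κ).subst (E - 1)) := by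
        rw [hu, mul_one]

theorem newton_binomialSeries_subst (κ : K) {E : PowerSeries S}
    (hE : PowerSeries.constantCoeff E = 1) (j : ℕ) :
    newton j ((PowerSeries.binomialSeries S κ).subst (E - 1)) =
      algebraMap K S κ * newton j E := by
  rcases j with _ | j
  · simp [newton]
  · rw [newton_succ, newton_succ, logD_binomialSeries_subst κ hE, PowerSeries.coeff_C_mul]
    ring

/-- The coefficient `m` of `f(g)` depends only on `g` modulo `t^(m+1)`. -/
theorem coeff_subst_congr {R : Type*} [CommRing R] [Algebra R S] (f : PowerSeries R)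
    {g g' : PowerSeries S}
    (hg : PowerSeries.constantCoeff g = 0) (hg' : PowerSeries.constantCoeff g' = 0) (m : ℕ)
    (h : ∀ i ≤ m, PowerSeries.coeff i g = PowerSeries.coeff i g') :
    PowerSeries.coeff m (f.subst g) = PowerSeries.coeff m (f.subst g') := by
  rw [PowerSeries.coeff_subst' (hasSubst_of_constantCoeff_zero hg),
    PowerSeries.coeff_subst' (hasSubst_of_constantCoeff_zero hg')]
  refine finsum_congr fun d => ?_
  congr 1
  have h1 : (PowerSeries.X : PowerSeries S) ^ (m + 1) ∣ g - g' := by
    rw [PowerSeries.X_pow_dvd_iff]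
    intro i hi
    rw [map_sub, h i (by omega), sub_self]
  have h2 : (PowerSeries.X : PowerSeries S) ^ (m + 1) ∣ g ^ d - g' ^ d :=
    dvd_trans h1 (sub_dvd_pow_sub_pow g g' d)
  rw [PowerSeries.X_pow_dvd_iff] at h2
  have := h2 m (by omega)
  rwa [map_sub, sub_eq_zero] at this

end PS

section Univ

variable {K : Type*} [CommRing K] [LambdaOps K] [BinomialRing K]

omit [LambdaOps K] in
theorem isAddTorsionFree_mvPolynomial (σ : Type*) : IsAddTorsionFree (MvPolynomial σ K) := by
  have : IsAddTorsionFree K := BinomialRing.toIsAddTorsionFree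
  constructor
  intro n hn p q hpq
  ext d
  have := congrArg (MvPolynomial.coeff d) hpq
  simp only [MvPolynomial.coeff_smul] at this
  exact IsAddTorsionFree.nsmul_right_injective hn this

/-- `X_i ↦ C(κ, i)`, `Y_i ↦ Y_i`. -/
noncomputable def thetaBin (κ : K) (k : ℕ) :
    MvPolynomial (Fin k ⊕ Fin k) ℤ →ₐ[ℤ] MvPolynomial (Fin k) K :=
  MvPolynomial.aeval (Sum.elim (fun i : Fin k => MvPolynomial.C (Ring.choose κ ((i : ℕ) + 1)))
    (fun i : Fin k => MvPolynomial.X i))

theorem coeff_map_thetaBin_univAX (hKb : IsBinomial K) (κ : K) (k i : ℕ) (hi : i ≤ k) :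
    PowerSeries.coeff i (PowerSeries.map
      (thetaBin κ k : MvPolynomial (Fin k ⊕ Fin k) ℤ →+* MvPolynomial (Fin k) K) (univAX k)) =
    PowerSeries.coeff i (PowerSeries.map (MvPolynomial.C : K →+* MvPolynomial (Fin k) K)
      (lamSeries κ)) := by
  rw [PowerSeries.coeff_map, PowerSeries.coeff_map, univAX, PowerSeries.coeff_mk, coeff_lamSeries]
  rcases i with _ | i
  · simp [LambdaOps.lam_zero]
  · have h : i + 1 - 1 < k := by omega
    rw [if_neg (Nat.succ_ne_zero i), dif_pos h, hKb]
    simp [thetaBin]

theorem newton_map_thetaBin_univAX (hKb : IsBinomial K) (κ : K) (k j : ℕ) (hj1 : 1 ≤ j)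
    (hj : j ≤ k) :
    newton j (PowerSeries.map
      (thetaBin κ k : MvPolynomial (Fin k ⊕ Fin k) ℤ →+* MvPolynomial (Fin k) K) (univAX k)) =
      MvPolynomial.C κ := by
  rw [newton_congr_of_coeff_eq (constantCoeff_map_eq_one _ (constantCoeff_univAX k))
      (constantCoeff_map_eq_one _ (constantCoeff_lamSeries κ)) k
      (fun i hi => coeff_map_thetaBin_univAX hKb κ k i hi) j hj,
    ← map_newton _ _ (constantCoeff_lamSeries κ), ← adamsOp_eq_newton,
    adamsOp_eq_self_of_isBinomial hKb j hj1]

theorem coeff_map_thetaBin_univB (hKb : IsBinomial K) (κ : K) (k : ℕ)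
    (P : (m : ℕ) → MvPolynomial (Fin m ⊕ Fin m) ℤ) (hP : ∀ m, IsMulPoly m (P m)) (m : ℕ)
    (hm : m ≤ k) :
    PowerSeries.coeff m (PowerSeries.map
      (thetaBin κ k : MvPolynomial (Fin k ⊕ Fin k) ℤ →+* MvPolynomial (Fin k) K) (univB k P)) =
    PowerSeries.coeff m ((PowerSeries.binomialSeries (MvPolynomial (Fin k) K) κ).subst
      (PowerSeries.map
        (thetaBin κ k : MvPolynomial (Fin k ⊕ Fin k) ℤ →+* MvPolynomial (Fin k) K) (univAY k) - 1)) := by
  have := isAddTorsionFree_mvPolynomial (K := K) (Fin k)
  have hcE := constantCoeff_map_eq_one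
    (thetaBin κ k : MvPolynomial (Fin k ⊕ Fin k) ℤ →+* MvPolynomial (Fin k) K) (constantCoeff_univAY k)
  have hw : PowerSeries.constantCoeff (PowerSeries.map
      (thetaBin κ k : MvPolynomial (Fin k ⊕ Fin k) ℤ →+* MvPolynomial (Fin k) K) (univAY k) - 1) = 0 := by
    rw [map_sub, hcE, map_one, sub_self]
  apply coeff_eq_of_newton_eq (constantCoeff_map_eq_one _ (constantCoeff_univB k P))
    (constantCoeff_binomialSeries_subst κ hw) k _ m hm
  intro j hj1 hjk
  rw [newton_binomialSeries_subst κ hcE, ← map_newton _ _ (constantCoeff_univB k P),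
    newton_univB k P hP j hj1 hjk, map_mul, map_newton _ _ (constantCoeff_univAX k),
    map_newton _ _ (constantCoeff_univAY k), newton_map_thetaBin_univAX hKb κ k j hj1 hjk]
  rfl

end Univ

section Transfer

variable {K : Type*} [CommRing K] [LambdaOps K] [BinomialRing K]
  {A : Type*} [CommRing A] [LambdaOps A] [Algebra K A]

/-- `Y_i ↦ λ^i(μ)`. -/
noncomputable def rhoLam (μ : A) (k : ℕ) : MvPolynomial (Fin k) K →ₐ[K] A :=
  MvPolynomial.aeval (fun i : Fin k => LambdaOps.lam ((i : ℕ) + 1) μ)

theorem rhoLam_thetaBin (hKb : IsBinomial K) (hKA : IsLambdaAlg K A) (κ : K) (μ : A) (k : ℕ)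
    (p : MvPolynomial (Fin k ⊕ Fin k) ℤ) :
    rhoLam μ k (thetaBin κ k p) = thetaXY k (algebraMap K A κ) μ p := by
  induction p using MvPolynomial.induction_on with
  | C a => simp [thetaBin, thetaXY, rhoLam]
  | add p q hp hq => simp only [map_add, hp, hq]
  | mul_X p s hp =>
    simp only [map_mul, hp]
    congr 1
    rcases s with i | i
    · simp only [thetaBin, thetaXY, rhoLam, MvPolynomial.aeval_X, Sum.elim_inl,
        MvPolynomial.aeval_C]
      rw [← hKb, hKA]
    · simp [thetaBin, thetaXY, rhoLam]

/-- **Binomial formula**: `λ_t(κ μ) = (1 + (λ_t(μ) - 1))^κ`. -/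
theorem lamSeries_algebraMap_mul (hKb : IsBinomial K) (hA : IsSpecial A) (hKA : IsLambdaAlg K A)
    (κ : K) (μ : A) :
    lamSeries (algebraMap K A κ * μ) =
      (PowerSeries.binomialSeries A κ).subst (lamSeries μ - 1) := by
  have hw' : PowerSeries.constantCoeff (lamSeries μ - 1) = 0 := by
    rw [map_sub, constantCoeff_lamSeries, map_one, sub_self]
  ext m
  rcases Nat.eq_zero_or_pos m with rfl | hm
  · rw [PowerSeries.coeff_zero_eq_constantCoeff_apply, PowerSeries.coeff_zero_eq_constantCoeff_apply,
      constantCoeff_lamSeries, constantCoeff_binomialSeries_subst κ hw']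
  have hPex : ∀ m : ℕ, ∃ P : MvPolynomial (Fin m ⊕ Fin m) ℤ, IsMulPoly m P := exists_isMulPoly
  choose P hP using hPex
  have h1 := congrArg (rhoLam (K := K) μ m) (coeff_map_thetaBin_univB hKb κ m P hP m (le_refl m))
  have hcE := constantCoeff_map_eq_one
    (thetaBin κ m : MvPolynomial (Fin m ⊕ Fin m) ℤ →+* MvPolynomial (Fin m) K) (constantCoeff_univAY m)
  have hw : PowerSeries.constantCoeff (PowerSeries.map
      (thetaBin κ m : MvPolynomial (Fin m ⊕ Fin m) ℤ →+* MvPolynomial (Fin m) K) (univAY m) - 1) = 0 := by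
    rw [map_sub, hcE, map_one, sub_self]
  -- left side
  have hL : rhoLam (K := K) μ m (PowerSeries.coeff m (PowerSeries.map
      (thetaBin κ m : MvPolynomial (Fin m ⊕ Fin m) ℤ →+* MvPolynomial (Fin m) K) (univB m P))) =
      LambdaOps.lam m (algebraMap K A κ * μ) := by
    rw [PowerSeries.coeff_map]
    change rhoLam μ m (thetaBin κ m _) = _
    rw [rhoLam_thetaBin hKb hKA, univB, PowerSeries.coeff_mk, if_neg (by omega),
      dif_pos (le_refl m), thetaXY_rename_sumCastLE,
      hA.lam_mul m (P m) (hP m) (algebraMap K A κ) μ]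
    rfl
  -- right side
  have hR : rhoLam (K := K) μ m (PowerSeries.coeff m
      ((PowerSeries.binomialSeries (MvPolynomial (Fin m) K) κ).subst (PowerSeries.map
        (thetaBin κ m : MvPolynomial (Fin m ⊕ Fin m) ℤ →+* MvPolynomial (Fin m) K) (univAY m) - 1))) =
      PowerSeries.coeff m ((PowerSeries.binomialSeries A κ).subst (lamSeries μ - 1)) := by
    have e1 : rhoLam (K := K) μ m (PowerSeries.coeff m
        ((PowerSeries.binomialSeries (MvPolynomial (Fin m) K) κ).subst (PowerSeries.map
        (thetaBin κ m : MvPolynomial (Fin m ⊕ Fin m) ℤ →+* MvPolynomial (Fin m) K) (univAY m) - 1))) =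
        PowerSeries.coeff m (PowerSeries.map (rhoLam (K := K) μ m : MvPolynomial (Fin m) K →+* A)
          ((PowerSeries.binomialSeries (MvPolynomial (Fin m) K) κ).subst (PowerSeries.map
        (thetaBin κ m : MvPolynomial (Fin m ⊕ Fin m) ℤ →+* MvPolynomial (Fin m) K) (univAY m) - 1))) := by
      rw [PowerSeries.coeff_map]
      rfl
    rw [e1]
    have e2 := PowerSeries.map_subst (hasSubst_of_constantCoeff_zero hw)
      (h := (rhoLam (K := K) μ m : MvPolynomial (Fin m) K →+* A))
      (PowerSeries.binomialSeries (MvPolynomial (Fin m) K) κ)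
    have e3 : PowerSeries.map (rhoLam (K := K) μ m : MvPolynomial (Fin m) K →+* A)
        (PowerSeries.binomialSeries (MvPolynomial (Fin m) K) κ) = PowerSeries.binomialSeries A κ := by
      ext n
      rw [PowerSeries.coeff_map, binomialSeries_coeff', binomialSeries_coeff']
      exact (rhoLam (K := K) μ m).commutes _
    have e2' : PowerSeries.map (rhoLam (K := K) μ m : MvPolynomial (Fin m) K →+* A)
        ((PowerSeries.binomialSeries (MvPolynomial (Fin m) K) κ).subst (PowerSeries.map
        (thetaBin κ m : MvPolynomial (Fin m ⊕ Fin m) ℤ →+* MvPolynomial (Fin m) K) (univAY m) - 1)) =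
        (PowerSeries.binomialSeries A κ).subst
          (PowerSeries.map (rhoLam (K := K) μ m : MvPolynomial (Fin m) K →+* A) (PowerSeries.map
        (thetaBin κ m : MvPolynomial (Fin m ⊕ Fin m) ℤ →+* MvPolynomial (Fin m) K) (univAY m) - 1)) := by
      rw [← e3]
      exact e2
    rw [e2']
    have hw2 : PowerSeries.constantCoeff
        (PowerSeries.map (rhoLam (K := K) μ m : MvPolynomial (Fin m) K →+* A) (PowerSeries.map
        (thetaBin κ m : MvPolynomial (Fin m ⊕ Fin m) ℤ →+* MvPolynomial (Fin m) K) (univAY m) - 1)) = 0 := by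
      rw [← PowerSeries.coeff_zero_eq_constantCoeff_apply, PowerSeries.coeff_map,
        PowerSeries.coeff_zero_eq_constantCoeff_apply, hw, map_zero]
    apply coeff_subst_congr _ hw2 hw' m
    intro i hi
    rw [PowerSeries.coeff_map, map_sub, map_sub, map_sub, PowerSeries.coeff_map]
    change rhoLam μ m (thetaBin κ m _) - _ = _
    rw [rhoLam_thetaBin hKb hKA]
    have := coeff_map_thetaXY_univAY m (algebraMap K A κ) μ i hi
    rw [PowerSeries.coeff_map] at this
    have this' : thetaXY m (algebraMap K A κ) μ (PowerSeries.coeff i (univAY m)) =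
        PowerSeries.coeff i (lamSeries μ) := this
    rw [this']
    congr 1
    rw [PowerSeries.coeff_one, PowerSeries.coeff_one]
    split_ifs <;> simp
  rw [coeff_lamSeries, ← hL, h1, hR]

end Transfer

end Groth.Agent.Lib.Helper44
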