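import Groth.Agent.Lib.Helper44.GammaPure

/-!
# Elements all of whose `γ^i` lie in the `i`-th step of a filtration

* `gamGood J`: the additive subgroup of `z` with `γ^i(z) ∈ J i` for all `i`.
* `LineRing.gamma_mem_Ik_self`: in `ℤ[L_i]`, `γ^i(I) ⊆ I^i`.
* `gamma_pure_mem_self`: `γ^j(∏ γ^{e_s}(x_s)) ∈ J j` for a product of positive weight.
-/

set_option autoImplicit false
set_option linter.unusedSectionVars false
open Finset

namespace Groth.Agent.Lib.Helper44

open LambdaRing MvPolynomial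

universe u v

section Good

variable {A : Type*} [CommRing A] [LambdaOps A] (J : ℕ → Ideal A) (hJ0 : J 0 = ⊤)
  (hJmul : ∀ a b x y, x ∈ J a → y ∈ J b → x * y ∈ J (a + b))

include hJ0 hJmul in
theorem gamGood_neg {x : A} (hx : ∀ i, gamma i x ∈ J i) : ∀ i, gamma i (-x) ∈ J i := by
  intro i
  induction i using Nat.strong_induction_on with
  | _ i ih =>
    rcases i with _ | i
    · rw [gamma_zero', hJ0]; trivial
    · have h0 : gamma (i + 1) (x + -x) = 0 := by rw [add_neg_cancel, gamma_succ_zero]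
      rw [gamma_add', Finset.Nat.antidiagonal_succ, Finset.sum_cons, gamma_zero', one_mul] at h0
      have h1 : gamma (i + 1) (-x) = - ∑ ab ∈ (Finset.antidiagonal i).map
          ((Function.Embedding.prodMap ⟨Nat.succ, Nat.succ_injective⟩ (Function.Embedding.refl ℕ))),
          gamma ab.1 x * gamma ab.2 (-x) := eq_neg_of_add_eq_zero_left h0
      rw [h1]
      refine Ideal.neg_mem_iff _ |>.mpr (Ideal.sum_mem _ fun ab hab => ?_)
      rw [Finset.mem_map] at hab
      obtain ⟨cd, hcd, rfl⟩ := hab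
      have hsum := Finset.mem_antidiagonal.mp hcd
      have h := hJmul _ _ _ _ (hx (cd.1 + 1)) (ih cd.2 (by omega))
      have e : cd.1 + 1 + cd.2 = i + 1 := by omega
      rw [e] at h
      exact h

/-- The additive subgroup of elements `z` with `γ^i(z) ∈ J i` for all `i`. -/
def gamGood : AddSubgroup A where
  carrier := {z | ∀ i, gamma i z ∈ J i}
  zero_mem' := by
    intro i
    rcases i with _ | i
    · rw [gamma_zero', hJ0]; trivial
    · rw [gamma_succ_zero]; exact Ideal.zero_mem _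
  add_mem' := by
    intro x y hx hy i
    rw [gamma_add']
    refine Ideal.sum_mem _ fun ab hab => ?_
    have h := hJmul _ _ _ _ (hx ab.1) (hy ab.2)
    rwa [Finset.mem_antidiagonal.mp hab] at h
  neg_mem' := fun hx => gamGood_neg J hJ0 hJmul hx

theorem mem_gamGood {z : A} : z ∈ gamGood J hJ0 hJmul ↔ ∀ i, gamma i z ∈ J i := Iff.rfl

end Good

namespace LineRing

variable {τ : Type u}

attribute [local instance] lambdaOps

theorem mono_sub_one_mem_Ik (β : τ →₀ ℕ) : (mono β - 1 : LineRing τ) ∈ Ik 1 := by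
  induction β using Finsupp.induction_linear with
  | zero =>
    rw [mono_zero, sub_self]
    exact Ideal.zero_mem _
  | add β γ hβ hγ =>
    have : (mono (β + γ) - 1 : LineRing τ) = (mono β - 1) * mono γ + (mono γ - 1) := by
      rw [mono_add]; ring
    rw [this]
    exact Ideal.add_mem _ (Ideal.mul_mem_right _ _ hβ) hγ
  | single v e =>
    have h1 : Finsupp.single v e = e • Finsupp.single v 1 := by
      rw [Finsupp.smul_single, smul_eq_mul, mul_one]
    have h2 : (mono (Finsupp.single v 1) : LineRing τ) = X v := rfl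
    rw [h1, mono_nsmul, h2, ← geom_sum_mul]
    exact Ideal.mul_mem_left _ _ (X_sub_one_mem_Ik v)

/-- The subgroup of `p` with `γ^i(p) ∈ I^i` for all `i`. -/
noncomputable def goodU : AddSubgroup (LineRing τ) :=
  gamGood (fun k => Ik (τ := τ) k) Ik_zero (fun _ _ _ _ hx hy => mul_mem_Ik hx hy)

theorem mono_sub_one_mem_goodU (β : τ →₀ ℕ) : (mono β - 1 : LineRing τ) ∈ goodU := by
  intro i
  rw [← coeff_gammaSeries,
    gammaSeries_line_sub_one lam_one_eq_zero (mono β) (fun j hj => lam_mono β j hj)]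
  rcases i with _ | _ | i
  · simp only [map_add, PowerSeries.coeff_one, PowerSeries.coeff_C_mul, PowerSeries.coeff_X]
    rw [Ik_zero]; trivial
  · simp only [map_add, PowerSeries.coeff_one, PowerSeries.coeff_C_mul, PowerSeries.coeff_X]
    simpa using mono_sub_one_mem_Ik β
  · simp only [map_add, PowerSeries.coeff_one, PowerSeries.coeff_C_mul, PowerSeries.coeff_X]
    simp

theorem intCast_mem_Ik_one {N : ℤ} (h : (N : LineRing τ) ∈ Ik 1) : N = 0 := by
  classical
  rw [mem_Ik, map_intCast] at h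
  by_contra hN
  have hsupp : (0 : τ →₀ ℕ) ∈ ((N : ℤ) : MvPolynomial τ ℤ).support := by
    rw [mem_support_iff]
    have : ((N : ℤ) : MvPolynomial τ ℤ) = C N := by simp
    rw [this, coeff_C, if_pos rfl]
    exact hN
  have := h 0 hsupp
  simp at this

/-- (R0) `γ^i(I) ⊆ I^i`. -/
theorem mem_goodU_of_mem_Ik_one {p : LineRing τ} (hp : p ∈ Ik 1) : p ∈ goodU := by
  have hsum : p = ∑ β ∈ p.support, coeff β p • (mono β - 1) +
      ((∑ β ∈ p.support, coeff β p : ℤ) : LineRing τ) := by
    conv_lhs => rw [← p.support_sum_monomial_coeff]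
    push_cast
    rw [← Finset.sum_add_distrib]
    refine Finset.sum_congr rfl fun β _ => ?_
    have : (monomial β (coeff β p) : MvPolynomial τ ℤ) = coeff β p • mono β := by
      rw [mono, smul_monomial, smul_eq_mul, mul_one]
    rw [this, zsmul_eq_mul, zsmul_eq_mul]
    ring
  have h1 : ∑ β ∈ p.support, coeff β p • (mono β - 1 : LineRing τ) ∈ Ik 1 :=
    Ideal.sum_mem _ fun β _ => zsmul_mem (mono_sub_one_mem_Ik β) _
  have hg : ∑ β ∈ p.support, coeff β p • (mono β - 1 : LineRing τ) ∈ goodU :=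
    AddSubgroup.sum_mem _ fun β _ => AddSubgroup.zsmul_mem _ (mono_sub_one_mem_goodU β) _
  obtain ⟨S1, N, hS1, hS1g, hpS⟩ : ∃ (S1 : LineRing τ) (N : ℤ), S1 ∈ Ik 1 ∧ S1 ∈ goodU ∧
      p = S1 + (N : LineRing τ) := ⟨_, _, h1, hg, hsum⟩
  have h2 : (N : LineRing τ) ∈ Ik 1 := by
    have := Ideal.sub_mem _ hp hS1
    rwa [hpS, add_sub_cancel_left] at this
  rw [hpS, intCast_mem_Ik_one h2, Int.cast_zero, add_zero]
  exact hS1g

theorem gamma_mem_Ik_self {p : LineRing τ} (hp : p ∈ Ik 1) (i : ℕ) : gamma i p ∈ Ik i :=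
  mem_goodU_of_mem_Ik_one hp i

end LineRing

section PM0

variable {ι : Type} [DecidableEq ι] [Fintype ι]

attribute [local instance] LineRing.lambdaOps

variable {A : Type v} [CommRing A] [LambdaOps A]

/-- `γ^j` of a product of γ-classes of positive total weight lies in `J j`. -/
theorem gamma_pure_mem_self (hA : IsSpecial A) (J : ℕ → Ideal A) (hJ0 : J 0 = ⊤)
    (hJanti : ∀ a b, a ≤ b → J b ≤ J a)
    (hJmul : ∀ a b x y, x ∈ J a → y ∈ J b → x * y ∈ J (a + b))
    (x : ι → A) (hx : ∀ s i, gamma (i + 1) (x s) ∈ J (i + 1)) (e : ι → ℕ)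
    (hW : 1 ≤ ∑ s, e s) (j : ℕ) :
    gamma j (∏ s, gamma (e s) (x s)) ∈ J j := by
  obtain ⟨G, hG0, hGv⟩ := exists_gamma_rep.{0, v} (pureMon e) j
  have h := evGam_mem_of_forall_lineRing G j ?_ J hJ0 hJanti hJmul x hx
  · rwa [hGv A hA x, evGam_pureMon] at h
  · intro n
    rw [hG0 (LineRing (ι × Fin n)) LineRing.isSpecial (yU n)]
    exact LineRing.gamma_mem_Ik_self (LineRing.Ik_anti hW (evGam_pureMon_mem_Ik n e)) j

end PM0

end Groth.Agent.Lib.Helper44
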