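import Groth.Agent.Lib.Helper44.BinomialFormula
import Groth.Agent.Lib.Helper44.GamGood

/-!
# The binomial formula for the γ-series and scalar multiples of good elements

`γ_t(κ μ) = γ_t(μ)^κ`; hence if `γ^i(μ) ∈ J i` for all `i` (for a multiplicative filtration `J`)
then `γ^i(κ μ) ∈ J i` for all `i`.
-/

set_option autoImplicit false
open Finset

namespace Groth.Agent.Lib.Helper44

open LambdaRing

universe u v

section BG

variable {K : Type u} [CommRing K] [LambdaOps K] [BinomialRing K]
  {A : Type v} [CommRing A] [LambdaOps A] [Algebra K A]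

/-- **Binomial formula for the γ-series**. -/
theorem gammaSeries_algebraMap_mul (hKb : IsBinomial K) (hA : IsSpecial A)
    (hKA : IsLambdaAlg K A) (κ : K) (μ : A) :
    gammaSeries (algebraMap K A κ * μ) =
      (PowerSeries.binomialSeries A κ).subst (gammaSeries μ - 1) := by
  have hw' : PowerSeries.constantCoeff (lamSeries μ - 1) = 0 := by
    rw [map_sub, constantCoeff_lamSeries, map_one, sub_self]
  rw [gammaSeries_eq_subst, lamSeries_algebraMap_mul hKb hA hKA,
    PowerSeries.subst_comp_subst_apply (hasSubst_of_constantCoeff_zero hw') hasSubst_tOverOneSub,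
    PowerSeries.subst_sub hasSubst_tOverOneSub, subst_one' hasSubst_tOverOneSub,
    ← gammaSeries_eq_subst]

omit [LambdaOps A] in
theorem coeff_pow_mem (J : ℕ → Ideal A) (hJ0 : J 0 = ⊤)
    (hJmul : ∀ a b x y, x ∈ J a → y ∈ J b → x * y ∈ J (a + b)) {w : PowerSeries A}
    (hw : ∀ i, PowerSeries.coeff i w ∈ J i) (d m : ℕ) : PowerSeries.coeff m (w ^ d) ∈ J m := by
  induction d generalizing m with
  | zero =>
    rw [pow_zero, PowerSeries.coeff_one]
    split_ifs with h
    · rw [h, hJ0]; trivial
    · exact Ideal.zero_mem _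
  | succ d ih =>
    rw [pow_succ, PowerSeries.coeff_mul]
    refine Ideal.sum_mem _ fun pq hpq => ?_
    have := hJmul _ _ _ _ (ih pq.1) (hw pq.2)
    rwa [Finset.mem_antidiagonal.mp hpq] at this

omit [LambdaOps A] in
theorem coeff_subst_mem (J : ℕ → Ideal A) (hJ0 : J 0 = ⊤)
    (hJmul : ∀ a b x y, x ∈ J a → y ∈ J b → x * y ∈ J (a + b)) (f : PowerSeries A)
    {w : PowerSeries A} (hw0 : PowerSeries.constantCoeff w = 0)
    (hw : ∀ i, PowerSeries.coeff i w ∈ J i) (m : ℕ) : PowerSeries.coeff m (f.subst w) ∈ J m := by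
  rw [PowerSeries.coeff_subst' (hasSubst_of_constantCoeff_zero hw0)]
  refine finsum_induction (fun x => x ∈ J m) (Ideal.zero_mem _) (fun x y hx hy => Ideal.add_mem _ hx hy)
    fun d => ?_
  rw [smul_eq_mul]
  exact Ideal.mul_mem_left _ _ (coeff_pow_mem J hJ0 hJmul hw d m)

/-- Scalar multiples (by elements of the binomial ring) of good elements are good. -/
theorem algebraMap_mul_mem_gamGood (hKb : IsBinomial K) (hA : IsSpecial A)
    (hKA : IsLambdaAlg K A) (J : ℕ → Ideal A) (hJ0 : J 0 = ⊤)
    (hJmul : ∀ a b x y, x ∈ J a → y ∈ J b → x * y ∈ J (a + b)) (κ : K) {μ : A}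
    (hμ : μ ∈ gamGood J hJ0 hJmul) : algebraMap K A κ * μ ∈ gamGood J hJ0 hJmul := by
  intro i
  rw [← coeff_gammaSeries, gammaSeries_algebraMap_mul hKb hA hKA]
  apply coeff_subst_mem J hJ0 hJmul
  · rw [map_sub, map_one, ← PowerSeries.coeff_zero_eq_constantCoeff_apply, coeff_gammaSeries,
      gamma_zero', sub_self]
  · intro j
    rw [map_sub, coeff_gammaSeries, PowerSeries.coeff_one]
    split_ifs with h
    · rw [h, hJ0]; trivial
    · rw [sub_zero]; exact hμ j

end BG

end Groth.Agent.Lib.Helper44
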