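import Mathlib

/-!
# If a product of ideals is locally principal invertible then so are the factors (ring level)
-/

set_option autoImplicit false

namespace Groth.Agent.Lib.Helper44

open Ideal

variable {A : Type*} [CommRing A]

/-- If `I * J = (f)` with `f` a nonzerodivisor, the coefficients `a` with `x * y = a * f`
(`x ∈ I`, `y ∈ J`) generate the unit ideal. -/
theorem span_coeff_eq_top (I J : Ideal A) (f : A) (hf : f ∈ nonZeroDivisors A)
    (hIJ : I * J = Ideal.span {f}) :
    Ideal.span {a : A | ∃ x ∈ I, ∃ y ∈ J, x * y = a * f} = ⊤ := by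
  set 𝔞 := Ideal.span {a : A | ∃ x ∈ I, ∃ y ∈ J, x * y = a * f} with h𝔞
  have hle : I * J ≤ 𝔞 * Ideal.span {f} := by
    rw [Ideal.mul_le]
    intro x hx y hy
    have hxy : x * y ∈ Ideal.span {f} := hIJ ▸ Ideal.mul_mem_mul hx hy
    obtain ⟨a, ha⟩ := Ideal.mem_span_singleton'.mp hxy
    rw [Ideal.mem_mul_span_singleton]
    exact ⟨a, Ideal.subset_span ⟨x, hx, y, hy, ha.symm⟩, ha⟩
  have hfmem : f ∈ 𝔞 * Ideal.span {f} := hle (hIJ ▸ Ideal.mem_span_singleton_self f)
  obtain ⟨q, hq, hqf⟩ := Ideal.mem_mul_span_singleton.mp hfmem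
  have h1 : (1 - q) * f = 0 := by rw [sub_mul, one_mul, hqf, sub_self]
  have h2 : 1 - q = 0 := (mem_nonZeroDivisors_iff_right.mp hf) _ h1
  rw [Ideal.eq_top_iff_one]
  have : (1 : A) = q := by linear_combination h2
  rw [this]; exact hq

/-- In the localization away from a coefficient `a` with `x * y = a * f`, the ideal `I` becomes
principal, generated by the nonzerodivisor `x`. -/
theorem map_eq_span_of_mul_eq {B : Type*} [CommRing B] [Algebra A B] (I J : Ideal A) (f : A)
    (hf : f ∈ nonZeroDivisors A) (hIJ : I * J = Ideal.span {f}) (a x y : A)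
    (hx : x ∈ I) (hy : y ∈ J) (hxy : x * y = a * f) [IsLocalization.Away a B] :
    algebraMap A B x ∈ nonZeroDivisors B ∧ I.map (algebraMap A B) = Ideal.span {algebraMap A B x} := by
  have hfB : algebraMap A B f ∈ nonZeroDivisors B :=
    IsLocalization.map_nonZeroDivisors_le (Submonoid.powers a) B (Submonoid.mem_map_of_mem _ hf)
  have haB : IsUnit (algebraMap A B a) := IsLocalization.Away.algebraMap_isUnit a
  have hxyB : algebraMap A B x * algebraMap A B y = algebraMap A B a * algebraMap A B f := by
    rw [← map_mul, ← map_mul, hxy]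
  have hprod : algebraMap A B x * algebraMap A B y ∈ nonZeroDivisors B := by
    rw [hxyB]
    exact mul_mem (haB.mem_nonZeroDivisors) hfB
  have hxB : algebraMap A B x ∈ nonZeroDivisors B := (mul_mem_nonZeroDivisors.mp hprod).1
  have hyB : algebraMap A B y ∈ nonZeroDivisors B := (mul_mem_nonZeroDivisors.mp hprod).2
  refine ⟨hxB, le_antisymm ?_ ?_⟩
  · rw [Ideal.map_le_iff_le_comap]
    intro z hz
    rw [Ideal.mem_comap]
    have hzy : z * y ∈ Ideal.span {f} := hIJ ▸ Ideal.mul_mem_mul hz hy
    obtain ⟨c, hc⟩ := Ideal.mem_span_singleton'.mp hzy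
    obtain ⟨u, hu⟩ := haB
    rw [Ideal.mem_span_singleton']
    refine ⟨algebraMap A B c * ↑u⁻¹, ?_⟩
    have key : (algebraMap A B c * ↑u⁻¹ * algebraMap A B x - algebraMap A B z) *
        algebraMap A B y = 0 := by
      have hzyB : algebraMap A B z * algebraMap A B y = algebraMap A B c * algebraMap A B f := by
        rw [← map_mul, ← map_mul, hc]
      have hu' : (↑u⁻¹ : B) * algebraMap A B a = 1 := by rw [← hu]; exact u.inv_mul
      calc (algebraMap A B c * ↑u⁻¹ * algebraMap A B x - algebraMap A B z) * algebraMap A B y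
          = algebraMap A B c * ↑u⁻¹ * (algebraMap A B x * algebraMap A B y)
              - algebraMap A B z * algebraMap A B y := by ring
        _ = algebraMap A B c * (↑u⁻¹ * algebraMap A B a) * algebraMap A B f
              - algebraMap A B c * algebraMap A B f := by rw [hxyB, hzyB]; ring
        _ = 0 := by rw [hu']; ring
    exact sub_eq_zero.mp ((mem_nonZeroDivisors_iff_right.mp hyB) _ key)
  · rw [Ideal.span_le, Set.singleton_subset_iff]
    exact Ideal.mem_map_of_mem _ hx

end Groth.Agent.Lib.Helper44
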