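import Groth.Agent.Lib.Helper44.CechValR
import Mathlib

set_option autoImplicit false
universe u
open CategoryTheory TensorProduct

namespace Groth.Agent.Lib.Helper44

/-- faithfully flat descent of "kernel contained in range" -/
theorem ff_ker_le_range {R : Type*} [CommRing R] (B : Type*) [CommRing B] [Algebra R B]
    [Module.FaithfullyFlat R B]
    {N1 N2 N3 : Type*} [AddCommGroup N1] [AddCommGroup N2] [AddCommGroup N3]
    [Module R N1] [Module R N2] [Module R N3] (l12 : N1 →ₗ[R] N2) (l23 : N2 →ₗ[R] N3)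
    (h : ∀ z : B ⊗[R] N2, l23.lTensor B z = 0 → ∃ w, l12.lTensor B w = z)
    (x : N2) (hx : l23 x = 0) : ∃ y, l12 y = x := by
  let K := LinearMap.ker l23
  let I := LinearMap.range l12
  let g : K →ₗ[R] N2 ⧸ I := I.mkQ ∘ₗ K.subtype
  have hg : g = 0 := by
    rw [Module.FaithfullyFlat.zero_iff_lTensor_zero R B]
    apply LinearMap.ext
    intro z
    rw [LinearMap.lTensor_comp, LinearMap.comp_apply]
    have h1 : l23.lTensor B (K.subtype.lTensor B z) = 0 := by
      rw [← LinearMap.comp_apply, ← LinearMap.lTensor_comp]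
      have h0 : l23 ∘ₗ K.subtype = 0 := by
        apply LinearMap.ext
        intro k
        exact k.2
      rw [h0, LinearMap.lTensor_zero, LinearMap.zero_apply]
    obtain ⟨w, hw⟩ := h _ h1
    rw [← hw, ← LinearMap.comp_apply, ← LinearMap.lTensor_comp]
    have h0 : I.mkQ ∘ₗ l12 = 0 := by
      apply LinearMap.ext
      intro n
      exact (Submodule.Quotient.mk_eq_zero I).2 ⟨n, rfl⟩
    rw [h0, LinearMap.lTensor_zero]
    rfl
  have h2 : g ⟨x, hx⟩ = 0 := by rw [hg]; rfl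
  exact (Submodule.Quotient.mk_eq_zero I).1 h2

section
variable {R : Type u} [CommRing R] (B : Type u) [CommRing B] [Algebra R B] (G : Adeq.MVF R)

/-- differential of the Amitsur complex of `G` -/
noncomputable def dC (m : ℕ) : valR G (Tw R B m) →ₗ[R] valR G (Tw R B (m + 1)) :=
  ∑ k : Fin (m + 1), ((-1 : ℤ) ^ (k : ℕ)) • mapR G (twφ R B m k)

/-- differential of the décalage -/
noncomputable def dD (m : ℕ) : valR G (Tw R B (m + 1)) →ₗ[R] valR G (Tw R B (m + 2)) :=
  ∑ k : Fin (m + 1), ((-1 : ℤ) ^ (k : ℕ)) • mapR G (twMap R B (twφ R B m k))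

/-- the comparison maps -/
noncomputable def betaT (m : ℕ) : B ⊗[R] valR G (Tw R B m) →ₗ[R] valR G (Tw R B (m + 1)) :=
  betaR B G (Tw R B m)

theorem dC_apply (m : ℕ) (x : valR G (Tw R B m)) :
    dC B G m x = ∑ k : Fin (m + 1), ((-1 : ℤ) ^ (k : ℕ)) • mapR G (twφ R B m k) x := by
  rw [dC, LinearMap.sum_apply]
  rfl

theorem dD_apply (m : ℕ) (x : valR G (Tw R B (m + 1))) :
    dD B G m x =
      ∑ k : Fin (m + 1), ((-1 : ℤ) ^ (k : ℕ)) • mapR G (twMap R B (twφ R B m k)) x := by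
  rw [dD, LinearMap.sum_apply]
  rfl

theorem betaT_natural {m m' : ℕ} (g : Tw R B m ⟶ Tw R B m') (z : B ⊗[R] valR G (Tw R B m)) :
    mapR G (twMap R B g) (betaT B G m z) = betaT B G m' ((mapR G g).lTensor B z) :=
  congrArg (fun f => f z) (betaR_natural B G g)

theorem dD_betaT (m : ℕ) (z : B ⊗[R] valR G (Tw R B m)) :
    dD B G m (betaT B G m z) = betaT B G (m + 1) ((dC B G m).lTensor B z) := by
  rw [dD_apply]
  simp only [betaT_natural]
  have h : (dC B G m).lTensor B =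
      ∑ k : Fin (m + 1), ((-1 : ℤ) ^ (k : ℕ)) • (mapR G (twφ R B m k)).lTensor B := by
    change LinearMap.lTensorHom (R := R) B (dC B G m) = _
    rw [dC, map_sum]
    refine Finset.sum_congr rfl (fun k _ => ?_)
    exact map_zsmul (LinearMap.lTensorHom (R := R) B) _ _
  rw [h, LinearMap.sum_apply, map_sum]
  refine Finset.sum_congr rfl (fun k _ => ?_)
  rw [LinearMap.smul_apply, map_zsmul]

theorem mapR_comp_apply {A A' A'' : Adeq.Alg R} (g : A ⟶ A') (g' : A' ⟶ A'') (x : valR G A) :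
    mapR G g' (mapR G g x) = mapR G (g ≫ g') x := by
  rw [mapR_comp]
  rfl

/-- the contracting homotopy of the décalage -/
theorem homotopyD (m₀ : ℕ) (u : valR G (Tw R B (m₀ + 2))) :
    mapR G (twS R B (m₀ + 1)) (dD B G (m₀ + 1) u) + dD B G m₀ (mapR G (twS R B m₀) u) = u := by
  rw [dD_apply, dD_apply, map_sum, Fin.sum_univ_succ]
  have h0 : mapR G (twS R B (m₀ + 1))
      (((-1 : ℤ) ^ ((0 : Fin (m₀ + 1 + 1)) : ℕ)) •
        mapR G (twMap R B (twφ R B (m₀ + 1) 0)) u) = u := by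
    rw [Fin.val_zero, pow_zero, one_smul, mapR_comp_apply, twφ_zero, twMap_twL_twS, mapR_id]
    rfl
  rw [h0]
  refine (add_assoc _ _ _).trans ?_
  have h1 : ∑ j : Fin (m₀ + 1), mapR G (twS R B (m₀ + 1))
      (((-1 : ℤ) ^ ((j.succ : Fin (m₀ + 1 + 1)) : ℕ)) •
        mapR G (twMap R B (twφ R B (m₀ + 1) j.succ)) u) +
      ∑ k : Fin (m₀ + 1), ((-1 : ℤ) ^ (k : ℕ)) •
        mapR G (twMap R B (twφ R B m₀ k)) (mapR G (twS R B m₀) u) = 0 := by
    rw [← Finset.sum_add_distrib]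
    refine Finset.sum_eq_zero (fun j _ => ?_)
    rw [map_zsmul, mapR_comp_apply, mapR_comp_apply, twφ_succ, twS_natural, Fin.val_succ,
      pow_succ, mul_neg, mul_one, neg_smul, neg_add_cancel]
  rw [h1, add_zero]

variable [Module.FaithfullyFlat R B]

/-- exactness of the Amitsur complex of an adequate functor -/
theorem amitsur_exact (hG : Adeq.adequate R G) (m₀ : ℕ) (x : valR G (Tw R B (m₀ + 1)))
    (hx : dC B G (m₀ + 1) x = 0) : ∃ y : valR G (Tw R B m₀), dC B G m₀ y = x := by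
  refine ff_ker_le_range B (dC B G m₀) (dC B G (m₀ + 1)) ?_ x hx
  intro z hz
  have h1 : dD B G (m₀ + 1) (betaT B G (m₀ + 1) z) = 0 := by
    rw [dD_betaT, hz, map_zero]
  have h2 := homotopyD B G m₀ (betaT B G (m₀ + 1) z)
  rw [h1, map_zero, zero_add] at h2
  obtain ⟨w, hw⟩ := (betaR_bijective B G hG (Tw R B m₀)).2
    (mapR G (twS R B m₀) (betaT B G (m₀ + 1) z))
  refine ⟨w, (betaR_bijective B G hG (Tw R B (m₀ + 1))).1 ?_⟩
  change betaT B G (m₀ + 1) ((dC B G m₀).lTensor B w) = betaT B G (m₀ + 1) z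
  rw [← dD_betaT]
  change dD B G m₀ (betaR B G (Tw R B m₀) w) = _
  rw [hw, h2]

end

end Groth.Agent.Lib.Helper44
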