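import Groth.Agent.Lib.Helper44.CechAmitsur
import Groth.Agent.Lib.Helper44.BigAdeqMain
import Mathlib

set_option autoImplicit false
universe u
open CategoryTheory CategoryTheory.Limits Opposite TensorProduct AlgebraicGeometry

namespace Groth.Agent.Lib.Helper44

section
variable {C : Type*} [Category C] {X : C} {Y Z W : Over X}
    (p : W ⟶ Y) (q : W ⟶ Z) (h : IsPullback p.left q.left Y.hom Z.hom)

/-- the lift into a pullback, over the base -/
noncomputable def liftOver {V : Over X} (f1 : V ⟶ Y) (f2 : V ⟶ Z) : V ⟶ W :=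
  Over.homMk (h.lift f1.left f2.left ((Over.w f1).trans (Over.w f2).symm))
    (by
      rw [← Over.w p, ← Category.assoc, h.lift_fst]
      exact Over.w f1)

theorem liftOver_fst {V : Over X} (f1 : V ⟶ Y) (f2 : V ⟶ Z) : liftOver p q h f1 f2 ≫ p = f1 :=
  Over.OverMorphism.ext (h.lift_fst _ _ _)

theorem liftOver_snd {V : Over X} (f1 : V ⟶ Y) (f2 : V ⟶ Z) : liftOver p q h f1 f2 ≫ q = f2 :=
  Over.OverMorphism.ext (h.lift_snd _ _ _)

theorem liftOver_uniq {V : Over X} (f1 : V ⟶ Y) (f2 : V ⟶ Z) (m : V ⟶ W)
    (h1 : m ≫ p = f1) (h2 : m ≫ q = f2) : m = liftOver p q h f1 f2 := by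
  apply Over.OverMorphism.ext
  apply h.hom_ext
  · exact (congrArg Over.Hom.left h1).trans (h.lift_fst _ _ _).symm
  · exact (congrArg Over.Hom.left h2).trans (h.lift_snd _ _ _).symm

/-- a pullback square gives a binary product in the over category -/
noncomputable def isLimitBinaryFanOfIsPullback : IsLimit (BinaryFan.mk p q) :=
  BinaryFan.isLimitMk
    (fun s => liftOver p q h s.fst s.snd)
    (fun s => liftOver_fst p q h s.fst s.snd)
    (fun s => liftOver_snd p q h s.fst s.snd)
    (fun s m h1 h2 => liftOver_uniq p q h s.fst s.snd m h1 h2)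

end

section
variable (R : CommRingCat.{u})

/-- `Spec T → Spec R` as an object over `Spec R` -/
noncomputable def specO (T : Adeq.Alg R) : Over (Spec R) :=
  Over.mk (Spec.map (CommRingCat.ofHom (algebraMap R T)))

/-- functoriality of `specO` -/
noncomputable def specOMap {T T' : Adeq.Alg R} (g : T ⟶ T') : specO R T' ⟶ specO R T :=
  Over.homMk (Spec.map (CommRingCat.ofHom g.hom.toRingHom)) (by
    change Spec.map (CommRingCat.ofHom g.hom.toRingHom) ≫
      Spec.map (CommRingCat.ofHom (algebraMap R T)) =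
      Spec.map (CommRingCat.ofHom (algebraMap R T'))
    rw [← Spec.map_comp, ← CommRingCat.ofHom_comp, AlgHom.toRingHom_eq_coe,
      AlgHom.comp_algebraMap])

theorem specOMap_comp {T T' T'' : Adeq.Alg R} (g : T ⟶ T') (g' : T' ⟶ T'') :
    specOMap R (g ≫ g') = specOMap R g' ≫ specOMap R g := by
  apply Over.OverMorphism.ext
  change Spec.map (CommRingCat.ofHom (g'.hom.comp g.hom).toRingHom) =
    Spec.map (CommRingCat.ofHom g'.hom.toRingHom) ≫ Spec.map (CommRingCat.ofHom g.hom.toRingHom)
  rw [← Spec.map_comp, ← CommRingCat.ofHom_comp]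
  rfl

variable (B : Type u) [CommRing B] [Algebra R B]

/-- the covering object -/
noncomputable abbrev X0 : Over (Spec R) :=
  Over.mk (Spec.map (CommRingCat.ofHom (algebraMap R B)))

/-- the fan of coordinate projections on `Spec` of the tower -/
noncomputable def fanT (m : ℕ) : Fan (fun _ : Fin m => X0 R B) :=
  Fan.mk (specO R (Tw R B m)) (fun a => specOMap R (twι R B m a))

/-- the binary product `Spec (T ⊗ B) = Spec B × Spec T` -/
noncomputable def isLimitBin (m : ℕ) :
    IsLimit (BinaryFan.mk (specOMap R (twR R B m)) (specOMap R (twL R B m)) :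
      BinaryFan (X0 R B) (specO R (Tw R B m))) :=
  isLimitBinaryFanOfIsPullback _ _
    (isPullback_SpecMap_of_isPushout _ _ _ _
      (CommRingCat.isPushout_tensorProduct R (Tw R B m) B)).flip

theorem specO_zero_hom : (specO R (Tw R B 0)).hom = 𝟙 (Spec R) := by
  change Spec.map (CommRingCat.ofHom (RingHom.id R)) = 𝟙 (Spec R)
  rw [CommRingCat.ofHom_id]
  exact Spec.map_id _

/-- the fans of coordinate projections are limit fans -/
noncomputable def isLimitFanT : ∀ m : ℕ, IsLimit (fanT R B m)
  | 0 => Fan.IsLimit.mk _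
      (fun s => Over.homMk (V := specO R (Tw R B 0)) s.pt.hom
        ((congrArg (fun k => s.pt.hom ≫ k) (specO_zero_hom R B)).trans (Category.comp_id _)))
      (fun s a => Fin.elim0 a)
      (fun s m _ => by
        apply Over.OverMorphism.ext
        have h : m.left ≫ (specO R (Tw R B 0)).hom = s.pt.hom := Over.w m
        exact ((Category.comp_id _).symm.trans
          (congrArg (fun k => m.left ≫ k) (specO_zero_hom R B)).symm).trans h)
  | (m + 1) => IsLimit.ofIsoLimit
      (extendFanIsLimit (fun _ : Fin (m + 1) => X0 R B) (isLimitFanT m) (isLimitBin R B m))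
      (Cone.ext (Iso.refl _) (by
        rintro ⟨a⟩
        refine Fin.cases ?_ (fun a' => ?_) a
        · exact (Category.id_comp _).symm
        · refine Eq.trans ?_ (Category.id_comp _).symm
          change specOMap R (twL R B m) ≫ specOMap R (twι R B m a') =
            specOMap R (twι R B m a' ≫ twL R B m)
          rw [specOMap_comp]))

/-- the power of the covering object -/
noncomputable abbrev Zp (m : ℕ) : Over (Spec R) := ∏ᶜ (fun _ : Fin m => X0 R B)

/-- the comparison iso -/
noncomputable def thetaT (m : ℕ) : Zp R B m ≅ specO R (Tw R B m) :=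
  (limit.isLimit _).conePointUniqueUpToIso (isLimitFanT R B m)

theorem thetaT_hom_proj (m : ℕ) (a : Fin m) :
    (thetaT R B m).hom ≫ specOMap R (twι R B m a) = Pi.π (fun _ : Fin m => X0 R B) a :=
  IsLimit.conePointUniqueUpToIso_hom_comp
    (limit.isLimit (Discrete.functor fun _ : Fin m => X0 R B)) (isLimitFanT R B m) ⟨a⟩

/-- the faces of the Cech nerve -/
noncomputable def fcT (m : ℕ) (k : Fin (m + 1)) : Zp R B (m + 1) ⟶ Zp R B m :=
  Pi.lift (fun a => Pi.π (fun _ : Fin (m + 1) => X0 R B) (k.succAbove a))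

theorem fcT_theta (m : ℕ) (k : Fin (m + 1)) :
    fcT R B m k ≫ (thetaT R B m).hom =
      (thetaT R B (m + 1)).hom ≫ specOMap R (twφ R B m k) := by
  apply Fan.IsLimit.hom_ext (isLimitFanT R B m)
  intro a
  change (fcT R B m k ≫ (thetaT R B m).hom) ≫ specOMap R (twι R B m a) =
    ((thetaT R B (m + 1)).hom ≫ specOMap R (twφ R B m k)) ≫ specOMap R (twι R B m a)
  rw [Category.assoc, thetaT_hom_proj, Category.assoc, ← specOMap_comp, twι_φ, thetaT_hom_proj]
  exact Pi.lift_π _ _

end

section
variable {S : Scheme.{u}} (M : BigSite.Mod Scheme.fppfPrecoverage S) {R : CommRingCat.{u}}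
  (a : Spec R ⟶ S) (B : Type u) [CommRing B] [Algebra R B]

/-- the presheaf whose Cech complex is considered -/
noncomputable abbrev PP : (Over (Spec R))ᵒᵖ ⥤ AddCommGrpCat.{u + 1} :=
  (Over.map a).op ⋙ ((BigSite.toAbMod Scheme.fppfPrecoverage S).obj M).obj

/-- the functor of sections -/
noncomputable abbrev GG : Adeq.MVF R := (Adeq.toMVF Scheme.fppfPrecoverage a).obj M

/-- sections of the functor as sections of the presheaf -/
noncomputable def tauT (T : Adeq.Alg R) (x : valR (GG M a) T) : (PP M a).obj (op (specO R T)) := x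

/-- sections of the presheaf as sections of the functor -/
noncomputable def tauTinv (T : Adeq.Alg R) (z : (PP M a).obj (op (specO R T))) :
    valR (GG M a) T := z

theorem tauT_map {T T' : Adeq.Alg R} (g : T ⟶ T') (x : valR (GG M a) T) :
    (PP M a).map (specOMap R g).op (tauT M a T x) = tauT M a T' (mapR (GG M a) g x) := rfl

theorem PP_map_comp_apply {U V W : Over (Spec R)} (f : U ⟶ V) (g : V ⟶ W)
    (z : (PP M a).obj (op W)) :
    (PP M a).map f.op ((PP M a).map g.op z) = (PP M a).map (f ≫ g).op z := by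
  rw [op_comp, CategoryTheory.Functor.map_comp]
  rfl

theorem PP_map_id_apply (U : Over (Spec R)) (z : (PP M a).obj (op U)) :
    (PP M a).map (𝟙 U).op z = z := by
  rw [op_id, CategoryTheory.Functor.map_id]
  rfl

/-- transport of a section from the product to `Spec` of the tower -/
noncomputable def toTw (m : ℕ) (z : (PP M a).obj (op (Zp R B m))) :
    valR (GG M a) (Tw R B m) :=
  tauTinv M a (Tw R B m) ((PP M a).map (thetaT R B m).inv.op z)

/-- transport of a section from `Spec` of the tower to the product -/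
noncomputable def ofTw (m : ℕ) (x : valR (GG M a) (Tw R B m)) :
    (PP M a).obj (op (Zp R B m)) :=
  (PP M a).map (thetaT R B m).hom.op (tauT M a (Tw R B m) x)

theorem ofTw_toTw (m : ℕ) (z : (PP M a).obj (op (Zp R B m))) :
    ofTw M a B m (toTw M a B m z) = z := by
  change (PP M a).map (thetaT R B m).hom.op ((PP M a).map (thetaT R B m).inv.op z) = z
  rw [PP_map_comp_apply, Iso.hom_inv_id, PP_map_id_apply]

theorem toTw_face (m : ℕ) (k : Fin (m + 1)) (z : (PP M a).obj (op (Zp R B m))) :
    mapR (GG M a) (twφ R B m k) (toTw M a B m z) =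
      toTw M a B (m + 1) ((PP M a).map (fcT R B m k).op z) := by
  have h : (thetaT R B (m + 1)).inv ≫ fcT R B m k =
      specOMap R (twφ R B m k) ≫ (thetaT R B m).inv := by
    rw [Iso.inv_comp_eq, ← Category.assoc, Iso.eq_comp_inv]
    exact fcT_theta R B m k
  change (PP M a).map (specOMap R (twφ R B m k)).op
      ((PP M a).map (thetaT R B m).inv.op z) =
    (PP M a).map (thetaT R B (m + 1)).inv.op ((PP M a).map (fcT R B m k).op z)
  rw [PP_map_comp_apply, PP_map_comp_apply, h]

theorem ofTw_face (m : ℕ) (k : Fin (m + 1)) (y : valR (GG M a) (Tw R B m)) :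
    (PP M a).map (fcT R B m k).op (ofTw M a B m y) =
      ofTw M a B (m + 1) (mapR (GG M a) (twφ R B m k) y) := by
  change (PP M a).map (fcT R B m k).op
      ((PP M a).map (thetaT R B m).hom.op (tauT M a (Tw R B m) y)) =
    (PP M a).map (thetaT R B (m + 1)).hom.op
      ((PP M a).map (specOMap R (twφ R B m k)).op (tauT M a (Tw R B m) y))
  rw [PP_map_comp_apply, PP_map_comp_apply, fcT_theta]

theorem toTw_zero (m : ℕ) : toTw M a B m 0 = 0 :=
  map_zero ((PP M a).map (thetaT R B m).inv.op).hom

theorem toTw_add (m : ℕ) (z z' : (PP M a).obj (op (Zp R B m))) :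
    toTw M a B m (z + z') = toTw M a B m z + toTw M a B m z' :=
  map_add ((PP M a).map (thetaT R B m).inv.op).hom z z'

/-- `toTw` as an additive map -/
noncomputable def toTwHom (m : ℕ) : (PP M a).obj (op (Zp R B m)) →+ valR (GG M a) (Tw R B m) where
  toFun := toTw M a B m
  map_zero' := toTw_zero M a B m
  map_add' := toTw_add M a B m

/-- `ofTw` as an additive map -/
noncomputable def ofTwHom (m : ℕ) : valR (GG M a) (Tw R B m) →+ (PP M a).obj (op (Zp R B m)) where
  toFun := ofTw M a B m
  map_zero' := map_zero ((PP M a).map (thetaT R B m).hom.op).hom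
  map_add' := fun x x' => map_add ((PP M a).map (thetaT R B m).hom.op).hom x x'

set_option backward.isDefEq.respectTransparency.types false in
/-- exactness of the Cech complex of the single covering `Spec B → Spec R`, plain form -/
theorem cech_plain_exact (hM : Adeq.adequateMod Scheme.fppfPrecoverage S M)
    [Module.FaithfullyFlat R B] (p : ℕ) (s0 : (PP M a).obj (op (Zp R B (p + 2))))
    (hs : ∑ k : Fin (p + 3), ((-1 : ℤ) ^ (k : ℕ)) • (PP M a).map (fcT R B (p + 2) k).op s0 = 0) :
    ∃ t0 : (PP M a).obj (op (Zp R B (p + 1))),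
      ∑ k : Fin (p + 2), ((-1 : ℤ) ^ (k : ℕ)) • (PP M a).map (fcT R B (p + 1) k).op t0 = s0 := by
  have hG : Adeq.adequate R (GG M a) := adequate_toMVF_fppf S M hM R a
  have hx : dC B (GG M a) (p + 2) (toTw M a B (p + 2) s0) = 0 := by
    rw [dC_apply]
    simp only [toTw_face]
    have h1 := congrArg (toTwHom M a B (p + 3)) hs
    rw [map_sum, map_zero] at h1
    refine Eq.trans ?_ h1
    refine Finset.sum_congr rfl (fun k _ => ?_)
    exact (map_zsmul (toTwHom M a B (p + 3)) _ _).symm
  obtain ⟨y, hy⟩ := amitsur_exact B (GG M a) hG (p + 1) _ hx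
  refine ⟨ofTw M a B (p + 1) y, ?_⟩
  simp only [ofTw_face]
  have h2 := congrArg (ofTwHom M a B (p + 2)) hy
  rw [dC_apply, map_sum] at h2
  refine Eq.trans ?_ (h2.trans (ofTw_toTw M a B (p + 2) s0))
  refine Finset.sum_congr rfl (fun k _ => ?_)
  exact (map_zsmul (ofTwHom M a B (p + 2)) _ _).symm

end

end Groth.Agent.Lib.Helper44
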