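import Groth.Agent.Lib.Helper44.CechGeom
import Mathlib

/-! A version of `cech_plain_exact` relative to a functor `E` out of `Over (Spec R)` which
preserves the product fans on the spectra of the tower. -/

set_option autoImplicit false
universe u v w
open CategoryTheory CategoryTheory.Limits Opposite TensorProduct AlgebraicGeometry

namespace Groth.Agent.Lib.Helper44

section
variable (R : CommRingCat.{u}) (B : Type u) [CommRing B] [Algebra R B]
variable {𝒟 : Type w} [Category.{v} 𝒟] [HasFiniteProducts 𝒟] (E : Over (Spec R) ⥤ 𝒟)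
  (hE : ∀ m : ℕ, IsLimit (Fan.mk (E.obj (specO R (Tw R B m)))
    (fun a : Fin m => E.map (specOMap R (twι R B m a))) : Fan (fun _ : Fin m => E.obj (X0 R B))))

/-- the power of the image of the covering object -/
noncomputable abbrev ZpE (m : ℕ) : 𝒟 := ∏ᶜ (fun _ : Fin m => E.obj (X0 R B))

/-- the comparison iso -/
noncomputable def thetaE (m : ℕ) : ZpE R B E m ≅ E.obj (specO R (Tw R B m)) :=
  (limit.isLimit _).conePointUniqueUpToIso (hE m)

theorem thetaE_hom_proj (m : ℕ) (a : Fin m) :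
    (thetaE R B E hE m).hom ≫ E.map (specOMap R (twι R B m a)) =
      Pi.π (fun _ : Fin m => E.obj (X0 R B)) a :=
  IsLimit.conePointUniqueUpToIso_hom_comp
    (limit.isLimit (Discrete.functor fun _ : Fin m => E.obj (X0 R B))) (hE m) ⟨a⟩

/-- the faces of the Cech nerve -/
noncomputable def fcE (m : ℕ) (k : Fin (m + 1)) : ZpE R B E (m + 1) ⟶ ZpE R B E m :=
  Pi.lift (fun a => Pi.π (fun _ : Fin (m + 1) => E.obj (X0 R B)) (k.succAbove a))

theorem fcE_theta (m : ℕ) (k : Fin (m + 1)) :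
    fcE R B E m k ≫ (thetaE R B E hE m).hom =
      (thetaE R B E hE (m + 1)).hom ≫ E.map (specOMap R (twφ R B m k)) := by
  apply Fan.IsLimit.hom_ext (hE m)
  intro a
  change (fcE R B E m k ≫ (thetaE R B E hE m).hom) ≫ E.map (specOMap R (twι R B m a)) =
    ((thetaE R B E hE (m + 1)).hom ≫ E.map (specOMap R (twφ R B m k))) ≫
      E.map (specOMap R (twι R B m a))
  rw [Category.assoc, thetaE_hom_proj, Category.assoc, ← E.map_comp, ← specOMap_comp, twι_φ,
    thetaE_hom_proj]
  exact Pi.lift_π _ _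

variable (P' : 𝒟ᵒᵖ ⥤ AddCommGrpCat.{u + 1}) (G : Adeq.MVF R)
  (τ : ∀ T : Adeq.Alg R, valR G T ≃+ P'.obj (op (E.obj (specO R T))))
  (hτ : ∀ {T T' : Adeq.Alg R} (g : T ⟶ T') (x : valR G T),
    P'.map (E.map (specOMap R g)).op (τ T x) = τ T' (mapR G g x))

omit [HasFiniteProducts 𝒟] in
theorem P'_map_comp_apply {U V W : 𝒟} (f : U ⟶ V) (g : V ⟶ W) (z : P'.obj (op W)) :
    P'.map f.op (P'.map g.op z) = P'.map (f ≫ g).op z := by
  rw [op_comp, CategoryTheory.Functor.map_comp]
  rfl

omit [HasFiniteProducts 𝒟] in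
theorem P'_map_id_apply (U : 𝒟) (z : P'.obj (op U)) : P'.map (𝟙 U).op z = z := by
  rw [op_id, CategoryTheory.Functor.map_id]
  rfl

/-- transport of a section from the product to the tower -/
noncomputable def toTwE (m : ℕ) : P'.obj (op (ZpE R B E m)) →+ valR G (Tw R B m) :=
  (τ (Tw R B m)).symm.toAddMonoidHom.comp (P'.map (thetaE R B E hE m).inv.op).hom

/-- transport of a section from the tower to the product -/
noncomputable def ofTwE (m : ℕ) : valR G (Tw R B m) →+ P'.obj (op (ZpE R B E m)) :=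
  (P'.map (thetaE R B E hE m).hom.op).hom.comp (τ (Tw R B m)).toAddMonoidHom

theorem ofTwE_toTwE (m : ℕ) (z : P'.obj (op (ZpE R B E m))) :
    ofTwE R B E hE P' G τ m (toTwE R B E hE P' G τ m z) = z := by
  change P'.map (thetaE R B E hE m).hom.op ((τ (Tw R B m))
    ((τ (Tw R B m)).symm (P'.map (thetaE R B E hE m).inv.op z))) = z
  rw [AddEquiv.apply_symm_apply, P'_map_comp_apply, Iso.hom_inv_id, P'_map_id_apply]

include hτ in
theorem toTwE_face (m : ℕ) (k : Fin (m + 1)) (z : P'.obj (op (ZpE R B E m))) :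
    mapR G (twφ R B m k) (toTwE R B E hE P' G τ m z) =
      toTwE R B E hE P' G τ (m + 1) (P'.map (fcE R B E m k).op z) := by
  have h : (thetaE R B E hE (m + 1)).inv ≫ fcE R B E m k =
      E.map (specOMap R (twφ R B m k)) ≫ (thetaE R B E hE m).inv := by
    rw [Iso.inv_comp_eq, ← Category.assoc, Iso.eq_comp_inv]
    exact fcE_theta R B E hE m k
  apply (τ (Tw R B (m + 1))).injective
  rw [← hτ]
  change P'.map (E.map (specOMap R (twφ R B m k))).op ((τ (Tw R B m))
      ((τ (Tw R B m)).symm (P'.map (thetaE R B E hE m).inv.op z))) =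
    (τ (Tw R B (m + 1))) ((τ (Tw R B (m + 1))).symm
      (P'.map (thetaE R B E hE (m + 1)).inv.op (P'.map (fcE R B E m k).op z)))
  rw [AddEquiv.apply_symm_apply, AddEquiv.apply_symm_apply, P'_map_comp_apply,
    P'_map_comp_apply, h]

include hτ in
theorem ofTwE_face (m : ℕ) (k : Fin (m + 1)) (y : valR G (Tw R B m)) :
    P'.map (fcE R B E m k).op (ofTwE R B E hE P' G τ m y) =
      ofTwE R B E hE P' G τ (m + 1) (mapR G (twφ R B m k) y) := by
  change P'.map (fcE R B E m k).op (P'.map (thetaE R B E hE m).hom.op (τ (Tw R B m) y)) =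
    P'.map (thetaE R B E hE (m + 1)).hom.op (τ (Tw R B (m + 1)) (mapR G (twφ R B m k) y))
  rw [← hτ, P'_map_comp_apply, P'_map_comp_apply, fcE_theta]

include hτ hE in
/-- exactness of the Cech complex of a single covering, relative form -/
theorem cech_plain_exact_gen (hG : Adeq.adequate R G) [Module.FaithfullyFlat R B] (p : ℕ)
    (s0 : P'.obj (op (ZpE R B E (p + 2))))
    (hs : ∑ k : Fin (p + 3), ((-1 : ℤ) ^ (k : ℕ)) • P'.map (fcE R B E (p + 2) k).op s0 = 0) :
    ∃ t0 : P'.obj (op (ZpE R B E (p + 1))),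
      ∑ k : Fin (p + 2), ((-1 : ℤ) ^ (k : ℕ)) • P'.map (fcE R B E (p + 1) k).op t0 = s0 := by
  have hx : dC B G (p + 2) (toTwE R B E hE P' G τ (p + 2) s0) = 0 := by
    rw [dC_apply]
    simp only [toTwE_face R B E hE P' G τ hτ]
    have h1 := congrArg (toTwE R B E hE P' G τ (p + 3)) hs
    rw [map_sum, map_zero] at h1
    refine Eq.trans ?_ h1
    refine Finset.sum_congr rfl (fun k _ => ?_)
    exact (map_zsmul (toTwE R B E hE P' G τ (p + 3)) _ _).symm
  obtain ⟨y, hy⟩ := amitsur_exact B G hG (p + 1) _ hx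
  refine ⟨ofTwE R B E hE P' G τ (p + 1) y, ?_⟩
  simp only [ofTwE_face R B E hE P' G τ hτ]
  have h2 := congrArg (ofTwE R B E hE P' G τ (p + 2)) hy
  rw [dC_apply, map_sum] at h2
  refine Eq.trans ?_ (h2.trans (ofTwE_toTwE R B E hE P' G τ (p + 2) s0))
  refine Finset.sum_congr rfl (fun k _ => ?_)
  exact (map_zsmul (ofTwE R B E hE P' G τ (p + 2)) _ _).symm

end

end Groth.Agent.Lib.Helper44
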