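import Groth.Agent.Lib.Helper44.AdeqFamilyDescent
import Mathlib

set_option autoImplicit false
universe u
open CategoryTheory TensorProduct

namespace Groth.Agent.Lib.Helper44

section
variable (R : Type u) [CommRing R] (B : Type u) [CommRing B] [Algebra R B]

/-- `A ⊗ B` as an object of `Adeq.Alg R` -/
noncomputable abbrev tb (A : Adeq.Alg R) : Adeq.Alg R := Adeq.algOf R ((A : Type u) ⊗[R] B)

/-- `t ↦ t ⊗ 1` -/
noncomputable def tbL (A : Adeq.Alg R) : A ⟶ tb R B A :=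
  CommAlgCat.ofHom (Algebra.TensorProduct.includeLeft : (A : Type u) →ₐ[R] (A : Type u) ⊗[R] B)

/-- `b ↦ 1 ⊗ b` -/
noncomputable def tbR (A : Adeq.Alg R) : Adeq.algOf R B ⟶ tb R B A :=
  CommAlgCat.ofHom (Algebra.TensorProduct.includeRight : B →ₐ[R] (A : Type u) ⊗[R] B)

/-- `g ⊗ id` -/
noncomputable def tbMap {A A' : Adeq.Alg R} (g : A ⟶ A') : tb R B A ⟶ tb R B A' :=
  CommAlgCat.ofHom (Algebra.TensorProduct.map g.hom (AlgHom.id R B))

/-- the extra degeneracy `(t ⊗ b) ⊗ b' ↦ t ⊗ (b b')` -/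
noncomputable def tbS (A : Adeq.Alg R) : tb R B (tb R B A) ⟶ tb R B A :=
  CommAlgCat.ofHom (Algebra.TensorProduct.lift
    (AlgHom.id R ((A : Type u) ⊗[R] B))
    (Algebra.TensorProduct.includeRight : B →ₐ[R] (A : Type u) ⊗[R] B)
    (fun _ _ => Commute.all _ _))

theorem tbL_apply (A : Adeq.Alg R) (t : A) :
    (tbL R B A).hom t = (t ⊗ₜ[R] (1 : B) : (A : Type u) ⊗[R] B) := rfl

theorem tbR_apply (A : Adeq.Alg R) (b : B) :
    (tbR R B A).hom b = ((1 : (A : Type u)) ⊗ₜ[R] b : (A : Type u) ⊗[R] B) := rfl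

theorem tbMap_tmul {A A' : Adeq.Alg R} (g : A ⟶ A') (t : A) (b : B) :
    (tbMap R B g).hom (t ⊗ₜ[R] b : (A : Type u) ⊗[R] B) =
      (g.hom t ⊗ₜ[R] b : (A' : Type u) ⊗[R] B) := rfl

theorem tbS_tmul (A : Adeq.Alg R) (t : A) (b b' : B) :
    (tbS R B A).hom (((t ⊗ₜ[R] b : (A : Type u) ⊗[R] B)) ⊗ₜ[R] b' :
        ((A : Type u) ⊗[R] B) ⊗[R] B) =
      (t ⊗ₜ[R] (b * b') : (A : Type u) ⊗[R] B) := by
  change (t ⊗ₜ[R] b : (A : Type u) ⊗[R] B) * ((1 : (A : Type u)) ⊗ₜ[R] b') = _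
  rw [Algebra.TensorProduct.tmul_mul_tmul, mul_one]

theorem tbL_tbMap {A A' : Adeq.Alg R} (g : A ⟶ A') :
    tbL R B A ≫ tbMap R B g = g ≫ tbL R B A' := by
  apply CommAlgCat.hom_ext
  apply AlgHom.ext
  intro t
  rfl

theorem tbR_tbMap {A A' : Adeq.Alg R} (g : A ⟶ A') :
    tbR R B A ≫ tbMap R B g = tbR R B A' := by
  apply CommAlgCat.hom_ext
  apply AlgHom.ext
  intro b
  change (g.hom 1 ⊗ₜ[R] b : (A' : Type u) ⊗[R] B) = 1 ⊗ₜ[R] b
  rw [map_one]

theorem tbMap_tbL_tbS (A : Adeq.Alg R) :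
    tbMap R B (tbL R B A) ≫ tbS R B A = 𝟙 (tb R B A) := by
  apply CommAlgCat.hom_ext
  apply AlgHom.ext
  intro x
  change (tbS R B A).hom ((tbMap R B (tbL R B A)).hom x) = x
  induction x using TensorProduct.induction_on with
  | zero => rw [map_zero, map_zero]
  | tmul t b =>
    rw [tbMap_tmul, tbL_apply, tbS_tmul, one_mul]
  | add x y hx hy => rw [map_add, map_add, hx, hy]

theorem tbS_natural {A A' : Adeq.Alg R} (g : A ⟶ A') :
    tbMap R B (tbMap R B g) ≫ tbS R B A' = tbS R B A ≫ tbMap R B g := by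
  apply CommAlgCat.hom_ext
  apply AlgHom.ext
  intro x
  change (tbS R B A').hom ((tbMap R B (tbMap R B g)).hom x) =
    (tbMap R B g).hom ((tbS R B A).hom x)
  induction x using TensorProduct.induction_on with
  | zero => rw [map_zero, map_zero, map_zero, map_zero]
  | tmul y b' =>
    induction y using TensorProduct.induction_on with
    | zero => rw [TensorProduct.zero_tmul, map_zero, map_zero, map_zero, map_zero]
    | tmul t b =>
      rw [tbMap_tmul, tbMap_tmul, tbS_tmul, tbS_tmul, tbMap_tmul]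
    | add y₁ y₂ h₁ h₂ =>
      rw [TensorProduct.add_tmul, map_add, map_add, map_add, map_add, h₁, h₂]
  | add x y hx hy => rw [map_add, map_add, map_add, map_add, hx, hy]

/-- the tower of tensor powers: `Tw 0 = R`, `Tw (m+1) = Tw m ⊗ B` -/
noncomputable def Tw : ℕ → Adeq.Alg R
  | 0 => Adeq.algOf R R
  | (m + 1) => tb R B (Tw m)

/-- `t ↦ t ⊗ 1` -/
noncomputable def twL (m : ℕ) : Tw R B m ⟶ Tw R B (m + 1) := tbL R B (Tw R B m)

/-- `b ↦ 1 ⊗ b` -/
noncomputable def twR (m : ℕ) : Adeq.algOf R B ⟶ Tw R B (m + 1) := tbR R B (Tw R B m)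

/-- `g ⊗ id` -/
noncomputable def twMap {m m' : ℕ} (g : Tw R B m ⟶ Tw R B m') :
    Tw R B (m + 1) ⟶ Tw R B (m' + 1) := tbMap R B g

/-- the cofaces -/
noncomputable def twφ : (m : ℕ) → Fin (m + 1) → (Tw R B m ⟶ Tw R B (m + 1))
  | 0, _ => twL R B 0
  | (m + 1), k => Fin.cases (twL R B (m + 1)) (fun j => twMap R B (twφ m j)) k

/-- the coordinate inclusions -/
noncomputable def twι : (m : ℕ) → Fin m → (Adeq.algOf R B ⟶ Tw R B m)
  | 0, a => Fin.elim0 a
  | (m + 1), a => Fin.cases (twR R B m) (fun a' => twι m a' ≫ twL R B m) a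

/-- the extra degeneracy `(t ⊗ b) ⊗ b' ↦ t ⊗ (b b')` -/
noncomputable def twS (m : ℕ) : Tw R B (m + 2) ⟶ Tw R B (m + 1) := tbS R B (Tw R B m)

theorem twφ_zero (m : ℕ) : twφ R B m 0 = twL R B m := by
  cases m with
  | zero => rfl
  | succ m => rfl

theorem twφ_succ (m : ℕ) (j : Fin (m + 1)) :
    twφ R B (m + 1) j.succ = twMap R B (twφ R B m j) := rfl

theorem twι_zero (m : ℕ) : twι R B (m + 1) 0 = twR R B m := rfl

theorem twι_succ (m : ℕ) (a : Fin m) :
    twι R B (m + 1) a.succ = twι R B m a ≫ twL R B m := rfl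

theorem twL_twMap {m m' : ℕ} (g : Tw R B m ⟶ Tw R B m') :
    twL R B m ≫ twMap R B g = g ≫ twL R B m' := tbL_tbMap R B g

theorem twR_twMap {m m' : ℕ} (g : Tw R B m ⟶ Tw R B m') :
    twR R B m ≫ twMap R B g = twR R B m' := tbR_tbMap R B g

theorem twι_φ : ∀ (m : ℕ) (k : Fin (m + 1)) (a : Fin m),
    twι R B m a ≫ twφ R B m k = twι R B (m + 1) (k.succAbove a)
  | 0, _, a => Fin.elim0 a
  | (m + 1), k, a => by
    refine Fin.cases ?_ (fun j => ?_) k
    · rw [twφ_zero, Fin.succAbove_zero, twι_succ]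
    · rw [twφ_succ]
      refine Fin.cases ?_ (fun a' => ?_) a
      · rw [Fin.succ_succAbove_zero, twι_zero, twι_zero, twR_twMap]
      · rw [Fin.succ_succAbove_succ, twι_succ, twι_succ, Category.assoc, twL_twMap,
          ← Category.assoc, twι_φ m j a']

theorem twMap_twL_twS (m : ℕ) : twMap R B (twL R B m) ≫ twS R B m = 𝟙 (Tw R B (m + 1)) :=
  tbMap_tbL_tbS R B (Tw R B m)

theorem twS_natural {m m' : ℕ} (g : Tw R B m ⟶ Tw R B m') :
    twMap R B (twMap R B g) ≫ twS R B m' = twS R B m ≫ twMap R B g :=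
  tbS_natural R B g

end

end Groth.Agent.Lib.Helper44
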