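import Groth.Agent.Lib.Lead.CechGen
import Mathlib

/-!
# Transport of Čech cochains along a finite-product preserving functor

For `E : 𝒜 ⥤ ℬ` preserving finite products, a family `Y : ι → 𝒜` and a presheaf `P` on `ℬ`,
vanishing of the Čech cohomology of `P` with respect to `E ∘ Y` implies vanishing of the Čech
cohomology of `E.op ⋙ P` with respect to `Y`.
-/

set_option autoImplicit false
universe w v₁ u₁ v₂ u₂
open CategoryTheory CategoryTheory.Limits Opposite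

namespace Groth.Agent.Lib.Helper44

open Groth.Agent.Lib.Lead

section
variable {𝒜 : Type u₁} [Category.{v₁} 𝒜] [HasFiniteProducts 𝒜]
  {ℬ : Type u₂} [Category.{v₂} ℬ] [HasFiniteProducts ℬ]
  (E : 𝒜 ⥤ ℬ) [PreservesFiniteProducts E]
  {ι : Type w} (Y : ι → 𝒜) (P : ℬᵒᵖ ⥤ AddCommGrpCat.{w})

/-- the image family -/
abbrev ctFam : ι → ℬ := fun i => E.obj (Y i)

/-- comparison iso `E (∏ Y∘x) ≅ ∏ (E∘Y∘x)` -/
noncomputable def ctTheta {n : ℕ} (x : Fin (n + 1) → ι) :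
    E.obj (gObj Y x) ≅ gObj (ctFam E Y) x :=
  PreservesProduct.iso E (Y ∘ x)

lemma ctTheta_hom_π {n : ℕ} (x : Fin (n + 1) → ι) (a : Fin (n + 1)) :
    (ctTheta E Y x).hom ≫ Pi.π (ctFam E Y ∘ x) a = E.map (Pi.π (Y ∘ x) a) :=
  piComparison_comp_π E (Y ∘ x) a

lemma ctTheta_face {n : ℕ} (y : Fin (n + 2) → ι) (i : Fin (n + 2)) :
    (ctTheta E Y y).hom ≫ gFace (ctFam E Y) y i =
      E.map (gFace Y y i) ≫ (ctTheta E Y (y ∘ Fin.succAbove i)).hom := by
  refine Limits.Pi.hom_ext _ _ fun a => ?_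
  rw [Category.assoc, Category.assoc, ctTheta_hom_π]
  have h1 : gFace (ctFam E Y) y i ≫ Pi.π (ctFam E Y ∘ (y ∘ Fin.succAbove i)) a =
      Pi.π (ctFam E Y ∘ y) (Fin.succAbove i a) := Pi.lift_π _ _
  have h2 : gFace Y y i ≫ Pi.π (Y ∘ (y ∘ Fin.succAbove i)) a =
      Pi.π (Y ∘ y) (Fin.succAbove i a) := Pi.lift_π _ _
  rw [h1, ctTheta_hom_π, ← E.map_comp, h2]

lemma ctTheta_face_inv {n : ℕ} (y : Fin (n + 2) → ι) (i : Fin (n + 2)) :
    (ctTheta E Y y).inv ≫ E.map (gFace Y y i) =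
      gFace (ctFam E Y) y i ≫ (ctTheta E Y (y ∘ Fin.succAbove i)).inv := by
  rw [Iso.inv_comp_eq, ← Category.assoc, Iso.eq_comp_inv]
  exact (ctTheta_face E Y y i).symm

omit [HasFiniteProducts ℬ] in
lemma ct_map_comp_apply {U V W : ℬ} (f : U ⟶ V) (g : V ⟶ W) (z : P.obj (op W)) :
    P.map f.op (P.map g.op z) = P.map (f ≫ g).op z := by
  rw [op_comp, CategoryTheory.Functor.map_comp]
  rfl

omit [HasFiniteProducts ℬ] in
lemma ct_map_id_apply (U : ℬ) (z : P.obj (op U)) : P.map (𝟙 U).op z = z := by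
  rw [op_id, CategoryTheory.Functor.map_id]
  rfl

/-- transport of cochains -/
noncomputable def ctTr (n : ℕ) (c : GCochain Y (E.op ⋙ P) n) : GCochain (ctFam E Y) P n :=
  fun x => P.map (ctTheta E Y x).inv.op (c x)

/-- inverse transport of cochains -/
noncomputable def ctTrInv (n : ℕ) (c : GCochain (ctFam E Y) P n) : GCochain Y (E.op ⋙ P) n :=
  fun x => P.map (ctTheta E Y x).hom.op (c x)

lemma ctTr_inv (n : ℕ) (c : GCochain (ctFam E Y) P n) : ctTr E Y P n (ctTrInv E Y P n c) = c := by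
  funext x
  change P.map (ctTheta E Y x).inv.op (P.map (ctTheta E Y x).hom.op (c x)) = c x
  rw [ct_map_comp_apply, Iso.inv_hom_id, ct_map_id_apply]

lemma ctTrInv_tr (n : ℕ) (c : GCochain Y (E.op ⋙ P) n) : ctTrInv E Y P n (ctTr E Y P n c) = c := by
  funext x
  change P.map (ctTheta E Y x).hom.op (P.map (ctTheta E Y x).inv.op (c x)) = c x
  rw [ct_map_comp_apply, Iso.hom_inv_id, ct_map_id_apply]

lemma ctTr_coboundary (n : ℕ) (c : GCochain Y (E.op ⋙ P) n) :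
    gCoboundary (ctFam E Y) P n (ctTr E Y P n c) = ctTr E Y P (n + 1) (gCoboundary Y (E.op ⋙ P) n c) := by
  funext y
  change ∑ i : Fin (n + 2), (-1 : ℤ) ^ (i : ℕ) •
      (P.map (gFace (ctFam E Y) y i).op) (P.map (ctTheta E Y (y ∘ Fin.succAbove i)).inv.op
        (c (y ∘ Fin.succAbove i))) =
    P.map (ctTheta E Y y).inv.op (∑ i : Fin (n + 2), (-1 : ℤ) ^ (i : ℕ) •
      (P.map (E.map (gFace Y y i)).op) (c (y ∘ Fin.succAbove i)))
  rw [map_sum]
  refine Finset.sum_congr rfl fun i _ => ?_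
  rw [map_zsmul, ct_map_comp_apply, ct_map_comp_apply, ctTheta_face_inv]

theorem isZero_gH_succ_of_preserves (n : ℕ)
    (h : IsZero ((gCx (ctFam E Y) P).homology (n + 1))) :
    IsZero ((gCx Y (E.op ⋙ P)).homology (n + 1)) := by
  rw [isZero_gH_succ_iff] at h ⊢
  intro c hc
  obtain ⟨b, hb⟩ := h (ctTr E Y P (n + 1) c) (by
    rw [ctTr_coboundary, hc]
    funext x
    change P.map (ctTheta E Y x).inv.op 0 = 0
    exact map_zero _)
  refine ⟨ctTrInv E Y P n b, ?_⟩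
  have h1 : ctTr E Y P (n + 1) (gCoboundary Y (E.op ⋙ P) n (ctTrInv E Y P n b)) =
      ctTr E Y P (n + 1) c := by
    rw [← ctTr_coboundary, ctTr_inv, hb]
  have h2 := congrArg (ctTrInv E Y P (n + 1)) h1
  rwa [ctTrInv_tr, ctTrInv_tr] at h2

end

end Groth.Agent.Lib.Helper44
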