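import Groth.Agent.Lib.Helper44.CechTower
import Groth.Agent.Lib.Helper44.AdeqFlat
import Groth.Agent.Lib.Helper44.AdeqExtLift
import Mathlib

set_option autoImplicit false
universe u
open CategoryTheory TensorProduct ChangeOfRings

namespace Groth.Agent.Lib.Helper44

section
variable {R : Type u} [CommRing R]

/-- the value of a module-valued functor at an algebra, as an `R`-module -/
def valR (G : Adeq.MVF R) (A : Adeq.Alg R) : Type (u + 1) := G.obj (Adeq.pt A)

instance (G : Adeq.MVF R) (A : Adeq.Alg R) : AddCommGroup (valR G A) :=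
  inferInstanceAs (AddCommGroup (G.obj (Adeq.pt A)))

instance (G : Adeq.MVF R) (A : Adeq.Alg R) : Module A (valR G A) :=
  inferInstanceAs (Module A (G.obj (Adeq.pt A)))

instance valRModule (G : Adeq.MVF R) (A : Adeq.Alg R) : Module R (valR G A) :=
  Module.compHom (valR G A) (algebraMap R A)

theorem valR_smul_def (G : Adeq.MVF R) (A : Adeq.Alg R) (r : R) (x : valR G A) :
    r • x = (algebraMap R A r) • x := rfl

instance (G : Adeq.MVF R) (A : Adeq.Alg R) : IsScalarTower R A (valR G A) :=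
  ⟨fun r a x => by
    rw [valR_smul_def, Algebra.smul_def, mul_smul]⟩

theorem mmap_smul (G : Adeq.MVF R) {A A' : Adeq.Alg R} (g : A ⟶ A') (a : A)
    (x : G.obj (Adeq.pt A)) : mmap G g (a • x) = g.hom a • mmap G g x :=
  G.map_smul (Adeq.ptHom g) a x

theorem mmap_id (G : Adeq.MVF R) (A : Adeq.Alg R) (x : G.obj (Adeq.pt A)) :
    mmap G (𝟙 A) x = x := by
  change G.map (𝟙 (Adeq.pt A)) x = x
  rw [G.map_id]
  rfl

/-- the transition maps as `R`-linear maps -/
noncomputable def mapR (G : Adeq.MVF R) {A A' : Adeq.Alg R} (g : A ⟶ A') :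
    valR G A →ₗ[R] valR G A' where
  toFun x := mmap G g x
  map_add' := mmap_add G g
  map_smul' r x := by
    refine (mmap_smul G g (algebraMap R A r) x).trans ?_
    rw [AlgHom.commutes]
    rfl

theorem mapR_apply (G : Adeq.MVF R) {A A' : Adeq.Alg R} (g : A ⟶ A') (x : valR G A) :
    mapR G g x = mmap G g x := rfl

theorem mapR_smul (G : Adeq.MVF R) {A A' : Adeq.Alg R} (g : A ⟶ A') (a : A) (x : valR G A) :
    mapR G g (a • x) = g.hom a • mapR G g x := mmap_smul G g a x

theorem mapR_comp (G : Adeq.MVF R) {A A' A'' : Adeq.Alg R} (g : A ⟶ A') (g' : A' ⟶ A'') :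
    mapR G (g ≫ g') = mapR G g' ∘ₗ mapR G g := by
  apply LinearMap.ext
  intro x
  exact mmap_comp G g g' x

theorem mapR_id (G : Adeq.MVF R) (A : Adeq.Alg R) : mapR G (𝟙 A) = LinearMap.id := by
  apply LinearMap.ext
  intro x
  exact mmap_id G A x

end

section
variable {R : Type u} [CommRing R] (B : Type u) [CommRing B] [Algebra R B]

noncomputable instance valRModuleTb (G : Adeq.MVF R) (A : Adeq.Alg R) :
    Module ((A : Type u) ⊗[R] B) (valR G (tb R B A)) :=
  Adeq.moduleValue G (tb R B A)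

instance valRTowerTb (G : Adeq.MVF R) (A : Adeq.Alg R) :
    IsScalarTower R ((A : Type u) ⊗[R] B) (valR G (tb R B A)) :=
  ⟨fun r a x => by
    rw [valR_smul_def, Algebra.smul_def, mul_smul]
    rfl⟩

/-- the base change comparison map `B ⊗ G(A) → G(A ⊗ B)` -/
noncomputable def betaR (G : Adeq.MVF R) (A : Adeq.Alg R) :
    B ⊗[R] valR G A →ₗ[R] valR G (tb R B A) :=
  TensorProduct.lift (LinearMap.mk₂ R
    (fun (b : B) (x : valR G A) =>
      ((tbR R B A).hom b : (tb R B A : Type u)) • mapR G (tbL R B A) x)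
    (fun b b' x => by rw [map_add, add_smul])
    (fun r b x => by rw [map_smul, smul_assoc])
    (fun b x x' => by rw [map_add, smul_add])
    (fun r b x => by rw [map_smul, smul_comm]))

theorem betaR_tmul (G : Adeq.MVF R) (A : Adeq.Alg R) (b : B) (x : valR G A) :
    betaR B G A (b ⊗ₜ[R] x) =
      ((tbR R B A).hom b : (tb R B A : Type u)) • mapR G (tbL R B A) x := rfl

theorem betaR_natural (G : Adeq.MVF R) {A A' : Adeq.Alg R} (g : A ⟶ A') :
    mapR G (tbMap R B g) ∘ₗ betaR B G A = betaR B G A' ∘ₗ (mapR G g).lTensor B := by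
  apply TensorProduct.ext'
  intro b x
  change mapR G (tbMap R B g) (betaR B G A (b ⊗ₜ[R] x)) =
    betaR B G A' (b ⊗ₜ[R] mapR G g x)
  rw [betaR_tmul, betaR_tmul]
  refine (mapR_smul G (tbMap R B g) ((tbR R B A).hom b) (mapR G (tbL R B A) x)).trans ?_
  congr 1
  · exact congrArg (fun k => k.hom b) (tbR_tbMap R B g)
  · change (mapR G (tbMap R B g) ∘ₗ mapR G (tbL R B A)) x =
      (mapR G (tbL R B A') ∘ₗ mapR G g) x
    rw [← mapR_comp, ← mapR_comp, tbL_tbMap]

/-- `(a ⊗ b, x) ↦ b ⊗ a • x` -/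
noncomputable def kappa1 (G : Adeq.MVF R) (A : Adeq.Alg R) :
    ((A : Type u) ⊗[R] B) →ₗ[R] (valR G A →ₗ[R] B ⊗[R] valR G A) :=
  TensorProduct.lift (LinearMap.mk₂ R
    (fun (a : A) (b : B) =>
      (TensorProduct.mk R B (valR G A) b) ∘ₗ (Algebra.lsmul R R (valR G A) a))
    (fun a a' b => by rw [map_add, LinearMap.comp_add])
    (fun r a b => by rw [map_smul, LinearMap.comp_smul])
    (fun a b b' => by rw [map_add, LinearMap.add_comp])
    (fun r a b => by rw [map_smul, LinearMap.smul_comp]))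

theorem kappa1_tmul (G : Adeq.MVF R) (A : Adeq.Alg R) (a : A) (b : B) (x : valR G A) :
    kappa1 B G A (a ⊗ₜ[R] b) x = b ⊗ₜ[R] (a • x) := rfl

theorem kappa1_mul (G : Adeq.MVF R) (A : Adeq.Alg R) (a₀ : A) (s : (A : Type u) ⊗[R] B)
    (x : valR G A) :
    kappa1 B G A ((a₀ ⊗ₜ[R] (1 : B)) * s) x = kappa1 B G A s (a₀ • x) := by
  induction s using TensorProduct.induction_on with
  | zero => rw [mul_zero, map_zero, LinearMap.zero_apply, LinearMap.zero_apply]
  | tmul a b =>
    rw [Algebra.TensorProduct.tmul_mul_tmul, kappa1_tmul, kappa1_tmul, one_mul, mul_smul,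
      smul_comm]
  | add s₁ s₂ h₁ h₂ =>
    rw [mul_add, map_add, LinearMap.add_apply, h₁, h₂, map_add, LinearMap.add_apply]

set_option backward.isDefEq.respectTransparency false in
/-- the map `(A ⊗ B) ⊗_A G(A) → B ⊗ G(A)` -/
noncomputable def kappa (G : Adeq.MVF R) (A : Adeq.Alg R) :
    ((ModuleCat.extendScalars.{u, u, u + 1} (tbL R B A).hom.toRingHom).obj
      (G.obj (Adeq.pt A))) →+ B ⊗[R] valR G A :=
  TensorProduct.liftAddHom (R := A)
    (M := (ModuleCat.restrictScalars (tbL R B A).hom.toRingHom).obj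
      (ModuleCat.of _ ((A : Type u) ⊗[R] B)))
    (N := G.obj (Adeq.pt A))
    { toFun := fun s => (kappa1 B G A s).toAddMonoidHom
      map_zero' := by
        rw [map_zero]
        rfl
      map_add' := fun s s' => by
        rw [map_add]
        rfl }
    (fun a₀ s x => kappa1_mul B G A a₀ s x)

set_option backward.isDefEq.respectTransparency false in
theorem kappa_tmul (G : Adeq.MVF R) (A : Adeq.Alg R) (s : (A : Type u) ⊗[R] B)
    (x : G.obj (Adeq.pt A)) :
    kappa B G A (s ⊗ₜ[A,(tbL R B A).hom.toRingHom] x) = kappa1 B G A s x := rfl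

theorem betaR_kappa1 (G : Adeq.MVF R) (A : Adeq.Alg R) (s : (A : Type u) ⊗[R] B)
    (x : valR G A) :
    betaR B G A (kappa1 B G A s x) = s • mapR G (tbL R B A) x := by
  induction s using TensorProduct.induction_on with
  | zero => rw [map_zero, LinearMap.zero_apply, map_zero, zero_smul]
  | tmul a b =>
    rw [kappa1_tmul, betaR_tmul]
    refine (congrArg (fun y => ((tbR R B A).hom b : (A : Type u) ⊗[R] B) • y)
      (mapR_smul G (tbL R B A) a x)).trans ?_
    have h1 : ((1 : (A : Type u)) ⊗ₜ[R] b) * (a ⊗ₜ[R] (1 : B)) = a ⊗ₜ[R] b := by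
      rw [Algebra.TensorProduct.tmul_mul_tmul, one_mul, mul_one]
    refine (smul_smul (((1 : (A : Type u)) ⊗ₜ[R] b) : (A : Type u) ⊗[R] B)
      (a ⊗ₜ[R] (1 : B)) (mapR G (tbL R B A) x)).trans ?_
    rw [h1]
  | add s₁ s₂ h₁ h₂ =>
    rw [map_add, LinearMap.add_apply, map_add, h₁, h₂, add_smul]

set_option backward.isDefEq.respectTransparency false in
theorem betaR_kappa (G : Adeq.MVF R) (A : Adeq.Alg R)
    (z : (ModuleCat.extendScalars.{u, u, u + 1} (tbL R B A).hom.toRingHom).obj
      (G.obj (Adeq.pt A))) :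
    betaR B G A (kappa B G A z) = G.bc (tbL R B A) z := by
  induction z using TensorProduct.induction_on with
  | zero =>
    exact ((congrArg (betaR B G A) (map_zero (kappa B G A))).trans (map_zero _)).trans
      (map_zero (G.bc (tbL R B A)).hom).symm
  | tmul s x =>
    exact (betaR_kappa1 B G A s x).trans (bc_tmul G (tbL R B A) s x).symm
  | add z₁ z₂ h₁ h₂ =>
    refine ((congrArg (betaR B G A) (map_add (kappa B G A) z₁ z₂)).trans
      (map_add (betaR B G A) _ _)).trans ?_
    exact (congrArg₂ (· + ·) h₁ h₂).trans (map_add (G.bc (tbL R B A)).hom z₁ z₂).symm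

set_option backward.isDefEq.respectTransparency false in
theorem kappa_surjective (G : Adeq.MVF R) (A : Adeq.Alg R) :
    Function.Surjective (kappa B G A) := by
  intro w
  induction w using TensorProduct.induction_on with
  | zero => exact ⟨0, map_zero _⟩
  | tmul b x =>
    refine ⟨((1 : (A : Type u)) ⊗ₜ[R] b) ⊗ₜ[A,(tbL R B A).hom.toRingHom] x, ?_⟩
    rw [kappa_tmul, kappa1_tmul, one_smul]
  | add w₁ w₂ h₁ h₂ =>
    obtain ⟨z₁, rfl⟩ := h₁
    obtain ⟨z₂, rfl⟩ := h₂
    exact ⟨z₁ + z₂, map_add _ _ _⟩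

theorem tbL_toAlgebra (A : Adeq.Alg R) :
    (tbL R B A).hom.toRingHom.toAlgebra =
      (inferInstance : Algebra (A : Type u) ((A : Type u) ⊗[R] B)) :=
  Algebra.algebra_ext _ _ (fun _ => rfl)

theorem tbL_flat [Module.Flat R B] (A : Adeq.Alg R) : (tbL R B A).hom.toRingHom.Flat := by
  change @Module.Flat (A : Type u) ((A : Type u) ⊗[R] B) _ _
    ((tbL R B A).hom.toRingHom.toAlgebra).toModule
  rw [tbL_toAlgebra]
  infer_instance

theorem betaR_bijective [Module.Flat R B] (G : Adeq.MVF R) (hG : Adeq.adequate R G)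
    (A : Adeq.Alg R) : Function.Bijective (betaR B G A) := by
  have hiso := isIso_bc_of_adequate_flat G hG (tbL R B A) (tbL_flat B A)
  rw [ConcreteCategory.isIso_iff_bijective] at hiso
  constructor
  · rw [injective_iff_map_eq_zero]
    intro w hw
    obtain ⟨z, rfl⟩ := kappa_surjective B G A w
    rw [betaR_kappa] at hw
    have hz : z = 0 := hiso.1 (hw.trans (map_zero (G.bc (tbL R B A)).hom).symm)
    rw [hz, map_zero]
  · intro y
    obtain ⟨z, hz⟩ := hiso.2 y
    exact ⟨kappa B G A z, (betaR_kappa B G A z).trans hz⟩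

end

end Groth.Agent.Lib.Helper44
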