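import Mathlib.Algebra.Homology.Homotopy
import Mathlib.Algebra.Homology.Single

/-!
# Comparison theorems from abstract lifting / extension properties

The usual comparison theorems for projective (injective) resolutions, with the projectivity
(injectivity) hypotheses replaced by the lifting (extension) properties that the proof uses.
-/

set_option autoImplicit false

open CategoryTheory Limits HomologicalComplex

namespace Groth.Agent.Lib.Helper44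

section Chain

variable {C : Type*} [Category C] [Preadditive C] [HasZeroObject C]
variable {Y Z : C} (P Q : ChainComplex C ℕ) (ε : Q ⟶ (ChainComplex.single₀ C).obj Z)

/-- The lifting properties of the terms of `P` against the augmented complex `Q → Z`. -/
structure ChainLifting : Prop where
  h0 : ∀ (m : ℕ) (k : P.X m ⟶ ((ChainComplex.single₀ C).obj Z).X 0),
    ∃ l : P.X m ⟶ Q.X 0, l ≫ ε.f 0 = k
  h1 : ∀ (m : ℕ) (k : P.X m ⟶ Q.X 0), k ≫ ε.f 0 = 0 → ∃ l : P.X m ⟶ Q.X 1, l ≫ Q.d 1 0 = k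
  hs : ∀ (m n : ℕ) (k : P.X m ⟶ Q.X (n + 1)), k ≫ Q.d (n + 1) n = 0 →
    ∃ l : P.X m ⟶ Q.X (n + 2), l ≫ Q.d (n + 2) (n + 1) = k

variable {P Q ε}

theorem ChainLifting.exists_lift (h : ChainLifting P Q ε)
    (π : P ⟶ (ChainComplex.single₀ C).obj Y) (f : Y ⟶ Z) :
    ∃ φ : P ⟶ Q, φ ≫ ε = π ≫ (ChainComplex.single₀ C).map f := by
  obtain ⟨z, hz⟩ := h.h0 0 (π.f 0 ≫ ((ChainComplex.single₀ C).map f).f 0)
  have hπ : P.d 1 0 ≫ π.f 0 = 0 := by
    rw [← π.comm 1 0, single_obj_d, comp_zero]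
  have hz1 : (P.d 1 0 ≫ z) ≫ ε.f 0 = 0 := by
    rw [Category.assoc, hz, ← Category.assoc, hπ, zero_comp]
  obtain ⟨o, ho⟩ := h.h1 1 (P.d 1 0 ≫ z) hz1
  have hsucc : ∀ (n : ℕ) (p : Σ' (f : P.X n ⟶ Q.X n) (f' : P.X (n + 1) ⟶ Q.X (n + 1)),
      f' ≫ Q.d (n + 1) n = P.d (n + 1) n ≫ f),
      ∃ f'' : P.X (n + 2) ⟶ Q.X (n + 2),
        f'' ≫ Q.d (n + 2) (n + 1) = P.d (n + 2) (n + 1) ≫ p.2.1 := by
    intro n p
    apply h.hs
    rw [Category.assoc, p.2.2, ← Category.assoc, P.d_comp_d, zero_comp]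
  refine ⟨ChainComplex.mkHom P Q z o ho
    (fun n p => ⟨(hsucc n p).choose, (hsucc n p).choose_spec⟩), ?_⟩
  apply HomologicalComplex.to_single_hom_ext
  rw [comp_f, comp_f, ChainComplex.mkHom_f_0]
  exact hz

theorem ChainLifting.homotopy_zero (h : ChainLifting P Q ε) (e : P ⟶ Q) (comm : e ≫ ε = 0) :
    Nonempty (Homotopy e 0) := by
  have c0 : e.f 0 ≫ ε.f 0 = 0 := by
    rw [← comp_f, comm, zero_f]
  obtain ⟨z, hz⟩ := h.h1 0 (e.f 0) c0
  have c1 : (e.f 1 - P.d 1 0 ≫ z) ≫ Q.d 1 0 = 0 := by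
    rw [Preadditive.sub_comp, Category.assoc, hz, e.comm, sub_self]
  obtain ⟨o, ho⟩ := h.hs 1 0 _ c1
  have hsucc : ∀ (n : ℕ) (p : Σ' (f : P.X n ⟶ Q.X (n + 1)) (f' : P.X (n + 1) ⟶ Q.X (n + 2)),
      e.f (n + 1) = P.d (n + 1) n ≫ f + f' ≫ Q.d (n + 2) (n + 1)),
      ∃ f'' : P.X (n + 2) ⟶ Q.X (n + 3),
        e.f (n + 2) = P.d (n + 2) (n + 1) ≫ p.2.1 + f'' ≫ Q.d (n + 3) (n + 2) := by
    rintro n ⟨f, f', w⟩
    have hk : (e.f (n + 2) - P.d (n + 2) (n + 1) ≫ f') ≫ Q.d (n + 2) (n + 1) = 0 := by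
      rw [Preadditive.sub_comp, e.comm, w, Preadditive.comp_add, ← Category.assoc,
        P.d_comp_d, zero_comp, zero_add, Category.assoc, sub_self]
    obtain ⟨l, hl⟩ := h.hs (n + 2) (n + 1) _ hk
    exact ⟨l, by rw [hl]; abel⟩
  exact ⟨Homotopy.mkInductive e z hz.symm o (by rw [ho]; abel)
    (fun n p => ⟨(hsucc n p).choose, (hsucc n p).choose_spec⟩)⟩

theorem ChainLifting.homotopy (h : ChainLifting P Q ε) (α β : P ⟶ Q) (comm : α ≫ ε = β ≫ ε) :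
    Nonempty (Homotopy α β) := by
  obtain ⟨H⟩ := h.homotopy_zero (α - β) (by rw [Preadditive.sub_comp, comm, sub_self])
  exact ⟨Homotopy.equivSubZero.symm H⟩

end Chain

section Cochain

variable {C : Type*} [Category C] [Preadditive C] [HasZeroObject C]
variable {Y Z : C} (M' I : CochainComplex C ℕ) (η : (CochainComplex.single₀ C).obj Y ⟶ M')

/-- The extension properties of the terms of `I` against the coaugmented complex `Y → M'`. -/
structure CochainExtending : Prop where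
  h0 : ∀ (m : ℕ) (k : ((CochainComplex.single₀ C).obj Y).X 0 ⟶ I.X m),
    ∃ l : M'.X 0 ⟶ I.X m, η.f 0 ≫ l = k
  h1 : ∀ (m : ℕ) (k : M'.X 0 ⟶ I.X m), η.f 0 ≫ k = 0 → ∃ l : M'.X 1 ⟶ I.X m, M'.d 0 1 ≫ l = k
  hs : ∀ (m n : ℕ) (k : M'.X (n + 1) ⟶ I.X m), M'.d n (n + 1) ≫ k = 0 →
    ∃ l : M'.X (n + 2) ⟶ I.X m, M'.d (n + 1) (n + 2) ≫ l = k

variable {M' I η}

theorem CochainExtending.exists_desc (h : CochainExtending M' I η)
    (ε : (CochainComplex.single₀ C).obj Z ⟶ I) (f : Y ⟶ Z) :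
    ∃ φ : M' ⟶ I, η ≫ φ = (CochainComplex.single₀ C).map f ≫ ε := by
  obtain ⟨z, hz⟩ := h.h0 0 (((CochainComplex.single₀ C).map f).f 0 ≫ ε.f 0)
  have hε : ε.f 0 ≫ I.d 0 1 = 0 := by
    rw [ε.comm 0 1, single_obj_d, zero_comp]
  have hz1 : η.f 0 ≫ (z ≫ I.d 0 1) = 0 := by
    rw [← Category.assoc, hz, Category.assoc, hε, comp_zero]
  obtain ⟨o, ho⟩ := h.h1 1 (z ≫ I.d 0 1) hz1
  have hsucc : ∀ (n : ℕ) (p : Σ' (f : M'.X n ⟶ I.X n) (f' : M'.X (n + 1) ⟶ I.X (n + 1)),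
      f ≫ I.d n (n + 1) = M'.d n (n + 1) ≫ f'),
      ∃ f'' : M'.X (n + 2) ⟶ I.X (n + 2),
        p.2.1 ≫ I.d (n + 1) (n + 2) = M'.d (n + 1) (n + 2) ≫ f'' := by
    intro n p
    have : M'.d n (n + 1) ≫ (p.2.1 ≫ I.d (n + 1) (n + 2)) = 0 := by
      rw [← Category.assoc, ← p.2.2, Category.assoc, I.d_comp_d, comp_zero]
    obtain ⟨l, hl⟩ := h.hs (n + 2) n _ this
    exact ⟨l, hl.symm⟩
  refine ⟨CochainComplex.mkHom M' I z o ho.symm
    (fun n p => ⟨(hsucc n p).choose, (hsucc n p).choose_spec⟩), ?_⟩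
  apply HomologicalComplex.from_single_hom_ext
  rw [comp_f, comp_f, CochainComplex.mkHom_f_0]
  exact hz

theorem CochainExtending.homotopy_zero (h : CochainExtending M' I η) (e : M' ⟶ I)
    (comm : η ≫ e = 0) : Nonempty (Homotopy e 0) := by
  have c0 : η.f 0 ≫ e.f 0 = 0 := by
    rw [← comp_f, comm, zero_f]
  obtain ⟨z, hz⟩ := h.h1 0 (e.f 0) c0
  have c1 : M'.d 0 1 ≫ (e.f 1 - z ≫ I.d 0 1) = 0 := by
    rw [Preadditive.comp_sub, ← Category.assoc, hz, e.comm, sub_self]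
  obtain ⟨o, ho⟩ := h.hs 1 0 _ c1
  have hsucc : ∀ (n : ℕ) (p : Σ' (f : M'.X (n + 1) ⟶ I.X n) (f' : M'.X (n + 2) ⟶ I.X (n + 1)),
      e.f (n + 1) = f ≫ I.d n (n + 1) + M'.d (n + 1) (n + 2) ≫ f'),
      ∃ f'' : M'.X (n + 3) ⟶ I.X (n + 2),
        e.f (n + 2) = p.2.1 ≫ I.d (n + 1) (n + 2) + M'.d (n + 2) (n + 3) ≫ f'' := by
    rintro n ⟨f, f', w⟩
    have hk : M'.d (n + 1) (n + 2) ≫ (e.f (n + 2) - f' ≫ I.d (n + 1) (n + 2)) = 0 := by
      rw [Preadditive.comp_sub, ← e.comm, w, Preadditive.add_comp, Category.assoc,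
        I.d_comp_d, comp_zero, zero_add, Category.assoc, sub_self]
    obtain ⟨l, hl⟩ := h.hs (n + 2) (n + 1) _ hk
    exact ⟨l, by rw [hl]; abel⟩
  exact ⟨Homotopy.mkCoinductive e z hz.symm o (by rw [ho]; abel)
    (fun n p => ⟨(hsucc n p).choose, (hsucc n p).choose_spec⟩)⟩

theorem CochainExtending.homotopy (h : CochainExtending M' I η) (α β : M' ⟶ I)
    (comm : η ≫ α = η ≫ β) : Nonempty (Homotopy α β) := by
  obtain ⟨H⟩ := h.homotopy_zero (α - β) (by rw [Preadditive.comp_sub, comm, sub_self])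
  exact ⟨Homotopy.equivSubZero.symm H⟩

end Cochain

end Groth.Agent.Lib.Helper44
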