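import Groth.Agent.Lib.Helper44.AdicQuot
import Mathlib.RingTheory.AdicCompletion.Algebra
import Mathlib.RingTheory.AdicCompletion.AsTensorProduct
import Mathlib.RingTheory.AdicCompletion.Exactness
import Mathlib.RingTheory.Localization.Away.Basic
import Mathlib.RingTheory.Localization.Ideal
import Mathlib.RingTheory.Localization.Submodule

/-!
# Primes in completed principal localizations
-/

set_option autoImplicit false
universe u

namespace Groth.Agent.Lib.Helper44

open Function

section Away

variable {A : Type u} [CommRing A] (p : Ideal A) (f : A)
  (hf : IsUnit (Ideal.Quotient.mk p f))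

/-- the canonical map `A_f → A/p` when `f` is a unit modulo `p`. -/
noncomputable def awayQuot : Localization.Away f →+* A ⧸ p :=
  IsLocalization.Away.lift (S := Localization.Away f) f (g := Ideal.Quotient.mk p) hf

lemma awayQuot_algebraMap (a : A) :
    awayQuot p f hf (algebraMap A (Localization.Away f) a) = Ideal.Quotient.mk p a :=
  IsLocalization.Away.lift_eq f hf a

lemma awayQuot_surjective : Surjective (awayQuot p f hf) := by
  intro y
  obtain ⟨a, rfl⟩ := Ideal.Quotient.mk_surjective y
  exact ⟨_, awayQuot_algebraMap p f hf a⟩

lemma ker_awayQuot :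
    RingHom.ker (awayQuot p f hf) = p.map (algebraMap A (Localization.Away f)) := by
  apply le_antisymm
  · intro x hx
    obtain ⟨a, s, rfl⟩ := IsLocalization.exists_mk'_eq (Submonoid.powers f) x
    rw [RingHom.mem_ker] at hx
    have h1 : awayQuot p f hf (IsLocalization.mk' (Localization.Away f) a s) *
        awayQuot p f hf (algebraMap A _ (s : A)) = awayQuot p f hf (algebraMap A _ a) := by
      rw [← map_mul, IsLocalization.mk'_spec]
    rw [hx, zero_mul, awayQuot_algebraMap] at h1
    have ha : a ∈ p := Ideal.Quotient.eq_zero_iff_mem.mp h1.symm
    rw [IsLocalization.mk'_mem_map_algebraMap_iff]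
    exact ⟨1, one_mem _, by simpa using ha⟩
  · rw [Ideal.map_le_iff_le_comap]
    intro a ha
    rw [Ideal.mem_comap, RingHom.mem_ker, awayQuot_algebraMap]
    exact Ideal.Quotient.eq_zero_iff_mem.mpr ha

end Away

section General

variable {R : Type u} [CommRing R] [IsNoetherianRing R] (J : Ideal R) (P : Ideal R)

/-- the image of the completion of an ideal `P` of a Noetherian ring lies in `P · R^`. -/
lemma range_map_subtype_le :
    ∀ y : AdicCompletion J P, AdicCompletion.map J (Submodule.subtype P) y ∈
      P.map (algebraMap R (AdicCompletion J R)) := by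
  intro y
  obtain ⟨t, rfl⟩ := AdicCompletion.ofTensorProduct_surjective_of_finite J P y
  induction t using TensorProduct.induction_on with
  | zero => simp
  | tmul r x =>
    rw [AdicCompletion.ofTensorProduct_tmul, map_smul, AdicCompletion.map_of, smul_eq_mul]
    apply Ideal.mul_mem_left
    have : AdicCompletion.of J R ((Submodule.subtype P) x) =
        algebraMap R (AdicCompletion J R) (x : R) := by
      rw [AdicCompletion.algebraMap_apply]; rfl
    rw [this]
    exact Ideal.mem_map_of_mem _ x.2
  | add a b ha hb =>
    rw [map_add, map_add]
    exact Ideal.add_mem _ ha hb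

variable {N : Type u} [AddCommGroup N] [Module R N]

/-- for a surjection `q : R → N` with kernel `P`, the kernel of the completed map is `P · R^`. -/
lemma mem_map_iff_map_eq_zero (q : R →ₗ[R] N) (hq : Surjective q) (hker : LinearMap.ker q = P)
    (x : AdicCompletion J R) :
    x ∈ P.map (algebraMap R (AdicCompletion J R)) ↔ AdicCompletion.map J q x = 0 := by
  constructor
  · intro hx
    have hx' : x ∈ Submodule.span (AdicCompletion J R)
        ((algebraMap R (AdicCompletion J R)) '' (P : Set R)) := hx
    refine Submodule.span_induction (p := fun x _ => AdicCompletion.map J q x = 0)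
      ?_ ?_ ?_ ?_ hx'
    · intro y hy
      obtain ⟨r, hr, rfl⟩ := hy
      rw [AdicCompletion.algebraMap_apply]
      have h1 : (algebraMap R R) r = r := rfl
      rw [h1, AdicCompletion.map_of]
      have h2 : q r = 0 := by
        rw [← LinearMap.mem_ker, hker]; exact hr
      rw [h2, map_zero]
    · exact map_zero _
    · intro y z _ _ hy hz
      rw [map_add, hy, hz, add_zero]
    · intro a y _ hy
      rw [map_smul, hy, smul_zero]
  · intro hx
    have hex : Function.Exact (Submodule.subtype P) q := by
      intro y
      constructor
      · intro hy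
        have : y ∈ P := by rw [← hker]; exact hy
        exact ⟨⟨y, this⟩, rfl⟩
      · rintro ⟨z, rfl⟩
        have : (z : R) ∈ LinearMap.ker q := by rw [hker]; exact z.2
        exact this
    have hexact := AdicCompletion.map_exact (I := J) (Submodule.injective_subtype P) hex hq
    obtain ⟨y, rfl⟩ := (hexact x).mp hx
    exact range_map_subtype_le J P y

end General

section Main

variable (A : Type u) [CommRing A] [IsNoetherianRing A] (I : Ideal A) [IsAdicComplete I A]
  (p : Ideal A) [p.IsPrime] (f : A) (hf : IsUnit (Ideal.Quotient.mk p f))

include hf in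
theorem quotientMap_completedLocalization_bijective :
    Function.Bijective (Ideal.quotientMap (p.map (algebraMap A (AdicCompletion
      (I.map (algebraMap A (Localization.Away f))) (Localization.Away f))))
      (algebraMap A (AdicCompletion (I.map (algebraMap A (Localization.Away f)))
        (Localization.Away f))) Ideal.le_comap_map) := by
  let _ : Algebra (Localization.Away f) (A ⧸ p) := (awayQuot p f hf).toAlgebra
  have : IsScalarTower A (Localization.Away f) (A ⧸ p) :=
    IsScalarTower.of_algebraMap_eq (fun a => (awayQuot_algebraMap p f hf a).symm)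
  set J := I.map (algebraMap A (Localization.Away f)) with hJ
  set P := p.map (algebraMap A (Localization.Away f)) with hP
  have : IsNoetherianRing (Localization.Away f) :=
    IsLocalization.isNoetherianRing (Submonoid.powers f) _ inferInstance
  have hcomp : IsAdicComplete J (A ⧸ p) :=
    (IsAdicComplete.map_algebraMap_iff I (A ⧸ p)).mpr (isAdicComplete_quotient_module I p)
  let q : Localization.Away f →ₗ[Localization.Away f] (A ⧸ p) :=
    Algebra.linearMap (Localization.Away f) (A ⧸ p)
  have hqapp : ∀ r, q r = awayQuot p f hf r := fun r => rfl
  have hq : Surjective q := awayQuot_surjective p f hf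
  have hker : LinearMap.ker q = P := by
    ext x
    rw [LinearMap.mem_ker, hqapp, hP, ← ker_awayQuot p f hf, RingHom.mem_ker]
  have hmap : p.map (algebraMap A (AdicCompletion J (Localization.Away f))) =
      P.map (algebraMap (Localization.Away f) (AdicCompletion J (Localization.Away f))) := by
    rw [hP, Ideal.map_map]
    congr 1
  have hφ : ∀ a : A, AdicCompletion.map J q (algebraMap A (AdicCompletion J
      (Localization.Away f)) a) = AdicCompletion.of J (A ⧸ p) (Ideal.Quotient.mk p a) := by
    intro a
    rw [AdicCompletion.algebraMap_apply, AdicCompletion.map_of, hqapp, awayQuot_algebraMap]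
  have hofbij := AdicCompletion.of_bijective J (A ⧸ p)
  constructor
  · apply Ideal.quotientMap_injective'
    intro a ha
    rw [Ideal.mem_comap, hmap, mem_map_iff_map_eq_zero J P q hq hker, hφ] at ha
    have : Ideal.Quotient.mk p a = 0 := hofbij.1 (by rw [ha, map_zero])
    exact Ideal.Quotient.eq_zero_iff_mem.mp this
  · intro y
    obtain ⟨x, rfl⟩ := Ideal.Quotient.mk_surjective y
    obtain ⟨z, hz⟩ := hofbij.2 (AdicCompletion.map J q x)
    obtain ⟨a, rfl⟩ := Ideal.Quotient.mk_surjective z
    refine ⟨Ideal.Quotient.mk p a, ?_⟩
    rw [Ideal.quotientMap_mk, Ideal.Quotient.eq, hmap,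
      mem_map_iff_map_eq_zero J P q hq hker, map_sub, hφ, hz, sub_self]

include hf in
theorem isPrime_map_completedLocalization :
    (p.map (algebraMap A (AdicCompletion (I.map (algebraMap A (Localization.Away f)))
      (Localization.Away f)))).IsPrime := by
  have hbij := quotientMap_completedLocalization_bijective A I p f hf
  rw [← Ideal.Quotient.isDomain_iff_prime]
  exact (RingEquiv.ofBijective _ hbij).symm.injective.isDomain _

end Main

end Groth.Agent.Lib.Helper44
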