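import Groth.Prelude.Def_Algz

/-!
# Distance function `Algz.deltaZ`: general topological lemmas
-/

set_option autoImplicit false
universe u

namespace Groth.Agent.Lib.Helper44

open Algz

section Codim

variable {Y : Type u} [TopologicalSpace Y]

lemma codimPt_congr {w v w' v' : Y} (h : w ⤳ v) (h' : w' ⤳ v') (hw : w = w') (hv : v = v') :
    codimPt w v h = codimPt w' v' h' := by
  subst hw; subst hv; rfl

/-- enlarging the closed point (specializing `v`) increases the codimension. -/
lemma codimPt_mono_right {w v v' : Y} (h : w ⤳ v) (h' : v ⤳ v') :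
    codimPt w v h ≤ codimPt w v' (h.trans h') := by
  unfold codimPt
  let f : Set.Ici (Specialization.toEquiv v) → Set.Ici (Specialization.toEquiv v') :=
    fun x => ⟨x.1, le_trans (Specialization.toEquiv_le_toEquiv.mpr h') x.2⟩
  have hf : StrictMono f := fun a b hab => hab
  exact Order.height_le_height_apply_of_strictMono f hf _

lemma codimPt_self (v : Y) : codimPt v v specializes_rfl = 0 := by
  unfold codimPt
  rw [Order.height_eq_zero]
  intro b hb
  exact b.2

lemma codimPt_eq_zero_iff [T0Space Y] {w v : Y} (h : w ⤳ v) : codimPt w v h = 0 ↔ w = v := by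
  constructor
  · intro h0
    unfold codimPt at h0
    rw [Order.height_eq_zero] at h0
    have h1 : (⟨Specialization.toEquiv v, Set.mem_Ici.mpr le_rfl⟩ : Set.Ici (Specialization.toEquiv v)) ≤
        ⟨Specialization.toEquiv w, Specialization.toEquiv_le_toEquiv.mpr h⟩ :=
      Specialization.toEquiv_le_toEquiv.mpr h
    have h2 := h0 h1
    have h3 : Specialization.toEquiv w ≤ Specialization.toEquiv v := h2
    exact (Specialization.toEquiv_inj.mp (le_antisymm h3 (Specialization.toEquiv_le_toEquiv.mpr h)))
  · rintro rfl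
    exact codimPt_self _

lemma one_le_codimPt [T0Space Y] {w v : Y} (h : w ⤳ v) (hne : w ≠ v) : 1 ≤ codimPt w v h := by
  rw [Order.one_le_iff_ne_zero]
  intro h0
  exact hne ((codimPt_eq_zero_iff h).mp h0)

end Codim

section Delta

variable {Y : Type u} [TopologicalSpace Y] {Z : Set Y}

/-- the `i`-th term in the maximum defining `DSystem.delta`. -/
noncomputable def dterm {y : Y} {k : ℕ} (S : DSystem Z y k) (i : Fin (k + 1)) : ℕ∞ :=
  (∑ j : Fin (k + 1), if i ≤ j then S.c j else 0) -
    ∑ j : Fin k, if i.val ≤ j.val then S.b j else 0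

lemma delta_eq {y : Y} {k : ℕ} (S : DSystem Z y k) :
    S.delta = (k : ℕ∞) + Finset.univ.sup (dterm S) := by
  unfold DSystem.delta dterm
  congr 2
  funext i
  rw [Finset.sum_filter, Finset.sum_filter]

lemma deltaZ_le_delta {y : Y} {k : ℕ} (S : DSystem Z y k) : deltaZ Z y ≤ S.delta :=
  iInf₂_le k S

lemma dterm_le_sup {y : Y} {k : ℕ} (S : DSystem Z y k) (i : Fin (k + 1)) :
    dterm S i ≤ Finset.univ.sup (dterm S) :=
  Finset.le_sup (f := dterm S) (Finset.mem_univ i)

/-- comparison of two systems of the same length. -/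
lemma delta_le_delta_of_le {y y' : Y} {k : ℕ} (S : DSystem Z y k) (S' : DSystem Z y' k)
    (hc : ∀ i, S'.c i ≤ S.c i) (hb : ∀ i, S.b i ≤ S'.b i) : S'.delta ≤ S.delta := by
  rw [delta_eq, delta_eq]
  gcongr with i
  unfold dterm
  refine tsub_le_tsub (Finset.sum_le_sum fun j _ => ?_) (Finset.sum_le_sum fun j _ => ?_)
  · split_ifs
    · exact hc j
    · exact le_rfl
  · split_ifs
    · exact hb j
    · exact le_rfl

/-- replace the last pair `(V_k, W_k)` by `(y', y')` where `V_k ⤳ y'`. -/
noncomputable def dsReplaceLast {y : Y} {k : ℕ} (S : DSystem Z y k) (y' : Y)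
    (hv : S.v (Fin.last k) ⤳ y') (hmem : k = 0 → y' ∈ Z) : DSystem Z y' k where
  v := Function.update S.v (Fin.last k) y'
  w := Function.update S.w (Fin.last k) y'
  spec i := by
    by_cases hi : i = Fin.last k
    · subst hi; simp only [Function.update_self]; exact specializes_rfl
    · rw [Function.update_of_ne hi, Function.update_of_ne hi]; exact S.spec i
  spec_succ i := by
    have h1 : i.castSucc ≠ Fin.last k := Fin.castSucc_ne_last i
    rw [Function.update_of_ne h1]
    by_cases hi : i.succ = Fin.last k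
    · rw [hi, Function.update_self]
      exact ((S.spec_succ i).trans (by rw [hi])).trans hv
    · rw [Function.update_of_ne hi]; exact S.spec_succ i
  start_mem := by
    by_cases hk : k = 0
    · subst hk
      have : (0 : Fin 1) = Fin.last 0 := rfl
      rw [this, Function.update_self]; exact hmem rfl
    · have h0 : (0 : Fin (k + 1)) ≠ Fin.last k := by
        intro h; apply hk; have := congrArg Fin.val h; simpa using this.symm
      rw [Function.update_of_ne h0]; exact S.start_mem
  last_eq := by simp

lemma dsReplaceLast_delta_le {y : Y} {k : ℕ} (S : DSystem Z y k) (y' : Y)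
    (hv : S.v (Fin.last k) ⤳ y') (hmem : k = 0 → y' ∈ Z) :
    (dsReplaceLast S y' hv hmem).delta ≤ S.delta := by
  apply delta_le_delta_of_le
  · intro i
    by_cases hi : i = Fin.last k
    · subst hi
      have : (dsReplaceLast S y' hv hmem).c (Fin.last k) = 0 := by
        unfold DSystem.c
        rw [codimPt_congr _ (specializes_rfl (x := y')) (by simp [dsReplaceLast])
          (by simp [dsReplaceLast])]
        exact codimPt_self _
      rw [this]; exact bot_le
    · apply le_of_eq
      unfold DSystem.c
      apply codimPt_congr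
      · simp [dsReplaceLast, Function.update_of_ne hi]
      · simp [dsReplaceLast, Function.update_of_ne hi]
  · intro i
    have h1 : i.castSucc ≠ Fin.last k := Fin.castSucc_ne_last i
    unfold DSystem.b
    by_cases hi : i.succ = Fin.last k
    · have hs : S.w i.castSucc ⤳ y' := ((S.spec_succ i).trans (by rw [hi])).trans hv
      have hs' : S.w i.castSucc ⤳ S.v (Fin.last k) := by rw [← hi]; exact S.spec_succ i
      have e1 : codimPt ((dsReplaceLast S y' hv hmem).w i.castSucc)
          ((dsReplaceLast S y' hv hmem).v i.succ) ((dsReplaceLast S y' hv hmem).spec_succ i) =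
          codimPt (S.w i.castSucc) y' hs :=
        codimPt_congr _ hs (by simp [dsReplaceLast, Function.update_of_ne h1])
          (by simp [dsReplaceLast, hi])
      have e2 : codimPt (S.w i.castSucc) (S.v i.succ) (S.spec_succ i) =
          codimPt (S.w i.castSucc) (S.v (Fin.last k)) hs' :=
        codimPt_congr _ _ rfl (by rw [hi])
      rw [e1, e2]
      exact codimPt_mono_right _ hv
    · apply le_of_eq
      apply codimPt_congr
      · simp [dsReplaceLast, Function.update_of_ne h1]
      · simp [dsReplaceLast, Function.update_of_ne hi]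

/-- append the pair `(y', y')` to a system for `y`, where `y ⤳ y'`. -/
noncomputable def dsSnoc {y : Y} {k : ℕ} (S : DSystem Z y k) (y' : Y) (h : y ⤳ y') :
    DSystem Z y' (k + 1) where
  v := Fin.snoc (α := fun _ => Y) S.v y'
  w := Fin.snoc (α := fun _ => Y) S.w y'
  spec i := by
    induction i using Fin.lastCases with
    | last => simp only [Fin.snoc_last]; exact specializes_rfl
    | cast j => simp only [Fin.snoc_castSucc]; exact S.spec j
  spec_succ i := by
    induction i using Fin.lastCases with
    | last =>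
      rw [Fin.succ_last, Fin.snoc_last, Fin.snoc_castSucc, S.last_eq]
      exact h
    | cast j =>
      rw [Fin.succ_castSucc, Fin.snoc_castSucc, Fin.snoc_castSucc]
      exact S.spec_succ j
  start_mem := by
    have : (0 : Fin (k + 1 + 1)) = Fin.castSucc 0 := rfl
    rw [this, Fin.snoc_castSucc]
    exact S.start_mem
  last_eq := by simp

lemma dsSnoc_c_castSucc {y : Y} {k : ℕ} (S : DSystem Z y k) (y' : Y) (h : y ⤳ y')
    (j : Fin (k + 1)) : (dsSnoc S y' h).c j.castSucc = S.c j := by
  unfold DSystem.c
  apply codimPt_congr <;> simp [dsSnoc]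

lemma dsSnoc_c_last {y : Y} {k : ℕ} (S : DSystem Z y k) (y' : Y) (h : y ⤳ y') :
    (dsSnoc S y' h).c (Fin.last (k + 1)) = 0 := by
  unfold DSystem.c
  rw [codimPt_congr _ (specializes_rfl (x := y')) (by simp [dsSnoc]) (by simp [dsSnoc])]
  exact codimPt_self _

lemma dsSnoc_b_castSucc {y : Y} {k : ℕ} (S : DSystem Z y k) (y' : Y) (h : y ⤳ y')
    (j : Fin k) : (dsSnoc S y' h).b j.castSucc = S.b j := by
  unfold DSystem.b
  apply codimPt_congr
  · simp [dsSnoc]
  · simp only [dsSnoc, Fin.succ_castSucc, Fin.snoc_castSucc]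

lemma dsSnoc_b_last {y : Y} {k : ℕ} (S : DSystem Z y k) (y' : Y) (h : y ⤳ y') :
    (dsSnoc S y' h).b (Fin.last k) = codimPt y y' h := by
  unfold DSystem.b
  apply codimPt_congr
  · simp [dsSnoc, S.last_eq]
  · simp [dsSnoc]

lemma dsSnoc_dterm_castSucc {y : Y} {k : ℕ} (S : DSystem Z y k) (y' : Y) (h : y ⤳ y')
    (i : Fin (k + 1)) :
    dterm (dsSnoc S y' h) i.castSucc = dterm S i - codimPt y y' h := by
  unfold dterm
  have e1 : (∑ j : Fin (k + 1 + 1), if i.castSucc ≤ j then (dsSnoc S y' h).c j else 0) =
      ∑ j : Fin (k + 1), if i ≤ j then S.c j else 0 := by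
    rw [Fin.sum_univ_castSucc]
    simp only [Fin.castSucc_le_castSucc_iff, dsSnoc_c_castSucc, dsSnoc_c_last, ite_self, add_zero]
  have hi : (i : ℕ) ≤ k := Nat.lt_succ_iff.mp i.2
  have e2 : (∑ j : Fin (k + 1), if (i.castSucc : ℕ) ≤ (j : ℕ) then (dsSnoc S y' h).b j else 0) =
      (∑ j : Fin k, if (i : ℕ) ≤ (j : ℕ) then S.b j else 0) + codimPt y y' h := by
    rw [Fin.sum_univ_castSucc]
    simp only [dsSnoc_b_castSucc, dsSnoc_b_last, Fin.val_castSucc, Fin.val_last]
    rw [if_pos hi]
  rw [e1, e2, tsub_add_eq_tsub_tsub]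

lemma dsSnoc_dterm_last {y : Y} {k : ℕ} (S : DSystem Z y k) (y' : Y) (h : y ⤳ y') :
    dterm (dsSnoc S y' h) (Fin.last (k + 1)) = 0 := by
  unfold dterm
  apply tsub_eq_zero_of_le
  rw [Fin.sum_univ_castSucc]
  simp only [dsSnoc_c_last, ite_self, add_zero]
  rw [Finset.sum_eq_zero]
  · exact bot_le
  · intro j _
    rw [if_neg]
    exact not_le.mpr (Fin.castSucc_lt_last j)

lemma dterm_last {y : Y} {k : ℕ} (S : DSystem Z y k) :
    dterm S (Fin.last k) = S.c (Fin.last k) := by
  unfold dterm
  have e1 : (∑ j : Fin (k + 1), if Fin.last k ≤ j then S.c j else 0) = S.c (Fin.last k) := by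
    rw [Finset.sum_eq_single (Fin.last k)]
    · simp
    · intro j _ hj
      rw [if_neg]
      intro hle
      exact hj (le_antisymm (Fin.le_last j) hle)
    · intro h; exact absurd (Finset.mem_univ _) h
  have e2 : (∑ j : Fin k, if ((Fin.last k : Fin (k + 1)) : ℕ) ≤ (j : ℕ) then S.b j else 0) = 0 := by
    apply Finset.sum_eq_zero
    intro j _
    rw [if_neg]
    simp only [Fin.val_last, not_le]
    exact j.2
  rw [e1, e2, tsub_zero]

/-- `δ_Z` is monotone under specialization (for closed `Z` in a T0 space). -/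
theorem deltaZ_le_of_specializes [T0Space Y] (hZ : IsClosed Z) {y y' : Y} (h : y ⤳ y') :
    deltaZ Z y' ≤ deltaZ Z y := by
  by_cases hyy : y = y'
  · subst hyy; exact le_rfl
  refine le_iInf₂ fun k S => ?_
  by_cases hc : S.c (Fin.last k) = 0
  · -- Case I
    have hvw : S.w (Fin.last k) = S.v (Fin.last k) := (codimPt_eq_zero_iff _).mp hc
    have hv : S.v (Fin.last k) ⤳ y' := by rw [← hvw, S.last_eq]; exact h
    have hmem : k = 0 → y' ∈ Z := by
      intro hk
      subst hk
      have h0 : S.v (Fin.last 0) ∈ Z := S.start_mem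
      exact hv.mem_closed hZ h0
    exact (deltaZ_le_delta _).trans (dsReplaceLast_delta_le S y' hv hmem)
  · -- Case II
    have hβ : 1 ≤ codimPt y y' h := one_le_codimPt h hyy
    have hck : 1 ≤ Finset.univ.sup (dterm S) := by
      refine le_trans ?_ (dterm_le_sup S (Fin.last k))
      rw [dterm_last, Order.one_le_iff_ne_zero]
      exact hc
    refine (deltaZ_le_delta (dsSnoc S y' h)).trans ?_
    rw [delta_eq, delta_eq]
    have hcast : ((k + 1 : ℕ) : ℕ∞) = (k : ℕ∞) + 1 := by push_cast; rfl
    rw [hcast, add_assoc]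
    gcongr
    obtain ⟨i0, -, hi0⟩ := Finset.exists_mem_eq_sup (Finset.univ : Finset (Fin (k + 1 + 1)))
      Finset.univ_nonempty (dterm (dsSnoc S y' h))
    rw [hi0]
    induction i0 using Fin.lastCases with
    | last => rw [dsSnoc_dterm_last, add_zero]; exact hck
    | cast i =>
      rw [dsSnoc_dterm_castSucc]
      by_cases hX : dterm S i = 0
      · rw [hX, zero_tsub, add_zero]; exact hck
      · have hX1 : 1 ≤ dterm S i := Order.one_le_iff_ne_zero.mpr hX
        calc 1 + (dterm S i - codimPt y y' h) ≤ 1 + (dterm S i - 1) := by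
              gcongr
          _ = dterm S i := add_tsub_cancel_of_le hX1
          _ ≤ _ := dterm_le_sup S i

end Delta

end Groth.Agent.Lib.Helper44
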