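import Groth.Agent.Lib.Helper44.DeltaZ
import Mathlib.AlgebraicGeometry.Noetherian
import Mathlib.AlgebraicGeometry.Stalk
import Mathlib.RingTheory.KrullDimension.NonZeroDivisors

/-!
# Distance function: bound by the dimension of a local ring
-/

set_option autoImplicit false
universe u

namespace Groth.Agent.Lib.Helper44

open Algz AlgebraicGeometry

section General

variable {Y : Type u} [TopologicalSpace Y] {Z : Set Y}

/-- the length-zero system `V_0 = closure z ⊆ W_0 = closure y`. -/
noncomputable def dsZero {y z : Y} (h : y ⤳ z) (hz : z ∈ Z) : DSystem Z y 0 where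
  v := fun _ => z
  w := fun _ => y
  spec _ := h
  spec_succ i := i.elim0
  start_mem := hz
  last_eq := rfl

theorem deltaZ_le_codimPt {y z : Y} (h : y ⤳ z) (hz : z ∈ Z) : deltaZ Z y ≤ codimPt y z h := by
  refine (deltaZ_le_delta (dsZero h hz)).trans ?_
  rw [delta_eq]
  have : Finset.univ.sup (dterm (dsZero h hz)) = codimPt y z h := by
    have hu : (Finset.univ : Finset (Fin (0 + 1))) = {Fin.last 0} := by
      ext i; simp [Fin.eq_zero i]
    rw [hu, Finset.sup_singleton, dterm_last]
    rfl
  rw [this]
  simp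

end General

section Ring

variable {R : Type u} [CommRing R]

lemma ringKrullDim_quotient_eq_coheight (P : PrimeSpectrum R) :
    ringKrullDim (R ⧸ P.asIdeal) = (Order.coheight P : WithBot ℕ∞) := by
  rw [ringKrullDim_quotient, Order.coheight_eq_krullDim_Ici]
  have : PrimeSpectrum.zeroLocus (P.asIdeal : Set R) = Set.Ici P := by
    ext Q
    simp only [PrimeSpectrum.mem_zeroLocus, SetLike.coe_subset_coe, Set.mem_Ici]
    exact Iff.rfl
  rw [this]

end Ring

section Scheme

theorem codimPt_le_coheight_of_fromSpecStalk (Y : Scheme.{u}) (y z : Y) (h : y ⤳ z)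
    (P : PrimeSpectrum (Y.presheaf.stalk z)) (hP : (Y.fromSpecStalk z).base P = y) :
    codimPt y z h ≤ Order.coheight P := by
  classical
  have hrange : ∀ x : Set.Ici (Specialization.toEquiv z),
      ∃ Q : PrimeSpectrum (Y.presheaf.stalk z),
        (Y.fromSpecStalk z).base Q = Specialization.ofEquiv x.1 := by
    intro x
    have hx : Specialization.ofEquiv x.1 ⤳ z := x.2
    have : Specialization.ofEquiv x.1 ∈ Set.range (Y.fromSpecStalk z) := by
      rw [Scheme.range_fromSpecStalk]; exact hx
    exact this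
  choose q hq using hrange
  have hemb : Topology.IsEmbedding (Y.fromSpecStalk z) := (Y.fromSpecStalk z).isEmbedding
  let g : Set.Ici (Specialization.toEquiv z) → (PrimeSpectrum (Y.presheaf.stalk z))ᵒᵈ :=
    fun x => OrderDual.toDual (q x)
  have hg : StrictMono g := by
    intro a b hab
    rw [lt_iff_le_not_ge] at hab
    have h1 : Specialization.ofEquiv b.1 ⤳ Specialization.ofEquiv a.1 := hab.1
    have h2 : ¬ Specialization.ofEquiv a.1 ⤳ Specialization.ofEquiv b.1 := hab.2
    rw [← hq a, ← hq b] at h1 h2
    have h1' : q b ⤳ q a := hemb.isInducing.specializes_iff.mp h1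
    have h2' : ¬ q a ⤳ q b := fun h => h2 (h.map (Y.fromSpecStalk z).continuous)
    rw [← PrimeSpectrum.le_iff_specializes] at h1' h2'
    show OrderDual.toDual (q a) < OrderDual.toDual (q b)
    rw [OrderDual.toDual_lt_toDual]
    exact lt_of_le_not_ge h1' h2'
  have hle := Order.height_le_height_apply_of_strictMono g hg
    ⟨Specialization.toEquiv y, Specialization.toEquiv_le_toEquiv.mpr h⟩
  have hqy : q ⟨Specialization.toEquiv y, Specialization.toEquiv_le_toEquiv.mpr h⟩ = P := by
    apply hemb.injective
    rw [hq]; exact hP.symm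
  have : g ⟨Specialization.toEquiv y, Specialization.toEquiv_le_toEquiv.mpr h⟩ =
      OrderDual.toDual P := congrArg OrderDual.toDual hqy
  rw [this] at hle
  exact hle

theorem deltaZ_le_ringKrullDim_stalk_quotient (Y : Scheme.{u}) (Z : Set Y) (y z : Y) (h : y ⤳ z)
    (hz : z ∈ Z) (P : PrimeSpectrum (Y.presheaf.stalk z))
    (hP : (Y.fromSpecStalk z).base P = y) :
    ((Algz.deltaZ Z y : ℕ∞) : WithBot ℕ∞) ≤ ringKrullDim (↥(Y.presheaf.stalk z) ⧸ P.asIdeal) := by
  rw [ringKrullDim_quotient_eq_coheight]
  exact_mod_cast (deltaZ_le_codimPt h hz).trans (codimPt_le_coheight_of_fromSpecStalk Y y z h P hP)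

end Scheme

end Groth.Agent.Lib.Helper44
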