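import Groth.Agent.Lib.Helper44.DeltaZDimFun
import Groth.Agent.Lib.Helper44.DeltaZStalk
import Groth.Prelude.Def_Found

/-!
# Distance function on the spectrum of a catenary Noetherian local ring
-/

set_option autoImplicit false
universe u

namespace Groth.Agent.Lib.Helper44

open Algz AlgebraicGeometry

section Order

variable {α : Type u} [PartialOrder α] [OrderTop α]

/-- in a bounded-above partial order, from a point of finite coheight `n` there is a saturated
chain of length `n` to the top. -/
lemma exists_covBy_series_of_coheight : ∀ (n : ℕ) (p : α), Order.coheight p = n →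
    ∃ t : RelSeries {(a, b) : α × α | a ⋖ b}, t.head = p ∧ t.last = ⊤ ∧ t.length = n := by
  intro n
  induction n with
  | zero =>
    intro p hp
    have hmax : IsMax p := Order.coheight_eq_zero.mp (by simpa using hp)
    refine ⟨RelSeries.singleton _ p, rfl, ?_, rfl⟩
    rw [RelSeries.last_singleton]
    exact hmax.eq_top
  | succ n ih =>
    intro p hp
    have hp' : Order.coheight p = (n : ℕ∞) + 1 := by rw [hp]; push_cast; rfl
    obtain ⟨-, ⟨y, hy, hyn⟩, hall⟩ := Order.coheight_eq_coe_add_one_iff.mp hp'
    have hcov : p ⋖ y := by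
      refine ⟨hy, fun c hpc hcy => ?_⟩
      have h1 := hall c hpc
      have h2 := Order.coheight_add_one_le hcy
      rw [hyn] at h2
      have : (n : ℕ∞) + 1 ≤ n := h2.trans h1
      exact absurd this (by simp [ENat.add_one_le_iff])
    obtain ⟨t, ht1, ht2, ht3⟩ := ih y hyn
    refine ⟨t.cons p (by rw [ht1]; exact hcov), by simp, by simp [ht2], ?_⟩
    rw [RelSeries.cons_length, ht3]

end Order

section Ring

variable {A : Type u} [CommRing A]

/-- in a catenary ring with a largest prime and finite coheights, coheight drops by exactly one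
along covering relations. -/
lemma coheight_eq_add_one_of_covBy [IsNoetherianRing A] [IsLocalRing A] (hA : CAlg.IsCatenary A)
    {x y : PrimeSpectrum A} (hxy : x ⋖ y) : Order.coheight x = Order.coheight y + 1 := by
  have hfx : Order.coheight x < ⊤ := Order.coheight_lt_top x
  have hfy : Order.coheight y < ⊤ := Order.coheight_lt_top y
  obtain ⟨nx, hnx⟩ := ENat.ne_top_iff_exists.mp hfx.ne
  obtain ⟨ny, hny⟩ := ENat.ne_top_iff_exists.mp hfy.ne
  obtain ⟨tx, htx1, htx2, htx3⟩ := exists_covBy_series_of_coheight nx x hnx.symm
  obtain ⟨ty, hty1, hty2, hty3⟩ := exists_covBy_series_of_coheight ny y hny.symm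
  let ty' := ty.cons x (by rw [hty1]; exact hxy)
  have hle : ({(a, b) : PrimeSpectrum A × PrimeSpectrum A | a ⋖ b} : SetRel _ _) ≤
      ({(a, b) : PrimeSpectrum A × PrimeSpectrum A | a < b} : SetRel _ _) :=
    fun ⟨a, b⟩ h => CovBy.lt h
  have key := hA.2 (tx.ofLE hle) (ty'.ofLE hle)
    (by show tx.head = ty'.head; rw [htx1]; simp [ty'])
    (by show tx.last = ty'.last; rw [htx2]; simp [ty', hty2])
    (fun i => tx.step i) (fun i => ty'.step i)
  have hlen : nx = ny + 1 := by
    have h1 : (tx.ofLE hle).length = nx := htx3
    have h2 : (ty'.ofLE hle).length = ny + 1 := by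
      show ty'.length = ny + 1
      simp only [ty']
      rw [RelSeries.cons_length, hty3]
    omega
  rw [← hnx, ← hny, hlen]
  push_cast
  rfl

end Ring

end Groth.Agent.Lib.Helper44

namespace Groth.Agent.Lib.Helper44

open Algz AlgebraicGeometry

section Main

variable (A : Type u) [CommRing A] [IsNoetherianRing A] [IsLocalRing A]

/-- the candidate dimension function `p ↦ dim A/p` on `Spec A`. -/
noncomputable def cohtFun (p : Spec (CommRingCat.of A)) : ℤ :=
  ((Order.coheight (show PrimeSpectrum A from p)).toNat : ℤ)

variable {A}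

lemma lt_of_specializes_ne {x y : Spec (CommRingCat.of A)} (h : x ⤳ y) (hne : x ≠ y) :
    (show PrimeSpectrum A from x) < (show PrimeSpectrum A from y) := by
  have h1 : (show PrimeSpectrum A from x) ≤ (show PrimeSpectrum A from y) :=
    (PrimeSpectrum.le_iff_specializes _ _).mpr h
  exact lt_of_le_of_ne h1 hne

lemma cohtFun_topDimFun (hA : CAlg.IsCatenary A) :
    TopDimFun (Y := Spec (CommRingCat.of A)) (cohtFun A) := by
  intro x y h hne
  have hlt := lt_of_specializes_ne h hne
  have hfx : Order.coheight (show PrimeSpectrum A from x) < ⊤ := Order.coheight_lt_top _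
  have hfy : Order.coheight (show PrimeSpectrum A from y) < ⊤ := Order.coheight_lt_top _
  obtain ⟨nx, hnx⟩ := ENat.ne_top_iff_exists.mp hfx.ne
  obtain ⟨ny, hny⟩ := ENat.ne_top_iff_exists.mp hfy.ne
  constructor
  · have h2 := Order.coheight_add_one_le hlt
    unfold cohtFun
    rw [← hnx, ← hny] at h2 ⊢
    have : ny + 1 ≤ nx := by exact_mod_cast h2
    simp only [ENat.toNat_natCast]
    omega
  · intro himm
    have hcov : (show PrimeSpectrum A from x) ⋖ (show PrimeSpectrum A from y) := by
      refine ⟨hlt, fun c hxc hcy => ?_⟩
      have h1 : x ⤳ (show Spec (CommRingCat.of A) from c) :=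
        (PrimeSpectrum.le_iff_specializes _ _).mp hxc.le
      have h2 : (show Spec (CommRingCat.of A) from c) ⤳ y :=
        (PrimeSpectrum.le_iff_specializes _ _).mp hcy.le
      rcases himm _ h1 h2 with h3 | h3
      · exact hxc.ne h3.symm
      · exact hcy.ne h3
    have h3 := coheight_eq_add_one_of_covBy hA hcov
    unfold cohtFun
    rw [← hnx, ← hny] at h3 ⊢
    have : nx = ny + 1 := by exact_mod_cast h3
    simp only [ENat.toNat_natCast]
    omega

theorem deltaZ_closedPoint_eq_coheight (hA : CAlg.IsCatenary A) (y : Spec (CommRingCat.of A)) :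
    Algz.deltaZ ({IsLocalRing.closedPoint A} : Set (Spec (CommRingCat.of A))) y =
      Order.coheight (show PrimeSpectrum A from y) := by
  apply le_antisymm
  · have hym : y ⤳ (show Spec (CommRingCat.of A) from IsLocalRing.closedPoint A) :=
      IsLocalRing.specializes_closedPoint (show PrimeSpectrum A from y)
    have hmem : (show Spec (CommRingCat.of A) from IsLocalRing.closedPoint A) ∈
        ({IsLocalRing.closedPoint A} : Set (Spec (CommRingCat.of A))) := rfl
    refine (deltaZ_le_codimPt (Z := ({IsLocalRing.closedPoint A} : Set (Spec (CommRingCat.of A))))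
      hym hmem).trans ?_
    unfold codimPt
    let g : Set.Ici (Specialization.toEquiv
        (show Spec (CommRingCat.of A) from IsLocalRing.closedPoint A)) → (PrimeSpectrum A)ᵒᵈ :=
      fun x => OrderDual.toDual (show PrimeSpectrum A from Specialization.ofEquiv x.1)
    have hg : StrictMono g := by
      intro a b hab
      have h1 : Specialization.ofEquiv b.1 ⤳ Specialization.ofEquiv a.1 := hab.le
      have hne : Specialization.ofEquiv b.1 ≠ Specialization.ofEquiv a.1 := by
        intro heq
        apply hab.ne
        apply Subtype.ext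
        exact (Specialization.ofEquiv_inj.mp heq).symm
      exact lt_of_specializes_ne h1 hne
    exact Order.height_le_height_apply_of_strictMono g hg _
  · by_cases htop : Algz.deltaZ ({IsLocalRing.closedPoint A} : Set (Spec (CommRingCat.of A))) y = ⊤
    · rw [htop]; exact le_top
    · obtain ⟨n, hn⟩ := ENat.ne_top_iff_exists.mp htop
      obtain ⟨z, hz, hle⟩ := dimFun_le_deltaZ_add (cohtFun_topDimFun hA) y n hn.symm
      have hz' : z = (show Spec (CommRingCat.of A) from IsLocalRing.closedPoint A) := hz
      subst hz'
      have h0 : cohtFun A (show Spec (CommRingCat.of A) from IsLocalRing.closedPoint A) = 0 := by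
        unfold cohtFun
        have : Order.coheight (IsLocalRing.closedPoint A) = 0 := by
          rw [Order.coheight_eq_zero]
          exact isMax_top
        simp [this]
      rw [h0, add_zero] at hle
      unfold cohtFun at hle
      have hfy : Order.coheight (show PrimeSpectrum A from y) < ⊤ := Order.coheight_lt_top _
      obtain ⟨ny, hny⟩ := ENat.ne_top_iff_exists.mp hfy.ne
      rw [← hn, ← hny]
      rw [← hny] at hle
      simp only [ENat.toNat_natCast] at hle
      exact_mod_cast hle

theorem deltaZ_closedPoint_eq_dim_closure (hA : CAlg.IsCatenary A)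
    (y : Spec (CommRingCat.of A)) :
    ((Algz.deltaZ ({IsLocalRing.closedPoint A} : Set (Spec (CommRingCat.of A))) y : ℕ∞) :
      WithBot ℕ∞) = ringKrullDim (A ⧸ y.asIdeal) := by
  rw [deltaZ_closedPoint_eq_coheight hA y]
  exact (ringKrullDim_quotient_eq_coheight (show PrimeSpectrum A from y)).symm

end Main

end Groth.Agent.Lib.Helper44
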