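import Groth.Agent.Lib.Helper44.DeltaZ

/-!
# Distance function and dimension functions
-/

set_option autoImplicit false
universe u

namespace Groth.Agent.Lib.Helper44

open Algz

section DimFun

variable {Y : Type u} [TopologicalSpace Y]

/-- a dimension function on a topological space (the shape of `Cyc.IsDimFun`). -/
def TopDimFun (δ : Y → ℤ) : Prop :=
  ∀ x y : Y, x ⤳ y → x ≠ y →
    δ y < δ x ∧ ((∀ z : Y, x ⤳ z → z ⤳ y → z = x ∨ z = y) → δ x = δ y + 1)

lemma TopDimFun.le {δ : Y → ℤ} (hδ : TopDimFun δ) {x y : Y} (h : x ⤳ y) : δ y ≤ δ x := by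
  by_cases hxy : x = y
  · subst hxy; exact le_rfl
  · exact (hδ x y h hxy).1.le

lemma codimPt_le_of_topDimFun [T0Space Y] {δ : Y → ℤ} (hδ : TopDimFun δ) {w v : Y} (h : w ⤳ v) :
    codimPt w v h ≤ ((δ w - δ v).toNat : ℕ∞) := by
  unfold codimPt
  let f : Set.Ici (Specialization.toEquiv v) → ℕ :=
    fun x => (δ (Specialization.ofEquiv x.1) - δ v).toNat
  have hf : StrictMono f := by
    intro a b hab
    have h1 : Specialization.ofEquiv b.1 ⤳ Specialization.ofEquiv a.1 := hab.le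
    have hne : Specialization.ofEquiv b.1 ≠ Specialization.ofEquiv a.1 := by
      intro heq
      apply hab.ne
      apply Subtype.ext
      exact (Specialization.ofEquiv_inj.mp heq).symm
    have h2 := (hδ _ _ h1 hne).1
    have h3 : δ v ≤ δ (Specialization.ofEquiv a.1) := hδ.le a.2
    show (δ (Specialization.ofEquiv a.1) - δ v).toNat < (δ (Specialization.ofEquiv b.1) - δ v).toNat
    omega
  have := Order.height_le_height_apply_of_strictMono f hf
    ⟨Specialization.toEquiv w, Specialization.toEquiv_le_toEquiv.mpr h⟩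
  rw [Order.height_nat] at this
  exact this

lemma le_codimPt_of_topDimFun [T0Space Y] {δ : Y → ℤ} (hδ : TopDimFun δ) :
    ∀ (d : ℕ) {w v : Y} (h : w ⤳ v), (δ w - δ v).toNat = d → (d : ℕ∞) ≤ codimPt w v h := by
  intro d
  induction d with
  | zero => intro w v h _; simp
  | succ d ih =>
    intro w v h hd
    have hwv : w ≠ v := by
      rintro rfl
      simp at hd
    -- choose x with w ⤳ x ⤳ v, x ≠ w, δ x maximal
    have hex : ∃ m : ℤ, ∃ x : Y, w ⤳ x ∧ x ⤳ v ∧ x ≠ w ∧ δ x = m :=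
      ⟨δ v, v, h, specializes_rfl, hwv.symm, rfl⟩
    have hbdd : ∀ m : ℤ, (∃ x : Y, w ⤳ x ∧ x ⤳ v ∧ x ≠ w ∧ δ x = m) → m ≤ δ w := by
      rintro m ⟨x, hwx, -, -, rfl⟩
      exact hδ.le hwx
    obtain ⟨m, ⟨x, hwx, hxv, hxw, hxm⟩, hmax⟩ := Int.exists_greatest_of_bdd ⟨δ w, hbdd⟩ hex
    have himm : ∀ t : Y, w ⤳ t → t ⤳ x → t = w ∨ t = x := by
      intro t hwt htx
      by_contra hcon
      push Not at hcon
      have h1 := (hδ t x htx hcon.2).1
      have h2 := hmax (δ t) ⟨t, hwt, htx.trans hxv, hcon.1, rfl⟩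
      omega
    have h1 : δ w = δ x + 1 := (hδ w x hwx hxw.symm).2 himm
    have hdx : (δ x - δ v).toNat = d := by
      have := hδ.le hxv
      omega
    have h2 := ih hxv hdx
    have hlt : (⟨Specialization.toEquiv x, Specialization.toEquiv_le_toEquiv.mpr hxv⟩ :
        Set.Ici (Specialization.toEquiv v)) <
        ⟨Specialization.toEquiv w, Specialization.toEquiv_le_toEquiv.mpr h⟩ := by
      rw [lt_iff_le_and_ne]
      refine ⟨Specialization.toEquiv_le_toEquiv.mpr hwx, ?_⟩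
      intro heq
      apply hxw
      exact Specialization.toEquiv_inj.mp (congrArg Subtype.val heq)
    have h3 := Order.height_add_one_le hlt
    unfold codimPt at h2 ⊢
    calc ((d + 1 : ℕ) : ℕ∞) = (d : ℕ∞) + 1 := by push_cast; rfl
      _ ≤ _ := (add_le_add_left h2 1).trans h3

lemma codimPt_eq_of_topDimFun [T0Space Y] {δ : Y → ℤ} (hδ : TopDimFun δ) {w v : Y} (h : w ⤳ v) :
    codimPt w v h = ((δ w - δ v).toNat : ℕ∞) :=
  le_antisymm (codimPt_le_of_topDimFun hδ h) (le_codimPt_of_topDimFun hδ _ h rfl)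

variable {Z : Set Y}

lemma dterm_zero_of_topDimFun [T0Space Y] {δ : Y → ℤ} (hδ : TopDimFun δ) {y : Y} {k : ℕ}
    (S : DSystem Z y k) {n : ℕ} (hn : dterm S 0 ≤ n) : δ y ≤ n + δ (S.v 0) := by
  unfold dterm at hn
  simp only [Fin.zero_le, if_true, Fin.val_zero, Nat.zero_le] at hn
  have hc : ∀ j, S.c j = (((δ (S.w j) - δ (S.v j)).toNat : ℕ) : ℕ∞) := fun j =>
    codimPt_eq_of_topDimFun hδ (S.spec j)
  have hb : ∀ j, S.b j = (((δ (S.w j.castSucc) - δ (S.v j.succ)).toNat : ℕ) : ℕ∞) := fun j =>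
    codimPt_eq_of_topDimFun hδ (S.spec_succ j)
  simp only [hc, hb] at hn
  rw [← Nat.cast_sum, ← Nat.cast_sum, ← ENat.natCast_sub, Nat.cast_le] at hn
  have e1 : ((∑ j : Fin (k + 1), (δ (S.w j) - δ (S.v j)).toNat : ℕ) : ℤ) =
      ∑ j : Fin (k + 1), (δ (S.w j) - δ (S.v j)) := by
    push_cast
    apply Finset.sum_congr rfl
    intro j _
    have := hδ.le (S.spec j)
    omega
  have e2 : ((∑ j : Fin k, (δ (S.w j.castSucc) - δ (S.v j.succ)).toNat : ℕ) : ℤ) =
      ∑ j : Fin k, (δ (S.w j.castSucc) - δ (S.v j.succ)) := by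
    push_cast
    apply Finset.sum_congr rfl
    intro j _
    have := hδ.le (S.spec_succ j)
    omega
  have e3 : (∑ j : Fin (k + 1), (δ (S.w j) - δ (S.v j))) -
      ∑ j : Fin k, (δ (S.w j.castSucc) - δ (S.v j.succ)) = δ y - δ (S.v 0) := by
    rw [Finset.sum_sub_distrib, Finset.sum_sub_distrib]
    rw [Fin.sum_univ_castSucc (fun j => δ (S.w j)), Fin.sum_univ_succ (fun j => δ (S.v j)),
      S.last_eq]
    ring
  omega

theorem dimFun_le_deltaZ_add [T0Space Y] {δ : Y → ℤ} (hδ : TopDimFun δ) (y : Y) (n : ℕ)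
    (hn : deltaZ Z y = n) : ∃ z ∈ Z, δ y ≤ n + δ z := by
  have hex : ∃ (k : ℕ) (S : DSystem Z y k), S.delta ≤ n := by
    by_contra hcon
    push Not at hcon
    have : ((n : ℕ∞) + 1) ≤ deltaZ Z y := by
      refine le_iInf₂ fun k S => ?_
      exact Order.add_one_le_of_lt (hcon k S)
    rw [hn] at this
    exact absurd this (by simp [ENat.add_one_le_iff])
  obtain ⟨k, S, hS⟩ := hex
  refine ⟨S.v 0, S.start_mem, ?_⟩
  apply dterm_zero_of_topDimFun hδ S
  rw [delta_eq] at hS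
  calc dterm S 0 ≤ Finset.univ.sup (dterm S) := dterm_le_sup S 0
    _ ≤ (k : ℕ∞) + Finset.univ.sup (dterm S) := le_add_self
    _ ≤ n := hS

end DimFun

end Groth.Agent.Lib.Helper44
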