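import Groth.Agent.Lib.Helper44.DeltaZ

/-!
# Distance function and open embeddings
-/

set_option autoImplicit false
universe u

namespace Groth.Agent.Lib.Helper44

open Algz

section OpenEmb

variable {Y Y' : Type u} [TopologicalSpace Y] [TopologicalSpace Y']

lemma codimPt_map_of_isOpenEmbedding {f : Y' → Y} (hf : Topology.IsOpenEmbedding f)
    {w v : Y'} (h : w ⤳ v) :
    codimPt (f w) (f v) (h.map hf.continuous) = codimPt w v h := by
  unfold codimPt
  let g : Set.Ici (Specialization.toEquiv v) → Set.Ici (Specialization.toEquiv (f v)) :=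
    fun x => ⟨Specialization.toEquiv (f (Specialization.ofEquiv x.1)),
      Specialization.toEquiv_le_toEquiv.mpr
        ((Specialization.toEquiv_le_toEquiv.mp (show Specialization.toEquiv v ≤
          Specialization.toEquiv (Specialization.ofEquiv x.1) from x.2)).map hf.continuous)⟩
  have hg : StrictMono g := by
    intro a b hab
    rw [lt_iff_le_not_ge] at hab ⊢
    constructor
    · exact Specialization.toEquiv_le_toEquiv.mpr
        ((show Specialization.ofEquiv b.1 ⤳ Specialization.ofEquiv a.1 from hab.1).map
          hf.continuous)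
    · intro hba
      apply hab.2
      have : f (Specialization.ofEquiv a.1) ⤳ f (Specialization.ofEquiv b.1) := hba
      exact (hf.isInducing.specializes_iff.mp this)
  symm
  refine Order.height_eq_of_strictMono g hg ?_ _
  intro a b hb
  have hbv : Specialization.ofEquiv b.1 ⤳ f v := b.2
  have hmem : Specialization.ofEquiv b.1 ∈ Set.range f :=
    hbv.mem_open hf.isOpen_range ⟨v, rfl⟩
  obtain ⟨a', ha'⟩ := hmem
  have ha'v : a' ⤳ v := hf.isInducing.specializes_iff.mp (by rw [ha']; exact hbv)
  refine ⟨⟨Specialization.toEquiv a', Specialization.toEquiv_le_toEquiv.mpr ha'v⟩, ?_, ?_⟩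
  · rw [lt_iff_le_not_ge] at hb ⊢
    constructor
    · have : f (Specialization.ofEquiv a.1) ⤳ Specialization.ofEquiv b.1 := hb.1
      rw [← ha'] at this
      exact Specialization.toEquiv_le_toEquiv.mpr (hf.isInducing.specializes_iff.mp this)
    · intro hle
      apply hb.2
      have h1 : a' ⤳ Specialization.ofEquiv a.1 := hle
      have h2 := h1.map hf.continuous
      rw [ha'] at h2
      exact h2
  · apply Subtype.ext
    exact congrArg Specialization.toEquiv ha'

/-- push a system forward along an open embedding. -/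
noncomputable def dsMap {f : Y' → Y} (hf : Continuous f) {Z : Set Y} {y : Y'} {k : ℕ}
    (S : DSystem (f ⁻¹' Z) y k) : DSystem Z (f y) k where
  v := f ∘ S.v
  w := f ∘ S.w
  spec i := (S.spec i).map hf
  spec_succ i := (S.spec_succ i).map hf
  start_mem := S.start_mem
  last_eq := congrArg f S.last_eq

lemma dsMap_delta {f : Y' → Y} (hf : Topology.IsOpenEmbedding f) {Z : Set Y} {y : Y'} {k : ℕ}
    (S : DSystem (f ⁻¹' Z) y k) : (dsMap hf.continuous S).delta = S.delta := by
  have hc : ∀ i, (dsMap hf.continuous S).c i = S.c i := fun i =>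
    codimPt_map_of_isOpenEmbedding hf (S.spec i)
  have hb : ∀ i, (dsMap hf.continuous S).b i = S.b i := fun i =>
    codimPt_map_of_isOpenEmbedding hf (S.spec_succ i)
  unfold DSystem.delta
  simp only [hc, hb]

theorem deltaZ_le_deltaZ_of_isOpenEmbedding {f : Y' → Y} (hf : Topology.IsOpenEmbedding f)
    (Z : Set Y) (y : Y') : deltaZ Z (f y) ≤ deltaZ (f ⁻¹' Z) y := by
  refine le_iInf₂ fun k S => ?_
  rw [← dsMap_delta hf S]
  exact deltaZ_le_delta _

end OpenEmb

end Groth.Agent.Lib.Helper44
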