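import Groth.Agent.Lib.Helper44.DeltaZ

/-!
# Distance function: the zigzag bound
-/

set_option autoImplicit false
universe u

namespace Groth.Agent.Lib.Helper44

open Algz

section Zigzag

variable {Y : Type u} [TopologicalSpace Y]

/-- immediate specializations have codimension at most one. -/
lemma codimPt_le_one_of_immediate [T0Space Y] {w v : Y} (h : w ⤳ v)
    (himm : ∀ z : Y, w ⤳ z → z ⤳ v → z = w ∨ z = v) : codimPt w v h ≤ 1 := by
  unfold codimPt
  have : ((1 : ℕ) : ℕ∞) = 1 := rfl
  rw [← this, Order.height_le_coe_iff]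
  intro x hx
  have hxw : w ⤳ Specialization.ofEquiv x.1 := hx.le
  have hxv : Specialization.ofEquiv x.1 ⤳ v := x.2
  have hxeq : x = ⟨Specialization.toEquiv v, Set.mem_Ici.mpr le_rfl⟩ := by
    rcases himm _ hxw hxv with h1 | h1
    · exfalso
      apply hx.ne
      apply Subtype.ext
      exact congrArg Specialization.toEquiv h1
    · apply Subtype.ext
      exact congrArg Specialization.toEquiv h1
  rw [hxeq]
  have h0 : Order.height (⟨Specialization.toEquiv v, Set.mem_Ici.mpr le_rfl⟩ :
      Set.Ici (Specialization.toEquiv v)) = 0 := codimPt_self v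
  rw [h0]
  exact zero_lt_one

variable {Z : Set Y}

/-- the system attached to a zigzag. -/
noncomputable def dsZigzag (k : ℕ) (y : Fin (k + 1) → Y) (y' : Fin k → Y) (h0 : y 0 ∈ Z)
    (hdown : ∀ i : Fin k, y' i ⤳ y i.castSucc) (hup : ∀ i : Fin k, y' i ⤳ y i.succ) :
    DSystem Z (y (Fin.last k)) k where
  v := y
  w := Fin.snoc (α := fun _ => Y) y' (y (Fin.last k))
  spec i := by
    induction i using Fin.lastCases with
    | last => simp only [Fin.snoc_last]; exact specializes_rfl
    | cast j => simp only [Fin.snoc_castSucc]; exact hdown j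
  spec_succ i := by
    simp only [Fin.snoc_castSucc]; exact hup i
  start_mem := h0
  last_eq := by simp

theorem deltaZ_le_of_zigzag [T0Space Y] (k : ℕ) (y : Fin (k + 1) → Y) (y' : Fin k → Y)
    (h0 : y 0 ∈ Z)
    (hdown : ∀ i : Fin k, y' i ⤳ y i.castSucc ∧ y' i ≠ y i.castSucc ∧
      ∀ z : Y, y' i ⤳ z → z ⤳ y i.castSucc → z = y' i ∨ z = y i.castSucc)
    (hup : ∀ i : Fin k, y' i ⤳ y i.succ ∧ y' i ≠ y i.succ) :
    deltaZ Z (y (Fin.last k)) ≤ k := by
  set S := dsZigzag (Z := Z) k y y' h0 (fun i => (hdown i).1) (fun i => (hup i).1) with hS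
  refine (deltaZ_le_delta S).trans ?_
  rw [delta_eq]
  have hc : ∀ j : Fin k, S.c j.castSucc ≤ 1 := by
    intro j
    unfold DSystem.c
    rw [codimPt_congr (w' := y' j) (v' := y j.castSucc) _ (hdown j).1 (by simp [hS, dsZigzag])
      (by simp [hS, dsZigzag])]
    exact codimPt_le_one_of_immediate _ (hdown j).2.2
  have hcl : S.c (Fin.last k) = 0 := by
    unfold DSystem.c
    rw [codimPt_congr (w' := y (Fin.last k)) (v' := y (Fin.last k)) _ specializes_rfl
      (by simp [hS, dsZigzag]) (by simp [hS, dsZigzag])]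
    exact codimPt_self _
  have hb : ∀ j : Fin k, 1 ≤ S.b j := by
    intro j
    unfold DSystem.b
    rw [codimPt_congr (w' := y' j) (v' := y j.succ) _ (hup j).1 (by simp [hS, dsZigzag])
      (by simp [hS, dsZigzag])]
    exact one_le_codimPt _ (hup j).2
  have hsup : Finset.univ.sup (dterm S) ≤ 0 := by
    apply Finset.sup_le
    intro i _
    unfold dterm
    rw [tsub_eq_zero_of_le]
    rw [Fin.sum_univ_castSucc, hcl]
    simp only [ite_self, add_zero]
    apply Finset.sum_le_sum
    intro j _
    by_cases hij : i ≤ j.castSucc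
    · have hij' : (i : ℕ) ≤ (j : ℕ) := by
        have := Fin.le_def.mp hij
        simpa using this
      rw [if_pos hij, if_pos hij']
      exact (hc j).trans (hb j)
    · rw [if_neg hij]; exact bot_le
  calc (k : ℕ∞) + Finset.univ.sup (dterm S) ≤ (k : ℕ∞) + 0 := by gcongr
    _ = k := add_zero _

end Zigzag

end Groth.Agent.Lib.Helper44
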