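import Groth.Prelude.Def_LambdaSp
import Groth.Agent.Lib.Helper44.GammaSeries
import Mathlib.Algebra.Algebra.Operations

set_option autoImplicit false
universe u v
open Finset Pointwise

namespace Groth.Agent.Lib.Helper44

open LambdaRing

section Basic

variable {A : Type v} [CommRing A] [LambdaOps A]

theorem gamma_zero' (x : A) : gamma 0 x = 1 := by
  simp [gamma]

theorem gamma_one' (x : A) : gamma 1 x = x := by
  simp [gamma, Finset.sum_range_succ, LambdaOps.lam_one]

theorem gamma_add' (i : ℕ) (x y : A) :
    gamma i (x + y) = ∑ ab ∈ Finset.antidiagonal i, gamma ab.1 x * gamma ab.2 y := by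
  rw [← coeff_gammaSeries, gammaSeries_add, PowerSeries.coeff_mul]
  simp only [coeff_gammaSeries]

theorem gamma_succ_zero (i : ℕ) : gamma (i + 1) (0 : A) = 0 := by
  rw [← coeff_gammaSeries, gammaSeries_zero, PowerSeries.coeff_one, if_neg (Nat.succ_ne_zero i)]

end Basic

section Span

variable {K : Type u} [CommRing K] {A : Type v} [CommRing A] [LambdaOps A] [Algebra K A]
  (ε : A →ₐ[K] K) (S : Set A)

/-- The generating set of weight `≥ n`. -/
def genSet (n : ℕ) : Set A :=
  {y : A | ∃ l : List (ℕ × A), (∀ p ∈ l, p.2 ∈ S) ∧ n ≤ (l.map Prod.fst).sum ∧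
    y = (l.map fun p => gamma p.1 (p.2 - algebraMap K A (ε p.2))).prod}

/-- The `K`-span of the generating set. -/
def genSpan (n : ℕ) : Submodule K A := Submodule.span K (genSet ε S n)

theorem genSet_anti {n m : ℕ} (h : n ≤ m) : genSet ε S m ⊆ genSet ε S n := by
  rintro y ⟨l, hl, hm, rfl⟩
  exact ⟨l, hl, le_trans h hm, rfl⟩

theorem genSpan_anti {n m : ℕ} (h : n ≤ m) : genSpan ε S m ≤ genSpan ε S n :=
  Submodule.span_mono (genSet_anti ε S h)

theorem genSet_mul (a b : ℕ) : genSet ε S a * genSet ε S b ⊆ genSet ε S (a + b) := by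
  rw [Set.mul_subset_iff]
  rintro x ⟨l₁, hl₁, h₁, rfl⟩ y ⟨l₂, hl₂, h₂, rfl⟩
  refine ⟨l₁ ++ l₂, ?_, ?_, ?_⟩
  · intro p hp
    rcases List.mem_append.mp hp with h | h
    · exact hl₁ p h
    · exact hl₂ p h
  · rw [List.map_append, List.sum_append]
    exact Nat.add_le_add h₁ h₂
  · rw [List.map_append, List.prod_append]

theorem genSpan_mul (a b : ℕ) : genSpan ε S a * genSpan ε S b ≤ genSpan ε S (a + b) := by
  rw [genSpan, genSpan, Submodule.span_mul_span]
  exact Submodule.span_mono (genSet_mul ε S a b)

theorem mul_mem_genSpan {a b : ℕ} {x y : A} (hx : x ∈ genSpan ε S a) (hy : y ∈ genSpan ε S b) :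
    x * y ∈ genSpan ε S (a + b) :=
  genSpan_mul ε S a b (Submodule.mul_mem_mul hx hy)

theorem one_mem_genSpan : (1 : A) ∈ genSpan ε S 0 :=
  Submodule.subset_span ⟨[], by simp, by simp, by simp⟩

/-- The set of elements all of whose `γ^i` lie in the span of weight `i`. -/
def goodSet : Set A := {x : A | ∀ i, gamma i x ∈ genSpan ε S i}

theorem zero_mem_goodSet : (0 : A) ∈ goodSet ε S := by
  intro i
  rcases i with _ | i
  · rw [gamma_zero']; exact one_mem_genSpan ε S
  · rw [gamma_succ_zero]; exact Submodule.zero_mem _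

theorem add_mem_goodSet {x y : A} (hx : x ∈ goodSet ε S) (hy : y ∈ goodSet ε S) :
    x + y ∈ goodSet ε S := by
  intro i
  rw [gamma_add']
  refine Submodule.sum_mem _ fun ab hab => ?_
  have h := mul_mem_genSpan ε S (hx ab.1) (hy ab.2)
  rwa [Finset.mem_antidiagonal.mp hab] at h

theorem neg_mem_goodSet {x : A} (hx : x ∈ goodSet ε S) : -x ∈ goodSet ε S := by
  intro i
  induction i using Nat.strong_induction_on with
  | _ i ih =>
    rcases i with _ | i
    · rw [gamma_zero']; exact one_mem_genSpan ε S
    · have h0 : gamma (i + 1) (x + -x) = 0 := by rw [add_neg_cancel, gamma_succ_zero]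
      rw [gamma_add', Finset.Nat.antidiagonal_succ, Finset.sum_cons, gamma_zero', one_mul] at h0
      have h1 : gamma (i + 1) (-x) = - ∑ ab ∈ (Finset.antidiagonal i).map
          ((Function.Embedding.prodMap ⟨Nat.succ, Nat.succ_injective⟩ (Function.Embedding.refl ℕ))),
          gamma ab.1 x * gamma ab.2 (-x) := eq_neg_of_add_eq_zero_left h0
      rw [h1]
      refine Submodule.neg_mem _ (Submodule.sum_mem _ fun ab hab => ?_)
      rw [Finset.mem_map] at hab
      obtain ⟨cd, hcd, rfl⟩ := hab
      have hsum := Finset.mem_antidiagonal.mp hcd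
      have h := mul_mem_genSpan ε S (hx (cd.1 + 1)) (ih cd.2 (by omega))
      have e : cd.1 + 1 + cd.2 = i + 1 := by omega
      rw [e] at h
      exact h

theorem sub_aug_mem_goodSet_of_mem {s : A} (hs : s ∈ S) :
    s - algebraMap K A (ε s) ∈ goodSet ε S := by
  intro i
  exact Submodule.subset_span ⟨[(i, s)], by simpa using hs, by simp, by simp⟩

theorem sub_aug_mem_goodSet (hS : AddSubgroup.closure S = ⊤) (x : A) :
    x - algebraMap K A (ε x) ∈ goodSet ε S := by
  have hx : x ∈ AddSubgroup.closure S := by rw [hS]; trivial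
  induction hx using AddSubgroup.closure_induction with
  | mem s hs => exact sub_aug_mem_goodSet_of_mem ε S hs
  | zero => simpa using zero_mem_goodSet ε S
  | add x y _ _ hx hy =>
    have : x + y - algebraMap K A (ε (x + y)) =
        (x - algebraMap K A (ε x)) + (y - algebraMap K A (ε y)) := by
      rw [map_add, map_add]; ring
    rw [this]
    exact add_mem_goodSet ε S hx hy
  | neg x _ hx =>
    have : -x - algebraMap K A (ε (-x)) = -(x - algebraMap K A (ε x)) := by
      rw [map_neg, map_neg]; ring
    rw [this]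
    exact neg_mem_goodSet ε S hx

theorem mem_goodSet_of_aug_eq_zero (hS : AddSubgroup.closure S = ⊤) {x : A} (hx : ε x = 0) :
    x ∈ goodSet ε S := by
  have := sub_aug_mem_goodSet ε S hS x
  rwa [hx, map_zero, sub_zero] at this

theorem mem_genSpan_zero (hS : AddSubgroup.closure S = ⊤) (a : A) : a ∈ genSpan ε S 0 := by
  have h1 : a = ε a • (1 : A) + gamma 1 (a - algebraMap K A (ε a)) := by
    rw [gamma_one', Algebra.smul_def, mul_one]; ring
  rw [h1]
  exact Submodule.add_mem _ (Submodule.smul_mem _ _ (one_mem_genSpan ε S))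
    (genSpan_anti ε S (Nat.zero_le 1) (sub_aug_mem_goodSet ε S hS a 1))

theorem listProd_mem_genSpan (hS : AddSubgroup.closure S = ⊤) (l : List (ℕ × A))
    (hl : ∀ p ∈ l, ε p.2 = 0) :
    (l.map fun p => gamma p.1 p.2).prod ∈ genSpan ε S (l.map Prod.fst).sum := by
  induction l with
  | nil => simpa using one_mem_genSpan ε S
  | cons p l ih =>
    simp only [List.map_cons, List.prod_cons, List.sum_cons]
    exact mul_mem_genSpan ε S
      (mem_goodSet_of_aug_eq_zero ε S hS (hl p (List.mem_cons_self)) p.1)
      (ih fun q hq => hl q (List.mem_cons_of_mem _ hq))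

/-- The γ-filtration is spanned over `K` by the products of `γ`'s of the generators. -/
theorem gammaFil_restrictScalars_eq_genSpan (hS : AddSubgroup.closure S = ⊤) (n : ℕ) :
    (gammaFil (ε : A →+* K) n).restrictScalars K = genSpan ε S n := by
  apply le_antisymm
  · intro y hy
    rw [Submodule.restrictScalars_mem] at hy
    rw [gammaFil] at hy
    induction hy using Submodule.span_induction with
    | mem y hy =>
      obtain ⟨l, hl, hn, rfl⟩ := hy
      exact genSpan_anti ε S hn (listProd_mem_genSpan ε S hS l hl)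
    | zero => exact Submodule.zero_mem _
    | add x y _ _ hx hy => exact Submodule.add_mem _ hx hy
    | smul a x _ hx =>
      have h := mul_mem_genSpan ε S (mem_genSpan_zero ε S hS a) hx
      rwa [zero_add] at h
  · rw [genSpan, Submodule.span_le]
    rintro y ⟨l, hl, hn, rfl⟩
    rw [SetLike.mem_coe, Submodule.restrictScalars_mem]
    apply Ideal.subset_span
    refine ⟨l.map fun p => (p.1, p.2 - algebraMap K A (ε p.2)), ?_, ?_, ?_⟩
    · intro p hp
      rw [List.mem_map] at hp
      obtain ⟨q, _, rfl⟩ := hp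
      change ε (q.2 - algebraMap K A (ε q.2)) = 0
      rw [map_sub, AlgHom.commutes, Algebra.algebraMap_self_apply, sub_self]
    · rw [List.map_map]
      exact hn
    · rw [List.map_map]
      rfl

end Span

end Groth.Agent.Lib.Helper44
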