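import Groth.Agent.Lib.Helper44.BinomialGamma
import Groth.Agent.Lib.Helper44.GammaFilSpan

/-!
# Elements whose `γ`-operations, after multiplication by `Λ`, are divisible by `Λ`

For a fixed element `Λ` and a family of ideals `J` with `Λ · J a · J b ⊆ J (a + b)`, the set of `x`
with `γ^a(x Λ) ∈ Λ · J a` (`a ≥ 1`) is stable under addition and under multiplication by the
elements of a binomial ring; similarly for the congruence `γ^m(x Λ) ≡ c · x Λ` modulo `Λ · I'`.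
-/

set_option autoImplicit false
open Finset

namespace Groth.Agent.Lib.Helper44

open LambdaRing

universe u v

section Twisted

variable {A : Type v} [CommRing A] [LambdaOps A] (Λ : A) (J J' : ℕ → Ideal A)

/-- `γ^a(x Λ) = Λ q` with `q ∈ J a`, for all `a ≥ 1`. -/
def DivGood (x : A) : Prop := ∀ a, 1 ≤ a → ∃ q ∈ J a, gamma a (x * Λ) = Λ * q

/-- `γ^m(x Λ) - c x Λ = Λ q` with `q ∈ I'`. -/
def DivCong (m : ℕ) (c : A) (I' : Ideal A) (x : A) : Prop :=
  ∃ q ∈ I', gamma m (x * Λ) - c * (x * Λ) = Λ * q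

theorem divGood_zero : DivGood Λ J 0 := by
  intro a ha
  obtain ⟨a, rfl⟩ : ∃ a', a = a' + 1 := ⟨a - 1, by omega⟩
  exact ⟨0, Ideal.zero_mem _, by rw [zero_mul, gamma_succ_zero, mul_zero]⟩

theorem divCong_zero {m : ℕ} (hm : 1 ≤ m) (c : A) (I' : Ideal A) : DivCong Λ m c I' 0 := by
  obtain ⟨m, rfl⟩ : ∃ m', m = m' + 1 := ⟨m - 1, by omega⟩
  exact ⟨0, Ideal.zero_mem _, by rw [zero_mul, gamma_succ_zero, mul_zero, mul_zero, sub_zero]⟩

variable {Λ J J'}

theorem DivGood.add (hJ : ∀ a b u v, u ∈ J a → v ∈ J b → Λ * u * v ∈ J (a + b)) {x x' : A}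
    (hx : DivGood Λ J x) (hx' : DivGood Λ J x') : DivGood Λ J (x + x') := by
  intro a ha
  rw [add_mul, gamma_add']
  refine Finset.sum_induction _ (fun z => ∃ q ∈ J a, z = Λ * q) ?_ ?_ ?_
  · rintro _ _ ⟨q1, h1, rfl⟩ ⟨q2, h2, rfl⟩
    exact ⟨q1 + q2, Ideal.add_mem _ h1 h2, by ring⟩
  · exact ⟨0, Ideal.zero_mem _, by ring⟩
  · rintro ⟨b, c⟩ hbc
    rw [Finset.mem_antidiagonal] at hbc
    simp only at hbc ⊢
    rcases Nat.eq_zero_or_pos b with rfl | hb
    · rw [gamma_zero', one_mul]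
      have : c = a := by omega
      subst this
      exact hx' c ha
    rcases Nat.eq_zero_or_pos c with rfl | hc
    · rw [gamma_zero', mul_one]
      have : b = a := by omega
      subst this
      exact hx b ha
    obtain ⟨q1, h1, e1⟩ := hx b hb
    obtain ⟨q2, h2, e2⟩ := hx' c hc
    refine ⟨Λ * q1 * q2, hbc ▸ hJ b c q1 q2 h1 h2, ?_⟩
    rw [e1, e2]
    ring

omit [LambdaOps A] in
theorem coeff_twisted_pow_mem (hJ : ∀ a b u v, u ∈ J a → v ∈ J b → Λ * u * v ∈ J (a + b))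
    {ρ : PowerSeries A} (hρ : ∀ a, PowerSeries.coeff a ρ ∈ J a) (k a : ℕ) :
    PowerSeries.coeff a ((PowerSeries.C Λ) ^ k * ρ ^ (k + 1)) ∈ J a := by
  induction k generalizing a with
  | zero => simpa using hρ a
  | succ k ih =>
    have e : (PowerSeries.C Λ) ^ (k + 1) * ρ ^ (k + 1 + 1) =
        PowerSeries.C Λ * (((PowerSeries.C Λ) ^ k * ρ ^ (k + 1)) * ρ) := by ring
    rw [e, PowerSeries.coeff_C_mul, PowerSeries.coeff_mul, Finset.mul_sum]
    refine Ideal.sum_mem _ fun bc hbc => ?_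
    have := hJ bc.1 bc.2 _ _ (ih bc.1) (hρ bc.2)
    rw [Finset.mem_antidiagonal.mp hbc, mul_assoc] at this
    exact this

omit [LambdaOps A] in
theorem coeff_twisted_pow_mem' (hJ : ∀ a b u v, u ∈ J a → v ∈ J b → Λ * u * v ∈ J (a + b))
    (hJJ' : ∀ a b u v, u ∈ J a → v ∈ J b → Λ * u * v ∈ J' (a + b))
    {ρ : PowerSeries A} (hρ : ∀ a, PowerSeries.coeff a ρ ∈ J a) (k a : ℕ) :
    PowerSeries.coeff a ((PowerSeries.C Λ) ^ (k + 1) * ρ ^ (k + 2)) ∈ J' a := by
  have e : (PowerSeries.C Λ) ^ (k + 1) * ρ ^ (k + 2) =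
      PowerSeries.C Λ * (((PowerSeries.C Λ) ^ k * ρ ^ (k + 1)) * ρ) := by ring
  rw [e, PowerSeries.coeff_C_mul, PowerSeries.coeff_mul, Finset.mul_sum]
  refine Ideal.sum_mem _ fun bc hbc => ?_
  have := hJJ' bc.1 bc.2 _ _ (coeff_twisted_pow_mem hJ hρ k bc.1) (hρ bc.2)
  rw [Finset.mem_antidiagonal.mp hbc, mul_assoc] at this
  exact this

theorem DivGood.exists_series {x : A} (hx : DivGood Λ J x) :
    ∃ ρ : PowerSeries A, (∀ a, PowerSeries.coeff a ρ ∈ J a) ∧
      PowerSeries.constantCoeff ρ = 0 ∧ gammaSeries (x * Λ) - 1 = PowerSeries.C Λ * ρ := by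
  classical
  refine ⟨PowerSeries.mk fun a => if h : 1 ≤ a then (hx a h).choose else 0, ?_, ?_, ?_⟩
  · intro a
    rw [PowerSeries.coeff_mk]
    split_ifs with h
    · exact (hx a h).choose_spec.1
    · exact Ideal.zero_mem _
  · rw [← PowerSeries.coeff_zero_eq_constantCoeff_apply, PowerSeries.coeff_mk, dif_neg (by omega)]
  · ext a
    rw [map_sub, coeff_gammaSeries, PowerSeries.coeff_one, PowerSeries.coeff_C_mul,
      PowerSeries.coeff_mk]
    by_cases h1 : 1 ≤ a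
    · rw [dif_pos h1, if_neg (by omega), sub_zero]
      exact (hx a h1).choose_spec.2
    · have h0 : a = 0 := by omega
      rw [dif_neg h1, if_pos h0, h0, gamma_zero', sub_self, mul_zero]

variable {K : Type u} [CommRing K] [LambdaOps K] [BinomialRing K] [Algebra K A]

theorem DivGood.algebraMap_mul (hKb : IsBinomial K) (hA : IsSpecial A) (hKA : IsLambdaAlg K A)
    (hJ : ∀ a b u v, u ∈ J a → v ∈ J b → Λ * u * v ∈ J (a + b)) (κ : K) {x : A}
    (hx : DivGood Λ J x) : DivGood Λ J (algebraMap K A κ * x) := by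
  obtain ⟨ρ, hρ, hρ0, hser⟩ := hx.exists_series
  intro a ha
  have hw0 : PowerSeries.constantCoeff (PowerSeries.C Λ * ρ) = 0 := by
    rw [map_mul, hρ0, mul_zero]
  rw [mul_assoc, ← coeff_gammaSeries, gammaSeries_algebraMap_mul hKb hA hKA, hser,
    PowerSeries.coeff_subst' (hasSubst_of_constantCoeff_zero hw0)]
  refine finsum_induction (fun z => ∃ q ∈ J a, z = Λ * q) ⟨0, Ideal.zero_mem _, by ring⟩ ?_ ?_
  · rintro _ _ ⟨q1, h1, rfl⟩ ⟨q2, h2, rfl⟩
    exact ⟨q1 + q2, Ideal.add_mem _ h1 h2, by ring⟩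
  · intro k
    rcases k with _ | k
    · rw [pow_zero, PowerSeries.coeff_one, if_neg (by omega), smul_zero]
      exact ⟨0, Ideal.zero_mem _, by ring⟩
    · have e : (PowerSeries.C Λ * ρ) ^ (k + 1) =
          PowerSeries.C Λ * ((PowerSeries.C Λ) ^ k * ρ ^ (k + 1)) := by ring
      rw [e, PowerSeries.coeff_C_mul, smul_eq_mul]
      exact ⟨PowerSeries.coeff (k + 1) (PowerSeries.binomialSeries A κ) *
        PowerSeries.coeff a ((PowerSeries.C Λ) ^ k * ρ ^ (k + 1)),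
        Ideal.mul_mem_left _ _ (coeff_twisted_pow_mem hJ hρ k a), by ring⟩

theorem DivCong.add (hJJ' : ∀ a b u v, u ∈ J a → v ∈ J b → Λ * u * v ∈ J' (a + b)) {m : ℕ}
    (hm : 1 ≤ m) (c : A) {x x' : A} (hx : DivGood Λ J x) (hx' : DivGood Λ J x')
    (hc : DivCong Λ m c (J' m) x) (hc' : DivCong Λ m c (J' m) x') :
    DivCong Λ m c (J' m) (x + x') := by
  obtain ⟨m, rfl⟩ : ∃ m', m = m' + 1 := ⟨m - 1, by omega⟩
  have hsplit : gamma (m + 1) (x * Λ + x' * Λ) = gamma (m + 1) (x * Λ) + gamma (m + 1) (x' * Λ) +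
      ∑ i ∈ range m, gamma (i + 1) (x * Λ) * gamma (m + 1 - (i + 1)) (x' * Λ) := by
    rw [gamma_add', Finset.Nat.sum_antidiagonal_eq_sum_range_succ_mk, Finset.sum_range_succ,
      Finset.sum_range_succ', Nat.sub_self, gamma_zero', gamma_zero', mul_one, one_mul, Nat.sub_zero]
    ring
  have hcross : ∃ q ∈ J' (m + 1),
      ∑ i ∈ range m, gamma (i + 1) (x * Λ) * gamma (m + 1 - (i + 1)) (x' * Λ) = Λ * q := by
    refine Finset.sum_induction _ (fun z => ∃ q ∈ J' (m + 1), z = Λ * q) ?_ ?_ ?_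
    · rintro _ _ ⟨q1, h1, rfl⟩ ⟨q2, h2, rfl⟩
      exact ⟨q1 + q2, Ideal.add_mem _ h1 h2, by ring⟩
    · exact ⟨0, Ideal.zero_mem _, by ring⟩
    · intro i hi
      have hi' := Finset.mem_range.mp hi
      obtain ⟨q1, h1, e1⟩ := hx (i + 1) (by omega)
      obtain ⟨q2, h2, e2⟩ := hx' (m + 1 - (i + 1)) (by omega)
      have h3 := hJJ' _ _ q1 q2 h1 h2
      have e3 : i + 1 + (m + 1 - (i + 1)) = m + 1 := by omega
      rw [e3] at h3
      exact ⟨Λ * q1 * q2, h3, by rw [e1, e2]; ring⟩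
  obtain ⟨q1, h1, e1⟩ := hc
  obtain ⟨q2, h2, e2⟩ := hc'
  obtain ⟨q3, h3, e3⟩ := hcross
  refine ⟨q1 + q2 + q3, Ideal.add_mem _ (Ideal.add_mem _ h1 h2) h3, ?_⟩
  rw [add_mul, hsplit, e3]
  linear_combination e1 + e2

theorem DivCong.algebraMap_mul (hKb : IsBinomial K) (hA : IsSpecial A) (hKA : IsLambdaAlg K A)
    (hJ : ∀ a b u v, u ∈ J a → v ∈ J b → Λ * u * v ∈ J (a + b))
    (hJJ' : ∀ a b u v, u ∈ J a → v ∈ J b → Λ * u * v ∈ J' (a + b)) {m : ℕ}
    (hm : 1 ≤ m) (c : A) (κ : K) {x : A} (hx : DivGood Λ J x)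
    (hc : DivCong Λ m c (J' m) x) : DivCong Λ m c (J' m) (algebraMap K A κ * x) := by
  obtain ⟨ρ, hρ, hρ0, hser⟩ := hx.exists_series
  have hw0 : PowerSeries.constantCoeff (PowerSeries.C Λ * ρ) = 0 := by
    rw [map_mul, hρ0, mul_zero]
  have hsub := hasSubst_of_constantCoeff_zero hw0
  -- the binomial series without its linear term
  set f : PowerSeries A := PowerSeries.binomialSeries A κ with hf
  set f' : PowerSeries A := f - PowerSeries.C (algebraMap K A κ) * PowerSeries.X with hf'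
  have hf1 : PowerSeries.coeff 1 f' = 0 := by
    rw [hf', map_sub, PowerSeries.coeff_C_mul, PowerSeries.coeff_one_X, mul_one, hf,
      PowerSeries.binomialSeries_coeff, Ring.choose_one_right, Algebra.algebraMap_eq_smul_one,
      sub_self]
  have hfsub : f.subst (PowerSeries.C Λ * ρ) =
      f'.subst (PowerSeries.C Λ * ρ) + PowerSeries.C (algebraMap K A κ) * (PowerSeries.C Λ * ρ) := by
    rw [hf', PowerSeries.subst_sub hsub, PowerSeries.subst_mul hsub, PowerSeries.subst_X hsub,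
      PowerSeries.subst_C]
    have : (MvPowerSeries.C (algebraMap K A κ) : PowerSeries A) =
        PowerSeries.C (algebraMap K A κ) := rfl
    rw [this]
    ring
  have hkey : ∃ q ∈ J' m, PowerSeries.coeff m (f'.subst (PowerSeries.C Λ * ρ)) = Λ * q := by
    rw [PowerSeries.coeff_subst' hsub]
    refine finsum_induction (fun z => ∃ q ∈ J' m, z = Λ * q) ⟨0, Ideal.zero_mem _, by ring⟩ ?_ ?_
    · rintro _ _ ⟨q1, h1, rfl⟩ ⟨q2, h2, rfl⟩
      exact ⟨q1 + q2, Ideal.add_mem _ h1 h2, by ring⟩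
    · intro k
      rcases k with _ | _ | k
      · rw [pow_zero, PowerSeries.coeff_one, if_neg (by omega), smul_zero]
        exact ⟨0, Ideal.zero_mem _, by ring⟩
      · rw [zero_add, hf1, zero_smul]
        exact ⟨0, Ideal.zero_mem _, by ring⟩
      · have e : (PowerSeries.C Λ * ρ) ^ (k + 1 + 1) =
            PowerSeries.C Λ * ((PowerSeries.C Λ) ^ (k + 1) * ρ ^ (k + 2)) := by ring
        rw [e, PowerSeries.coeff_C_mul, smul_eq_mul]
        exact ⟨PowerSeries.coeff (k + 1 + 1) f' *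
          PowerSeries.coeff m ((PowerSeries.C Λ) ^ (k + 1) * ρ ^ (k + 2)),
          Ideal.mul_mem_left _ _ (coeff_twisted_pow_mem' hJ hJJ' hρ k m), by ring⟩
  obtain ⟨q1, h1, e1⟩ := hkey
  obtain ⟨q2, h2, e2⟩ := hc
  have hcoeffw : PowerSeries.coeff m (PowerSeries.C Λ * ρ) = gamma m (x * Λ) := by
    rw [← hser, map_sub, coeff_gammaSeries, PowerSeries.coeff_one, if_neg (by omega), sub_zero]
  have hgam : gamma m (algebraMap K A κ * x * Λ) =
      Λ * q1 + algebraMap K A κ * gamma m (x * Λ) := by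
    rw [mul_assoc, ← coeff_gammaSeries, gammaSeries_algebraMap_mul hKb hA hKA, hser, ← hf, hfsub,
      map_add, e1, PowerSeries.coeff_C_mul, hcoeffw]
  refine ⟨q1 + algebraMap K A κ * q2, Ideal.add_mem _ h1 (Ideal.mul_mem_left _ _ h2), ?_⟩
  rw [hgam]
  linear_combination (algebraMap K A κ) * e2

end Twisted

end Groth.Agent.Lib.Helper44
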