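import Groth.Agent.Lib.Helper44.FlatFibreRetract
import Mathlib.Algebra.DualNumber

set_option autoImplicit false
set_option linter.unusedSectionVars false
universe u
open CategoryTheory CategoryTheory.Limits AlgebraicGeometry Opposite TopologicalSpace

namespace Groth.Agent.Lib.Helper44.FlatFibre

section DualAlg
variable (k : Type u) [Field k]

/-- the augmentation `k[ε] → k` -/
abbrev aug : DualNumber k →+* k := (TrivSqZeroExt.fstHom k k k).toRingHom

lemma aug_apply (x : DualNumber k) : aug k x = x.fst := rfl

lemma aug_surjective : Function.Surjective (aug k) := fun x => ⟨TrivSqZeroExt.inl x, rfl⟩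

lemma aug_algebraMap (x : k) : aug k (algebraMap k (DualNumber k) x) = x := rfl

lemma mul_eps_eq_zero_iff (a : DualNumber k) : a * DualNumber.eps = 0 ↔ aug k a = 0 := by
  rw [aug_apply]
  constructor
  · intro h
    have h1 := congrArg TrivSqZeroExt.snd h
    rw [DualNumber.snd_mul, DualNumber.fst_eps, DualNumber.snd_eps, mul_zero, mul_one,
      TrivSqZeroExt.snd_zero, add_zero] at h1
    exact h1
  · intro h
    apply TrivSqZeroExt.ext
    · rw [TrivSqZeroExt.fst_mul, DualNumber.fst_eps, mul_zero, TrivSqZeroExt.fst_zero]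
    · rw [DualNumber.snd_mul, DualNumber.fst_eps, DualNumber.snd_eps, mul_zero, mul_one, h,
        TrivSqZeroExt.snd_zero, add_zero]

lemma ker_aug : RingHom.ker (aug k) = Ideal.span {(DualNumber.eps : DualNumber k)} := by
  ext x
  rw [RingHom.mem_ker, aug_apply, Ideal.mem_span_singleton']
  constructor
  · intro h
    refine ⟨TrivSqZeroExt.inl x.snd, ?_⟩
    apply TrivSqZeroExt.ext
    · rw [TrivSqZeroExt.fst_mul, DualNumber.fst_eps, mul_zero, h]
    · rw [DualNumber.snd_mul, DualNumber.fst_eps, DualNumber.snd_eps, mul_one,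
        TrivSqZeroExt.fst_inl, TrivSqZeroExt.snd_inl, zero_mul, add_zero]
  · rintro ⟨a, rfl⟩
    rw [TrivSqZeroExt.fst_mul, DualNumber.fst_eps, mul_zero]

end DualAlg

section DualGeom
variable (k : Type u) [Field k] {X₀ : Scheme.{u}} (a : X₀ ⟶ Spec (CommRingCat.of k))

/-- `Spec k[ε] ⟶ Spec k` -/
noncomputable abbrev alg : Spec (CommRingCat.of (DualNumber k)) ⟶ Spec (CommRingCat.of k) :=
  Spec.map (CommRingCat.ofHom (algebraMap k (DualNumber k)))

/-- `Spec k ⟶ Spec k[ε]` -/
noncomputable abbrev augS : Spec (CommRingCat.of k) ⟶ Spec (CommRingCat.of (DualNumber k)) :=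
  Spec.map (CommRingCat.ofHom (aug k))

lemma augS_alg : augS k ≫ alg k = 𝟙 _ := by
  rw [← Spec.map_comp, ← CommRingCat.ofHom_comp]
  have : (aug k).comp (algebraMap k (DualNumber k)) = RingHom.id k := by
    ext x
    rfl
  rw [this]
  exact Spec.map_id _

/-- the endomorphism `ε ↦ 0` of `X₀[ε]` -/
noncomputable def uD : pullback a (alg k) ⟶ pullback a (alg k) :=
  pullback.lift (pullback.fst a (alg k)) (pullback.snd a (alg k) ≫ alg k ≫ augS k) (by
    rw [Category.assoc, Category.assoc, augS_alg, Category.comp_id, pullback.condition])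

/-- the retraction `X₀[ε] ⟶ X₀[ε] ×_{k[ε]} k` -/
noncomputable def rD : pullback a (alg k) ⟶ pullback (pullback.snd a (alg k)) (augS k) :=
  pullback.lift (uD k a) (pullback.snd a (alg k) ≫ alg k) (by
    rw [uD, pullback.lift_snd, Category.assoc])

lemma ι_rD : pullback.fst (pullback.snd a (alg k)) (augS k) ≫ rD k a = 𝟙 _ := by
  have hc : pullback.fst (pullback.snd a (alg k)) (augS k) ≫ pullback.snd a (alg k) =
      pullback.snd (pullback.snd a (alg k)) (augS k) ≫ augS k := pullback.condition
  apply pullback.hom_ext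
  · rw [Category.assoc, rD, pullback.lift_fst, Category.id_comp]
    apply pullback.hom_ext
    · rw [Category.assoc, uD, pullback.lift_fst]
    · rw [Category.assoc, uD, pullback.lift_snd, reassoc_of% hc, reassoc_of% (augS_alg k)]
      exact hc.symm
  · rw [Category.assoc, rD, pullback.lift_snd, Category.id_comp, reassoc_of% hc, augS_alg,
      Category.comp_id]

end DualGeom

end Groth.Agent.Lib.Helper44.FlatFibre
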