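import Groth.Agent.Lib.Helper44.DualNumberFibre

/-! The tangent space of `H^q(-, O^×)` at the origin: for `X' = X₀ ×_k k[ε]` and `i : X ⟶ X'` the
closed subscheme `ε = 0`, the kernel of `H^q(X', O^×) → H^q(X', i_* O_X^×)` is `H^q(X, O_X)`. -/

set_option autoImplicit false
universe u
open CategoryTheory CategoryTheory.Limits AlgebraicGeometry Opposite TopologicalSpace

namespace Groth.Agent.Lib.Helper44.FlatFibre

theorem dual_main (k : Type u) [Field k] {X₀ : Scheme.{u}} (a : X₀ ⟶ Spec (CommRingCat.of k))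
    (q : ℕ) :
    Nonempty ((Sheaf.H.map (UnitsSh.comap (pullback.fst (pullback.snd a
        (Spec.map (CommRingCat.ofHom (algebraMap k (DualNumber k)))))
        (Spec.map (CommRingCat.ofHom (TrivSqZeroExt.fstHom k k k).toRingHom)))) q).ker ≃+
      Coh.HH (pullback (pullback.snd a (Spec.map (CommRingCat.ofHom (algebraMap k (DualNumber k)))))
        (Spec.map (CommRingCat.ofHom (TrivSqZeroExt.fstHom k k k).toRingHom)))
        (Coh.structureModule (pullback (pullback.snd a
          (Spec.map (CommRingCat.ofHom (algebraMap k (DualNumber k)))))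
          (Spec.map (CommRingCat.ofHom (TrivSqZeroExt.fstHom k k k).toRingHom)))) q) := by
  haveI hci := isClosedImmersion_ι (pullback.snd a (alg k)) (aug_surjective k)
  have hK := ker_mul_ker (pullback.snd a (alg k)) (aug k) DualNumber.eps
    (aug_surjective k) (ker_aug k) DualNumber.eps_mul_eps
  have h1 := ι_rD k a
  have e₁ := @nonempty_ker_addEquiv' _ _ (ι (pullback.snd a (alg k)) (aug k)) hci hK
    (rD k a) h1 q
  obtain ⟨e₁'⟩ := e₁
  have e₂ := nonempty_H_addEquiv (pullback.snd a (alg k)) (aug k) (aug k)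
    DualNumber.eps (aug_surjective k) (mul_eps_eq_zero_iff k) (aug_surjective k) (ker_aug k) q
  obtain ⟨e₂'⟩ := e₂
  exact ⟨e₁'.trans e₂'⟩

end Groth.Agent.Lib.Helper44.FlatFibre
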