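import Groth.Agent.Lib.Helper44.BigCech5
import Groth.Prelude.Def_EtCech
import Groth.Prelude.Def_EtBase
import Mathlib

/-! Cech-flasque abelian sheaves on the small étale site: quotients. -/

set_option autoImplicit false
universe u
open CategoryTheory CategoryTheory.Limits Opposite AlgebraicGeometry

namespace Groth.Agent.Lib.Helper44

open Groth.Agent.Lib.Lead Groth.Agent.Lib.Helper44.BigCech

section
variable {X : Scheme.{u}}

set_option backward.isDefEq.respectTransparency.types false in
/-- a covering sieve of the small étale site is jointly surjective -/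
theorem etale_sieve_jointly_surjective (V : X.Etale) (R : Sieve V)
    (hR : R ∈ X.smallEtaleTopology V) (x : V.left) :
    ∃ (Y : X.Etale) (f : Y ⟶ V) (y : Y.left), R f ∧ f.left.base y = x := by
  have h : R ∈ (X.smallPretopology @Etale @Etale).toGrothendieck V := by
    have e := Scheme.smallGrothendieckTopology_eq_toGrothendieck_smallPretopology X
      (P := @Etale) (Q := @Etale) le_rfl
    rw [← e]
    exact hR
  obtain ⟨Y, f, y, hf, -, hy⟩ := (Scheme.mem_toGrothendieck_smallPretopology V R).1 h x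
  exact ⟨Y, f, y, hf, hy⟩


section
variable [∀ U : X.Etale, HasFiniteProducts (Over U)] (S : ShortComplex (EtCoh.Ab X))
  (hS : S.ShortExact)
  (h1 : ∀ (U : X.Etale) (ι : Type (u + 1)) (Uf : ι → Over U),
    (∀ x : ↥(U.left), ∃ (i : ι) (y : ↥((Uf i).left.left)), (Uf i).hom.left.base y = x) →
    ∀ p : ℕ, 0 < p → IsZero (EtCech.cechH Uf S.X₁.obj p))

include hS h1 in
/-- sections of the quotient lift when the kernel is Cech-flasque -/
theorem et_sections_surjective (V : X.Etale) : Function.Surjective (S.g.hom.app (op V)) := by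
  intro s
  have : Epi S.g := hS.epi_g
  have hls : Sheaf.IsLocallySurjective S.g :=
    (Sheaf.isLocallySurjective_iff_epi' (φ := S.g)).2 inferInstance
  have hmem := Presheaf.imageSieve_mem X.smallEtaleTopology S.g.hom s
  let ι' := Σ (W : X.Etale), {f : W ⟶ V // (Presheaf.imageSieve S.g.hom s) f}
  let Uf' : ι' → Over V := fun i => Over.mk i.2.1
  have hsieve : Sieve.ofArrows (fun i => (Uf' i).left) (fun i => (Uf' i).hom) =
      Presheaf.imageSieve S.g.hom s := by
    apply le_antisymm
    · rw [Sieve.ofArrows, Sieve.generate_le_iff]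
      rintro W f ⟨i⟩
      exact i.2.2
    · intro W f hf
      exact Sieve.ofArrows_mk _ _ (⟨W, ⟨f, hf⟩⟩ : ι')
  have hjs : ∀ x : ↥(V.left), ∃ (i : ι') (y : ↥((Uf' i).left.left)),
      (Uf' i).hom.left.base y = x := by
    intro x
    obtain ⟨Y, f, y, hf, hy⟩ := etale_sieve_jointly_surjective V _ hmem x
    exact ⟨⟨Y, ⟨f, hf⟩⟩, y, hy⟩
  have ht : ∀ i : ι', ∃ t : S.X₂.obj.obj (op (Uf' i).left),
      S.g.hom.app (op (Uf' i).left) t = S.X₃.obj.map (Uf' i).hom.op s := fun i => i.2.2
  choose t' ht' using ht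
  have hcov : Sieve.ofArrows (fun i => (Uf' i).left) (fun i => (Uf' i).hom) ∈
      X.smallEtaleTopology V := by
    rw [hsieve]
    exact hmem
  exact exists_lift_of_sCech_h1 Uf' S hS hcov (h1 V ι' Uf' hjs 1 Nat.one_pos) s t' ht'

include hS h1 in
/-- the quotient of a Cech-flasque sheaf by a Cech-flasque subsheaf is Cech-flasque -/
theorem et_cechFlasque_quotient
    (h2 : ∀ (U : X.Etale) (ι : Type (u + 1)) (Uf : ι → Over U),
      (∀ x : ↥(U.left), ∃ (i : ι) (y : ↥((Uf i).left.left)), (Uf i).hom.left.base y = x) →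
      ∀ p : ℕ, 0 < p → IsZero (EtCech.cechH Uf S.X₂.obj p))
    (U : X.Etale) (ι : Type (u + 1)) (Uf : ι → Over U)
    (hU : ∀ x : ↥(U.left), ∃ (i : ι) (y : ↥((Uf i).left.left)), (Uf i).hom.left.base y = x)
    (p : ℕ) (hp : 0 < p) :
    IsZero (EtCech.cechH Uf S.X₃.obj p) := by
  obtain ⟨n, rfl⟩ : ∃ n, p = n + 1 := ⟨p - 1, by omega⟩
  exact sCech_shift_up Uf S hS n (fun x => et_sections_surjective S hS h1 _)
    (h1 U ι Uf hU (n + 2) (by omega)) (h2 U ι Uf hU (n + 1) (by omega))

end

end
end Groth.Agent.Lib.Helper44
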