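import Groth.Agent.Lib.Helper33.BigZarCoh

/-! The inclusion of the small Zariski site of a scheme into its big fppf site is continuous. -/

set_option autoImplicit false
universe u
open CategoryTheory AlgebraicGeometry TopologicalSpace Opposite

namespace Groth.Agent.Lib.Helper44

open Groth.Agent.Lib.Helper33.BigZarCoh

set_option backward.isDefEq.respectTransparency.types false in
theorem coverPreserving_zarIncl_fppf (X : Scheme.{u}) :
    CoverPreserving (Opens.grothendieckTopology X) (QuotSh.J Scheme.fppfPrecoverage.{u} X)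
      (BigSite.zarIncl X) := by
  constructor
  intro U R hR
  rw [GrothendieckTopology.mem_over_iff]
  rw [Opens.mem_grothendieckTopology] at hR
  let I : Type u := {V : X.Opens // ∃ h : V ⟶ U, R.arrows h}
  have hle : ∀ i : I, i.1 ≤ U := fun i => leOfHom i.2.choose
  let Y : I → Scheme.{u} := fun i => (i.1 : Scheme.{u})
  let f : ∀ i : I, Y i ⟶ (U : Scheme.{u}) := fun i => X.homOfLE (hle i)
  have hcov : Presieve.ofArrows Y f ∈ Scheme.fppfPrecoverage.coverings (U : Scheme.{u}) := by
    refine (Scheme.ofArrows_mem_precoverage_iff (@Flat ⊓ @LocallyOfFinitePresentation)).2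
      ⟨fun x => ?_, fun i => ?_⟩
    · obtain ⟨V, h, hV, hxV⟩ := hR x.1 x.2
      refine ⟨⟨V, h, hV⟩, ⟨x.1, hxV⟩, ?_⟩
      apply Subtype.ext
      have h3 := congrArg (fun φ : (V : Scheme.{u}) ⟶ X => φ.base ⟨x.1, hxV⟩)
        (X.homOfLE_ι (leOfHom h))
      exact h3
    · exact ⟨inferInstance, inferInstance⟩
  refine GrothendieckTopology.superset_covering _ ?_
    (Precoverage.generate_mem_toGrothendieck hcov)
  intro W g hg
  obtain ⟨W', a, b, hb, rfl⟩ := hg
  cases hb with
  | mk i =>
    apply Sieve.downward_closed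
    rw [Sieve.overEquiv_iff]
    refine ⟨i.1, homOfLE (hle i), Over.homMk (𝟙 _) ?_, ?_, ?_⟩
    · let U' : X.Opens := U
      change 𝟙 _ ≫ i.1.ι = X.homOfLE (hle i) ≫ U'.ι
      rw [Category.id_comp, Scheme.homOfLE_ι]
    · have h2 : homOfLE (hle i) = i.2.choose := Subsingleton.elim _ _
      rw [h2]
      exact i.2.choose_spec
    · exact hom_zarIncl_ext X _ _

/-- open coverings are fppf coverings: the binder `BigSite.ZarCont` for the fppf precoverage -/
instance zarCont_fppf (X : Scheme.{u}) : BigSite.ZarCont Scheme.fppfPrecoverage.{u} X :=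
  Functor.isContinuous_iff_coverPreserving.2 (coverPreserving_zarIncl_fppf X)

end Groth.Agent.Lib.Helper44
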