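import Groth.Agent.Lib.Helper5.ExtShiftAcyclic
import Groth.Agent.Lib.Helper44.ExtAdjCompare
import Mathlib

/-! Comparison of `Ext` groups along a functor `Λ : 𝒜 ⥤ ℬ` which keeps short exact sequences
exact, sends injective objects to `Z'`-acyclic objects and identifies `Hom(Z', Λ -)` with
`Hom(Z, -)` naturally. -/

set_option autoImplicit false
universe w w' v v' u u'

open CategoryTheory Abelian Limits

namespace Groth.Agent.Lib.Helper44

section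
variable {𝒜 : Type u} [Category.{v} 𝒜] [Abelian 𝒜] [HasExt.{w} 𝒜]
  {ℬ : Type u'} [Category.{v'} ℬ] [Abelian ℬ] [HasExt.{w'} ℬ]
  (Λ : 𝒜 ⥤ ℬ) [Λ.Additive] (Z : 𝒜) (Z' : ℬ)
  (β : ∀ F : 𝒜, (Z' ⟶ Λ.obj F) ≃+ (Z ⟶ F))
  (hβ : ∀ {F G : 𝒜} (f : F ⟶ G) (φ : Z' ⟶ Λ.obj F), β G (φ ≫ Λ.map f) = β F φ ≫ f)

include hβ in
/-- the comparison in degree one -/
theorem ext_one_exact_compare (S : ShortComplex 𝒜) (hS : S.ShortExact) [Injective S.X₂]
    (hΛS : (S.map Λ).ShortExact) [Subsingleton (Ext.{w'} Z' (Λ.obj S.X₂) 1)] :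
    Nonempty (Ext.{w'} Z' (Λ.obj S.X₁) 1 ≃+ Ext.{w} Z S.X₁ 1) := by
  have : Subsingleton (Ext.{w'} Z' (S.map Λ).X₂ 1) :=
    inferInstanceAs (Subsingleton (Ext.{w'} Z' (Λ.obj S.X₂) 1))
  refine nonempty_addEquiv_of_surjective_ker
    (Groth.Agent.Lib.Helper5.extBoundary₀ hΛS Z') (Groth.Agent.Lib.Helper5.extBoundary₀ hS Z)
    (Groth.Agent.Lib.Helper5.extBoundary₀_surjective_of_subsingleton hΛS Z')
    (Groth.Agent.Lib.Helper5.extBoundary₀_surjective hS Z)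
    (β S.X₃) (fun ψ => ?_)
  refine Iff.trans (Groth.Agent.Lib.Helper5.extBoundary₀_eq_zero_iff hΛS Z' ψ)
    (Iff.trans ?_ (Groth.Agent.Lib.Helper5.extBoundary₀_eq_zero_iff hS Z _).symm)
  constructor
  · rintro ⟨φ, rfl⟩
    exact ⟨β S.X₂ φ, (hβ S.g φ).symm⟩
  · rintro ⟨φ', hφ'⟩
    refine ⟨(β S.X₂).symm φ', ?_⟩
    apply (β S.X₃).injective
    refine (hβ S.g _).trans ?_
    rw [AddEquiv.apply_symm_apply]
    exact hφ'

include hβ in
/-- the comparison of `Ext` groups -/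
theorem ext_exact_compare [EnoughInjectives 𝒜]
    (hΛ : ∀ S : ShortComplex 𝒜, S.ShortExact → (S.map Λ).ShortExact)
    (hacyc : ∀ I : 𝒜, Injective I → ∀ n : ℕ, Subsingleton (Ext.{w'} Z' (Λ.obj I) (n + 1))) :
    ∀ (n : ℕ) (F : 𝒜), Nonempty (Ext.{w'} Z' (Λ.obj F) n ≃+ Ext.{w} Z F n) := by
  have hses : ∀ F : 𝒜, ∃ S : ShortComplex 𝒜, S.ShortExact ∧ S.X₁ = F ∧ Injective S.X₂ := by
    intro F
    let S : ShortComplex 𝒜 :=
      ShortComplex.mk (Injective.ι F) (cokernel.π (Injective.ι F)) (cokernel.condition _)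
    have hS : S.ShortExact :=
      { exact := ShortComplex.exact_of_g_is_cokernel _ (cokernelIsCokernel S.f) }
    exact ⟨S, hS, rfl, inferInstanceAs (Injective (Injective.under F))⟩
  have h1 : ∀ F : 𝒜, Nonempty (Ext.{w'} Z' (Λ.obj F) 1 ≃+ Ext.{w} Z F 1) := by
    intro F
    obtain ⟨S, hS, rfl, hI⟩ := hses F
    have := hacyc _ hI 0
    exact ext_one_exact_compare Λ Z Z' β hβ S hS (hΛ S hS)
  have hsucc : ∀ n : ℕ, ∀ F : 𝒜,
      Nonempty (Ext.{w'} Z' (Λ.obj F) (n + 1) ≃+ Ext.{w} Z F (n + 1)) := by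
    intro n
    induction n with
    | zero => exact h1
    | succ n ih =>
      intro F
      obtain ⟨S, hS, rfl, hI⟩ := hses F
      have h1 : Subsingleton (Ext.{w'} Z' (S.map Λ).X₂ (n + 1)) := hacyc _ hI n
      have h2 : Subsingleton (Ext.{w'} Z' (S.map Λ).X₂ (n + 2)) := hacyc _ hI (n + 1)
      obtain ⟨e⟩ := ih S.X₃
      exact ⟨((Groth.Agent.Lib.Helper5.extShiftAddEquivOfSubsingleton (hΛ S hS) Z' n).symm.trans
        e).trans (Groth.Agent.Lib.Helper5.extShiftAddEquiv hS Z n)⟩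
  intro n F
  cases n with
  | zero =>
    exact ⟨(Ext.addEquiv₀ (X := Z') (Y := Λ.obj F)).trans
      ((β F).trans (Ext.addEquiv₀ (X := Z) (Y := F)).symm)⟩
  | succ n => exact hsucc n F

end

end Groth.Agent.Lib.Helper44
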