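import Groth.Agent.Lib.Helper44.FlasqueUp
import Groth.Agent.Lib.Helper44.ExtExactCompare
import Groth.Agent.Lib.Helper28.ShCoh

/-! Cohomology of an abelian sheaf on a topological space does not change when the values of the
sheaf are lifted one universe up. -/

set_option autoImplicit false
set_option linter.unusedSectionVars false
universe u
open TopCat TopologicalSpace Opposite CategoryTheory Limits Abelian

namespace Groth.Agent.Lib.Helper44.FlasqueUp

variable (X : TopCat.{u}) [HasSheafify (Opens.grothendieckTopology X) AddCommGrpCat.{u+1}]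
  [(Opens.grothendieckTopology X).WEqualsLocallyBijective AddCommGrpCat.{u+1}]

/-- abelian sheaves valued in the universe of the space -/
abbrev ShDn : Type (u + 1) :=
  CategoryTheory.Sheaf (Opens.grothendieckTopology X) AddCommGrpCat.{u}

/-- lifting the values of a sheaf one universe up -/
noncomputable abbrev liftSh : ShDn X ⥤ ShUp X :=
  sheafCompose (Opens.grothendieckTopology X) AddCommGrpCat.uliftFunctor.{u+1, u}

instance : (liftSh X).Additive where
  map_add {F G f g} := by
    apply CategoryTheory.Sheaf.hom_ext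
    apply NatTrans.ext
    funext U
    exact (AddCommGrpCat.uliftFunctor.{u+1, u}).map_add

instance preservesFiniteLimits_liftSh : PreservesFiniteLimits (liftSh X) := by
  have h : PreservesFiniteLimits (liftSh X ⋙
      sheafToPresheaf (Opens.grothendieckTopology X) AddCommGrpCat.{u+1}) := by
    have h1 : PreservesFiniteLimits
        (sheafToPresheaf (Opens.grothendieckTopology X) AddCommGrpCat.{u}) := by
      have : PreservesLimitsOfSize.{0, 0}
          (sheafToPresheaf (Opens.grothendieckTopology X) AddCommGrpCat.{u}) :=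
        (sheafificationAdjunction (Opens.grothendieckTopology X)
          AddCommGrpCat.{u}).rightAdjoint_preservesLimits
      exact PreservesLimitsOfSize.preservesFiniteLimits _
    have h2 : PreservesFiniteLimits ((Functor.whiskeringRight (Opens X)ᵒᵖ _ _).obj
        AddCommGrpCat.uliftFunctor.{u+1, u}) := inferInstance
    exact inferInstanceAs (PreservesFiniteLimits
      (sheafToPresheaf (Opens.grothendieckTopology X) AddCommGrpCat.{u} ⋙
        (Functor.whiskeringRight (Opens X)ᵒᵖ _ _).obj AddCommGrpCat.uliftFunctor.{u+1, u}))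
  exact preservesFiniteLimits_of_reflects_of_preserves (liftSh X)
    (sheafToPresheaf (Opens.grothendieckTopology X) AddCommGrpCat.{u+1})

/-- lifting keeps short exact sequences exact -/
theorem shortExact_map_liftSh (S : ShortComplex (ShDn X)) (hS : S.ShortExact) :
    (S.map (liftSh X)).ShortExact := by
  have hm : Mono S.f := hS.mono_f
  have hex : (S.map (liftSh X)).Exact :=
    hS.exact.map_of_mono_of_preservesKernel _ hm inferInstance
  have hmono : Mono ((liftSh X).map S.f) := inferInstance
  have he : Epi S.g := hS.epi_g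
  have hls : CategoryTheory.Sheaf.IsLocallySurjective S.g :=
    (CategoryTheory.Sheaf.isLocallySurjective_iff_epi' (φ := S.g)).2 he
  have hls' : CategoryTheory.Sheaf.IsLocallySurjective ((liftSh X).map S.g) := by
    refine ⟨fun {U} s => ?_⟩
    refine GrothendieckTopology.superset_covering _ ?_ (hls.imageSieve_mem s.down)
    intro V i hi
    obtain ⟨t, ht⟩ := hi
    exact ⟨ULift.up t, congrArg ULift.up ht⟩
  have hepi : Epi ((liftSh X).map S.g) := CategoryTheory.Sheaf.epi_of_isLocallySurjective _
  exact ShortComplex.ShortExact.mk' hex hmono hepi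

section Compare

/-- the constant sheaf `ℤ`, valued in the universe of the space -/
noncomputable abbrev ZDn : ShDn X :=
  (constantSheaf (Opens.grothendieckTopology X) AddCommGrpCat.{u}).obj (AddCommGrpCat.of (ULift ℤ))

/-- the constant sheaf `ℤ`, valued one universe up -/
noncomputable abbrev ZUp : ShUp X :=
  (constantSheaf (Opens.grothendieckTopology X) AddCommGrpCat.{u+1}).obj
    (AddCommGrpCat.of (ULift ℤ))

/-- morphisms from the constant sheaf are global sections -/
noncomputable def γDn (F : ShDn X) : (ZDn X ⟶ F) ≃+ F.obj.obj (op (⊤ : Opens X)) :=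
  ((constantSheafAdj (Opens.grothendieckTopology X) AddCommGrpCat.{u}
    (isTerminalTop (α := Opens X))).homAddEquiv _ F).trans
      (AddCommGrpCat.uliftZMultiplesAddEquiv _)

/-- morphisms from the constant sheaf are global sections -/
noncomputable def γUp (F : ShUp X) : (ZUp X ⟶ F) ≃+ F.obj.obj (op (⊤ : Opens X)) :=
  ((constantSheafAdj (Opens.grothendieckTopology X) AddCommGrpCat.{u+1}
    (isTerminalTop (α := Opens X))).homAddEquiv _ F).trans
      (AddCommGrpCat.uliftZMultiplesAddEquiv _)

lemma γDn_nat {F G : ShDn X} (f : F ⟶ G) (φ : ZDn X ⟶ F) :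
    γDn X G (φ ≫ f) = f.hom.app (op (⊤ : Opens X)) (γDn X F φ) := by
  change AddCommGrpCat.uliftZMultiplesAddEquiv _
    ((constantSheafAdj (Opens.grothendieckTopology X) AddCommGrpCat.{u}
      (isTerminalTop (α := Opens X))).homEquiv _ G (φ ≫ f)) = _
  rw [Adjunction.homEquiv_naturality_right]
  rfl

lemma γUp_nat {F G : ShUp X} (f : F ⟶ G) (φ : ZUp X ⟶ F) :
    γUp X G (φ ≫ f) = f.hom.app (op (⊤ : Opens X)) (γUp X F φ) := by
  change AddCommGrpCat.uliftZMultiplesAddEquiv _
    ((constantSheafAdj (Opens.grothendieckTopology X) AddCommGrpCat.{u+1}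
      (isTerminalTop (α := Opens X))).homEquiv _ G (φ ≫ f)) = _
  rw [Adjunction.homEquiv_naturality_right]
  rfl

/-- the comparison in degree zero -/
noncomputable def βLift (F : ShDn X) : (ZUp X ⟶ (liftSh X).obj F) ≃+ (ZDn X ⟶ F) :=
  (γUp X ((liftSh X).obj F)).trans
    ((AddEquiv.ulift : ULift.{u+1} (F.obj.obj (op (⊤ : Opens X))) ≃+ _).trans (γDn X F).symm)

lemma βLift_nat {F G : ShDn X} (f : F ⟶ G) (φ : ZUp X ⟶ (liftSh X).obj F) :
    βLift X G (φ ≫ (liftSh X).map f) = βLift X F φ ≫ f := by
  apply (γDn X G).injective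
  rw [γDn_nat]
  change (γDn X G) ((γDn X G).symm (ULift.down (γUp X ((liftSh X).obj G)
      (φ ≫ (liftSh X).map f)))) =
    f.hom.app (op (⊤ : Opens X)) ((γDn X F) ((γDn X F).symm
      (ULift.down (γUp X ((liftSh X).obj F) φ))))
  rw [AddEquiv.apply_symm_apply, AddEquiv.apply_symm_apply, γUp_nat]
  rfl

variable [HasExt.{u+1} (ShUp X)] [EnoughInjectives (ShUp X)]

/-- cohomology does not change when the values are lifted one universe up -/
theorem H_liftSh_compare (n : ℕ) (F : ShDn X) :
    Nonempty (CategoryTheory.Sheaf.H ((liftSh X).obj F) n ≃+ CategoryTheory.Sheaf.H F n) := by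
  refine Groth.Agent.Lib.Helper44.ext_exact_compare (liftSh X) (ZDn X) (ZUp X) (βLift X)
    (fun f φ => βLift_nat X f φ) (shortExact_map_liftSh X) ?_ n F
  intro I hI m
  have h1 : TopCat.Sheaf.IsFlasque (X := X) I := Groth.Agent.Lib.Helper28.ShCoh.isFlasque_of_injective I
  have h2 : TopCat.Presheaf.IsFlasque ((liftSh X).obj I).obj := by
    constructor
    intro U V i
    rw [AddCommGrpCat.epi_iff_surjective]
    intro s
    have h3 := (AddCommGrpCat.epi_iff_surjective _).1 (h1.epi i)
    obtain ⟨t, ht⟩ := h3 s.down
    exact ⟨ULift.up t, congrArg ULift.up ht⟩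
  exact H_subsingleton_of_isFlasque m _ h2

end Compare

end Groth.Agent.Lib.Helper44.FlasqueUp
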