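import Groth.Agent.Lib.Helper44.EtGaCoh
import Groth.Agent.Lib.Helper44.ZarCont
import Groth.Agent.Lib.Helper44.ZarUnivTransfer
import Groth.Prelude.Def_Coh

/-! Étale cohomology of `G_a` agrees with Zariski cohomology of the structure sheaf. -/

set_option autoImplicit false
set_option linter.unusedSectionVars false
universe u
open CategoryTheory CategoryTheory.Limits Opposite AlgebraicGeometry TopologicalSpace

namespace Groth.Agent.Lib.Helper44

variable (X : Scheme.{u})

instance wEqualsLocallyBijective_zar_up :
    (Opens.grothendieckTopology X).WEqualsLocallyBijective AddCommGrpCat.{u + 1} :=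
  GrothendieckTopology.WEqualsLocallyBijective.ofEssentiallySmall.{u, u + 1, u, u + 2, u + 1}
    (Opens.grothendieckTopology X)

/-- the component of the comparison -/
noncomputable def unitZarEquiv (U : X.Opens) :
    ULift.{u+1} Γ(X, U) ≃+ ULift.{u+1} Γ((U : Scheme.{u}), ⊤) :=
  (AddEquiv.ulift.trans (U.topIso.symm.commRingCatIsoToRingEquiv.toAddEquiv)).trans
    AddEquiv.ulift.symm

/-- the restriction of the structure sheaf of the big fppf site to the Zariski site is the
structure sheaf, lifted one universe up (on presheaves) -/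
noncomputable def unitZarIso :
    (Coh.toAb (Coh.structureModule X)).obj ⋙ AddCommGrpCat.uliftFunctor.{u+1, u} ≅
      ((BigSite.resZar Scheme.fppfPrecoverage X).obj
        ((BigSite.toAbMod Scheme.fppfPrecoverage X).obj
          (BigSite.unitMod Scheme.fppfPrecoverage X))).obj :=
  NatIso.ofComponents (fun U => (unitZarEquiv X U.unop).toAddCommGrpIso) (by
    intro U V i
    ext x
    apply ULift.ext
    obtain ⟨U⟩ := U
    obtain ⟨V⟩ := V
    have hVU : V ≤ U := leOfHom i.unop
    let U' : X.Opens := U
    let V' : X.Opens := V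
    change V'.topIso.inv.hom (X.presheaf.map i x.down) =
      (X.homOfLE hVU).appTop.hom (U'.topIso.inv.hom x.down)
    have h1 : X.presheaf.map i ≫ V'.topIso.inv = U'.topIso.inv ≫ (X.homOfLE hVU).appTop := by
      rw [Scheme.homOfLE_appTop, Scheme.Opens.topIso_inv, Scheme.Opens.topIso_inv]
      exact (X.presheaf.map_comp _ _).symm.trans
        ((congrArg X.presheaf.map (Subsingleton.elim _ _)).trans (X.presheaf.map_comp _ _))
    exact ConcreteCategory.congr_hom h1 x.down)

/-- the same, on sheaves -/
noncomputable def unitZarSheafIso :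
    (FlasqueUp.liftSh X.toTopCat).obj (Coh.toAb (Coh.structureModule X)) ≅
      (BigSite.resZar Scheme.fppfPrecoverage X).obj
        ((BigSite.toAbMod Scheme.fppfPrecoverage X).obj
          (BigSite.unitMod Scheme.fppfPrecoverage X)) :=
  (fullyFaithfulSheafToPresheaf _ _).preimageIso (unitZarIso X)

/-- étale cohomology of `G_a` is Zariski cohomology of the structure sheaf -/
theorem et_Ga_zar_compare (p : ℕ) :
    Nonempty (EtCoh.H X (EtCoh.Ga X) p ≃+ Coh.HH X (Coh.structureModule X) p) := by
  obtain ⟨e1⟩ := et_Ga_fppf_compare X p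
  obtain ⟨e2⟩ := zar_fppf_compare X (BigSite.unitMod Scheme.fppfPrecoverage X)
    (adequateMod_unitMod X) p
  have h1 : HasSheafify (Opens.grothendieckTopology X.toTopCat) AddCommGrpCat.{u+1} :=
    EtZar.hasSheafifyZar X
  have h2 : (Opens.grothendieckTopology X.toTopCat).WEqualsLocallyBijective
      AddCommGrpCat.{u+1} := wEqualsLocallyBijective_zar_up X
  have h3 : HasExt.{u+1} (FlasqueUp.ShUp X.toTopCat) :=
    inferInstanceAs (HasExt.{u+1} (EtZar.Ab X))
  have h4 : EnoughInjectives (FlasqueUp.ShUp X.toTopCat) :=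
    inferInstanceAs (EnoughInjectives (EtZar.Ab X))
  obtain ⟨e4⟩ := FlasqueUp.H_liftSh_compare X.toTopCat p (Coh.toAb (Coh.structureModule X))
  have e3 := Groth.Agent.Lib.Helper33.BigSiteCoh.extCongrRightAdd
    ((constantSheaf (Opens.grothendieckTopology X) AddCommGrpCat.{u + 1}).obj
      (AddCommGrpCat.of (ULift ℤ))) (unitZarSheafIso X) p
  exact ⟨(e1.trans e2.symm).trans (e3.symm.trans e4)⟩

end Groth.Agent.Lib.Helper44
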