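import Groth.Agent.Lib.Helper5.ExtShiftAcyclic
import Groth.Agent.Lib.Helper44.ExtAdjCompare
import Groth.Agent.Lib.Helper33.BigSiteCoh
import Mathlib

/-! Natural comparison of `Ext` groups along an additive functor `Φ : 𝒜 ⥤ ℬ` with a natural
identification `Hom(Z', Φ -) ≃ Hom(Z, -)`, for the objects of a class `P` admitting injective
embeddings which `Φ` keeps exact and whose middle terms are `Z'`-acyclic after applying `Φ`.
Contrary to `ext_adj_compare` / `ext_exact_compare`, the isomorphisms produced here are shown to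
be natural. -/

set_option autoImplicit false
universe w w' v v' u u'

open CategoryTheory Abelian Limits

namespace Groth.Agent.Lib.Helper44

/-- two quotients of isomorphic groups by corresponding kernels are isomorphic, compatibly -/
theorem exists_addEquiv_of_surjective_ker {B C B' C' : Type*} [AddCommGroup B] [AddCommGroup C]
    [AddCommGroup B'] [AddCommGroup C'] (δ : B →+ C) (δ' : B' →+ C')
    (hδ : Function.Surjective δ) (hδ' : Function.Surjective δ') (β : B ≃+ B')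
    (hker : ∀ b, δ b = 0 ↔ δ' (β b) = 0) : ∃ e : C ≃+ C', ∀ b, e (δ b) = δ' (β b) := by
  have h : AddSubgroup.map (β : B →+ B') δ.ker = δ'.ker := by
    ext b'
    constructor
    · rintro ⟨b, hb, rfl⟩
      exact (hker b).1 hb
    · intro hb'
      refine ⟨β.symm b', ?_, β.apply_symm_apply b'⟩
      refine (hker _).2 ?_
      rw [β.apply_symm_apply]
      exact hb'
  refine ⟨(QuotientAddGroup.quotientKerEquivOfSurjective δ hδ).symm.trans
    ((QuotientAddGroup.congr δ.ker δ'.ker β h).trans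
      (QuotientAddGroup.quotientKerEquivOfSurjective δ' hδ')), fun b => ?_⟩
  have h1 : (QuotientAddGroup.quotientKerEquivOfSurjective δ hδ).symm (δ b) =
      (QuotientAddGroup.mk b : B ⧸ δ.ker) := by
    rw [AddEquiv.symm_apply_eq]
    rfl
  rw [AddEquiv.trans_apply, h1]
  rfl

namespace ExtNat

section
variable {𝒜 : Type u} [Category.{v} 𝒜] [Abelian 𝒜] [HasExt.{w} 𝒜]
  {ℬ : Type u'} [Category.{v'} ℬ] [Abelian ℬ] [HasExt.{w'} ℬ]
  (Φ : 𝒜 ⥤ ℬ) [Φ.Additive] (Z : 𝒜) (Z' : ℬ)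

/-- one step of a resolution adapted to `Φ`, `Z'` and the class `P` -/
structure ResStep (P : 𝒜 → Prop) (F : 𝒜) where
  /-- the short exact sequence -/
  S : ShortComplex 𝒜
  /-- it starts with `F` -/
  ι : F ≅ S.X₁
  hS : S.ShortExact
  inj : Injective S.X₂
  hΦ : (S.map Φ).ShortExact
  acyc : ∀ n : ℕ, Subsingleton (Ext.{w'} Z' (Φ.obj S.X₂) (n + 1))
  hQ : P S.X₃

variable {Φ Z'} in
/-- extend a morphism to the chosen resolution steps -/
theorem ResStep.exists_hom {P : 𝒜 → Prop} {F G : 𝒜} (RF : ResStep Φ Z' P F)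
    (RG : ResStep Φ Z' P G) (f : F ⟶ G) :
    ∃ φ : RF.S ⟶ RG.S, φ.τ₁ = RF.ι.inv ≫ f ≫ RG.ι.hom := by
  have := RF.hS.mono_f
  have := RG.inj
  let f₁ : RF.S.X₁ ⟶ RG.S.X₁ := RF.ι.inv ≫ f ≫ RG.ι.hom
  let f₂ : RF.S.X₂ ⟶ RG.S.X₂ := Injective.factorThru (f₁ ≫ RG.S.f) RF.S.f
  have h₂ : RF.S.f ≫ f₂ = f₁ ≫ RG.S.f := Injective.comp_factorThru _ _
  have hz : RF.S.f ≫ (f₂ ≫ RG.S.g) = 0 := by
    rw [← Category.assoc, h₂, Category.assoc, RG.S.zero, comp_zero]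
  let f₃ : RF.S.X₃ ⟶ RG.S.X₃ := RF.hS.gIsCokernel.desc (CokernelCofork.ofπ (f₂ ≫ RG.S.g) hz)
  have h₃ : RF.S.g ≫ f₃ = f₂ ≫ RG.S.g :=
    RF.hS.gIsCokernel.fac (CokernelCofork.ofπ (f₂ ≫ RG.S.g) hz) WalkingParallelPair.one
  exact ⟨ShortComplex.homMk f₁ f₂ f₃ h₂.symm h₃.symm, rfl⟩

variable {Φ Z'} in
/-- the extension class of the image sequence, with its type in the expected form -/
noncomputable def ResStep.c' {P : 𝒜 → Prop} {F : 𝒜} (R : ResStep Φ Z' P F) :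
    Ext.{w'} (Φ.obj R.S.X₃) (Φ.obj R.S.X₁) 1 := R.hΦ.extClass

variable {Φ Z'} in
/-- the extension class of the sequence -/
noncomputable def ResStep.c {P : 𝒜 → Prop} {F : 𝒜} (R : ResStep Φ Z' P F) :
    Ext.{w} R.S.X₃ R.S.X₁ 1 := R.hS.extClass

variable {Φ Z'} in
theorem ResStep.c'_naturality {P : 𝒜 → Prop} {F G : 𝒜} (RF : ResStep Φ Z' P F)
    (RG : ResStep Φ Z' P G) (φ : RF.S ⟶ RG.S) :
    RF.c'.comp (Ext.mk₀ (Φ.map φ.τ₁)) (add_zero 1) =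
      (Ext.mk₀ (Φ.map φ.τ₃)).comp RG.c' (zero_add 1) :=
  ShortComplex.ShortExact.extClass_naturality RF.hΦ RG.hΦ (Φ.mapShortComplex.map φ)

variable {Φ Z'} in
theorem ResStep.c_naturality {P : 𝒜 → Prop} {F G : 𝒜} (RF : ResStep Φ Z' P F)
    (RG : ResStep Φ Z' P G) (φ : RF.S ⟶ RG.S) :
    RF.c.comp (Ext.mk₀ φ.τ₁) (add_zero 1) = (Ext.mk₀ φ.τ₃).comp RG.c (zero_add 1) :=
  ShortComplex.ShortExact.extClass_naturality RF.hS RG.hS φ

variable {Φ Z'} in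
theorem ResStep.c'_surjective {P : 𝒜 → Prop} {F : 𝒜} (R : ResStep Φ Z' P F) (n : ℕ)
    (y : Ext.{w'} Z' (Φ.obj R.S.X₁) (n + 1)) :
    ∃ a : Ext.{w'} Z' (Φ.obj R.S.X₃) n, a.comp R.c' (rfl : n + 1 = n + 1) = y := by
  have : Subsingleton (Ext.{w'} Z' (R.S.map Φ).X₂ (n + 1)) := R.acyc n
  exact Groth.Agent.Lib.Helper5.extClass_postcomp_surjective_of_subsingleton R.hΦ Z' n y

variable {Φ Z'} in
theorem ResStep.c'_injective {P : 𝒜 → Prop} {F : 𝒜} (R : ResStep Φ Z' P F) (n : ℕ)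
    (a : Ext.{w'} Z' (Φ.obj R.S.X₃) (n + 1))
    (h : a.comp R.c' (rfl : n + 1 + 1 = n + 1 + 1) = 0) : a = 0 := by
  have : Subsingleton (Ext.{w'} Z' (R.S.map Φ).X₂ (n + 1)) := R.acyc n
  have h1 := Groth.Agent.Lib.Helper5.extClass_postcomp_injective_of_subsingleton R.hΦ Z' n
  exact h1 (h.trans (map_zero _).symm)

variable {Φ Z'} in
theorem ResStep.c_injective {P : 𝒜 → Prop} {F : 𝒜} (R : ResStep Φ Z' P F) (n : ℕ)
    (a : Ext.{w} Z R.S.X₃ (n + 1))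
    (h : a.comp R.c (rfl : n + 1 + 1 = n + 1 + 1) = 0) : a = 0 := by
  have := R.inj
  have h1 := Groth.Agent.Lib.Helper5.extClass_postcomp_injective R.hS Z n
  exact h1 (h.trans (map_zero _).symm)

/-- naturality of a family of comparison isomorphisms on the class `P` -/
def IsNat (P : 𝒜 → Prop) (n : ℕ)
    (e : ∀ F, P F → (Ext.{w'} Z' (Φ.obj F) n ≃+ Ext.{w} Z F n)) : Prop :=
  ∀ (F G : 𝒜) (hF : P F) (hG : P G) (f : F ⟶ G) (x : Ext.{w'} Z' (Φ.obj F) n),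
    e G hG (x.comp (Ext.mk₀ (Φ.map f)) (add_zero n)) = (e F hF x).comp (Ext.mk₀ f) (add_zero n)

variable {Φ Z Z'} in
/-- the inductive step -/
theorem step (P : 𝒜 → Prop) (hP : ∀ F, P F → Nonempty (ResStep Φ Z' P F)) (n : ℕ)
    (e : ∀ F, P F → (Ext.{w'} Z' (Φ.obj F) n ≃+ Ext.{w} Z F n)) (he : IsNat Φ Z Z' P n e)
    (hker : ∀ (F : 𝒜) (R : ResStep Φ Z' P F) (b : Ext.{w'} Z' (Φ.obj R.S.X₃) n),
      b.comp R.c' (rfl : n + 1 = n + 1) = 0 ↔
        (e R.S.X₃ R.hQ b).comp R.c (rfl : n + 1 = n + 1) = 0) :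
    ∃ e' : ∀ F, P F → (Ext.{w'} Z' (Φ.obj F) (n + 1) ≃+ Ext.{w} Z F (n + 1)),
      IsNat Φ Z Z' P (n + 1) e' := by
  classical
  -- choice of resolution steps
  let R : ∀ F, P F → ResStep Φ Z' P F := fun F hF => (hP F hF).some
  -- the comparison for the first term of the chosen sequence
  have key : ∀ (F : 𝒜) (hF : P F), ∃ ε : Ext.{w'} Z' (Φ.obj (R F hF).S.X₁) (n + 1) ≃+
      Ext.{w} Z (R F hF).S.X₁ (n + 1), ∀ b : Ext.{w'} Z' (Φ.obj (R F hF).S.X₃) n,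
        ε (b.comp (R F hF).c' (rfl : n + 1 = n + 1)) =
          (e _ (R F hF).hQ b).comp (R F hF).c (rfl : n + 1 = n + 1) := by
    intro F hF
    have : Subsingleton (Ext.{w'} Z' ((R F hF).S.map Φ).X₂ (n + 1)) := (R F hF).acyc n
    have := (R F hF).inj
    exact exists_addEquiv_of_surjective_ker
      ((R F hF).hΦ.extClass.postcomp Z' (rfl : n + 1 = n + 1))
      ((R F hF).hS.extClass.postcomp Z (rfl : n + 1 = n + 1))
      (Groth.Agent.Lib.Helper5.extClass_postcomp_surjective_of_subsingleton (R F hF).hΦ Z' n)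
      (Groth.Agent.Lib.Helper5.extClass_postcomp_surjective (R F hF).hS Z n)
      (e _ (R F hF).hQ) (fun b => hker F (R F hF) b)
  choose ε hε using key
  -- transport along `F ≅ S.X₁`
  let e' : ∀ F, P F → (Ext.{w'} Z' (Φ.obj F) (n + 1) ≃+ Ext.{w} Z F (n + 1)) := fun F hF =>
    ((Groth.Agent.Lib.Helper33.BigSiteCoh.extCongrRightAdd Z' (Φ.mapIso (R F hF).ι) (n + 1)).trans
      (ε F hF)).trans
      (Groth.Agent.Lib.Helper33.BigSiteCoh.extCongrRightAdd Z (R F hF).ι.symm (n + 1))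
  have he' : ∀ F hF (x : Ext.{w'} Z' (Φ.obj F) (n + 1)), e' F hF x =
      (ε F hF (x.comp (Ext.mk₀ (Φ.map (R F hF).ι.hom)) (add_zero _))).comp
        (Ext.mk₀ (R F hF).ι.inv) (add_zero _) := fun F hF x => rfl
  refine ⟨e', ?_⟩
  intro F G hF hG f x
  obtain ⟨φ, hφ⟩ := (R F hF).exists_hom (R G hG) f
  obtain ⟨a, ha⟩ := (R F hF).c'_surjective n
    (x.comp (Ext.mk₀ (Φ.map (R F hF).ι.hom)) (add_zero _))
  -- left hand side
  have h1 : Φ.map f ≫ Φ.map (R G hG).ι.hom = Φ.map (R F hF).ι.hom ≫ Φ.map φ.τ₁ := by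
    rw [hφ, ← Functor.map_comp, ← Functor.map_comp, Iso.hom_inv_id_assoc]
  have hL : (x.comp (Ext.mk₀ (Φ.map f)) (add_zero _)).comp
      (Ext.mk₀ (Φ.map (R G hG).ι.hom)) (add_zero _) =
      (a.comp (Ext.mk₀ (Φ.map φ.τ₃)) (add_zero n)).comp (R G hG).c'
        (rfl : n + 1 = n + 1) := by
    calc (x.comp (Ext.mk₀ (Φ.map f)) (add_zero _)).comp
          (Ext.mk₀ (Φ.map (R G hG).ι.hom)) (add_zero _)
        = x.comp (Ext.mk₀ (Φ.map f ≫ Φ.map (R G hG).ι.hom)) (add_zero _) := by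
          rw [Ext.comp_assoc_of_third_deg_zero, Ext.mk₀_comp_mk₀]
      _ = (x.comp (Ext.mk₀ (Φ.map (R F hF).ι.hom)) (add_zero _)).comp
            (Ext.mk₀ (Φ.map φ.τ₁)) (add_zero _) := by
          rw [h1, Ext.comp_assoc_of_third_deg_zero, Ext.mk₀_comp_mk₀]
      _ = (a.comp (R F hF).c' (rfl : n + 1 = n + 1)).comp
            (Ext.mk₀ (Φ.map φ.τ₁)) (add_zero _) := by rw [ha]
      _ = a.comp ((R F hF).c'.comp (Ext.mk₀ (Φ.map φ.τ₁)) (add_zero 1))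
            (rfl : n + 1 = n + 1) :=
          Ext.comp_assoc a _ _ (rfl : n + 1 = n + 1) (add_zero 1) (by omega)
      _ = a.comp ((Ext.mk₀ (Φ.map φ.τ₃)).comp (R G hG).c' (zero_add 1))
            (rfl : n + 1 = n + 1) := by rw [(R F hF).c'_naturality (R G hG) φ]
      _ = _ := (Ext.comp_assoc a _ _ (add_zero n) (zero_add 1) (by omega)).symm
  have hR : (e _ (R F hF).hQ a).comp (R F hF).c (rfl : n + 1 = n + 1) =
      ε F hF (x.comp (Ext.mk₀ (Φ.map (R F hF).ι.hom)) (add_zero _)) := by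
    rw [← hε, ha]
  have hA : ((e _ (R F hF).hQ a).comp (Ext.mk₀ φ.τ₃) (add_zero n)).comp (R G hG).c
      (rfl : n + 1 = n + 1) =
      ((e _ (R F hF).hQ a).comp (R F hF).c (rfl : n + 1 = n + 1)).comp
        (Ext.mk₀ φ.τ₁) (add_zero _) := by
    calc ((e _ (R F hF).hQ a).comp (Ext.mk₀ φ.τ₃) (add_zero n)).comp (R G hG).c
          (rfl : n + 1 = n + 1)
        = (e _ (R F hF).hQ a).comp ((Ext.mk₀ φ.τ₃).comp (R G hG).c (zero_add 1))
          (rfl : n + 1 = n + 1) :=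
          Ext.comp_assoc _ _ _ (add_zero n) (zero_add 1) (by omega)
      _ = (e _ (R F hF).hQ a).comp ((R F hF).c.comp (Ext.mk₀ φ.τ₁) (add_zero 1))
          (rfl : n + 1 = n + 1) := by rw [(R F hF).c_naturality (R G hG) φ]
      _ = _ := (Ext.comp_assoc _ _ _ (rfl : n + 1 = n + 1) (add_zero 1) (by omega)).symm
  have hB : φ.τ₁ ≫ (R G hG).ι.inv = (R F hF).ι.inv ≫ f := by
    rw [hφ]; simp
  rw [he', he', hL, hε, he _ _ (R F hF).hQ (R G hG).hQ φ.τ₃ a, ← hR, hA]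
  generalize ((e _ (R F hF).hQ a).comp (R F hF).c (rfl : n + 1 = n + 1)) = y
  rw [Ext.comp_assoc_of_third_deg_zero, Ext.mk₀_comp_mk₀, hB,
    Ext.comp_assoc_of_third_deg_zero, Ext.mk₀_comp_mk₀]

variable (β : ∀ F : 𝒜, (Z' ⟶ Φ.obj F) ≃+ (Z ⟶ F))
  (hβ : ∀ {F G : 𝒜} (f : F ⟶ G) (φ : Z' ⟶ Φ.obj F), β G (φ ≫ Φ.map f) = β F φ ≫ f)

/-- the comparison in degree zero -/
noncomputable def e₀ (F : 𝒜) : Ext.{w'} Z' (Φ.obj F) 0 ≃+ Ext.{w} Z F 0 :=
  (Ext.addEquiv₀ (X := Z') (Y := Φ.obj F)).trans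
    ((β F).trans (Ext.addEquiv₀ (X := Z) (Y := F)).symm)

theorem e₀_mk₀ (F : 𝒜) (φ : Z' ⟶ Φ.obj F) : e₀ Φ Z Z' β F (Ext.mk₀ φ) = Ext.mk₀ (β F φ) := by
  change (Ext.addEquiv₀ (X := Z) (Y := F)).symm (β F (Ext.addEquiv₀ (Ext.mk₀ φ))) = _
  have h : Ext.addEquiv₀ (Ext.mk₀ φ) = φ := (Ext.addEquiv₀ (X := Z') (Y := Φ.obj F)).apply_symm_apply φ
  rw [h]
  rfl

include hβ in
theorem isNat_e₀ (P : 𝒜 → Prop) : IsNat Φ Z Z' P 0 (fun F _ => e₀ Φ Z Z' β F) := by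
  intro F G hF hG f x
  obtain ⟨φ, rfl⟩ := (Ext.mk₀_bijective Z' (Φ.obj F)).2 x
  change e₀ Φ Z Z' β G _ = (e₀ Φ Z Z' β F _).comp _ _
  rw [Ext.mk₀_comp_mk₀, e₀_mk₀, e₀_mk₀, Ext.mk₀_comp_mk₀, hβ]

include hβ in
/-- the natural comparison of `Ext` groups -/
theorem ext_compare_nat (P : 𝒜 → Prop) (hP : ∀ F, P F → Nonempty (ResStep Φ Z' P F)) :
    ∀ n : ℕ, ∃ e : ∀ F, P F → (Ext.{w'} Z' (Φ.obj F) n ≃+ Ext.{w} Z F n),
      IsNat Φ Z Z' P n e := by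
  have h1 : ∃ e : ∀ F, P F → (Ext.{w'} Z' (Φ.obj F) 1 ≃+ Ext.{w} Z F 1),
      IsNat Φ Z Z' P 1 e := by
    refine step P hP 0 (fun F _ => e₀ Φ Z Z' β F) (isNat_e₀ Φ Z Z' β hβ P) ?_
    intro F R b
    obtain ⟨ψ, rfl⟩ := (Ext.mk₀_bijective Z' (Φ.obj R.S.X₃)).2 b
    rw [e₀_mk₀]
    refine Iff.trans (Groth.Agent.Lib.Helper5.extBoundary₀_eq_zero_iff R.hΦ Z' ψ)
      (Iff.trans ?_ (Groth.Agent.Lib.Helper5.extBoundary₀_eq_zero_iff R.hS Z _).symm)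
    constructor
    · rintro ⟨φ, rfl⟩
      exact ⟨β R.S.X₂ φ, (hβ R.S.g φ).symm⟩
    · rintro ⟨φ', hφ'⟩
      refine ⟨(β R.S.X₂).symm φ', ?_⟩
      apply (β R.S.X₃).injective
      refine (hβ R.S.g _).trans ?_
      rw [AddEquiv.apply_symm_apply]
      exact hφ'
  have hsucc : ∀ n : ℕ, ∃ e : ∀ F, P F → (Ext.{w'} Z' (Φ.obj F) (n + 1) ≃+ Ext.{w} Z F (n + 1)),
      IsNat Φ Z Z' P (n + 1) e := by
    intro n
    induction n with
    | zero => exact h1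
    | succ n ih =>
      obtain ⟨e, he⟩ := ih
      refine step P hP (n + 1) e he ?_
      intro F R b
      constructor
      · intro hb
        rw [R.c'_injective n b hb, map_zero, Ext.zero_comp]
      · intro hb
        have h2 := R.c_injective Z n _ hb
        rw [(e R.S.X₃ R.hQ).map_eq_zero_iff] at h2
        rw [h2, Ext.zero_comp]
  intro n
  cases n with
  | zero => exact ⟨fun F _ => e₀ Φ Z Z' β F, isNat_e₀ Φ Z Z' β hβ P⟩
  | succ n => exact hsucc n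

end

section Adj
variable {𝒜 : Type u} [Category.{v} 𝒜] [Abelian 𝒜] [HasExt.{w} 𝒜]
  {ℬ : Type u'} [Category.{v'} ℬ] [Abelian ℬ] [HasExt.{w'} ℬ]
  {L : ℬ ⥤ 𝒜} {R : 𝒜 ⥤ ℬ} (adj : L ⊣ R) [L.Additive] [R.Additive]

include adj in
/-- natural version of `ext_adj_compare` -/
theorem ext_adj_compare_nat (hRinj : ∀ I : 𝒜, Injective I → Injective (R.obj I)) (Z : ℬ)
    (P : 𝒜 → Prop)
    (hP : ∀ F, P F → ∃ S : ShortComplex 𝒜, S.ShortExact ∧ S.X₁ = F ∧ Injective S.X₂ ∧ P S.X₃ ∧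
      (S.map R).ShortExact) (n : ℕ) :
    ∃ e : ∀ F, P F → (Ext.{w'} Z (R.obj F) n ≃+ Ext.{w} (L.obj Z) F n),
      ∀ (F G : 𝒜) (hF : P F) (hG : P G) (f : F ⟶ G) (x : Ext.{w'} Z (R.obj F) n),
        e G hG (x.comp (Ext.mk₀ (R.map f)) (add_zero n)) =
          (e F hF x).comp (Ext.mk₀ f) (add_zero n) := by
  refine ext_compare_nat R (L.obj Z) Z (fun F => (adj.homAddEquiv Z F).symm) ?_ P ?_ n
  · intro F G f φ
    exact adj.homEquiv_naturality_right_symm φ f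
  · intro F hF
    obtain ⟨S, hS, rfl, hI, hQ, hRS⟩ := hP F hF
    have : Injective (R.obj S.X₂) := hRinj _ hI
    exact ⟨{ S := S, ι := Iso.refl _, hS := hS, inj := hI, hΦ := hRS, hQ := hQ
             acyc := fun n => subsingleton_of_forall_eq 0 (fun x => Ext.eq_zero_of_injective x) }⟩

end Adj

section Exact
variable {𝒜 : Type u} [Category.{v} 𝒜] [Abelian 𝒜] [HasExt.{w} 𝒜]
  {ℬ : Type u'} [Category.{v'} ℬ] [Abelian ℬ] [HasExt.{w'} ℬ]
  (Λ : 𝒜 ⥤ ℬ) [Λ.Additive] (Z : 𝒜) (Z' : ℬ)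
  (β : ∀ F : 𝒜, (Z' ⟶ Λ.obj F) ≃+ (Z ⟶ F))
  (hβ : ∀ {F G : 𝒜} (f : F ⟶ G) (φ : Z' ⟶ Λ.obj F), β G (φ ≫ Λ.map f) = β F φ ≫ f)

include hβ in
/-- natural version of `ext_exact_compare` -/
theorem ext_exact_compare_nat [EnoughInjectives 𝒜]
    (hΛ : ∀ S : ShortComplex 𝒜, S.ShortExact → (S.map Λ).ShortExact)
    (hacyc : ∀ I : 𝒜, Injective I → ∀ n : ℕ, Subsingleton (Ext.{w'} Z' (Λ.obj I) (n + 1)))
    (n : ℕ) :
    ∃ e : ∀ F : 𝒜, (Ext.{w'} Z' (Λ.obj F) n ≃+ Ext.{w} Z F n),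
      ∀ (F G : 𝒜) (f : F ⟶ G) (x : Ext.{w'} Z' (Λ.obj F) n),
        e G (x.comp (Ext.mk₀ (Λ.map f)) (add_zero n)) =
          (e F x).comp (Ext.mk₀ f) (add_zero n) := by
  obtain ⟨e, he⟩ := ext_compare_nat Λ Z Z' β hβ (fun _ => True) (fun F _ => by
    let S : ShortComplex 𝒜 :=
      ShortComplex.mk (Injective.ι F) (cokernel.π (Injective.ι F)) (cokernel.condition _)
    have hS : S.ShortExact :=
      { exact := ShortComplex.exact_of_g_is_cokernel _ (cokernelIsCokernel S.f) }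
    have hI : Injective S.X₂ := inferInstanceAs (Injective (Injective.under F))
    exact ⟨{ S := S, ι := Iso.refl _, hS := hS, inj := hI, hΦ := hΛ S hS, hQ := trivial
             acyc := hacyc _ hI }⟩) n
  exact ⟨fun F => e F trivial, fun F G f x => he F G trivial trivial f x⟩

end Exact

end ExtNat

end Groth.Agent.Lib.Helper44
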