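import Groth.Agent.Lib.Helper44.EtGaZar
import Groth.Agent.Lib.Helper44.ExtCompareNat

/-! Natural versions of the comparisons between étale, fppf and Zariski cohomology used for
`G_a`, so that the comparison `H^p(X_ét, G_a) ≃ H^p(X, O_X)` is compatible with multiplication by
global functions. -/

set_option autoImplicit false
set_option linter.unusedSectionVars false
universe u
open CategoryTheory CategoryTheory.Limits Opposite TensorProduct AlgebraicGeometry Abelian
  TopologicalSpace

namespace Groth.Agent.Lib.Helper44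

open Groth.Agent.Lib.Helper44.BigCech Groth.Agent.Lib.Helper33.BigSiteCoh
  Groth.Agent.Lib.Helper33.BigZarCoh

section Links
variable (S : Scheme.{u})

/-- the class of Čech-acyclic sheaves on the big fppf site -/
abbrev CA (F : BigSite.Ab Scheme.fppfPrecoverage.{u} S) : Prop :=
  CechAcyclic (QuotSh.J Scheme.fppfPrecoverage.{u} S) (CovS S) F

theorem ca_of_adequate (M : BigSite.Mod Scheme.fppfPrecoverage.{u} S)
    (hM : Adeq.adequateMod Scheme.fppfPrecoverage S M) :
    CA S ((BigSite.toAbMod Scheme.fppfPrecoverage S).obj M) := by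
  intro U W hc p
  cases hc with
  | mk R a B hff hcov => exact adeq_cech_acyclic M a B hM p

set_option backward.isDefEq.respectTransparency.types false in
/-- natural version of `et_fppf_compare` -/
theorem et_fppf_compare_nat (q : ℕ) :
    ∃ e : ∀ F : BigSite.Ab Scheme.fppfPrecoverage.{u} S, CA S F →
        (EtCoh.H S ((BigSite.resEt Scheme.fppfPrecoverage S).obj F) q ≃+
          BigSite.H Scheme.fppfPrecoverage S F q),
      ∀ (F G : BigSite.Ab Scheme.fppfPrecoverage.{u} S) (hF : CA S F) (hG : CA S G) (f : F ⟶ G)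
        (x : EtCoh.H S ((BigSite.resEt Scheme.fppfPrecoverage S).obj F) q),
        e G hG (Sheaf.H.map ((BigSite.resEt Scheme.fppfPrecoverage S).map f) q x) =
          Sheaf.H.map f q (e F hF x) := by
  have h2 : ∀ (G H : BigSite.Ab Scheme.fppfPrecoverage.{u} S) (π : G ⟶ H), Epi π →
      ∀ U : Over S, U ∈ affObjs S → ∀ s : H.obj.obj (op U), ∃ W : Over U, CovS S U W ∧
        ∃ t : G.obj.obj (op W.left), π.hom.app (op W.left) t = H.obj.map W.hom.op s := by
    intro G H π hπ U hU s
    obtain ⟨R, a, rfl⟩ := hU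
    exact ab_local_lift π a s
  have hP : ∀ F : BigSite.Ab Scheme.fppfPrecoverage.{u} S,
      CechAcyclic (QuotSh.J Scheme.fppfPrecoverage.{u} S) (CovS S) F →
      ∃ T : ShortComplex (BigSite.Ab Scheme.fppfPrecoverage.{u} S), T.ShortExact ∧ T.X₁ = F ∧
        Injective T.X₂ ∧ CechAcyclic (QuotSh.J Scheme.fppfPrecoverage.{u} S) (CovS S) T.X₃ ∧
        (T.map (BigSite.resEt Scheme.fppfPrecoverage.{u} S)).ShortExact := by
    intro F hF
    obtain ⟨T, hT, h1, hI, hQ, hsurj⟩ := cartan_class_step (QuotSh.J Scheme.fppfPrecoverage.{u} S)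
      (affObjs S) (CovS S) (covS_h1 S) h2 F hF
    exact ⟨T, hT, h1, hI, hQ, shortExact_map_resEt S T hT hsurj⟩
  obtain ⟨e, he⟩ := ExtNat.ext_adj_compare_nat (BigSite.piEtAdj Scheme.fppfPrecoverage.{u} S)
    (injective_resEt_fppf S)
    ((constantSheaf S.smallEtaleTopology AddCommGrpCat.{u + 1}).obj
      (AddCommGrpCat.of (ULift ℤ)))
    (CechAcyclic (QuotSh.J Scheme.fppfPrecoverage.{u} S) (CovS S)) hP q
  refine ⟨fun F hF => (e F hF).trans (Groth.Agent.Lib.Helper33.BigSiteCoh.extCongrLeftAdd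
    ((piEtPullConstIsoFppf S).app (AddCommGrpCat.of (ULift ℤ))) _ q).symm, ?_⟩
  intro F G hF hG f x
  change (Ext.mk₀ ((piEtPullConstIsoFppf S).app (AddCommGrpCat.of (ULift ℤ))).inv).comp
      (e G hG (x.comp (Ext.mk₀ ((BigSite.resEt Scheme.fppfPrecoverage S).map f)) (add_zero q)))
      (zero_add q) =
    ((Ext.mk₀ ((piEtPullConstIsoFppf S).app (AddCommGrpCat.of (ULift ℤ))).inv).comp
      (e F hF x) (zero_add q)).comp (Ext.mk₀ f) (add_zero q)
  rw [he F G hF hG f x]
  exact (Ext.comp_assoc _ _ _ (zero_add q) (add_zero q) (by omega)).symm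

end Links

section ZLinks
variable (S : Scheme.{u}) [BigSite.ZarCont Scheme.fppfPrecoverage.{u} S]

set_option backward.isDefEq.respectTransparency.types false in
/-- natural version of `zar_fppf_compare` -/
theorem zar_fppf_compare_nat (q : ℕ) :
    ∃ e : ∀ F : BigSite.Ab Scheme.fppfPrecoverage.{u} S, CA S F →
        (EtZar.H ((BigSite.resZar Scheme.fppfPrecoverage S).obj F) q ≃+
          BigSite.H Scheme.fppfPrecoverage S F q),
      ∀ (F G : BigSite.Ab Scheme.fppfPrecoverage.{u} S) (hF : CA S F) (hG : CA S G) (f : F ⟶ G)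
        (x : EtZar.H ((BigSite.resZar Scheme.fppfPrecoverage S).obj F) q),
        e G hG (Sheaf.H.map ((BigSite.resZar Scheme.fppfPrecoverage S).map f) q x) =
          Sheaf.H.map f q (e F hF x) := by
  have h2 : ∀ (G H : BigSite.Ab Scheme.fppfPrecoverage.{u} S) (π : G ⟶ H), Epi π →
      ∀ U : Over S, U ∈ affObjs S → ∀ s : H.obj.obj (op U), ∃ W : Over U, CovS S U W ∧
        ∃ t : G.obj.obj (op W.left), π.hom.app (op W.left) t = H.obj.map W.hom.op s := by
    intro G H π hπ U hU s
    obtain ⟨R, a, rfl⟩ := hU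
    exact ab_local_lift π a s
  have hP : ∀ F : BigSite.Ab Scheme.fppfPrecoverage.{u} S,
      CechAcyclic (QuotSh.J Scheme.fppfPrecoverage.{u} S) (CovS S) F →
      ∃ T : ShortComplex (BigSite.Ab Scheme.fppfPrecoverage.{u} S), T.ShortExact ∧ T.X₁ = F ∧
        Injective T.X₂ ∧ CechAcyclic (QuotSh.J Scheme.fppfPrecoverage.{u} S) (CovS S) T.X₃ ∧
        (T.map (BigSite.resZar Scheme.fppfPrecoverage.{u} S)).ShortExact := by
    intro F hF
    obtain ⟨T, hT, h1, hI, hQ, hsurj⟩ := cartan_class_step (QuotSh.J Scheme.fppfPrecoverage.{u} S)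
      (affObjs S) (CovS S) (covS_h1 S) h2 F hF
    exact ⟨T, hT, h1, hI, hQ, shortExact_map_resZar S T hT hsurj⟩
  obtain ⟨e, he⟩ := ExtNat.ext_adj_compare_nat (BigSite.piZarAdj Scheme.fppfPrecoverage.{u} S)
    (injective_resZar_fppf S)
    ((constantSheaf (Opens.grothendieckTopology S) AddCommGrpCat.{u + 1}).obj
      (AddCommGrpCat.of (ULift ℤ)))
    (CechAcyclic (QuotSh.J Scheme.fppfPrecoverage.{u} S) (CovS S)) hP q
  refine ⟨fun F hF => (e F hF).trans (Groth.Agent.Lib.Helper33.BigSiteCoh.extCongrLeftAdd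
    ((piZarPullConstIsoFppf S).app (AddCommGrpCat.of (ULift ℤ))) _ q).symm, ?_⟩
  intro F G hF hG f x
  change (Ext.mk₀ ((piZarPullConstIsoFppf S).app (AddCommGrpCat.of (ULift ℤ))).inv).comp
      (e G hG (x.comp (Ext.mk₀ ((BigSite.resZar Scheme.fppfPrecoverage S).map f)) (add_zero q)))
      (zero_add q) =
    ((Ext.mk₀ ((piZarPullConstIsoFppf S).app (AddCommGrpCat.of (ULift ℤ))).inv).comp
      (e F hF x) (zero_add q)).comp (Ext.mk₀ f) (add_zero q)
  rw [he F G hF hG f x]
  exact (Ext.comp_assoc _ _ _ (zero_add q) (add_zero q) (by omega)).symm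

end ZLinks

namespace FlasqueUp

variable (X : TopCat.{u}) [HasSheafify (Opens.grothendieckTopology X) AddCommGrpCat.{u+1}]
  [(Opens.grothendieckTopology X).WEqualsLocallyBijective AddCommGrpCat.{u+1}]
  [HasExt.{u+1} (ShUp X)] [EnoughInjectives (ShUp X)]

/-- natural version of `H_liftSh_compare` -/
theorem H_liftSh_compare_nat (n : ℕ) :
    ∃ e : ∀ F : ShDn X, (CategoryTheory.Sheaf.H ((liftSh X).obj F) n ≃+
        CategoryTheory.Sheaf.H F n),
      ∀ (F G : ShDn X) (f : F ⟶ G) (x : CategoryTheory.Sheaf.H ((liftSh X).obj F) n),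
        e G (CategoryTheory.Sheaf.H.map ((liftSh X).map f) n x) =
          CategoryTheory.Sheaf.H.map f n (e F x) := by
  refine ExtNat.ext_exact_compare_nat (liftSh X) (ZDn X) (ZUp X) (βLift X)
    (fun f φ => βLift_nat X f φ) (shortExact_map_liftSh X) ?_ n
  intro I hI m
  have h1 : TopCat.Sheaf.IsFlasque (X := X) I := Groth.Agent.Lib.Helper28.ShCoh.isFlasque_of_injective I
  have h2 : TopCat.Presheaf.IsFlasque ((liftSh X).obj I).obj := by
    constructor
    intro U V i
    rw [AddCommGrpCat.epi_iff_surjective]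
    intro s
    have h3 := (AddCommGrpCat.epi_iff_surjective _).1 (h1.epi i)
    obtain ⟨t, ht⟩ := h3 s.down
    exact ⟨ULift.up t, congrArg ULift.up ht⟩
  exact H_subsingleton_of_isFlasque m _ h2

end FlasqueUp

end Groth.Agent.Lib.Helper44
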