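import Groth.Agent.Lib.Helper44.EtGaZarNat
import Groth.Agent.Lib.Helper44.ASKernel

/-! The comparison `H^p(X_ét, G_a) ≃ H^p(X, O_X)` compatible with multiplication by global
functions. -/

set_option autoImplicit false
set_option linter.unusedSectionVars false
universe u
open CategoryTheory CategoryTheory.Limits Opposite AlgebraicGeometry TopologicalSpace Abelian

namespace Groth.Agent.Lib.Helper44

section Scalars
variable (S : Scheme.{u})

/-- the structure sheaf of the big fppf site as an abelian sheaf -/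
noncomputable abbrev OAb : BigSite.Ab Scheme.fppfPrecoverage.{u} S :=
  (BigSite.toAbMod Scheme.fppfPrecoverage S).obj (BigSite.unitMod Scheme.fppfPrecoverage S)

/-- multiplication by a function, on lifted functions -/
def mulHom (T : Scheme.{u}) (b : Γ(T, ⊤)) : ULift.{u+1} Γ(T, ⊤) →+ ULift.{u+1} Γ(T, ⊤) where
  toFun x := ULift.up (b * ULift.down x)
  map_zero' := by
    apply ULift.ext
    change b * 0 = 0
    rw [mul_zero]
  map_add' x y := by
    apply ULift.ext
    change b * (ULift.down x + ULift.down y) = b * ULift.down x + b * ULift.down y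
    rw [mul_add]

/-- multiplication by a global function on the structure sheaf of the big fppf site -/
noncomputable def smulO (a : Γ(S, ⊤)) : OAb S ⟶ OAb S :=
  ⟨{ app := fun U => AddCommGrpCat.ofHom (mulHom U.unop.left (U.unop.hom.appTop.hom a))
     naturality := by
       intro U V g
       ext x
       apply ULift.ext
       obtain ⟨U⟩ := U
       obtain ⟨V⟩ := V
       obtain ⟨g, rfl⟩ : ∃ g' : V ⟶ U, g = g'.op := ⟨g.unop, rfl⟩
       let x' : ULift.{u+1} Γ(U.left, ⊤) := x
       change V.hom.appTop.hom a * g.left.appTop.hom (ULift.down x') =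
         g.left.appTop.hom (U.hom.appTop.hom a * ULift.down x')
       rw [map_mul]
       congr 1
       have h : g.left ≫ U.hom = V.hom := Over.w g
       rw [← h]
       rfl }⟩

/-- multiplication by a global function on `G_a` -/
noncomputable def gaSmul (a : Γ(S, ⊤)) : EtCoh.Ga S ⟶ EtCoh.Ga S :=
  (gaIsoResEt S).hom ≫ (BigSite.resEt Scheme.fppfPrecoverage S).map (smulO S a) ≫
    (gaIsoResEt S).inv

open ASKernel Groth.Agent.Lib.Helper43.MuConst in
theorem unGa_gaSmul (a : Γ(S, ⊤)) {U : S.Etale} (s : (EtCoh.Ga S).obj.obj (op U)) :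
    unGa ((gaSmul S a).hom.app (op U) s) = res S U a * unGa s := by
  rfl

set_option backward.isDefEq.respectTransparency.types false in
/-- compatibility of the multiplications with the identification of the restriction of the
fppf structure sheaf to the Zariski site -/
theorem unitZar_compat [BigSite.ZarCont Scheme.fppfPrecoverage.{u} S]
    [HasSheafify (Opens.grothendieckTopology S.toTopCat) AddCommGrpCat.{u+1}] (a : Coh.Γtop S) :
    (FlasqueUp.liftSh S.toTopCat).map (Coh.smulAb (Coh.structureModule S) a) ≫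
        (unitZarSheafIso S).hom =
      (unitZarSheafIso S).hom ≫
        (BigSite.resZar Scheme.fppfPrecoverage S).map (smulO S (a : Γ(S, ⊤))) := by
  apply CategoryTheory.Sheaf.hom_ext
  apply NatTrans.ext
  funext U
  obtain ⟨U⟩ := U
  ext x
  apply ULift.ext
  let U' : S.Opens := U
  let x' : ULift.{u+1} Γ(S, U') := x
  have h1 : S.presheaf.map (homOfLE (le_top : U' ≤ ⊤)).op ≫ U'.topIso.inv = U'.ι.appTop := by
    rw [Scheme.Opens.topIso_inv, Scheme.Opens.ι_appTop]
    exact (S.presheaf.map_comp _ _).symm.trans (congrArg S.presheaf.map (Subsingleton.elim _ _))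
  change U'.topIso.inv.hom ((S.presheaf.map (homOfLE (le_top : U' ≤ ⊤)).op).hom a * x'.down) =
    U'.ι.appTop.hom a * U'.topIso.inv.hom x'.down
  rw [map_mul, ← h1]
  rfl

end Scalars

set_option backward.isDefEq.respectTransparency.types false in
/-- the comparison between the étale cohomology of `G_a` and the Zariski cohomology of the
structure sheaf, compatible with multiplication by global functions -/
theorem et_Ga_zar_compare_nat (X : Scheme.{u}) (p : ℕ) :
    ∃ e : EtCoh.H X (EtCoh.Ga X) p ≃+ Coh.HH X (Coh.structureModule X) p,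
      ∀ (a : Coh.Γtop X) (x : EtCoh.H X (EtCoh.Ga X) p),
        e (Sheaf.H.map (gaSmul X (a : Γ(X, ⊤))) p x) = a • e x := by
  have hO : CA X (OAb X) := ca_of_adequate X _ (adequateMod_unitMod X)
  obtain ⟨e1, he1⟩ := et_fppf_compare_nat X p
  obtain ⟨e2, he2⟩ := zar_fppf_compare_nat X p
  have h1 : HasSheafify (Opens.grothendieckTopology X.toTopCat) AddCommGrpCat.{u+1} :=
    EtZar.hasSheafifyZar X
  have h2 : (Opens.grothendieckTopology X.toTopCat).WEqualsLocallyBijective
      AddCommGrpCat.{u+1} := wEqualsLocallyBijective_zar_up X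
  have h3 : HasExt.{u+1} (FlasqueUp.ShUp X.toTopCat) :=
    inferInstanceAs (HasExt.{u+1} (EtZar.Ab X))
  have h4 : EnoughInjectives (FlasqueUp.ShUp X.toTopCat) :=
    inferInstanceAs (EnoughInjectives (EtZar.Ab X))
  obtain ⟨e4, he4⟩ := FlasqueUp.H_liftSh_compare_nat X.toTopCat p
  let i1 := Groth.Agent.Lib.Helper33.BigSiteCoh.extCongrRightAdd
    ((constantSheaf X.smallEtaleTopology AddCommGrpCat.{u + 1}).obj
      (AddCommGrpCat.of (ULift ℤ))) (gaIsoResEt X) p
  let i3 := Groth.Agent.Lib.Helper33.BigSiteCoh.extCongrRightAdd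
    ((constantSheaf (Opens.grothendieckTopology X) AddCommGrpCat.{u + 1}).obj
      (AddCommGrpCat.of (ULift ℤ))) (unitZarSheafIso X) p
  refine ⟨(i1.trans (e1 _ hO)).trans ((e2 _ hO).symm.trans (i3.symm.trans
    (e4 (Coh.toAb (Coh.structureModule X))))), ?_⟩
  intro a x
  let g := smulO X (a : Γ(X, ⊤))
  have s1 : i1 (Sheaf.H.map (gaSmul X (a : Γ(X, ⊤))) p x) =
      Sheaf.H.map ((BigSite.resEt Scheme.fppfPrecoverage X).map g) p (i1 x) := by
    change (x.comp (Ext.mk₀ (gaSmul X (a : Γ(X, ⊤)))) (add_zero p)).comp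
        (Ext.mk₀ (gaIsoResEt X).hom) (add_zero p) =
      (x.comp (Ext.mk₀ (gaIsoResEt X).hom) (add_zero p)).comp
        (Ext.mk₀ ((BigSite.resEt Scheme.fppfPrecoverage X).map g)) (add_zero p)
    rw [Ext.comp_assoc_of_third_deg_zero, Ext.comp_assoc_of_third_deg_zero, Ext.mk₀_comp_mk₀,
      Ext.mk₀_comp_mk₀]
    congr 2
  have s3 : ∀ z, (e2 _ hO).symm (Sheaf.H.map g p z) =
      Sheaf.H.map ((BigSite.resZar Scheme.fppfPrecoverage X).map g) p ((e2 _ hO).symm z) := by
    intro z
    rw [AddEquiv.symm_apply_eq, he2 _ _ hO hO g, AddEquiv.apply_symm_apply]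
  have hj : (BigSite.resZar Scheme.fppfPrecoverage X).map g ≫ (unitZarSheafIso X).inv =
      (unitZarSheafIso X).inv ≫
        (FlasqueUp.liftSh X.toTopCat).map (Coh.smulAb (Coh.structureModule X) a) := by
    rw [Iso.comp_inv_eq, Category.assoc, unitZar_compat X a, Iso.inv_hom_id_assoc]
  have s4 : ∀ w, i3.symm (Sheaf.H.map ((BigSite.resZar Scheme.fppfPrecoverage X).map g) p w) =
      Sheaf.H.map ((FlasqueUp.liftSh X.toTopCat).map (Coh.smulAb (Coh.structureModule X) a)) p
        (i3.symm w) := by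
    intro w
    change (w.comp (Ext.mk₀ ((BigSite.resZar Scheme.fppfPrecoverage X).map g)) (add_zero p)).comp
        (Ext.mk₀ (unitZarSheafIso X).inv) (add_zero p) =
      (w.comp (Ext.mk₀ (unitZarSheafIso X).inv) (add_zero p)).comp
        (Ext.mk₀ ((FlasqueUp.liftSh X.toTopCat).map (Coh.smulAb (Coh.structureModule X) a)))
        (add_zero p)
    rw [Ext.comp_assoc_of_third_deg_zero, Ext.comp_assoc_of_third_deg_zero, Ext.mk₀_comp_mk₀,
      Ext.mk₀_comp_mk₀, hj]
  change e4 _ (i3.symm ((e2 _ hO).symm (e1 _ hO (i1 (Sheaf.H.map (gaSmul X (a : Γ(X, ⊤))) p x))))) =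
    Sheaf.H.map (Coh.smulAb (Coh.structureModule X) a) p
      (e4 _ (i3.symm ((e2 _ hO).symm (e1 _ hO (i1 x)))))
  rw [s1, he1 _ _ hO hO g, s3, s4, he4]

end Groth.Agent.Lib.Helper44
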