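import Groth.Agent.Lib.Helper4.EtRestr
import Groth.Agent.Lib.Helper4.AdjConst
import Groth.Prelude.Def_EtCore
import Mathlib.CategoryTheory.Adjunction.Additive
import Mathlib.Algebra.Category.Grp.ForgetCorepresentable

/-!
# Degree-zero formulas for `EtCore.Hpull` along an étale morphism

Minimal-import copy of the relevant part of `Groth.Agent.Lib.Helper4.EtMVData` (by helper4):
* `γ W G : (ℤ_W ⟶ G) ≃+ G(W)`; `γ_pull`: the formula for `H⁰` of `Hpull`;
* `secIso j F : (j⁻¹F)(W) ≃+ F(W → X)` for étale `j`, `secIso_unit`, `secIso_naturality`.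
-/

set_option autoImplicit false
open CategoryTheory CategoryTheory.Limits AlgebraicGeometry Opposite
universe u

namespace Groth.Agent.Lib.Helper44.EtPullSec

open Groth.Agent.Lib.Helper4 Groth.Agent.Lib.Helper4.AdjConst

/-- the object of the small étale site of `X` defined by an étale morphism `j : W ⟶ X` -/
noncomputable abbrev oOf {W X : Scheme.{u}} (j : W ⟶ X) [Etale j] : X.Etale :=
  (EtShriek.compEtale j).obj (EtCoh.top W)

/-- the structure map to the terminal object -/
noncomputable def toTop {W X : Scheme.{u}} (j : W ⟶ X) [Etale j] : oOf j ⟶ EtCoh.top X :=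
  (EtCore.topIsTerminal X).from _

/-- morphisms out of the constant sheaf `ℤ` are global sections -/
noncomputable def γ (W : Scheme.{u}) (G : EtCoh.Ab W) :
    (EtCoh.const W ℤ ⟶ G) ≃+ G.obj.obj (op (EtCoh.top W)) :=
  ((EtCore.constAdj W).homAddEquiv _ G).trans (AddCommGrpCat.uliftZMultiplesAddEquiv _)

lemma γ_apply (W : Scheme.{u}) (G : EtCoh.Ab W) (t : EtCoh.const W ℤ ⟶ G) :
    γ W G t = ((EtCore.constAdj W).homEquiv _ G t) (ULift.up 1) := by
  rfl

lemma γ_naturality (W : Scheme.{u}) {G G' : EtCoh.Ab W} (g : G ⟶ G') (t : EtCoh.const W ℤ ⟶ G) :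
    γ W G' (t ≫ g) = g.hom.app (op (EtCoh.top W)) (γ W G t) := by
  rw [γ_apply, γ_apply, Adjunction.homEquiv_naturality_right]
  rfl

lemma γ_pull {W X : Scheme.{u}} (j : W ⟶ X) (F : EtCoh.Ab X) (f : EtCoh.const X ℤ ⟶ F) :
    γ W ((EtCoh.pull j).obj F) ((EtCore.pullConst j ℤ).inv ≫ (EtCoh.pull j).map f) =
      ((EtCoh.pull j).obj F).obj.map (EtCore.bcTopIso j).inv.op
        (((EtCoh.pullPushAdj j).unit.app F).hom.app (op (EtCoh.top X)) (γ X F f)) := by
  rw [γ_apply, γ_apply]
  have := homEquiv_cIso_inv_comp_map (EtCore.constAdj X) (EtCore.constAdj W) (EtCoh.pullPushAdj j)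
    (EtCore.pushGsecIso j) (AddCommGrpCat.of (ULift.{u + 1} ℤ)) F f
  have h2 := congrArg (fun φ => φ (ULift.up 1)) (congrArg AddCommGrpCat.Hom.hom this)
  exact h2

section Etale

variable {W X : Scheme.{u}} (j : W ⟶ X) [Etale j]

attribute [local instance] EtRestr.jCont

/-- sections of `j⁻¹F` over `W` are sections of `F` over `W ⟶ X` -/
noncomputable def secIso (F : EtCoh.Ab X) :
    ((EtCoh.pull j).obj F).obj.obj (op (EtCoh.top W)) ≃+ F.obj.obj (op (oOf j)) :=
  (((sheafSections _ _).obj (op (EtCoh.top W))).mapIso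
    ((EtRestr.pullIsoRestr j).app F)).addCommGroupIsoToAddEquiv

lemma secIso_apply (F : EtCoh.Ab X) (x : ((EtCoh.pull j).obj F).obj.obj (op (EtCoh.top W))) :
    secIso j F x = ((EtRestr.pullIsoRestr j).hom.app F).hom.app (op (EtCoh.top W)) x := rfl

lemma adjR_unit_app (F : EtCoh.Ab X) (A : X.Etale) (s : F.obj.obj (op A)) :
    ((EtRestr.adjR j).unit.app F).hom.app (op A) s =
      F.obj.map ((EtRestr.adjJ j).counit.app A).op s := by
  rfl

/-- the degree zero pullback map is restriction of sections -/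
lemma secIso_unit (F : EtCoh.Ab X) (s : F.obj.obj (op (EtCoh.top X))) :
    secIso j F (((EtCoh.pull j).obj F).obj.map (EtCore.bcTopIso j).inv.op
      (((EtCoh.pullPushAdj j).unit.app F).hom.app (op (EtCoh.top X)) s)) =
      F.obj.map (toTop j).op s := by
  rw [secIso_apply]
  have nat := congrArg (fun φ => φ (((EtCoh.pullPushAdj j).unit.app F).hom.app (op (EtCoh.top X)) s))
    (congrArg AddCommGrpCat.Hom.hom
      (((EtRestr.pullIsoRestr j).hom.app F).hom.naturality (EtCore.bcTopIso j).inv.op))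
  have hu := Adjunction.unit_leftAdjointUniq_hom_app (EtCoh.pullPushAdj j) (EtRestr.adjR j) F
  have hu' := congrArg (fun φ => φ s) (congrArg AddCommGrpCat.Hom.hom
    (congrArg (fun (τ : F ⟶ _) => τ.hom.app (op (EtCoh.top X))) hu))
  refine nat.trans ?_
  have e : ((EtShriek.compEtale j).map (EtCore.bcTopIso j).inv ≫
      (EtRestr.adjJ j).counit.app (EtCoh.top X)) = toTop j :=
    (EtCore.topIsTerminal X).hom_ext _ _
  rw [← e, op_comp, F.obj.map_comp]
  exact congrArg (fun t => ((EtShriek.restrAlong j).obj F).obj.map (EtCore.bcTopIso j).inv.op t)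
    (hu'.trans (adjR_unit_app j F _ s))

lemma secIso_naturality {F F' : EtCoh.Ab X} (f : F ⟶ F')
    (x : ((EtCoh.pull j).obj F).obj.obj (op (EtCoh.top W))) :
    secIso j F' (((EtCoh.pull j).map f).hom.app (op (EtCoh.top W)) x) =
      f.hom.app (op (oOf j)) (secIso j F x) := by
  rw [secIso_apply, secIso_apply]
  have := congrArg (fun (τ : (EtCoh.pull j).obj F ⟶ _) => τ.hom.app (op (EtCoh.top W)) x)
    ((EtRestr.pullIsoRestr j).hom.naturality f)
  exact this

/-- combined: the section of `F` over `W → X` attached to the pulled back morphism `ℤ_W ⟶ j⁻¹F` -/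
lemma secIso_γ_pull (F : EtCoh.Ab X) (f : EtCoh.const X ℤ ⟶ F) :
    secIso j F (γ W ((EtCoh.pull j).obj F) ((EtCore.pullConst j ℤ).inv ≫ (EtCoh.pull j).map f)) =
      F.obj.map (toTop j).op (γ X F f) := by
  rw [γ_pull, secIso_unit]

end Etale

end Groth.Agent.Lib.Helper44.EtPullSec
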