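import Groth.Agent.Lib.Helper44.GmH90
import Groth.Agent.Lib.Helper44.BigCech4

set_option autoImplicit false
open CategoryTheory CategoryTheory.Limits AlgebraicGeometry Opposite
universe u

namespace Groth.Agent.Lib.Helper44.EtZarOpens

open Groth.Agent.Lib.Helper43 Groth.Agent.Lib.Helper43.EtOpenSub Groth.Agent.Lib.Helper44.GmH90

variable {X : Scheme.{u}}

/-- an open subscheme as an object of the small étale site -/
noncomputable abbrev O (V : X.Opens) : X.Etale := Scheme.Etale.mk V.ι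

lemma hom_O_ext {Z : X.Etale} {V : X.Opens} (a b : Z ⟶ O V) : a = b :=
  (subsingleton_hom_open V Z).elim a b

/-- inclusions of opens -/
noncomputable def Ole {V V' : X.Opens} (h : V ≤ V') : O V ⟶ O V' :=
  MorphismProperty.Over.homMk (A := O V) (B := O V') (X.homOfLE h) (X.homOfLE_ι h)

/-- the structure map to the terminal object -/
noncomputable abbrev toT (Z : X.Etale) : Z ⟶ EtCoh.top X := (EtCore.topIsTerminal X).from Z

/-- a map into an intersection -/
noncomputable def homInf {Z : X.Etale} {V V' : X.Opens} (a : Z ⟶ O V) (b : Z ⟶ O V') :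
    Z ⟶ O (V ⊓ V') :=
  ((nonempty_hom_open_iff (V ⊓ V') Z).2 (fun x hx =>
    ⟨(nonempty_hom_open_iff V Z).1 ⟨a⟩ hx, (nonempty_hom_open_iff V' Z).1 ⟨b⟩ hx⟩)).some

section glue

variable (F : EtCoh.Ab X) {ι : Type*} (U : ι → X.Opens) (hU : iSup U = ⊤)

include hU in
lemma isSheafFor_opens :
    Presieve.IsSheafFor (F.obj ⋙ forget AddCommGrpCat)
      (Presieve.ofArrows (fun i => O (U i)) (fun i => toT (O (U i)))) := by
  have hcov : Sieve.generate (Presieve.ofArrows (fun i => O (U i)) (fun i => toT (O (U i)))) ∈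
      X.smallEtaleTopology (EtCoh.top X) := by
    rw [mem_smallEtaleTopology_iff']
    intro x
    have hx : (x : X) ∈ iSup U := by rw [hU]; trivial
    obtain ⟨i, hi⟩ := TopologicalSpace.Opens.mem_iSup.1 hx
    refine ⟨O (U i), toT _, ⟨x, hi⟩, Sieve.le_generate _ _ _ (Presieve.ofArrows.mk i), ?_⟩
    have := hom_apply (toT (O (U i))) (⟨x, hi⟩ : (O (U i)).left)
    exact this
  have h1 := (Presheaf.isSheaf_iff_isSheaf_forget X.smallEtaleTopology F.obj
    (forget AddCommGrpCat)).1 F.property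
  have h2 := (isSheaf_iff_isSheaf_of_type _ _).1 h1 _ hcov
  exact (Presieve.isSheafFor_iff_generate _).2 h2

include hU in
theorem glue_top (s : ∀ i, F.obj.obj (op (O (U i))))
    (hs : ∀ i j, F.obj.map (Ole (inf_le_left : U i ⊓ U j ≤ U i)).op (s i) =
      F.obj.map (Ole (inf_le_right : U i ⊓ U j ≤ U j)).op (s j)) :
    ∃ t : F.obj.obj (op (EtCoh.top X)), ∀ i, F.obj.map (toT (O (U i))).op t = s i := by
  have h := (Presieve.isSheafFor_arrows_iff _ _).1 (isSheafFor_opens F U hU) s (by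
    intro i j Z gi gj _
    obtain ⟨k, -⟩ : ∃ k, k = homInf gi gj := ⟨_, rfl⟩
    have e1 : gi = k ≫ Ole inf_le_left := hom_O_ext _ _
    have e2 : gj = k ≫ Ole inf_le_right := hom_O_ext _ _
    change F.obj.map gi.op (s i) = F.obj.map gj.op (s j)
    rw [e1, e2, ← map_map, ← map_map, hs])
  obtain ⟨t, ht, -⟩ := h
  exact ⟨t, ht⟩

include hU in
theorem sep_top (t t' : F.obj.obj (op (EtCoh.top X)))
    (h : ∀ i, F.obj.map (toT (O (U i))).op t = F.obj.map (toT (O (U i))).op t') : t = t' := by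
  have hsep := (isSheafFor_opens F U hU).isSeparatedFor
  apply hsep.ext
  intro Y f hf
  obtain ⟨i⟩ := hf
  exact h i

end glue

section cech

open BigCech Lead

variable {ι : Type u} (U : ι → X.Opens)

/-- the family over the terminal object given by the opens -/
noncomputable def Yf (i : ULift.{u + 1} ι) : Over (EtCoh.top X) := Over.mk (toT (O (U i.down)))

/-- projections of the Čech objects -/
noncomputable def pr {n : ℕ} (x : Fin (n + 1) → ULift.{u + 1} ι) (a : Fin (n + 1)) :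
    (gObj (Yf U) x).left ⟶ O (U (x a).down) :=
  (Pi.π (Yf U ∘ x) a).left

/-- maps into the Čech objects -/
noncomputable def lift {n : ℕ} (x : Fin (n + 1) → ULift.{u + 1} ι) {Z : X.Etale}
    (f : ∀ a, Z ⟶ O (U (x a).down)) : Z ⟶ (gObj (Yf U) x).left :=
  (Pi.lift (fun a => (Over.homMk (f a) ((EtCore.topIsTerminal X).hom_ext _ _) :
    Over.mk (toT Z) ⟶ (Yf U ∘ x) a))).left

lemma hom_P_ext {n : ℕ} (x : Fin (n + 1) → ULift.{u + 1} ι) {Z : X.Etale}
    (m m' : Z ⟶ (gObj (Yf U) x).left) : m = m' := by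
  have h : (Over.homMk m ((EtCore.topIsTerminal X).hom_ext _ _) :
      Over.mk (toT Z) ⟶ gObj (Yf U) x) =
      Over.homMk m' ((EtCore.topIsTerminal X).hom_ext _ _) := by
    apply Pi.hom_ext
    intro a
    apply Over.OverMorphism.ext
    exact hom_O_ext _ _
  exact congrArg (fun f => f.left) h

/-- **Čech 1-cocycles of an injective étale sheaf on a Zariski cover are coboundaries.** -/
theorem cech1_of_injective (I : EtCoh.Ab X) [Injective I]
    (g : ∀ i j, I.obj.obj (op (O (U i ⊓ U j))))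
    (hg : ∀ (i j k : ι) (a : O (U i ⊓ U j ⊓ U k) ⟶ O (U i ⊓ U k))
      (b : O (U i ⊓ U j ⊓ U k) ⟶ O (U i ⊓ U j)) (c : O (U i ⊓ U j ⊓ U k) ⟶ O (U j ⊓ U k)),
      I.obj.map a.op (g i k) = I.obj.map b.op (g i j) + I.obj.map c.op (g j k)) :
    ∃ τ : ∀ i, I.obj.obj (op (O (U i))), ∀ i j,
      g i j = I.obj.map (Ole (inf_le_left : U i ⊓ U j ≤ U i)).op (τ i) -
        I.obj.map (Ole (inf_le_right : U i ⊓ U j ≤ U j)).op (τ j) := by
  haveI := injective_presheaf_of_injective_sheaf_site X.smallEtaleTopology I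
  let c : GCochain (Yf U) (sPU I.obj) 1 := fun x =>
    I.obj.map (homInf (pr U x 0) (pr U x 1)).op (g (x 0).down (x 1).down)
  have c_restrict : ∀ (x : Fin 2 → ULift.{u + 1} ι) (i j : ι) (h0 : (x 0).down = i)
      (h1 : (x 1).down = j) {Z : X.Etale} (m : Z ⟶ (gObj (Yf U) x).left)
      (k : Z ⟶ O (U i ⊓ U j)), I.obj.map m.op (c x) = I.obj.map k.op (g i j) := by
    intro x i j h0 h1 Z m k
    subst h0 h1
    change I.obj.map m.op (I.obj.map (homInf (pr U x 0) (pr U x 1)).op _) = _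
    rw [map_map]
    congr 3
    exact congrArg Quiver.Hom.op (hom_O_ext _ _)
  have hc : gCoboundary (Yf U) (sPU I.obj) 1 c = 0 := by
    funext y
    change ∑ i : Fin 3, (-1 : ℤ) ^ (i : ℕ) •
      (I.obj.map (gFace (Yf U) y i).left.op) (c (y ∘ Fin.succAbove i)) = 0
    let m : (gObj (Yf U) y).left ⟶ O (U (y 0).down ⊓ U (y 1).down ⊓ U (y 2).down) :=
      homInf (homInf (pr U y 0) (pr U y 1)) (pr U y 2)
    rw [Fin.sum_univ_three,
      c_restrict (y ∘ Fin.succAbove 0) (y 1).down (y 2).down rfl rfl _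
        (m ≫ Ole (le_inf (inf_le_left.trans inf_le_right) inf_le_right)),
      c_restrict (y ∘ Fin.succAbove 1) (y 0).down (y 2).down rfl rfl _
        (m ≫ Ole (le_inf (inf_le_left.trans inf_le_left) inf_le_right)),
      c_restrict (y ∘ Fin.succAbove 2) (y 0).down (y 1).down rfl rfl _
        (m ≫ Ole inf_le_left),
      ← map_map, ← map_map, ← map_map, hg (y 0).down (y 1).down (y 2).down _ (Ole inf_le_left)
        (Ole (le_inf (inf_le_left.trans inf_le_right) inf_le_right)), map_add]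
    simp
  obtain ⟨b, hb⟩ := sCech_exact_of_injective_presheaf (Yf U) I.obj 0 c hc
  have b_restrict : ∀ (z : Fin 1 → ULift.{u + 1} ι) (i : ι) (h0 : (z 0).down = i)
      {Z : X.Etale} (m : Z ⟶ (gObj (Yf U) z).left)
      (m' : Z ⟶ (gObj (Yf U) (fun _ => (⟨i⟩ : ULift.{u + 1} ι))).left),
      I.obj.map m.op (b z) = I.obj.map m'.op (b (fun _ => ⟨i⟩)) := by
    intro z i h0 Z m m'
    obtain rfl : z = fun _ => ⟨i⟩ := by
      funext a
      obtain rfl : a = 0 := Subsingleton.elim _ _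
      exact ULift.ext _ _ h0
    rw [hom_P_ext U _ m m']
  refine ⟨fun i => - I.obj.map (lift U (fun _ => (⟨i⟩ : ULift.{u + 1} ι)) (fun _ => 𝟙 _)).op
    (b (fun _ => ⟨i⟩)), ?_⟩
  intro i j
  let x : Fin 2 → ULift.{u + 1} ι := ![⟨i⟩, ⟨j⟩]
  let l : O (U i ⊓ U j) ⟶ (gObj (Yf U) x).left := lift U x (fun a =>
    Ole (show U i ⊓ U j ≤ U (x a).down by
      fin_cases a
      · exact inf_le_left
      · exact inf_le_right))
  have h1 := congrArg (fun s => I.obj.map l.op s) (congrFun hb x)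
  change I.obj.map l.op (∑ a : Fin 2, (-1 : ℤ) ^ (a : ℕ) •
      (I.obj.map (gFace (Yf U) x a).left.op) (b (x ∘ Fin.succAbove a))) = I.obj.map l.op (c x) at h1
  have t0 : I.obj.map l.op (I.obj.map (gFace (Yf U) x 0).left.op (b (x ∘ Fin.succAbove 0))) =
      I.obj.map (Ole (inf_le_right : U i ⊓ U j ≤ U j)).op
        (I.obj.map (lift U (fun _ => (⟨j⟩ : ULift.{u + 1} ι)) (fun _ => 𝟙 _)).op (b (fun _ => ⟨j⟩))) :=
    (map_map I l (gFace (Yf U) x 0).left _).trans
      ((b_restrict (x ∘ Fin.succAbove 0) j rfl _ _).trans (map_map I _ _ _).symm)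
  have t1 : I.obj.map l.op (I.obj.map (gFace (Yf U) x 1).left.op (b (x ∘ Fin.succAbove 1))) =
      I.obj.map (Ole (inf_le_left : U i ⊓ U j ≤ U i)).op
        (I.obj.map (lift U (fun _ => (⟨i⟩ : ULift.{u + 1} ι)) (fun _ => 𝟙 _)).op (b (fun _ => ⟨i⟩))) :=
    (map_map I l (gFace (Yf U) x 1).left _).trans
      ((b_restrict (x ∘ Fin.succAbove 1) i rfl _ _).trans (map_map I _ _ _).symm)
  rw [c_restrict x i j rfl rfl l (𝟙 _), Fin.sum_univ_two, map_add, map_zsmul, map_zsmul, t0, t1] at h1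
  simp only [Fin.val_zero, pow_zero, one_smul, Fin.val_one, pow_one, neg_smul] at h1
  have h2 : I.obj.map (𝟙 (O (U i ⊓ U j))).op (g i j) = g i j := by
    rw [op_id, I.obj.map_id]; rfl
  rw [h2] at h1
  rw [← h1, map_neg, map_neg]
  abel

end cech

end Groth.Agent.Lib.Helper44.EtZarOpens
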