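import Groth.Agent.Lib.Helper44.ExtLES

/-! Lifting `n`-th roots of `Ext`-classes along a short exact sequence whose kernel has
uniquely `n`-divisible `Ext` groups. -/

set_option autoImplicit false
universe w v u

open CategoryTheory Abelian Limits

namespace Groth.Agent.Lib.Helper44.ExtDiv

variable {C : Type u} [Category.{v} C] [Abelian C] [HasExt.{w} C]

lemma nsmul_comp {X Y Z : C} {a b c : ℕ} (n : ℕ) (α : Ext X Y a) (β : Ext Y Z b) (h : a + b = c) :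
    (n • α).comp β h = n • α.comp β h :=
  map_nsmul (β.postcomp X h) n α

lemma comp_nsmul {X Y Z : C} {a b c : ℕ} (n : ℕ) (α : Ext X Y a) (β : Ext Y Z b) (h : a + b = c) :
    α.comp (n • β) h = n • α.comp β h :=
  map_nsmul (α.precomp Z h) n β

lemma sub_comp {X Y Z : C} {a b c : ℕ} (α α' : Ext X Y a) (β : Ext Y Z b) (h : a + b = c) :
    (α - α').comp β h = α.comp β h - α'.comp β h :=
  map_sub (β.postcomp X h) α α'

lemma mk₀_nsmul {X Y : C} (n : ℕ) (f : X ⟶ Y) : Ext.mk₀ (n • f) = n • Ext.mk₀ f := by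
  induction n with
  | zero => rw [zero_smul, zero_smul, Ext.mk₀_zero]
  | succ k ih => rw [succ_nsmul, succ_nsmul, Ext.mk₀_add, ih]

/-- composing with `n • 𝟙` is multiplication by `n` -/
lemma comp_mk₀_nsmul_id {X Y : C} {a : ℕ} (n : ℕ) (α : Ext X Y a) :
    α.comp (Ext.mk₀ (n • 𝟙 Y)) (add_zero a) = n • α := by
  rw [mk₀_nsmul, comp_nsmul, Ext.comp_mk₀_id]

/-- if `n • 𝟙` is an isomorphism, multiplication by `n` on `Ext` is bijective -/
lemma nsmul_bijective_of_isIso {X Y : C} (a : ℕ) (n : ℕ) [IsIso (n • 𝟙 Y)] :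
    Function.Bijective (fun α : Ext X Y a => n • α) := by
  constructor
  · intro α β h
    have h1 : α.comp (Ext.mk₀ (n • 𝟙 Y)) (add_zero a) = β.comp (Ext.mk₀ (n • 𝟙 Y)) (add_zero a) := by
      rw [comp_mk₀_nsmul_id, comp_mk₀_nsmul_id]; exact h
    have h2 := congrArg (fun γ => γ.comp (Ext.mk₀ (inv (n • 𝟙 Y))) (add_zero a)) h1
    simp only [Ext.comp_assoc_of_third_deg_zero, Ext.mk₀_comp_mk₀, IsIso.hom_inv_id,
      Ext.comp_mk₀_id] at h2
    exact h2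
  · intro β
    refine ⟨β.comp (Ext.mk₀ (inv (n • 𝟙 Y))) (add_zero a), ?_⟩
    change n • _ = β
    rw [← comp_mk₀_nsmul_id, Ext.comp_assoc_of_third_deg_zero, Ext.mk₀_comp_mk₀, IsIso.inv_hom_id,
      Ext.comp_mk₀_id]

variable {S : ShortComplex C} (hS : S.ShortExact) (Z : C) (n : ℕ)

include hS in
/-- roots of classes lift along `S.g` when `Ext(Z, S.X₁, ·)` is suitably `n`-divisible -/
theorem exists_root_lift
    (hsurj : ∀ p : Ext Z S.X₁ 1, ∃ p' : Ext Z S.X₁ 1, n • p' = p)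
    (hinj : ∀ z : Ext Z S.X₁ 2, n • z = 0 → z = 0)
    (l : Ext Z S.X₂ 1) (c : Ext Z S.X₃ 1)
    (h : n • c = l.comp (Ext.mk₀ S.g) (add_zero 1)) :
    ∃ m : Ext Z S.X₂ 1, n • m = l ∧ m.comp (Ext.mk₀ S.g) (add_zero 1) = c := by
  -- the obstruction vanishes
  have h1 : n • c.comp hS.extClass (rfl : 1 + 1 = 2) = 0 := by
    rw [← nsmul_comp, h, Ext.comp_assoc_of_second_deg_zero, hS.comp_extClass, Ext.comp_zero]
  have h2 : c.comp hS.extClass (rfl : 1 + 1 = 2) = 0 := hinj _ h1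
  obtain ⟨m₁, hm₁⟩ := (ExtLES.comp_extClass_eq_zero_iff hS Z c).1 h2
  -- correct the lift
  have h3 : (n • m₁ - l).comp (Ext.mk₀ S.g) (add_zero 1) = 0 := by
    rw [sub_comp, nsmul_comp, hm₁, h, sub_self]
  obtain ⟨p, hp⟩ := (ExtLES.comp_g_eq_zero_iff hS Z _).1 h3
  obtain ⟨p', rfl⟩ := hsurj p
  refine ⟨m₁ - p'.comp (Ext.mk₀ S.f) (add_zero 1), ?_, ?_⟩
  · rw [smul_sub, ← nsmul_comp, hp]
    abel
  · rw [sub_comp, hm₁, Ext.comp_assoc_of_third_deg_zero, Ext.mk₀_comp_mk₀, S.zero,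
      Ext.mk₀_zero, Ext.comp_zero, sub_zero]

end Groth.Agent.Lib.Helper44.ExtDiv
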