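import Mathlib.Algebra.Homology.DerivedCategory.Ext.ExactSequences

/-!
# The covariant long exact `Ext` sequence in `iff` form
-/

set_option autoImplicit false
open CategoryTheory CategoryTheory.Limits Abelian
universe w v u

namespace Groth.Agent.Lib.Helper44.ExtLES

variable {C : Type u} [Category.{v} C] [Abelian C] [HasExt.{w} C]
  {S : ShortComplex C} (hS : S.ShortExact) (Z : C)

include hS in
lemma comp_f_eq_zero_iff {n : ℕ} (x : Ext Z S.X₁ (n + 1)) :
    x.comp (Ext.mk₀ S.f) (add_zero (n + 1)) = 0 ↔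
      ∃ z : Ext Z S.X₃ n, z.comp hS.extClass rfl = x := by
  constructor
  · intro h
    exact Ext.covariant_sequence_exact₁ Z hS x h rfl
  · rintro ⟨z, rfl⟩
    rw [Ext.comp_assoc_of_third_deg_zero, hS.extClass_comp, Ext.comp_zero]

include hS in
lemma comp_g_eq_zero_iff {n : ℕ} (y : Ext Z S.X₂ n) :
    y.comp (Ext.mk₀ S.g) (add_zero n) = 0 ↔
      ∃ x : Ext Z S.X₁ n, x.comp (Ext.mk₀ S.f) (add_zero n) = y := by
  constructor
  · intro h
    exact Ext.covariant_sequence_exact₂ Z hS y h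
  · rintro ⟨x, rfl⟩
    rw [Ext.comp_assoc_of_third_deg_zero, Ext.mk₀_comp_mk₀, S.zero, Ext.mk₀_zero, Ext.comp_zero]

include hS in
lemma comp_extClass_eq_zero_iff {n : ℕ} (z : Ext Z S.X₃ n) :
    z.comp hS.extClass (rfl : n + 1 = n + 1) = 0 ↔
      ∃ y : Ext Z S.X₂ n, y.comp (Ext.mk₀ S.g) (add_zero n) = z := by
  constructor
  · intro h
    exact Ext.covariant_sequence_exact₃ Z hS z rfl h
  · rintro ⟨y, rfl⟩
    rw [Ext.comp_assoc_of_second_deg_zero, hS.comp_extClass, Ext.comp_zero]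

include hS in
lemma comp_f_injective (x x' : Ext Z S.X₁ 0)
    (h : x.comp (Ext.mk₀ S.f) (add_zero 0) = x'.comp (Ext.mk₀ S.f) (add_zero 0)) : x = x' := by
  haveI := hS.mono_f
  exact Ext.postcomp_mk₀_injective_of_mono Z S.f h

end Groth.Agent.Lib.Helper44.ExtLES
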