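import Mathlib
import Groth.Agent.Lib.Lead.FreeSheaf

/-! Flasque sheaves of abelian groups one universe above the space: port of
`Mathlib.Topology.Sheaves.Flasque` (which is stated for sheaves valued in the universe of the
space), injective sheaves are flasque, and flasque sheaves are acyclic. -/

set_option autoImplicit false
set_option linter.unusedSectionVars false
universe u
open TopCat TopologicalSpace Opposite CategoryTheory Presheaf Limits
open scoped AlgebraicGeometry

namespace Groth.Agent.Lib.Helper44.FlasqueUp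

variable {X : TopCat.{u}} [HasSheafify (Opens.grothendieckTopology X) AddCommGrpCat.{u+1}]
  [(Opens.grothendieckTopology X).WEqualsLocallyBijective AddCommGrpCat.{u+1}]

open TopCat.Sheaf TopCat.Presheaf

set_option backward.isDefEq.respectTransparency false in
theorem presheaf_sections_exact_of_exact {U : Opens X}
    {S : ShortComplex (TopCat.Presheaf AddCommGrpCat.{u+1} X)}
    (hS : S.Exact) {s : S.X₂.obj (Opposite.op U)} (h : S.g.app (Opposite.op U) s = 0) :
    ∃ (t : S.X₁.obj (Opposite.op U)), S.f.app (Opposite.op U) t = s := by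
  dsimp [TopCat.Presheaf] at S
  let F := (evaluation (Opens X)ᵒᵖ AddCommGrpCat.{u+1}).obj (Opposite.op U)
  exact (ShortComplex.ab_exact_iff (S.map F)).mp (((Functor.exact_tfae F).out 1 3 rfl rfl).mpr
    ⟨inferInstance, inferInstance⟩ S hS) _ h

lemma sheaf_sections_exact_of_left_exact {U : Opens X}
    {S : ShortComplex (TopCat.Sheaf AddCommGrpCat.{u+1} X)}
    (hS : S.Exact) (hf : Mono S.f) (s : S.X₂.obj.obj (Opposite.op U))
    (h : S.g.hom.app (Opposite.op U) s = 0) :
    ∃ (t : S.X₁.obj.obj (Opposite.op U)), S.f.hom.app (Opposite.op U) t = s :=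
  by
  have hpl : PreservesFiniteLimits (sheafToPresheaf (Opens.grothendieckTopology X) AddCommGrpCat.{u+1}) := by
    have : PreservesLimitsOfSize.{0, 0}
        (sheafToPresheaf (Opens.grothendieckTopology X) AddCommGrpCat.{u+1}) :=
      (sheafificationAdjunction (Opens.grothendieckTopology X)
        AddCommGrpCat.{u+1}).rightAdjoint_preservesLimits
    exact PreservesLimitsOfSize.preservesFiniteLimits _
  exact presheaf_sections_exact_of_exact
    (((Functor.preservesFiniteLimits_tfae (sheafToPresheaf (Opens.grothendieckTopology X)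
      AddCommGrpCat.{u+1})).out 1 3 rfl rfl).mpr hpl S ⟨hS, hf⟩).left h

lemma presheaf_restrict_sum {U V : Opens X} {F : TopCat.Presheaf AddCommGrpCat.{u+1} X} (h : V ≤ U)
    (s t : F.obj (op U)) : (s + t) |_ V = s |_ V + t |_ V := by
  delta TopCat.Presheaf.restrictOpen TopCat.Presheaf.restrict
  cat_disch


variable {U : Opens X} {F G : Sheaf AddCommGrpCat.{u+1} X} (g : F ⟶ G) (s : G.obj.obj (op U))

/-- Given a morphism of sheaves `g: F ⟶ G` and a section `s` of `G(U)`, `Under g s` is comprised of
an open `V` and a section of `F(V)` that maps to `s |_ V` via `g`. -/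
abbrev Under := StructuredArrow ⟨op U, s⟩ (Functor.whiskerRight g.hom
  (CategoryTheory.forget AddCommGrpCat.{u+1})).mapElements

set_option backward.isDefEq.respectTransparency.types false in
/- The next lemma proves that the relation `fun x y ↦ Nonempty (y ⟶ x)` on `Under g s`
satisfies the requirements for applying Zorn's lemma -/
lemma structured_arrows_elements_sheaf_chains_bounded (c : Set (Under g s))
    (h : IsChain (fun x y ↦ Nonempty (y ⟶ x)) c) : ∃ ub, ∀ a ∈ c, Nonempty (ub ⟶ a) := by
  let f : c → (Opens X) := fun x => x.1.right.1.unop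
  obtain ⟨t, ht, _⟩ : ∃! s_1, IsGluing F.obj f (fun x => x.val.right.2) s_1 := by
    refine Sheaf.existsUnique_gluing F _ _ (fun i j ↦ ?_)
    obtain (rfl | h₁ | h₁) : i = j ∨ Nonempty (i.val ⟶ j.val) ∨ Nonempty (j.val ⟶ i.val) := by
      grind [Subtype.ext_iff, h i.property j.property]
    · rfl
    all_goals
      rw [← CategoryOfElements.map_snd h₁.some.2]
      dsimp
      rw [← Functor.map_comp_apply]
      rfl
  have le₁ : iSup f ≤ U := iSup_le <| fun j => leOfHom j.1.hom.1.unop
  have le₂ : ∀ i, i ∈ c → unop i.right.1 ≤ iSup f := fun i hi ↦ le_iSup f ⟨i, hi⟩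
  use StructuredArrow.mk (CategoryOfElements.homMk _ _ (homOfLE le₁).op (eq_app_of_locally_eq ht
      (fun i ↦ leOfHom i.1.hom.1.unop) (fun i ↦ (CategoryOfElements.map_snd i.1.hom).symm)).symm :
      ⟨op U, s⟩ ⟶ (Functor.whiskerRight g.hom
      (CategoryTheory.forget AddCommGrpCat)).mapElements.obj ⟨op (iSup f), t⟩)
  exact fun i hi => Nonempty.intro (StructuredArrow.homMk (CategoryOfElements.homMk _ _
    (homOfLE (le₂ i hi)).op (ht ⟨i, hi⟩)) (by cat_disch))

set_option backward.isDefEq.respectTransparency false in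
/-- Given a short exact sequence of sheaves, `0 ⟶ 𝓕 ⟶ 𝓖 ⟶ 𝓗 ⟶ 0`, if `𝓕` is flasque then
`𝓖(U) ⟶ 𝓗(U)` is surjective, for any open `U`. -/
theorem epi_of_shortExact {S : ShortComplex (Sheaf AddCommGrpCat.{u+1} X)} (hS : S.ShortExact)
    [IsFlasque S.X₁] : Epi (S.g.1.app (op U)) := by
  refine (AddCommGrpCat.epi_iff_surjective _).mpr (fun s ↦ ?_)
  -- We want to find a preimage of `s` by `S.g`.
  -- We apply Zorn's lemma to obtain a term `t` of `Under S.g s` that is maximal.
  obtain ⟨t, ht⟩ := exists_maximal_of_chains_bounded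
    (structured_arrows_elements_sheaf_chains_bounded S.g s)
    (fun ⟨f⟩ ⟨g⟩ ↦ ⟨g ≫ f⟩)
  have tle : t.right.1.unop ≤ U := leOfHom t.hom.1.unop
  have tcomp : s |_ t.right.1.unop = S.g.hom.app t.right.1 t.right.2 :=
      CategoryOfElements.map_snd t.hom
  -- We get a section `t.right.2` of `S.g` defined on an open subset `t.right.1.unop` of `U`,
  -- that is sent to the restriction of `s` by `S.g`.
  have : U ≤ t.right.1.unop := by
  -- Prove that the set of definition of `t.right.2` contains `U`.
    intro x hx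
    have hls : CategoryTheory.Sheaf.IsLocallySurjective S.g :=
      (CategoryTheory.Sheaf.isLocallySurjective_iff_epi' (φ := S.g)).2 hS.epi_g
    obtain ⟨W, i, ⟨t₁, ht₁'⟩, hW⟩ := hls.imageSieve_mem s x hx
    have Wle : W ≤ U := leOfHom i
    have ht₁ : (S.g.hom.app (op W)) t₁ = s |_ W := ht₁'
    --`t.right.2` and `t₁` need not agree on their overlap so we need to deal with their
    -- difference `t₂`
    let t₂ := t.right.2 |_ (t.right.1.unop ⊓ W) - t₁ |_ (t.right.1.unop ⊓ W)
    have : (S.g.hom.app (op (t.right.1.unop ⊓ W))) t₂ = 0 := by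
      simp [map_restrict, ← tcomp, restrict_restrict, ht₁, t₂]
    -- Since `S` is exact and `t₂` maps to zero, we can lift it to a section `t₃` of `S.X₁`
    obtain ⟨t₃, ht₃⟩ := sheaf_sections_exact_of_left_exact hS.1 hS.2 t₂ this
    -- Using that `S.X₁` is flasque, we can lift `t₃` to a section on `W`.
    obtain ⟨t₄, (ht₄ : t₄ |_ (t.right.1.unop ⊓ W) = t₃)⟩ := (AddCommGrpCat.epi_iff_surjective
      (S.X₁.obj.map (homOfLE inf_le_right).op)).mp (TopCat.Presheaf.IsFlasque.epi _) t₃
    let f : Fin 2 → Opens X := ![t.right.1.unop, W]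
    let sf : (i : Fin 2) → S.X₂.obj.obj (op (f i))
    | 0 => t.right.2
    | 1 => t₁ + (S.f.hom.app (op W)) t₄
    have : sf 0 |_ (t.right.1.unop ⊓ W) = sf 1 |_ (t.right.1.unop ⊓ W) := by
      dsimp [sf, f]
      simp only [presheaf_restrict_sum, ← map_restrict, ht₄, ht₃, t₂, add_sub_cancel]
    -- We glue `t.right.2` and `t₁ + (S.f.hom.app (op W)) t₄` together to form `t₅`
    obtain ⟨t₅, ht₅, _⟩ : ∃! t₅, IsGluing S.X₂.obj f sf t₅ := by
      apply Sheaf.existsUnique_gluing
      simp only [IsCompatible, Fin.forall_fin_two]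
      refine ⟨⟨rfl, this⟩, Eq.symm ?_, rfl⟩
      apply_fun (fun s ↦ restrictOpen s (W ⊓ t.right.1.unop) (le_of_eq (inf_comm _ _))) at this
      rw [restrict_restrict, restrict_restrict] at this
      exact this
    have le : iSup f ≤ U := iSup_le_iff.mpr (Fin.forall_fin_two.mpr ⟨tle, Wle⟩)
    -- We upgrade `t₅` to an object in `Under S.g s` that is defined on `t.right.1.unop ⊔ W`.
    let t₆ : Under S.g s :=
      StructuredArrow.mk (S := ⟨op U, s⟩)
        (T := (Functor.whiskerRight S.g.hom (CategoryTheory.forget AddCommGrpCat)).mapElements)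
        (Y := ⟨op (iSup f), t₅⟩) <| CategoryOfElements.homMk _ _ (homOfLE le).op (by
          refine (eq_app_of_locally_eq ht₅ (by rw [Fin.forall_fin_two]; exact ⟨tle, Wle⟩) ?_).symm
          rw [Fin.forall_fin_two]
          refine ⟨tcomp.symm, ?_⟩
          simp only [Fin.isValue, map_add, homOfLE_leOfHom, sf, f]
          have : (S.f.hom.app (op W) ≫ S.g.hom.app (op W)) = 0 := by
            rw [← NatTrans.comp_app, ← ObjectProperty.FullSubcategory.comp_hom, S.zero]
            rfl
          simp [← CategoryTheory.comp_apply, this, ht₁]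
          rfl)
    -- We prove that `t₆` is bigger than `t` for the preorder used on `Under S.g s`.
    have : Nonempty (t₆ ⟶ t) := Nonempty.intro (StructuredArrow.homMk (CategoryOfElements.homMk _ _
      (homOfLE (le_iSup f 0)).op (ht₅ 0)) (by cat_disch))
    exact leOfHom ((ht t₆) this).some.right.1.unop ((le_iSup f 1) hW)
  exact ⟨t.right.2 |_ U, by simp [map_restrict, ← tcomp, restrict_restrict]⟩

set_option backward.isDefEq.respectTransparency.types false in
/-- Given a short exact sequence of sheaves, `0 ⟶ 𝓕 ⟶ 𝓖 ⟶ 𝓗 ⟶ 0`, if `𝓕` and `𝓖` are flasque,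
then `𝓗` is flasque. -/
theorem of_shortExact_of_isFlasque₁₂ {S : ShortComplex (Sheaf AddCommGrpCat.{u+1} X)}
    (hS : S.ShortExact) [IsFlasque S.X₁] [IsFlasque S.X₂] : IsFlasque S.X₃ where
  epi {U V} i := by
    have : Epi (S.g.1.app U ≫ S.X₃.obj.map i) := by
      rw [← S.g.hom.naturality i]
      exact CategoryTheory.epi_comp' (TopCat.Presheaf.IsFlasque.epi _) (epi_of_shortExact hS)
    exact CategoryTheory.epi_of_epi (S.g.1.app U) (S.X₃.obj.map i)



section Free

/-- abelian sheaves one universe up -/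
abbrev ShUp (X : TopCat.{u}) : Type (u + 2) :=
  CategoryTheory.Sheaf (Opens.grothendieckTopology X) AddCommGrpCat.{u+1}

/-- the adjunction between presheaves of sets and abelian sheaves -/
noncomputable def freeAdjUp :
    (Functor.whiskeringRight (Opens X)ᵒᵖ _ _).obj AddCommGrpCat.free.{u+1} ⋙
      presheafToSheaf (Opens.grothendieckTopology X) AddCommGrpCat.{u+1} ⊣
      sheafToPresheaf (Opens.grothendieckTopology X) AddCommGrpCat.{u+1} ⋙
        (Functor.whiskeringRight (Opens X)ᵒᵖ _ _).obj (forget AddCommGrpCat.{u+1}) :=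
  (Adjunction.whiskerRight (Opens X)ᵒᵖ AddCommGrpCat.adj).comp
    (sheafificationAdjunction (Opens.grothendieckTopology X) AddCommGrpCat.{u+1})

/-- the free abelian sheaf on an open subset -/
noncomputable abbrev freeSheafUp (V : Opens X) : ShUp X :=
  (presheafToSheaf (Opens.grothendieckTopology X) AddCommGrpCat.{u+1}).obj
    (uliftYoneda.{u+1}.obj V ⋙ AddCommGrpCat.free.{u+1})

/-- morphisms from the free sheaf on `V` are sections over `V` -/
noncomputable def βUp (V : Opens X) (F : ShUp X) :
    (freeSheafUp V ⟶ F) ≃ F.obj.obj (op V) :=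
  (freeAdjUp.homEquiv (uliftYoneda.{u+1}.obj V) F).trans uliftYonedaEquiv.{u+1}

lemma βUp_apply (V : Opens X) (F : ShUp X) (g : freeSheafUp V ⟶ F) :
    βUp V F g = uliftYonedaEquiv.{u+1} (freeAdjUp.homEquiv (uliftYoneda.{u+1}.obj V) F g) := rfl

lemma βUp_naturality (V : Opens X) {F G : ShUp X} (f : F ⟶ G)
    (g : freeSheafUp V ⟶ F) :
    βUp V G (g ≫ f) = f.hom.app (op V) (βUp V F g) := by
  rw [βUp_apply, βUp_apply, Adjunction.homEquiv_naturality_right, uliftYonedaEquiv_comp]
  rfl

/-- the map of free abelian sheaves induced by an inclusion of opens -/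
noncomputable def freeMapUp {V U : Opens X} (h : V ≤ U) : freeSheafUp V ⟶ freeSheafUp U :=
  (presheafToSheaf (Opens.grothendieckTopology X) AddCommGrpCat.{u+1}).map
    (Functor.whiskerRight (uliftYoneda.{u+1}.map (homOfLE h)) AddCommGrpCat.free.{u+1})

lemma βUp_freeMap {V U : Opens X} (h : V ≤ U) (F : ShUp X)
    (g : freeSheafUp U ⟶ F) :
    βUp V F (freeMapUp h ≫ g) = F.obj.map (homOfLE h).op (βUp U F g) := by
  rw [βUp_apply, βUp_apply]
  have := freeAdjUp.homEquiv_naturality_left (uliftYoneda.{u+1}.map (homOfLE h)) g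
  dsimp only [Functor.comp_map, Functor.whiskeringRight_obj_map] at this
  have h2 : freeMapUp h ≫ g = (presheafToSheaf (Opens.grothendieckTopology X)
      AddCommGrpCat.{u+1}).map (Functor.whiskerRight (uliftYoneda.{u+1}.map (homOfLE h))
        AddCommGrpCat.free.{u+1}) ≫ g := rfl
  rw [h2, this]
  exact (uliftYonedaEquiv_naturality.{u+1} (F := F.obj ⋙ forget AddCommGrpCat.{u+1})
    (freeAdjUp.homEquiv (uliftYoneda.{u+1}.obj U) F g) (homOfLE h).op).symm

instance mono_freeMapUp {V U : Opens X} (h : V ≤ U) : Mono (freeMapUp h) := by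
  have h1 : Mono (Functor.whiskerRight (uliftYoneda.{u+1}.map (homOfLE h))
      AddCommGrpCat.free.{u+1}) := by
    have : ∀ W : (Opens X)ᵒᵖ, Mono ((Functor.whiskerRight (uliftYoneda.{u+1}.map (homOfLE h))
        AddCommGrpCat.free.{u+1}).app W) := by
      intro W
      dsimp only [Functor.whiskerRight_app]
      have : Mono ((uliftYoneda.{u+1}.map (homOfLE h)).app W) := by
        rw [CategoryTheory.mono_iff_injective]
        intro a b _
        apply ULift.ext
        exact Subsingleton.elim (α := (W.unop ⟶ V)) _ _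
      infer_instance
    exact NatTrans.mono_of_mono_app _
  exact (presheafToSheaf (Opens.grothendieckTopology X) AddCommGrpCat.{u+1}).map_mono _

/-- An injective abelian sheaf is flasque. -/
theorem isFlasque_of_injective_up (F : ShUp X) [Injective F] :
    TopCat.Presheaf.IsFlasque F.obj := by
  constructor
  intro U V i
  rw [AddCommGrpCat.epi_iff_surjective]
  intro s
  have hVU : V.unop ≤ U.unop := leOfHom i.unop
  let g : freeSheafUp V.unop ⟶ F := (βUp V.unop F).symm s
  refine ⟨βUp U.unop F (Injective.factorThru g (freeMapUp hVU)), ?_⟩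
  have h1 := βUp_freeMap hVU F (Injective.factorThru g (freeMapUp hVU))
  rw [Injective.comp_factorThru] at h1
  have h2 : i = (homOfLE hVU).op := Subsingleton.elim _ _
  rw [h2, ← h1]
  exact Equiv.apply_symm_apply _ _

end Free

section Acyclic

variable [HasExt.{u+1} (ShUp X)] [EnoughInjectives (ShUp X)]

lemma zab_comp_apply {G G' : AddCommGrpCat.{u+1}} (a : AddCommGrpCat.of (ULift.{u+1} ℤ) ⟶ G)
    (f : G ⟶ G') :
    AddCommGrpCat.uliftZMultiplesAddEquiv G' (a ≫ f) =
      f (AddCommGrpCat.uliftZMultiplesAddEquiv G a) := rfl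

/-- morphisms from the constant sheaf `ℤ` lift along morphisms which are surjective on global
sections -/
theorem const_lift {G H : ShUp X} (g : G ⟶ H)
    (hg : Function.Surjective (g.hom.app (op (⊤ : Opens X))))
    (ψ : (constantSheaf (Opens.grothendieckTopology X) AddCommGrpCat.{u+1}).obj
      (AddCommGrpCat.of (ULift ℤ)) ⟶ H) :
    ∃ ψ' : (constantSheaf (Opens.grothendieckTopology X) AddCommGrpCat.{u+1}).obj
      (AddCommGrpCat.of (ULift ℤ)) ⟶ G, ψ' ≫ g = ψ := by
  let adj := constantSheafAdj (Opens.grothendieckTopology X) AddCommGrpCat.{u+1}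
    (isTerminalTop (α := Opens X))
  let a := adj.homEquiv (AddCommGrpCat.of (ULift ℤ)) H ψ
  obtain ⟨y, hy⟩ := hg (AddCommGrpCat.uliftZMultiplesAddEquiv _ a)
  let b : AddCommGrpCat.of (ULift.{u+1} ℤ) ⟶ G.obj.obj (op (⊤ : Opens X)) :=
    (AddCommGrpCat.uliftZMultiplesAddEquiv _).symm y
  have hb : b ≫ g.hom.app (op (⊤ : Opens X)) = a := by
    apply (AddCommGrpCat.uliftZMultiplesAddEquiv _).injective
    rw [zab_comp_apply, AddEquiv.apply_symm_apply]
    exact hy
  refine ⟨(adj.homEquiv (AddCommGrpCat.of (ULift ℤ)) G).symm b, ?_⟩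
  apply (adj.homEquiv (AddCommGrpCat.of (ULift ℤ)) H).injective
  rw [Adjunction.homEquiv_naturality_right, Equiv.apply_symm_apply]
  exact hb

/-- flasque sheaves are acyclic for global sections -/
theorem H_subsingleton_of_isFlasque (n : ℕ) (G : ShUp X)
    (hG : TopCat.Presheaf.IsFlasque G.obj) :
    Subsingleton (CategoryTheory.Sheaf.H G (n + 1)) := by
  have key := Groth.Agent.Lib.Lead.ext_succ_eq_zero
    ((constantSheaf (Opens.grothendieckTopology X) AddCommGrpCat.{u+1}).obj
      (AddCommGrpCat.of (ULift ℤ)))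
    (fun G : ShUp X => TopCat.Presheaf.IsFlasque G.obj) (fun G hG => by
      let S : ShortComplex (ShUp X) :=
        ShortComplex.mk (Injective.ι G) (cokernel.π (Injective.ι G)) (cokernel.condition _)
      have hS : S.ShortExact :=
        { exact := ShortComplex.exact_of_g_is_cokernel _ (cokernelIsCokernel S.f) }
      have hI : Injective S.X₂ := inferInstanceAs (Injective (Injective.under G))
      have h1 : TopCat.Sheaf.IsFlasque (X := X) S.X₁ := hG
      have h2 : TopCat.Sheaf.IsFlasque (X := X) S.X₂ := isFlasque_of_injective_up S.X₂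
      have h3 : TopCat.Sheaf.IsFlasque (X := X) S.X₃ := of_shortExact_of_isFlasque₁₂ hS
      refine ⟨S, hS, rfl, hI, h3, fun ψ => ?_⟩
      have hepi := epi_of_shortExact (U := (⊤ : Opens X)) hS
      rw [AddCommGrpCat.epi_iff_surjective] at hepi
      exact const_lift S.g hepi ψ) n G hG
  exact subsingleton_of_forall_eq 0 key

end Acyclic

end Groth.Agent.Lib.Helper44.FlasqueUp
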