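import Mathlib.RingTheory.Flat.Basic
import Mathlib.RingTheory.LocalRing.MaximalIdeal.Basic
import Mathlib.RingTheory.Ideal.Maps

set_option autoImplicit false
open TensorProduct

namespace Groth.Agent.Lib.Helper44.FlatAnn

/-- in a local ring, the annihilator of a nonzero element killed by the maximal ideal is the
maximal ideal -/
theorem mul_eq_zero_iff_mem_maximalIdeal {A : Type*} [CommRing A] [IsLocalRing A] (t : A)
    (ht0 : t ≠ 0) (hmt : ∀ x ∈ IsLocalRing.maximalIdeal A, x * t = 0) (a : A) :
    a * t = 0 ↔ a ∈ IsLocalRing.maximalIdeal A := by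
  constructor
  · intro h
    by_contra hn
    have hu : IsUnit a := by
      by_contra hu
      exact hn ((IsLocalRing.mem_maximalIdeal a).2 hu)
    exact ht0 ((hu.mul_right_eq_zero).1 h)
  · exact hmt a

/-- flat base change of an annihilator: if `B` is flat over `A` and the annihilator of `t` in `A`
is `J`, then the annihilator of `t` in `B` is `J B` -/
theorem mul_eq_zero_iff_of_flat {A B : Type*} [CommRing A] [CommRing B] [Algebra A B]
    [Module.Flat A B] (t : A) (J : Ideal A) (hJ : ∀ a : A, a * t = 0 ↔ a ∈ J) (b : B) :
    algebraMap A B t * b = 0 ↔ b ∈ Ideal.map (algebraMap A B) J := by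
  constructor
  · intro hb
    -- multiplication by `t` on `A`
    let g : A →ₗ[A] A := LinearMap.mulRight A t
    have hker : LinearMap.ker g = J.restrictScalars A := by
      ext a
      simp only [LinearMap.mem_ker, g, LinearMap.mulRight_apply, Submodule.restrictScalars_mem]
      exact hJ a
    have hex : Function.Exact (J.subtype : J →ₗ[A] A) g := by
      rw [LinearMap.exact_iff]
      ext a
      simp only [LinearMap.mem_ker, g, LinearMap.mulRight_apply, LinearMap.mem_range,
        Submodule.coe_subtype, Subtype.exists, exists_prop, exists_eq_right]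
      exact hJ a
    have hex' := Module.Flat.lTensor_exact B hex
    have h1 : (g.lTensor B) (b ⊗ₜ[A] (1 : A)) = 0 := by
      rw [LinearMap.lTensor_tmul]
      simp only [g, LinearMap.mulRight_apply, one_mul]
      have : b ⊗ₜ[A] t = (algebraMap A B t * b) ⊗ₜ[A] (1 : A) := by
        rw [← Algebra.smul_def, TensorProduct.smul_tmul, smul_eq_mul, mul_one]
      rw [this, hb, TensorProduct.zero_tmul]
    obtain ⟨z, hz⟩ := (hex' (b ⊗ₜ[A] (1 : A))).1 h1
    -- apply the multiplication map `B ⊗ A → B`
    have h2 := congrArg (TensorProduct.rid A B) hz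
    rw [TensorProduct.rid_tmul, one_smul] at h2
    rw [← h2]
    clear hz h2 h1
    induction z using TensorProduct.induction_on with
    | zero => simp
    | tmul x y =>
      rw [LinearMap.lTensor_tmul, Submodule.coe_subtype, TensorProduct.rid_tmul,
        Algebra.smul_def]
      exact Ideal.mul_mem_right _ _ (Ideal.mem_map_of_mem _ y.2)
    | add x y hx hy =>
      rw [map_add, map_add]
      exact Ideal.add_mem _ hx hy
  · intro hb
    refine Submodule.span_induction ?_ ?_ ?_ ?_ hb
    · rintro _ ⟨a, ha, rfl⟩
      rw [← map_mul, mul_comm, (hJ a).2 ha, map_zero]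
    · rw [mul_zero]
    · intro x y _ _ hx hy
      rw [mul_add, hx, hy, add_zero]
    · intro c x _ hx
      rw [smul_eq_mul, mul_left_comm, hx, mul_zero]

end Groth.Agent.Lib.Helper44.FlatAnn
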