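import Groth.Agent.Lib.Helper18.IdealComap
import Mathlib.AlgebraicGeometry.Morphisms.ClosedImmersion
import Mathlib.AlgebraicGeometry.Morphisms.Flat
import Groth.Agent.Lib.Helper44.FlatAnn

set_option autoImplicit false
universe u
open CategoryTheory CategoryTheory.Limits AlgebraicGeometry Opposite

namespace Groth.Agent.Lib.Helper44.FlatFibre

variable {A : Type u} [CommRing A] {X' : Scheme.{u}} (s : X' ⟶ Spec (CommRingCat.of A))
  {B : Type u} [CommRing B] (φ : A →+* B)

/-- the structure map on sections -/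
noncomputable def rho (U : X'.Opens) : A →+* Γ(X', U) :=
  (s.appLE ⊤ U le_top).hom.comp (Scheme.ΓSpecIso (CommRingCat.of A)).inv.hom

/-- the base change of `X'` along `φ` -/
noncomputable abbrev ι : pullback s (Spec.map (CommRingCat.ofHom φ)) ⟶ X' :=
  pullback.fst s (Spec.map (CommRingCat.ofHom φ))

variable {φ}

theorem ker_specMap_top (hφ : Function.Surjective φ) :
    (Spec.map (CommRingCat.ofHom φ)).ker.ideal ⟨⊤, isAffineOpen_top _⟩ =
      Ideal.map (Scheme.ΓSpecIso (CommRingCat.of A)).inv.hom (RingHom.ker φ) := by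
  rw [Scheme.Hom.ker_apply]
  have hnat : ∀ a : A, ((Spec.map (CommRingCat.ofHom φ)).app ⊤).hom
      ((Scheme.ΓSpecIso (CommRingCat.of A)).inv.hom a) =
        (Scheme.ΓSpecIso (CommRingCat.of B)).inv.hom (φ a) := by
    intro a
    have h := Scheme.ΓSpecIso_inv_naturality (CommRingCat.ofHom φ)
    have h2 := congrArg (fun g => g.hom a) h
    exact h2.symm
  have hinj : Function.Injective (Scheme.ΓSpecIso (CommRingCat.of B)).inv.hom :=
    (ConcreteCategory.bijective_of_isIso (Scheme.ΓSpecIso (CommRingCat.of B)).inv).1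
  apply le_antisymm
  · intro x hx
    have hx' : x = (Scheme.ΓSpecIso (CommRingCat.of A)).inv.hom
        ((Scheme.ΓSpecIso (CommRingCat.of A)).hom.hom x) := by
      have := congrArg (fun g => g.hom x) (Scheme.ΓSpecIso (CommRingCat.of A)).hom_inv_id
      exact this.symm
    rw [hx']
    apply Ideal.mem_map_of_mem
    rw [RingHom.mem_ker]
    apply hinj
    rw [← hnat, ← hx', map_zero]
    exact hx
  · rw [Ideal.map_le_iff_le_comap]
    intro a ha
    rw [Ideal.mem_comap, RingHom.mem_ker, hnat, (RingHom.mem_ker).1 ha, map_zero]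
    rfl

theorem ker_app (hφ : Function.Surjective φ) (U : X'.Opens) (hU : IsAffineOpen U) :
    RingHom.ker ((ι s φ).app U).hom = Ideal.map (rho s U) (RingHom.ker φ) := by
  haveI : IsClosedImmersion (Spec.map (CommRingCat.ofHom φ)) :=
    IsClosedImmersion.spec_of_surjective _ hφ
  have h1 : (ι s φ).ker = (Spec.map (CommRingCat.ofHom φ)).ker.comap s :=
    Scheme.IdealSheafData.ker_fst_of_isClosedImmersion _ _
  have h2 := Scheme.Hom.ker_apply (ι s φ) ⟨U, hU⟩
  rw [← h2, h1, Groth.Agent.Lib.Helper18.ideal_comap_of_le s _ ⟨U, hU⟩ ⟨⊤, isAffineOpen_top _⟩ le_top,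
    ker_specMap_top hφ, Ideal.map_map]
  rfl

theorem rho_flat [Flat s] (U : X'.Opens) (hU : IsAffineOpen U) : (rho s U).Flat := by
  have h1 : (s.appLE ⊤ U le_top).hom.Flat := Flat.flat_appLE s (isAffineOpen_top _) hU le_top
  have h2 : ((Scheme.ΓSpecIso (CommRingCat.of A)).inv.hom).Flat :=
    RingHom.Flat.of_bijective
      (ConcreteCategory.bijective_of_isIso (Scheme.ΓSpecIso (CommRingCat.of A)).inv)
  exact RingHom.Flat.comp h2 h1

/-- flatness: the annihilator of `t` in the sections over an affine open -/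
theorem rho_mul_eq_zero_iff [Flat s] (t : A) (J : Ideal A) (hJ : ∀ a : A, a * t = 0 ↔ a ∈ J)
    (U : X'.Opens) (hU : IsAffineOpen U) (b : Γ(X', U)) :
    rho s U t * b = 0 ↔ b ∈ Ideal.map (rho s U) J := by
  letI := (rho s U).toAlgebra
  haveI : Module.Flat A Γ(X', U) := rho_flat s U hU
  exact FlatAnn.mul_eq_zero_iff_of_flat t J hJ b

/-- sections killed by `t` are those vanishing on the fibre over `A/ann(t)` -/
theorem rho_mul_eq_zero_iff_app [Flat s] (t : A) (hφ : Function.Surjective φ)
    (hker : ∀ a : A, a * t = 0 ↔ φ a = 0) (U : X'.Opens) (hU : IsAffineOpen U) (b : Γ(X', U)) :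
    rho s U t * b = 0 ↔ ((ι s φ).app U).hom b = 0 := by
  rw [rho_mul_eq_zero_iff s t (RingHom.ker φ) (fun a => by rw [RingHom.mem_ker]; exact hker a)
    U hU b, ← ker_app s hφ U hU, RingHom.mem_ker]

/-- sections vanishing on the fibre over `A/(t)` are the multiples of `t` -/
theorem app_eq_zero_iff_exists_mul (t : A) (hφ : Function.Surjective φ)
    (hker : RingHom.ker φ = Ideal.span {t}) (U : X'.Opens) (hU : IsAffineOpen U) (b : Γ(X', U)) :
    ((ι s φ).app U).hom b = 0 ↔ ∃ c, rho s U t * c = b := by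
  rw [← RingHom.mem_ker, ker_app s hφ U hU, hker, Ideal.map_span, Set.image_singleton,
    Ideal.mem_span_singleton']
  constructor
  · rintro ⟨c, hc⟩
    exact ⟨c, by rw [mul_comm]; exact hc⟩
  · rintro ⟨c, hc⟩
    exact ⟨c, by rw [mul_comm]; exact hc⟩

end Groth.Agent.Lib.Helper44.FlatFibre
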