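import Groth.Agent.Lib.Helper44.FlatFibreUnits
import Mathlib.Algebra.DualNumber

set_option autoImplicit false
set_option linter.unusedSectionVars false
universe u
open CategoryTheory CategoryTheory.Limits AlgebraicGeometry Opposite TopologicalSpace

namespace Groth.Agent.Lib.Helper44.FlatFibre

section Retraction
variable {X' Z : Scheme.{u}} (j : Z ⟶ X') (r : X' ⟶ Z) (h : j ≫ r = 𝟙 Z)
  (hsurj : Function.Surjective j.base)

include h hsurj in
lemma le_preimage_preimage (V : X'.Opens) : V ≤ r ⁻¹ᵁ (j ⁻¹ᵁ V) := by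
  intro y hy
  obtain ⟨z, rfl⟩ := hsurj y
  change j.base (r.base (j.base z)) ∈ V
  have h1 : r.base (j.base z) = z := by
    have := congrArg (fun g : Z ⟶ Z => g.base z) h
    exact this
  rw [h1]
  exact hy

lemma appLE_self_of_eq_id (g : Z ⟶ Z) (hg : g = 𝟙 Z) (U : Z.Opens) (e : U ≤ g ⁻¹ᵁ U) :
    g.appLE U U e = 𝟙 _ := by
  subst hg
  have h1 : (homOfLE e) = 𝟙 U := Subsingleton.elim _ _
  simp only [Scheme.Hom.appLE, Scheme.Hom.id_app]
  rw [h1]
  exact Z.presheaf.map_id _

/-- the section of the units map defined by a retraction -/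
noncomputable def sigma :
    (CohTop.push j.base).obj (UnitsSh.unitsAb Z) ⟶ UnitsSh.unitsAb X' :=
  ⟨{ app := fun V => UnitsSh.unitsFunctor.map
        (r.appLE (j ⁻¹ᵁ V.unop) V.unop (le_preimage_preimage j r h hsurj V.unop))
     naturality := by
       intro V W i
       change UnitsSh.unitsFunctor.map (Z.presheaf.map ((Opens.map j.base).map i.unop).op) ≫
         UnitsSh.unitsFunctor.map _ = UnitsSh.unitsFunctor.map _ ≫
           UnitsSh.unitsFunctor.map (X'.presheaf.map i)
       rw [← Functor.map_comp, ← Functor.map_comp, Scheme.Hom.map_appLE, Scheme.Hom.appLE_map] }⟩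

lemma sigma_comap : sigma j r h hsurj ≫ UnitsSh.comap j = 𝟙 _ := by
  apply Sheaf.hom_ext
  ext V : 2
  change UnitsSh.unitsFunctor.map (r.appLE (j ⁻¹ᵁ V.unop) V.unop _) ≫
    UnitsSh.unitsFunctor.map (j.app V.unop) = 𝟙 _
  rw [← Functor.map_comp, Scheme.Hom.app_eq_appLE, Scheme.Hom.appLE_comp_appLE,
    appLE_self_of_eq_id (j ≫ r) h, CategoryTheory.Functor.map_id]

include h hsurj in
theorem surjective_H_comap_of_retraction (n : ℕ) :
    Function.Surjective (Sheaf.H.map (UnitsSh.comap j) n) := by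
  intro y
  refine ⟨Sheaf.H.map (sigma j r h hsurj) n y, ?_⟩
  rw [← Sheaf.H.map_comp_apply, sigma_comap, Sheaf.H.map_id_apply]

end Retraction

section Ker
variable {X' Z Z' : Scheme.{u}}

theorem ker_H_comap_comp (e : Z ⟶ Z') [IsIso e] (j : Z' ⟶ X') (q : ℕ) :
    (Sheaf.H.map (UnitsSh.comap (e ≫ j)) q).ker = (Sheaf.H.map (UnitsSh.comap j) q).ker := by
  rw [comap_comp]
  ext x
  rw [AddMonoidHom.mem_ker, AddMonoidHom.mem_ker, Sheaf.H.map_comp_apply]
  constructor
  · intro hx
    have h1 := congrArg (Sheaf.H.map (inv (psi e j)) q) hx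
    rw [← Sheaf.H.map_comp_apply, IsIso.hom_inv_id, Sheaf.H.map_id_apply, map_zero] at h1
    exact h1
  · intro hx
    rw [hx, map_zero]

theorem ker_H_comap_of_ker (i : Z ⟶ X') [IsClosedImmersion i] (q : ℕ) :
    (Sheaf.H.map (UnitsSh.comap i) q).ker =
      (Sheaf.H.map (UnitsSh.comap i.ker.subschemeι) q).ker := by
  have h1 := ker_H_comap_comp i.toImage i.imageι q
  rw [i.toImage_imageι] at h1
  exact h1

/-- for a square-zero ideal whose closed subscheme admits a retraction, the kernel of the units map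
on cohomology is the cohomology of the ideal -/
theorem nonempty_ker_addEquiv (K : X'.IdealSheafData) (hK : K * K = ⊥) (r : X' ⟶ K.subscheme)
    (h : K.subschemeι ≫ r = 𝟙 _) (q : ℕ) :
    Nonempty ((Sheaf.H.map (UnitsSh.comap K.subschemeι) q).ker ≃+ Sheaf.H (SqZeroPic.A K) q) := by
  have hs : ∀ n, Function.Surjective (SqZeroPic.Hg K n) := fun n =>
    surjective_H_comap_of_retraction K.subschemeι r h (SqZeroPic.subschemeι_surjective K hK) n
  have hinj : Function.Injective (SqZeroPic.Hf K hK q) := by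
    cases q with
    | zero => exact SqZeroPic.Hf_zero_injective K hK
    | succ n =>
      rw [injective_iff_map_eq_zero]
      intro x hx
      obtain ⟨z, hz⟩ := (SqZeroPic.Hf_succ_eq_zero_iff K hK n x).1 hx
      rw [← hz]
      exact (SqZeroPic.bd_eq_zero_iff K hK n z).2 (hs n z)
  have hrange : (SqZeroPic.Hf K hK q).range = (SqZeroPic.Hg K q).ker := by
    ext y
    rw [AddMonoidHom.mem_range, AddMonoidHom.mem_ker]
    exact (SqZeroPic.Hg_eq_zero_iff K hK q y).symm
  exact ⟨((AddMonoidHom.ofInjective hinj).trans (AddEquiv.addSubgroupCongr hrange)).symm⟩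

/-- the same for a closed immersion with a retraction -/
theorem nonempty_ker_addEquiv' (i : Z ⟶ X') [IsClosedImmersion i] (hK : i.ker * i.ker = ⊥)
    (r : X' ⟶ Z) (h : i ≫ r = 𝟙 Z) (q : ℕ) :
    Nonempty ((Sheaf.H.map (UnitsSh.comap i) q).ker ≃+ Sheaf.H (SqZeroPic.A i.ker) q) := by
  have h' : i.ker.subschemeι ≫ (r ≫ i.toImage) = 𝟙 _ := by
    rw [← cancel_epi i.toImage]
    have h1 : i.toImage ≫ i.ker.subschemeι = i := i.toImage_imageι
    rw [reassoc_of% h1, reassoc_of% h, Category.comp_id]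
  obtain ⟨e⟩ := nonempty_ker_addEquiv i.ker hK (r ≫ i.toImage) h' q
  exact ⟨(AddEquiv.addSubgroupCongr (ker_H_comap_of_ker i q)).trans e⟩

end Ker

end Groth.Agent.Lib.Helper44.FlatFibre
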