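import Groth.Agent.Lib.Helper44.ZarSheafBasics

/-!
# A sectionwise criterion for short exactness of abelian sheaves on a space
-/

set_option autoImplicit false
open CategoryTheory CategoryTheory.Limits Opposite TopologicalSpace Abelian
universe u

namespace Groth.Agent.Lib.Helper44.ZarSheafExact

open Groth.Agent.Lib.Lead Groth.Agent.Lib.Helper44.ZarSheafBasics

variable {X : TopCat.{u}}

lemma mono_of_sections_injective {F G : CohTop.Ab X} (f : F ⟶ G)
    (h : ∀ V : Opens X, Function.Injective (f.hom.app (op V))) : Mono f := by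
  rw [Sheaf.Hom.mono_iff_presheaf_mono]
  haveI : ∀ V : (Opens X)ᵒᵖ, Mono (f.hom.app V) := fun V =>
    (AddCommGrpCat.mono_iff_injective _).2 (h V.unop)
  exact NatTrans.mono_of_mono_app f.hom

lemma comp_apply_sections {F G H : CohTop.Ab X} (f : F ⟶ G) (g : G ⟶ H) (V : Opens X)
    (z : F.obj.obj (op V)) : (f ≫ g).hom.app (op V) z = g.hom.app (op V) (f.hom.app (op V) z) :=
  rfl

lemma epi_of_locally_surjective {F G : CohTop.Ab X} (g : F ⟶ G)
    (h : ∀ (V : Opens X) (q : G.obj.obj (op V)) (x : X), x ∈ V →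
      ∃ (W : Opens X) (hW : W ≤ V), x ∈ W ∧ ∃ t : F.obj.obj (op W),
        g.hom.app (op W) t = res G.obj hW q) : Epi g := by
  rw [← Sheaf.isLocallySurjective_iff_epi']
  refine ⟨fun {V} q => ?_⟩
  intro x hx
  obtain ⟨W, hW, hxW, t, ht⟩ := h V q x hx
  exact ⟨W, homOfLE hW, ⟨t, ht⟩, hxW⟩

/-- sectionwise left exactness plus local surjectivity gives a short exact sequence of sheaves -/
theorem shortExact_of_sections (S : ShortComplex (CohTop.Ab X))
    (hinj : ∀ V : Opens X, Function.Injective (S.f.hom.app (op V)))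
    (hex : ∀ (V : Opens X) (z : S.X₂.obj.obj (op V)), S.g.hom.app (op V) z = 0 →
      ∃ c : S.X₁.obj.obj (op V), S.f.hom.app (op V) c = z)
    (hsurj : ∀ (V : Opens X) (q : S.X₃.obj.obj (op V)) (x : X), x ∈ V →
      ∃ (W : Opens X) (hW : W ≤ V), x ∈ W ∧ ∃ t : S.X₂.obj.obj (op W),
        S.g.hom.app (op W) t = res S.X₃.obj hW q) : S.ShortExact := by
  haveI : Mono S.f := mono_of_sections_injective S.f hinj
  haveI : Epi S.g := epi_of_locally_surjective S.g hsurj
  refine ShortComplex.ShortExact.mk ?_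
  rw [S.exact_iff_epi_kernel_lift]
  apply epi_of_locally_surjective
  intro V q x hx
  refine ⟨V, le_rfl, hx, ?_⟩
  have h0 : S.g.hom.app (op V) ((kernel.ι S.g).hom.app (op V) q) = 0 := by
    rw [← comp_apply_sections, kernel.condition]
    rfl
  obtain ⟨c, hc⟩ := hex V _ h0
  refine ⟨c, ?_⟩
  rw [res_self]
  haveI : Mono (kernel.ι S.g) := inferInstance
  apply sheaf_sections_injective_of_mono (kernel.ι S.g) V
  rw [← comp_apply_sections, kernel.lift_ι]
  exact hc

end Groth.Agent.Lib.Helper44.ZarSheafExact
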