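import Groth.Agent.Lib.Helper45.IdealModSections
import Groth.Agent.Lib.Helper44.ZarSheafExact
import Groth.Prelude.Def_UnitsSh
import Groth.Prelude.Def_ClSub2

/-!
# The units sequence of a square-zero thickening

`0 ⟶ J ⟶ O_X^× ⟶ i_* O_{X₀}^× ⟶ 0` for a quasi-coherent ideal `J` with `J * J = ⊥`.
-/

set_option autoImplicit false
open CategoryTheory CategoryTheory.Limits AlgebraicGeometry Opposite TopologicalSpace
universe u

namespace Groth.Agent.Lib.Helper44.SqZeroUnits

open Groth.Agent.Lib.Lead Groth.Agent.Lib.Helper44.ZarSheafBasics Groth.Agent.Lib.Helper45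
  Groth.Agent.Lib.Helper49

variable {X : Scheme.{u}} (J : X.IdealSheafData)

/-- the comorphism of the closed immersion commutes with restriction -/
lemma subschemeι_app_fres {U W : X.Opens} (h : W ≤ U) (a : Γ(X, U)) :
    J.subschemeι.app W (fres h a) =
      J.subscheme.presheaf.map (homOfLE (show J.subschemeι ⁻¹ᵁ W ≤ J.subschemeι ⁻¹ᵁ U from
        fun _ hx => h hx)).op (J.subschemeι.app U a) := by
  have hn := J.subschemeι.naturality (homOfLE h).op
  exact congr($hn a)

/-- the kernel of the comorphism has square zero on every open -/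
lemma mul_eq_zero_of_app_eq_zero (hJ : J * J = ⊥) (U : X.Opens) (a b : Γ(X, U))
    (ha : J.subschemeι.app U a = 0) (hb : J.subschemeι.app U b = 0) : a * b = 0 := by
  have key : ∀ x : U, ∃ W : X.Opens, IsAffineOpen W ∧ (x : X) ∈ W ∧ W ≤ U := by
    intro x
    obtain ⟨W, hW, hxW, hWU⟩ := (Opens.isBasis_iff_nbhd.1 X.isBasis_affineOpens) x.2
    exact ⟨W, hW, hxW, hWU⟩
  choose W hWaff hxW hWU using key
  apply TopCat.Sheaf.eq_of_locally_eq' X.sheaf W U (fun x => homOfLE (hWU x))
  · intro x hx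
    exact Opens.mem_iSup.2 ⟨⟨x, hx⟩, hxW ⟨x, hx⟩⟩
  · intro x
    change fres (hWU x) (a * b) = fres (hWU x) 0
    rw [map_mul, map_zero]
    have h1 : fres (hWU x) a ∈ J.ideal ⟨W x, hWaff x⟩ := by
      rw [← J.ker_subschemeι_app ⟨W x, hWaff x⟩, RingHom.mem_ker]
      change J.subschemeι.app (W x) (fres (hWU x) a) = 0
      rw [subschemeι_app_fres, ha, map_zero]
    have h2 : fres (hWU x) b ∈ J.ideal ⟨W x, hWaff x⟩ := by
      rw [← J.ker_subschemeι_app ⟨W x, hWaff x⟩, RingHom.mem_ker]
      change J.subschemeι.app (W x) (fres (hWU x) b) = 0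
      rw [subschemeι_app_fres, hb, map_zero]
    have h3 : fres (hWU x) a * fres (hWU x) b ∈ (J * J).ideal ⟨W x, hWaff x⟩ := by
      rw [Scheme.IdealSheafData.ideal_mul]
      exact Ideal.mul_mem_mul h1 h2
    rw [hJ, Scheme.IdealSheafData.ideal_bot] at h3
    exact (Ideal.mem_bot).mp h3

/-- sections of the ideal module over `U` (as sections of the underlying abelian sheaf) -/
abbrev Sec (U : X.Opens) : Type u := (Coh.toAb (ClSub.idealMod J)).obj.obj (op U)

/-- the function underlying a section of the ideal module -/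
noncomputable def fn (U : X.Opens) (f : Sec J U) : Γ(X, U) :=
  (show Γ(X, U) from (ClSub.idealModι J).app U f)

lemma fn_add (U : X.Opens) (f g : Sec J U) : fn J U (f + g) = fn J U f + fn J U g :=
  map_add ((ClSub.idealModι J).app U).hom f g

lemma fn_zero (U : X.Opens) : fn J U 0 = 0 := map_zero ((ClSub.idealModι J).app U).hom

lemma fn_injective (U : X.Opens) : Function.Injective (fn J U) := idealModι_app_injective J U

lemma app_fn (U : X.Opens) (f : Sec J U) : J.subschemeι.app U (fn J U f) = 0 :=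
  ((idealModι_app_exact J U) ((ClSub.idealModι J).app U f)).2 ⟨f, rfl⟩

lemma exists_fn_eq (U : X.Opens) (a : Γ(X, U)) (ha : J.subschemeι.app U a = 0) :
    ∃ f : Sec J U, fn J U f = a :=
  ((idealModι_app_exact J U) a).1 ha

lemma fn_res {U W : X.Opens} (h : W ≤ U) (f : Sec J U) :
    fn J W (res (Coh.toAb (ClSub.idealMod J)).obj h f) = fres h (fn J U f) := by
  have hn := (ClSub.idealModι J).mapPresheaf.naturality (homOfLE h).op
  exact congrArg (fun φ => φ.hom f) hn

section phi

variable (hJ : J * J = ⊥)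

include hJ in
lemma fn_mul_fn (U : X.Opens) (f g : Sec J U) : fn J U f * fn J U g = 0 :=
  mul_eq_zero_of_app_eq_zero J hJ U _ _ (app_fn J U f) (app_fn J U g)

/-- the unit `1 + a` for `a` of square zero -/
def onePlus {R : Type*} [CommRing R] (a : R) (ha : a * a = 0) : Rˣ :=
  ⟨1 + a, 1 - a, by ring_nf; rw [pow_two, ha, sub_zero], by ring_nf; rw [pow_two, ha, sub_zero]⟩

lemma onePlus_val {R : Type*} [CommRing R] (a : R) (ha : a * a = 0) :
    (onePlus a ha : R) = 1 + a := rfl

/-- `f ↦ 1 + f` on sections -/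
noncomputable def phiApp (U : X.Opens) : Sec J U →+ (UnitsSh.unitsAb X).obj.obj (op U) :=
  AddMonoidHom.mk' (fun f => UnitsSh.sectOfUnit (O := X.sheaf.obj) (U := op U)
      (onePlus (fn J U f) (fn_mul_fn J hJ U f f)))
    (fun f g => by
      change UnitsSh.sectOfUnit (O := X.sheaf.obj) (U := op U) _ =
        UnitsSh.sectOfUnit (O := X.sheaf.obj) (U := op U) (_ * _)
      congr 1
      apply Units.ext
      change 1 + fn J U (f + g) = (1 + fn J U f) * (1 + fn J U g)
      rw [fn_add]
      have := fn_mul_fn J hJ U f g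
      linear_combination -this)

lemma phiApp_val (U : X.Opens) (f : Sec J U) :
    (UnitsSh.unitOfSect (O := X.sheaf.obj) (U := op U) (phiApp J hJ U f)).val =
      (show X.sheaf.obj.obj (op U) from ((1 : Γ(X, U)) + fn J U f : Γ(X, U))) := rfl

/-- the morphism `J ⟶ O_X^×`, `f ↦ 1 + f` -/
noncomputable def phi : Coh.toAb (ClSub.idealMod J) ⟶ UnitsSh.unitsAb X :=
  ⟨{ app := fun U => AddCommGrpCat.ofHom (phiApp J hJ U.unop)
     naturality := by
       intro U V i
       ext f
       change phiApp J hJ V.unop (res (Coh.toAb (ClSub.idealMod J)).obj (leOfHom i.unop) f) =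
         res (UnitsSh.unitsAb X).obj (leOfHom i.unop) (phiApp J hJ U.unop f)
       change UnitsSh.sectOfUnit (O := X.sheaf.obj) (U := V) _ =
         UnitsSh.sectOfUnit (O := X.sheaf.obj) (U := V) _
       congr 1
       apply Units.ext
       change 1 + fn J V.unop (res (Coh.toAb (ClSub.idealMod J)).obj (leOfHom i.unop) f) =
         fres (leOfHom i.unop) (1 + fn J U.unop f)
       rw [fn_res, map_add, map_one] }⟩

lemma phi_app (U : X.Opens) (f : Sec J U) : (phi J hJ).hom.app (op U) f = phiApp J hJ U f := rfl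

end phi

section exact

variable (hJ : J * J = ⊥)

/-- the target sheaf `i_* O_{X₀}^×` -/
noncomputable abbrev Gpush : CohTop.Ab X.toTopCat :=
  (CohTop.push J.subschemeι.base).obj (UnitsSh.unitsAb J.subscheme)

/-- the units map on sections, in terms of units -/
lemma comap_app (U : X.Opens) (s : (UnitsSh.unitsAb X).obj.obj (op U)) :
    UnitsSh.unitOfSect (X := X.toTopCat) (O := (J.subschemeι.base _* J.subscheme.presheaf))
      ((UnitsSh.comap J.subschemeι).hom.app (op U) s) =
    Units.map (J.subschemeι.app U).hom.toMonoidHom (UnitsSh.unitOfSect s) := rfl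

lemma phi_comap : phi J hJ ≫ UnitsSh.comap J.subschemeι = 0 := by
  apply Sheaf.hom_ext
  ext U f
  change (UnitsSh.comap J.subschemeι).hom.app U ((phi J hJ).hom.app U f) = 0
  obtain ⟨U⟩ := U
  rw [phi_app]
  change UnitsSh.sectOfUnit (X := X.toTopCat) (O := (J.subschemeι.base _* J.subscheme.presheaf))
    (U := op U) (Units.map (J.subschemeι.app U).hom.toMonoidHom
      (onePlus (fn J U f) (fn_mul_fn J hJ U f f))) =
    UnitsSh.sectOfUnit (X := X.toTopCat) (O := (J.subschemeι.base _* J.subscheme.presheaf))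
      (U := op U) 1
  congr 1
  apply Units.ext
  change (J.subschemeι.app U).hom (1 + fn J U f) = 1
  rw [map_add, map_one]
  have := app_fn J U f
  change (J.subschemeι.app U).hom (fn J U f) = 0 at this
  rw [this, add_zero]

end exact

section shortExact

variable (hJ : J * J = ⊥)

/-- sections of `O_X^×` as units -/
def uof (V : X.Opens) (z : (UnitsSh.unitsAb X).obj.obj (op V)) : (Γ(X, V))ˣ :=
  UnitsSh.unitOfSect (O := X.sheaf.obj) (U := op V) z

/-- units as sections of `O_X^×` -/
def gof (V : X.Opens) (r : (Γ(X, V))ˣ) : (UnitsSh.unitsAb X).obj.obj (op V) :=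
  UnitsSh.sectOfUnit (O := X.sheaf.obj) (U := op V) r

/-- sections of `i_* O_{X₀}^×` as units -/
noncomputable def uofZ (V : X.Opens) (q : (Gpush J).obj.obj (op V)) :
    (Γ(J.subscheme, J.subschemeι ⁻¹ᵁ V))ˣ :=
  UnitsSh.unitOfSect (X := X.toTopCat) (O := (J.subschemeι.base _* J.subscheme.presheaf))
    (U := op V) q

/-- units as sections of `i_* O_{X₀}^×` -/
noncomputable def gofZ (V : X.Opens) (r : (Γ(J.subscheme, J.subschemeι ⁻¹ᵁ V))ˣ) : (Gpush J).obj.obj (op V) :=
  UnitsSh.sectOfUnit (X := X.toTopCat) (O := (J.subschemeι.base _* J.subscheme.presheaf))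
    (U := op V) r

lemma gof_uof (V : X.Opens) (z : (UnitsSh.unitsAb X).obj.obj (op V)) : gof V (uof V z) = z := rfl

lemma gofZ_uofZ (V : X.Opens) (q : (Gpush J).obj.obj (op V)) : gofZ J V (uofZ J V q) = q := rfl

lemma uofZ_comap (V : X.Opens) (z : (UnitsSh.unitsAb X).obj.obj (op V)) :
    uofZ J V ((UnitsSh.comap J.subschemeι).hom.app (op V) z) =
      Units.map (J.subschemeι.app V).hom.toMonoidHom (uof V z) := rfl

lemma uofZ_zero (V : X.Opens) : uofZ J V 0 = 1 := rfl

lemma uof_phiApp (V : X.Opens) (f : Sec J V) : ((uof V (phiApp J hJ V f) : (Γ(X, V))ˣ) : Γ(X, V)) =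
    1 + fn J V f := rfl

lemma phiApp_injective (V : X.Opens) : Function.Injective (phiApp J hJ V) := by
  intro f g h
  apply fn_injective J V
  have h1 := congrArg (fun s => ((uof V s : (Γ(X, V))ˣ) : Γ(X, V))) h
  simp only [uof_phiApp] at h1
  exact add_left_cancel h1

include hJ in
lemma exists_phiApp_eq (V : X.Opens) (z : (UnitsSh.unitsAb X).obj.obj (op V))
    (hz : (UnitsSh.comap J.subschemeι).hom.app (op V) z = 0) : ∃ f, phiApp J hJ V f = z := by
  have h1 := congrArg (fun s => ((uofZ J V s : (Γ(J.subscheme, J.subschemeι ⁻¹ᵁ V))ˣ) :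
    Γ(J.subscheme, J.subschemeι ⁻¹ᵁ V))) hz
  simp only [uofZ_comap, uofZ_zero] at h1
  have h2 : (J.subschemeι.app V).hom ((uof V z : (Γ(X, V))ˣ) : Γ(X, V)) = 1 := h1
  obtain ⟨f, hf⟩ := exists_fn_eq J V (((uof V z : (Γ(X, V))ˣ) : Γ(X, V)) - 1) (by
      change (J.subschemeι.app V).hom _ = 0
      rw [map_sub, h2, map_one, sub_self])
  refine ⟨f, ?_⟩
  rw [← gof_uof V z, ← gof_uof V (phiApp J hJ V f)]
  congr 1
  apply Units.ext
  rw [uof_phiApp, hf]
  ring

include hJ in
lemma exists_local_lift (V : X.Opens) (q : (Gpush J).obj.obj (op V)) (x : X) (hx : x ∈ V) :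
    ∃ (W : X.Opens) (hW : W ≤ V), x ∈ W ∧ ∃ t : (UnitsSh.unitsAb X).obj.obj (op W),
      (UnitsSh.comap J.subschemeι).hom.app (op W) t = res (Gpush J).obj hW q := by
  obtain ⟨W, hWaff, hxW, hWV⟩ := (Opens.isBasis_iff_nbhd.1 X.isBasis_affineOpens) hx
  refine ⟨W, hWV, hxW, ?_⟩
  obtain ⟨v, hv⟩ : ∃ v : (Γ(J.subscheme, J.subschemeι ⁻¹ᵁ W))ˣ,
      v = uofZ J W (res (Gpush J).obj hWV q) := ⟨_, rfl⟩
  obtain ⟨r, hr1⟩ : ∃ r : Γ(X, W), (J.subschemeι.app W).hom r =
      (v : Γ(J.subscheme, J.subschemeι ⁻¹ᵁ W)) := J.subschemeι_app_surjective ⟨W, hWaff⟩ _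
  obtain ⟨r', hr2⟩ : ∃ r' : Γ(X, W), (J.subschemeι.app W).hom r' =
      ((v⁻¹ : (Γ(J.subscheme, J.subschemeι ⁻¹ᵁ W))ˣ) : Γ(J.subscheme, J.subschemeι ⁻¹ᵁ W)) :=
    J.subschemeι_app_surjective ⟨W, hWaff⟩ _
  have ha : J.subschemeι.app W (r * r' - 1) = 0 := by
    change (J.subschemeι.app W).hom (r * r' - 1) = 0
    rw [map_sub, map_mul, map_one, hr1, hr2, Units.mul_inv, sub_self]
  have ha2 : (r * r' - 1) * (r * r' - 1) = 0 := mul_eq_zero_of_app_eq_zero J hJ W _ _ ha ha
  have hu : r * (r' * (1 - (r * r' - 1))) = 1 := by linear_combination -ha2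
  refine ⟨gof W (Units.mkOfMulEqOne r (r' * (1 - (r * r' - 1))) hu), ?_⟩
  rw [← gofZ_uofZ J W (res (Gpush J).obj hWV q),
    ← gofZ_uofZ J W ((UnitsSh.comap J.subschemeι).hom.app (op W) _), uofZ_comap, ← hv]
  congr 1
  apply Units.ext
  exact hr1

/-- **the units sequence of a square-zero thickening is short exact** -/
theorem shortExact :
    (ShortComplex.mk (phi J hJ) (UnitsSh.comap J.subschemeι) (phi_comap J hJ)).ShortExact := by
  apply ZarSheafExact.shortExact_of_sections
  · intro V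
    exact phiApp_injective J hJ V
  · intro V z hz
    exact exists_phiApp_eq J hJ V z hz
  · intro V q x hx
    exact exists_local_lift J hJ V q x hx

end shortExact

end Groth.Agent.Lib.Helper44.SqZeroUnits
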