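import Groth.Agent.Lib.Helper44.FlatFibre
import Groth.Agent.Lib.Helper44.SqZeroUnits
import Groth.Agent.S0012
import Groth.Agent.Lib.Helper33.BigSiteCoh

set_option autoImplicit false
set_option linter.unusedSectionVars false
universe u
open CategoryTheory CategoryTheory.Limits AlgebraicGeometry Opposite TopologicalSpace

namespace Groth.Agent.Lib.Helper44.FlatFibre

open Groth.Agent.Lib.Lead Groth.Agent.Lib.Helper44.ZarSheafBasics Groth.Agent.Lib.Helper45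
  Groth.Agent.Lib.Helper49 Groth.Agent.Lib.Helper44.SqZeroUnits

section Local
variable {X Z : Scheme.{u}} (f : Z ⟶ X)

/-- the comorphism commutes with restriction -/
lemma app_fres {U W : X.Opens} (h : W ≤ U) (a : Γ(X, U)) :
    f.app W (fres h a) =
      Z.presheaf.map (homOfLE (show f ⁻¹ᵁ W ≤ f ⁻¹ᵁ U from fun _ hx => h hx)).op (f.app U a) := by
  have hn := f.naturality (homOfLE h).op
  exact congr($hn a)

/-- a section over `f⁻¹ U` vanishing over `f⁻¹ W` for all affine `W ≤ U` vanishes -/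
lemma eq_zero_of_affine (U : X.Opens) (a : Γ(Z, f ⁻¹ᵁ U))
    (h : ∀ (W : X.Opens) (_ : IsAffineOpen W) (hWU : W ≤ U),
      Z.presheaf.map (homOfLE (show f ⁻¹ᵁ W ≤ f ⁻¹ᵁ U from fun _ hx => hWU hx)).op a = 0) :
    a = 0 := by
  have key : ∀ x : U, ∃ W : X.Opens, IsAffineOpen W ∧ (x : X) ∈ W ∧ W ≤ U := by
    intro x
    obtain ⟨W, hW, hxW, hWU⟩ := (Opens.isBasis_iff_nbhd.1 X.isBasis_affineOpens) x.2
    exact ⟨W, hW, hxW, hWU⟩
  choose W hWaff hxW hWU using key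
  apply TopCat.Sheaf.eq_of_locally_eq' Z.sheaf (fun x => f ⁻¹ᵁ W x) (f ⁻¹ᵁ U)
    (fun x => homOfLE (fun _ hz => hWU x hz))
  · intro z hz
    exact Opens.mem_iSup.2 ⟨⟨f z, hz⟩, hxW ⟨f z, hz⟩⟩
  · intro x
    have h1 := h (W x) (hWaff x) (hWU x)
    exact h1.trans (map_zero (Z.presheaf.map (homOfLE (show f ⁻¹ᵁ W x ≤ f ⁻¹ᵁ U from
      fun _ hz => hWU x hz)).op).hom).symm

/-- a function vanishing on all affine opens of `U` vanishes -/
lemma eq_zero_of_affine' (U : X.Opens) (a : Γ(X, U))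
    (h : ∀ (W : X.Opens) (_ : IsAffineOpen W) (hWU : W ≤ U), fres hWU a = 0) : a = 0 :=
  eq_zero_of_affine (𝟙 X) U a h

end Local

section Iso
variable {X Z Z' : Scheme.{u}}

lemma comp_app_eq_zero_iff (e : Z ⟶ Z') [IsIso e] (j : Z' ⟶ X) (U : X.Opens) (a : Γ(X, U)) :
    ((e ≫ j).app U).hom a = 0 ↔ (j.app U).hom a = 0 := by
  have hinj : Function.Injective (e.app (j ⁻¹ᵁ U)).hom :=
    (ConcreteCategory.bijective_of_isIso (e.app (j ⁻¹ᵁ U))).1
  have h : ((e ≫ j).app U).hom a = (e.app (j ⁻¹ᵁ U)).hom ((j.app U).hom a) := rfl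
  rw [h]
  constructor
  · intro h0
    apply hinj
    exact h0.trans (map_zero _).symm
  · intro h0
    rw [h0]
    exact map_zero _

lemma subschemeι_app_eq_zero_iff (i : Z ⟶ X) [IsClosedImmersion i] (U : X.Opens) (a : Γ(X, U)) :
    (i.ker.subschemeι.app U).hom a = 0 ↔ (i.app U).hom a = 0 := by
  have h := comp_app_eq_zero_iff i.toImage i.imageι U a
  rw [i.toImage_imageι] at h
  exact h.symm

lemma exists_fn_eq_iff (i : Z ⟶ X) [IsClosedImmersion i] (U : X.Opens) (a : Γ(X, U)) :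
    (∃ f : Sec i.ker U, fn i.ker U f = a) ↔ (i.app U).hom a = 0 := by
  rw [← subschemeι_app_eq_zero_iff]
  constructor
  · rintro ⟨f, rfl⟩
    exact app_fn i.ker U f
  · intro h
    exact exists_fn_eq i.ker U a h

end Iso

section Main

variable {A : Type u} [CommRing A] {X' : Scheme.{u}} (s : X' ⟶ Spec (CommRingCat.of A))

lemma fres_rho {U W : X'.Opens} (h : W ≤ U) (a : A) : fres h (rho s U a) = rho s W a := by
  have h1 := Scheme.Hom.appLE_map s (show U ≤ s ⁻¹ᵁ ⊤ from le_top) (homOfLE h).op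
  exact congr($h1 ((Scheme.ΓSpecIso (CommRingCat.of A)).inv.hom a))

variable {B₀ B₁ : Type u} [CommRing B₀] [CommRing B₁] {φ₀ : A →+* B₀} {φ₁ : A →+* B₁} (t : A)

section
variable (hφ₀ : Function.Surjective φ₀) (hk₀ : ∀ a : A, a * t = 0 ↔ φ₀ a = 0)
include hφ₀ hk₀

/-- on every open: a function is killed by `t` iff it vanishes on the fibre over `A/ann(t)` -/
theorem rho_mul_eq_zero_iff_app' [Flat s] (U : X'.Opens) (b : Γ(X', U)) :
    rho s U t * b = 0 ↔ ((ι s φ₀).app U).hom b = 0 := by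
  constructor
  · intro h
    apply eq_zero_of_affine (ι s φ₀) U
    intro W hW hWU
    rw [← app_fres (ι s φ₀) hWU]
    apply (rho_mul_eq_zero_iff_app s t hφ₀ hk₀ W hW _).1
    rw [← fres_rho s hWU, ← map_mul, h, map_zero]
  · intro h
    apply eq_zero_of_affine' U
    intro W hW hWU
    rw [map_mul, fres_rho]
    apply (rho_mul_eq_zero_iff_app s t hφ₀ hk₀ W hW _).2
    have := app_fres (ι s φ₀) hWU b
    rw [this]
    erw [h]
    rw [map_zero]

end

section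
variable (hφ₁ : Function.Surjective φ₁) (hk₁ : RingHom.ker φ₁ = Ideal.span {t})
include hφ₁ hk₁

theorem app_rho_eq_zero (U : X'.Opens) : ((ι s φ₁).app U).hom (rho s U t) = 0 := by
  apply eq_zero_of_affine (ι s φ₁) U
  intro W hW hWU
  rw [← app_fres (ι s φ₁) hWU, fres_rho]
  exact (app_eq_zero_iff_exists_mul s t hφ₁ hk₁ W hW _).2 ⟨1, mul_one _⟩

end

theorem isClosedImmersion_ι {B : Type u} [CommRing B] {φ : A →+* B} (hφ : Function.Surjective φ) :
    IsClosedImmersion (ι s φ) := by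
  haveI : IsClosedImmersion (Spec.map (CommRingCat.ofHom φ)) :=
    IsClosedImmersion.spec_of_surjective _ hφ
  infer_instance

section Mu
variable (φ₁) [IsClosedImmersion (ι s φ₁)]
  (hφ₁ : Function.Surjective φ₁) (hk₁ : RingHom.ker φ₁ = Ideal.span {t})

/-- sections of the structure sheaf, as an abelian sheaf -/
abbrev OSec (X : Scheme.{u}) (U : X.Opens) : Type u :=
  (Coh.toAb (Coh.structureModule X)).obj.obj (op U)

include hφ₁ hk₁ in
lemma exists_mu (U : X'.Opens) (a : Γ(X', U)) :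
    ∃ f : Sec (ι s φ₁).ker U, fn (ι s φ₁).ker U f = rho s U t * a := by
  rw [exists_fn_eq_iff, map_mul, app_rho_eq_zero s t hφ₁ hk₁, zero_mul]

/-- multiplication by `t`, with values in the ideal of the fibre over `A/(t)` -/
noncomputable def muFun (U : X'.Opens) (a : Γ(X', U)) : Sec (ι s φ₁).ker U :=
  Classical.choose (exists_mu s φ₁ t hφ₁ hk₁ U a)

lemma fn_muFun (U : X'.Opens) (a : Γ(X', U)) :
    fn (ι s φ₁).ker U (muFun s φ₁ t hφ₁ hk₁ U a) = rho s U t * a :=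
  Classical.choose_spec (exists_mu s φ₁ t hφ₁ hk₁ U a)

noncomputable def muApp (U : X'.Opens) : OSec X' U →+ Sec (ι s φ₁).ker U :=
  AddMonoidHom.mk' (fun a => muFun s φ₁ t hφ₁ hk₁ U (show Γ(X', U) from a)) (fun a b => by
    apply fn_injective
    rw [fn_add, fn_muFun, fn_muFun, fn_muFun]
    exact mul_add (rho s U t) (show Γ(X', U) from a) (show Γ(X', U) from b))

lemma fn_muApp (U : X'.Opens) (a : OSec X' U) :
    fn (ι s φ₁).ker U (muApp s φ₁ t hφ₁ hk₁ U a) = rho s U t * (show Γ(X', U) from a) :=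
  fn_muFun s φ₁ t hφ₁ hk₁ U _

/-- multiplication by `t` as a morphism of abelian sheaves `O ⟶ K` -/
noncomputable def mu : Coh.toAb (Coh.structureModule X') ⟶ Coh.toAb (ClSub.idealMod (ι s φ₁).ker) :=
  ⟨{ app := fun U => AddCommGrpCat.ofHom (muApp s φ₁ t hφ₁ hk₁ U.unop)
     naturality := by
       intro U V i
       ext a
       change muApp s φ₁ t hφ₁ hk₁ V.unop
           (res (Coh.toAb (Coh.structureModule X')).obj (leOfHom i.unop) a) =
         res (Coh.toAb (ClSub.idealMod (ι s φ₁).ker)).obj (leOfHom i.unop)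
           (muApp s φ₁ t hφ₁ hk₁ U.unop a)
       apply fn_injective
       rw [fn_res, fn_muApp, fn_muApp, map_mul, fres_rho]
       rfl }⟩

lemma mu_app (U : X'.Opens) (a : OSec X' U) :
    (mu s φ₁ t hφ₁ hk₁).hom.app (op U) a = muApp s φ₁ t hφ₁ hk₁ U a := rfl

end Mu

section SES
variable (φ₀ φ₁) [IsClosedImmersion (ι s φ₀)] [IsClosedImmersion (ι s φ₁)] [Flat s]
  (hφ₀ : Function.Surjective φ₀) (hk₀ : ∀ a : A, a * t = 0 ↔ φ₀ a = 0)
  (hφ₁ : Function.Surjective φ₁) (hk₁ : RingHom.ker φ₁ = Ideal.span {t})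

/-- the inclusion of the ideal of the fibre over `A/ann(t)` -/
noncomputable abbrev incl₀ :
    Coh.toAb (ClSub.idealMod (ι s φ₀).ker) ⟶ Coh.toAb (Coh.structureModule X') :=
  (SheafOfModules.toSheaf X'.ringCatSheaf).map (ClSub.idealModι (ι s φ₀).ker)

/-- restriction to the fibre over `A/ann(t)` -/
noncomputable abbrev rst₀ : Coh.toAb (Coh.structureModule X') ⟶
    Coh.toAb ((Coh.push (ι s φ₀)).obj (Coh.structureModule (pullback s (Spec.map (CommRingCat.ofHom φ₀))))) :=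
  (SheafOfModules.toSheaf X'.ringCatSheaf).map (ClSub.unitToPush (ι s φ₀))

lemma incl₀_app (U : X'.Opens) (c : Sec (ι s φ₀).ker U) :
    (show Γ(X', U) from (incl₀ s φ₀).hom.app (op U) c) = fn (ι s φ₀).ker U c := rfl

lemma rst₀_app (U : X'.Opens) (a : OSec X' U) :
    (show Γ(pullback s (Spec.map (CommRingCat.ofHom φ₀)), (ι s φ₀) ⁻¹ᵁ U) from
      (rst₀ s φ₀).hom.app (op U) a) = ((ι s φ₀).app U).hom (show Γ(X', U) from a) := rfl

include hφ₀ hk₀ in
lemma incl₀_mu : incl₀ s φ₀ ≫ mu s φ₁ t hφ₁ hk₁ = 0 := by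
  apply Sheaf.hom_ext
  ext U c
  change muApp s φ₁ t hφ₁ hk₁ U.unop ((incl₀ s φ₀).hom.app (op U.unop) c) = 0
  apply fn_injective
  rw [fn_muApp, fn_zero]
  apply (rho_mul_eq_zero_iff_app' s t hφ₀ hk₀ U.unop _).2
  exact (exists_fn_eq_iff (ι s φ₀) U.unop _).1 ⟨c, rfl⟩

lemma incl₀_rst₀ : incl₀ s φ₀ ≫ rst₀ s φ₀ = 0 := by
  apply Sheaf.hom_ext
  ext U c
  change (rst₀ s φ₀).hom.app (op U.unop) ((incl₀ s φ₀).hom.app (op U.unop) c) = 0
  exact (exists_fn_eq_iff (ι s φ₀) U.unop _).1 ⟨c, rfl⟩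

/-- `0 ⟶ K₀ ⟶ O ⟶ K ⟶ 0`, the last map being multiplication by `t` -/
noncomputable abbrev S₁ : ShortComplex (CohTop.Ab X'.toTopCat) :=
  ShortComplex.mk (incl₀ s φ₀) (mu s φ₁ t hφ₁ hk₁) (incl₀_mu s φ₀ φ₁ t hφ₀ hk₀ hφ₁ hk₁)

/-- `0 ⟶ K₀ ⟶ O ⟶ i₀_* O_{X₀} ⟶ 0` -/
noncomputable abbrev S₂ : ShortComplex (CohTop.Ab X'.toTopCat) :=
  ShortComplex.mk (incl₀ s φ₀) (rst₀ s φ₀) (incl₀_rst₀ s φ₀)

lemma exists_affine {V : X'.Opens} {x : X'} (hx : x ∈ V) :
    ∃ W : X'.Opens, IsAffineOpen W ∧ x ∈ W ∧ W ≤ V := by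
  obtain ⟨W, hW, hxW, hWV⟩ := (Opens.isBasis_iff_nbhd.1 X'.isBasis_affineOpens) hx
  exact ⟨W, hW, hxW, hWV⟩

theorem shortExact_S₁ : (S₁ s φ₀ φ₁ t hφ₀ hk₀ hφ₁ hk₁).ShortExact := by
  apply ZarSheafExact.shortExact_of_sections
  · intro V
    exact fn_injective (ι s φ₀).ker V
  · intro V z hz
    have h1 : rho s V t * (show Γ(X', V) from z) = 0 := by
      rw [← fn_muApp s φ₁ t hφ₁ hk₁ V z]
      have : muApp s φ₁ t hφ₁ hk₁ V z = 0 := hz
      rw [this, fn_zero]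
    have h2 := (rho_mul_eq_zero_iff_app' s t hφ₀ hk₀ V _).1 h1
    obtain ⟨c, hc⟩ := (exists_fn_eq_iff (ι s φ₀) V _).2 h2
    exact ⟨c, hc⟩
  · intro V q x hx
    obtain ⟨W, hW, hxW, hWV⟩ := exists_affine hx
    refine ⟨W, hWV, hxW, ?_⟩
    have h1 := (exists_fn_eq_iff (ι s φ₁) W _).1
      ⟨res (Coh.toAb (ClSub.idealMod (ι s φ₁).ker)).obj hWV q, rfl⟩
    obtain ⟨c, hc⟩ := (app_eq_zero_iff_exists_mul s t hφ₁ hk₁ W hW _).1 h1
    refine ⟨(show OSec X' W from c), ?_⟩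
    apply fn_injective (ι s φ₁).ker W
    rw [← hc]
    exact fn_muApp s φ₁ t hφ₁ hk₁ W _

theorem shortExact_S₂ : (S₂ s φ₀).ShortExact := by
  apply ZarSheafExact.shortExact_of_sections
  · intro V
    exact fn_injective (ι s φ₀).ker V
  · intro V z hz
    obtain ⟨c, hc⟩ := (exists_fn_eq_iff (ι s φ₀) V _).2 hz
    exact ⟨c, hc⟩
  · intro V q x hx
    obtain ⟨W, hW, hxW, hWV⟩ := exists_affine hx
    refine ⟨W, hWV, hxW, ?_⟩
    obtain ⟨a, ha⟩ := (ι s φ₀).app_surjective W hW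
      (show Γ(pullback s (Spec.map (CommRingCat.ofHom φ₀)), (ι s φ₀) ⁻¹ᵁ W) from
        res (S₂ s φ₀).X₃.obj hWV q)
    exact ⟨(show OSec X' W from a), ha⟩

/-- the ideal of the fibre over `A/(t)` is the structure sheaf of the fibre over `A/ann(t)` -/
noncomputable def isoK : Coh.toAb (ClSub.idealMod (ι s φ₁).ker) ≅
    Coh.toAb ((Coh.push (ι s φ₀)).obj (Coh.structureModule (pullback s (Spec.map (CommRingCat.ofHom φ₀))))) :=
  IsColimit.coconePointUniqueUpToIso (shortExact_S₁ s φ₀ φ₁ t hφ₀ hk₀ hφ₁ hk₁).gIsCokernel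
    (shortExact_S₂ s φ₀).gIsCokernel

include hφ₀ hk₀ hφ₁ hk₁ in
/-- the cohomology of the ideal of the fibre over `A/(t)` is the cohomology of the structure sheaf
of the fibre over `A/ann(t)` -/
theorem nonempty_H_addEquiv (n : ℕ) :
    Nonempty (Sheaf.H (Coh.toAb (ClSub.idealMod (ι s φ₁).ker)) n ≃+
      Coh.HH (pullback s (Spec.map (CommRingCat.ofHom φ₀)))
        (Coh.structureModule (pullback s (Spec.map (CommRingCat.ofHom φ₀)))) n) := by
  obtain ⟨e⟩ := Groth.Agent.S0012.result (ι s φ₀)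
    (Coh.structureModule (pullback s (Spec.map (CommRingCat.ofHom φ₀)))) n
  let ε := Groth.Agent.Lib.Helper33.BigSiteCoh.extCongrRightAdd
    ((constantSheaf (Opens.grothendieckTopology X') AddCommGrpCat.{u}).obj
      (AddCommGrpCat.of (ULift ℤ))) (isoK s φ₀ φ₁ t hφ₀ hk₀ hφ₁ hk₁) n
  exact ⟨ε.trans e.symm⟩

end SES

end Main

end Groth.Agent.Lib.Helper44.FlatFibre
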