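import Groth.Agent.Lib.Helper44.PicPushCompat
import Groth.Agent.Lib.Helper44.SqZeroUnits
import Groth.Agent.Lib.Helper44.ExtLES

/-!
# The Picard exact sequence of a first-order thickening
-/

set_option autoImplicit false
open CategoryTheory CategoryTheory.Limits AlgebraicGeometry Opposite Abelian
universe u

namespace Groth.Agent.Lib.Helper44.SqZeroPic

open Groth.Agent.Lib.Helper44.ZarSheafBasics

variable {X' : Scheme.{u}} (I : X'.IdealSheafData)

theorem subschemeι_surjective (hI : I * I = ⊥) : Function.Surjective I.subschemeι.base := by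
  intro x
  have h1 : (I * I).support = I.support := by
    rw [Scheme.IdealSheafData.support_mul, sup_idem]
  have h2 : Set.range I.subschemeι = Set.univ := by
    rw [Scheme.IdealSheafData.range_subschemeι, ← h1, hI, Scheme.IdealSheafData.support_bot]
    rfl
  exact Set.range_eq_univ.mp h2 x

theorem subschemeι_isInducing : Topology.IsInducing I.subschemeι.base :=
  I.subschemeι.isClosedEmbedding.isInducing

section defs

variable (hI : I * I = ⊥)

/-- the ideal as an abelian sheaf -/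
noncomputable abbrev A : CohTop.Ab X'.toTopCat := Coh.toAb (ClSub.idealMod I)

/-- the units sequence -/
noncomputable abbrev S : ShortComplex (CohTop.Ab X'.toTopCat) :=
  ShortComplex.mk (SqZeroUnits.phi I hI) (UnitsSh.comap I.subschemeι) (SqZeroUnits.phi_comap I hI)

lemma hS : (S I hI).ShortExact := SqZeroUnits.shortExact I hI

/-- `H⁰(X', O^×) = Γ(X', O)^×` -/
noncomputable def e0B : Sheaf.H (UnitsSh.unitsAb X') 0 ≃+ Additive (Γ(X', ⊤))ˣ :=
  Sheaf.H.equiv₀ (UnitsSh.unitsAb X') (T := (⊤ : X'.Opens)) CategoryTheory.Limits.isTerminalTop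

/-- `H⁰(X', i_* O^×) = Γ(X, O)^×` -/
noncomputable def e0C :
    Sheaf.H (ZarPicPush.G I.subschemeι) 0 ≃+ Additive (Γ(I.subscheme, ⊤))ˣ :=
  Sheaf.H.equiv₀ (ZarPicPush.G I.subschemeι) (T := (⊤ : X'.Opens))
    CategoryTheory.Limits.isTerminalTop

/-- restriction of units -/
noncomputable abbrev resU : (Γ(X', ⊤))ˣ →* (Γ(I.subscheme, ⊤))ˣ :=
  Units.map I.subschemeι.appTop.hom.toMonoidHom

lemma e0C_map (y : Sheaf.H (UnitsSh.unitsAb X') 0) :
    e0C I (Sheaf.H.map (UnitsSh.comap I.subschemeι) 0 y) =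
      Additive.ofMul (resU I (e0B y).toMul) :=
  (Sheaf.H.equiv₀_naturality (T := (⊤ : X'.Opens))
    (hT := CategoryTheory.Limits.isTerminalTop) (UnitsSh.comap I.subschemeι) y).symm

end defs

section les

variable (hI : I * I = ⊥)

/-- `Hⁿ(J) → Hⁿ(O^×)` -/
noncomputable def Hf (n : ℕ) : Sheaf.H (A I) n →+ Sheaf.H (UnitsSh.unitsAb X') n :=
  Sheaf.H.map (SqZeroUnits.phi I hI) n

/-- `Hⁿ(O^×) → Hⁿ(i_* O^×)` -/
noncomputable def Hg (n : ℕ) :
    Sheaf.H (UnitsSh.unitsAb X') n →+ Sheaf.H (ZarPicPush.G I.subschemeι) n :=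
  Sheaf.H.map (UnitsSh.comap I.subschemeι) n

/-- the connecting map `Hⁿ(i_* O^×) → Hⁿ⁺¹(J)` -/
noncomputable def bd (n : ℕ) : Sheaf.H (ZarPicPush.G I.subschemeι) n →+ Sheaf.H (A I) (n + 1) :=
  (hS I hI).extClass.postcomp (Zc X'.toTopCat) (rfl : n + 1 = n + 1)

lemma Hf_zero_injective : Function.Injective (Hf I hI 0) := by
  intro x x' h
  exact ExtLES.comp_f_injective (hS I hI) (Zc X'.toTopCat) x x' h

lemma Hg_eq_zero_iff (n : ℕ) (y : Sheaf.H (UnitsSh.unitsAb X') n) :
    Hg I n y = 0 ↔ ∃ x, Hf I hI n x = y :=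
  ExtLES.comp_g_eq_zero_iff (hS I hI) (Zc X'.toTopCat) y

lemma bd_eq_zero_iff (n : ℕ) (z : Sheaf.H (ZarPicPush.G I.subschemeι) n) :
    bd I hI n z = 0 ↔ ∃ y, Hg I n y = z :=
  ExtLES.comp_extClass_eq_zero_iff (hS I hI) (Zc X'.toTopCat) z

lemma Hf_succ_eq_zero_iff (n : ℕ) (x : Sheaf.H (A I) (n + 1)) :
    Hf I hI (n + 1) x = 0 ↔ ∃ z, bd I hI n z = x :=
  ExtLES.comp_f_eq_zero_iff (hS I hI) (Zc X'.toTopCat) x

end les

section maps

variable (hI : I * I = ⊥)

/-- `ε : H⁰(X', J) → Γ(X', O)^×` -/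
noncomputable def eps : Multiplicative (Coh.HH X' (ClSub.idealMod I) 0) →* (Γ(X', ⊤))ˣ :=
  AddMonoidHom.toMultiplicativeLeft ((e0B (X' := X')).toAddMonoidHom.comp (Hf I hI 0))

lemma eps_apply (x : Multiplicative (Coh.HH X' (ClSub.idealMod I) 0)) :
    eps I hI x = (e0B (Hf I hI 0 x.toAdd)).toMul := rfl

/-- `δ₀ : Γ(X, O)^× → H¹(X', J)` -/
noncomputable def del0 : (Γ(I.subscheme, ⊤))ˣ →* Multiplicative (Coh.HH X' (ClSub.idealMod I) 1) :=
  AddMonoidHom.toMultiplicativeRight ((bd I hI 0).comp (e0C I).symm.toAddMonoidHom)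

lemma del0_apply (v : (Γ(I.subscheme, ⊤))ˣ) :
    del0 I hI v = Multiplicative.ofAdd (bd I hI 0 ((e0C I).symm (Additive.ofMul v))) := rfl

theorem eps_injective : Function.Injective (eps I hI) := by
  intro x x' h
  have h1 : e0B (Hf I hI 0 x.toAdd) = e0B (Hf I hI 0 x'.toAdd) := h
  exact Hf_zero_injective I hI (e0B.injective h1)

theorem ker_resU : (resU I).ker = (eps I hI).range := by
  ext u
  rw [MonoidHom.mem_ker, MonoidHom.mem_range]
  obtain ⟨y, hy⟩ : ∃ y, e0B y = Additive.ofMul u := ⟨e0B.symm (Additive.ofMul u), by simp⟩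
  have key : resU I u = 1 ↔ Hg I 0 y = 0 := by
    rw [← (e0C I).map_eq_zero_iff]
    change _ ↔ e0C I (Sheaf.H.map (UnitsSh.comap I.subschemeι) 0 y) = 0
    rw [e0C_map, hy]
    rfl
  rw [key, Hg_eq_zero_iff I hI]
  constructor
  · rintro ⟨x, rfl⟩
    refine ⟨Multiplicative.ofAdd x, ?_⟩
    rw [eps_apply]
    change (e0B (Hf I hI 0 x)).toMul = u
    rw [hy]
    rfl
  · rintro ⟨x, rfl⟩
    refine ⟨x.toAdd, ?_⟩
    apply e0B.injective
    rw [hy]
    rfl

theorem ker_del0 : (del0 I hI).ker = (resU I).range := by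
  ext v
  rw [MonoidHom.mem_ker, MonoidHom.mem_range]
  have key : del0 I hI v = 1 ↔ bd I hI 0 ((e0C I).symm (Additive.ofMul v)) = 0 := Iff.rfl
  rw [key, bd_eq_zero_iff I hI]
  constructor
  · rintro ⟨y, hy⟩
    refine ⟨(e0B y).toMul, ?_⟩
    have h1 := e0C_map I y
    change e0C I (Hg I 0 y) = _ at h1
    rw [hy, AddEquiv.apply_symm_apply] at h1
    exact (congrArg Additive.toMul h1).symm
  · rintro ⟨u, rfl⟩
    refine ⟨e0B.symm (Additive.ofMul u), ?_⟩
    apply (e0C I).injective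
    rw [AddEquiv.apply_symm_apply]
    change e0C I (Sheaf.H.map (UnitsSh.comap I.subschemeι) 0 _) = _
    rw [e0C_map, AddEquiv.apply_symm_apply]
    rfl

end maps

section pic

variable (hI : I * I = ⊥) [PicGrp.Law X'] [PicGrp.Law I.subscheme]

/-- `α : H¹(X', J) → Pic X'` -/
noncomputable def alpha : Multiplicative (Coh.HH X' (ClSub.idealMod I) 1) →* PicLoc.PicSet X' :=
  AddMonoidHom.toMultiplicativeLeft
    ((ZarPicGrp.Φequiv X').symm.toAddMonoidHom.comp (Hf I hI 1))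

lemma alpha_apply (x : Multiplicative (Coh.HH X' (ClSub.idealMod I) 1)) :
    alpha I hI x = ((ZarPicGrp.Φequiv X').symm (Hf I hI 1 x.toAdd)).toMul := rfl

lemma Φ_alpha (x : Multiplicative (Coh.HH X' (ClSub.idealMod I) 1)) :
    ZarPicGrp.Φ X' (alpha I hI x) = Hf I hI 1 x.toAdd := by
  rw [alpha_apply]
  exact (ZarPicGrp.Φequiv X').apply_symm_apply _

/-- the class map of the closed subscheme with values in `H¹(X', i_* O^×)` -/
noncomputable abbrev psi : Additive (PicLoc.PicSet I.subscheme) →+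
    Sheaf.H (ZarPicPush.G I.subschemeι) 1 :=
  ZarPicPush.Ψhom I.subschemeι (subschemeι_surjective I hI) (subschemeι_isInducing I)

/-- `δ₁ : Pic X → H²(X', J)` -/
noncomputable def del1 :
    PicLoc.PicSet I.subscheme →* Multiplicative (Coh.HH X' (ClSub.idealMod I) 2) :=
  AddMonoidHom.toMultiplicativeRight ((bd I hI 1).comp (psi I hI))

lemma del1_apply (d : PicLoc.PicSet I.subscheme) :
    del1 I hI d = Multiplicative.ofAdd (bd I hI 1 (psi I hI (Additive.ofMul d))) := rfl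

theorem ker_alpha : (alpha I hI).ker = (del0 I hI).range := by
  ext x
  rw [MonoidHom.mem_ker, MonoidHom.mem_range]
  have key : alpha I hI x = 1 ↔ Hf I hI 1 x.toAdd = 0 := by
    rw [alpha_apply]
    constructor
    · intro h
      have h1 : (ZarPicGrp.Φequiv X').symm (Hf I hI 1 x.toAdd) = 0 := h
      exact (AddEquiv.map_eq_zero_iff _).1 h1
    · intro h
      rw [h, map_zero]
      rfl
  rw [key, Hf_succ_eq_zero_iff I hI]
  constructor
  · rintro ⟨z, hz⟩
    refine ⟨((e0C I) z).toMul, ?_⟩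
    rw [del0_apply]
    change Multiplicative.ofAdd (bd I hI 0 ((e0C I).symm (e0C I z))) = x
    rw [AddEquiv.symm_apply_apply, hz]
    rfl
  · rintro ⟨v, rfl⟩
    exact ⟨_, rfl⟩

variable (hi : PicGrp.PullMul I.subschemeι)

lemma psi_pullHom (c : PicLoc.PicSet X') :
    psi I hI (Additive.ofMul (PicGrp.pullHom I.subschemeι hi c)) = Hg I 1 (ZarPicGrp.Φ X' c) :=
  PicPushCompat.Ψ_pullHom I.subschemeι (subschemeι_surjective I hI) (subschemeι_isInducing I) hi c

theorem ker_pullHom : (PicGrp.pullHom I.subschemeι hi).ker = (alpha I hI).range := by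
  ext c
  rw [MonoidHom.mem_ker, MonoidHom.mem_range]
  have key : PicGrp.pullHom I.subschemeι hi c = 1 ↔ Hg I 1 (ZarPicGrp.Φ X' c) = 0 := by
    rw [← psi_pullHom I hI hi]
    constructor
    · intro h
      rw [h]
      exact map_zero _
    · intro h
      have h0 : psi I hI (Additive.ofMul (PicGrp.pullHom I.subschemeι hi c)) = psi I hI 0 := by
        rw [h, map_zero]
      exact ZarPicPush.Ψhom_injective I.subschemeι _ _ h0
  rw [key, Hg_eq_zero_iff I hI]
  constructor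
  · rintro ⟨x, hx⟩
    refine ⟨Multiplicative.ofAdd x, ?_⟩
    have h1 : ZarPicGrp.Φequiv X' (Additive.ofMul (alpha I hI (Multiplicative.ofAdd x))) =
        ZarPicGrp.Φequiv X' (Additive.ofMul c) := by
      change ZarPicGrp.Φ X' (alpha I hI (Multiplicative.ofAdd x)) = ZarPicGrp.Φ X' c
      rw [Φ_alpha, ← hx]
      rfl
    exact (ZarPicGrp.Φequiv X').injective h1
  · rintro ⟨x, rfl⟩
    exact ⟨x.toAdd, (Φ_alpha I hI x).symm⟩

theorem ker_del1 : (del1 I hI).ker = (PicGrp.pullHom I.subschemeι hi).range := by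
  ext d
  rw [MonoidHom.mem_ker, MonoidHom.mem_range]
  have key : del1 I hI d = 1 ↔ bd I hI 1 (psi I hI (Additive.ofMul d)) = 0 := Iff.rfl
  rw [key, bd_eq_zero_iff I hI]
  constructor
  · rintro ⟨y, hy⟩
    obtain ⟨c, rfl⟩ := (ZarPicGrp.Φequiv X').surjective y
    refine ⟨c.toMul, ?_⟩
    have h1 : psi I hI (Additive.ofMul (PicGrp.pullHom I.subschemeι hi c.toMul)) =
        psi I hI (Additive.ofMul d) := by
      rw [psi_pullHom I hI hi, ← hy]
      rfl
    exact ZarPicPush.Ψhom_injective I.subschemeι _ _ h1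
  · rintro ⟨c, rfl⟩
    exact ⟨ZarPicGrp.Φ X' c, (psi_pullHom I hI hi c).symm⟩

end pic

end Groth.Agent.Lib.Helper44.SqZeroPic
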