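import Groth.Agent.Lib.Helper44.FlatFibreSheaf
import Groth.Agent.Lib.Helper44.SqZeroPic

set_option autoImplicit false
set_option linter.unusedSectionVars false
universe u
open CategoryTheory CategoryTheory.Limits AlgebraicGeometry Opposite TopologicalSpace

namespace Groth.Agent.Lib.Helper44.FlatFibre

open Groth.Agent.Lib.Lead Groth.Agent.Lib.Helper44.ZarSheafBasics Groth.Agent.Lib.Helper45
  Groth.Agent.Lib.Helper49 Groth.Agent.Lib.Helper44.SqZeroUnits

section SqZero

variable {A : Type u} [CommRing A] {X' : Scheme.{u}} (s : X' ⟶ Spec (CommRingCat.of A))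
  {B₁ : Type u} [CommRing B₁] (φ₁ : A →+* B₁) (t : A) [IsClosedImmersion (ι s φ₁)]
  (hφ₁ : Function.Surjective φ₁) (hk₁ : RingHom.ker φ₁ = Ideal.span {t}) (htt : t * t = 0)

include hφ₁ hk₁ htt in
theorem ker_mul_ker : (ι s φ₁).ker * (ι s φ₁).ker = ⊥ := by
  apply Scheme.IdealSheafData.ext
  funext U
  rw [Scheme.IdealSheafData.ideal_mul, Scheme.IdealSheafData.ideal_bot]
  change (ι s φ₁).ker.ideal U * (ι s φ₁).ker.ideal U = ⊥
  rw [Scheme.Hom.ker_apply, ker_app s hφ₁ U.1 U.2, hk₁, Ideal.map_span, Set.image_singleton,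
    Ideal.span_singleton_mul_span_singleton, ← map_mul, htt, map_zero]
  exact Ideal.span_singleton_eq_bot.2 rfl

end SqZero

end Groth.Agent.Lib.Helper44.FlatFibre

namespace Groth.Agent.Lib.Helper44.FlatFibre

section Transport
variable {X' Z Z' : Scheme.{u}}

/-- `e^♯` on units, pushed forward along `j` -/
noncomputable def psi (e : Z ⟶ Z') (j : Z' ⟶ X') :
    (CohTop.push j.base).obj (UnitsSh.unitsAb Z') ⟶
      (CohTop.push (e ≫ j).base).obj (UnitsSh.unitsAb Z) :=
  (CohTop.push j.base).map (UnitsSh.comap e)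

lemma comap_comp (e : Z ⟶ Z') (j : Z' ⟶ X') :
    UnitsSh.comap (e ≫ j) = UnitsSh.comap j ≫ psi e j := by
  apply Sheaf.hom_ext
  ext U a
  rfl

instance isIso_comap (e : Z ⟶ Z') [IsIso e] : IsIso (UnitsSh.comap e) := by
  haveI : ∀ U, IsIso ((UnitsSh.comap e).hom.app U) := fun U => by
    haveI : IsIso (e.app U.unop) := inferInstance
    change IsIso (UnitsSh.unitsFunctor.map (e.app U.unop))
    infer_instance
  haveI : IsIso (UnitsSh.comap e).hom := NatIso.isIso_of_isIso_app _
  haveI : IsIso ((sheafToPresheaf _ _).map (UnitsSh.comap e)) := this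
  exact isIso_of_reflects_iso (UnitsSh.comap e) (sheafToPresheaf _ _)

instance isIso_psi (e : Z ⟶ Z') [IsIso e] (j : Z' ⟶ X') : IsIso (psi e j) := by
  haveI := isIso_comap e
  exact Functor.map_isIso (CohTop.push j.base) (UnitsSh.comap e)

/-- surjectivity of the units map on cohomology only depends on the closed subscheme -/
theorem surjective_H_comap_comp (e : Z ⟶ Z') [IsIso e] (j : Z' ⟶ X') (q : ℕ)
    (h : Function.Surjective (Sheaf.H.map (UnitsSh.comap j) q)) :
    Function.Surjective (Sheaf.H.map (UnitsSh.comap (e ≫ j)) q) := by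
  rw [comap_comp]
  intro y
  obtain ⟨x, hx⟩ := h (Sheaf.H.map (inv (psi e j)) q y)
  refine ⟨x, ?_⟩
  rw [Sheaf.H.map_comp_apply, hx, ← Sheaf.H.map_comp_apply, IsIso.inv_hom_id,
    Sheaf.H.map_id_apply]

/-- surjectivity of the units map on cohomology for a closed immersion, from its image -/
theorem surjective_H_comap_of_ker (i : Z ⟶ X') [IsClosedImmersion i] (q : ℕ)
    (h : Function.Surjective (Sheaf.H.map (UnitsSh.comap i.ker.subschemeι) q)) :
    Function.Surjective (Sheaf.H.map (UnitsSh.comap i) q) := by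
  have h1 := surjective_H_comap_comp i.toImage i.imageι q h
  rw [i.toImage_imageι] at h1
  exact h1

end Transport

end Groth.Agent.Lib.Helper44.FlatFibre
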