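import Groth.Agent.Lib.Helper44.GammaMap

/-!
# Functoriality of the γ-filtration
-/

set_option autoImplicit false
open Finset

namespace Groth.Agent.Lib.Helper44

open LambdaRing

universe u v w

section

variable {K : Type u} [CommRing K] {A : Type v} [CommRing A] [LambdaOps A]
  {B : Type w} [CommRing B] [LambdaOps B]

/-- A ring map commuting with the `λ^n` and with the augmentations carries `Fil^m` into `Fil^m`. -/
theorem map_mem_gammaFil (εA : A →+* K) (εB : B →+* K) (f : A →+* B)
    (hf : ∀ (n : ℕ) (a : A), f (LambdaOps.lam n a) = LambdaOps.lam n (f a))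
    (hε : ∀ a, εB (f a) = εA a) {m : ℕ} {a : A} (ha : a ∈ gammaFil εA m) :
    f a ∈ gammaFil εB m := by
  rw [gammaFil_eq_span] at ha
  induction ha using Submodule.span_induction with
  | mem y hy =>
    obtain ⟨l, hl, hm, rfl⟩ := hy
    apply Ideal.subset_span
    refine ⟨l.map fun p => (p.1, f p.2), ?_, ?_, ?_⟩
    · intro p hp
      rw [List.mem_map] at hp
      obtain ⟨q, hq, rfl⟩ := hp
      change εB (f q.2) = 0
      rw [hε, hl q hq]
    · rw [List.map_map]
      exact hm
    · rw [map_list_prod, List.map_map, List.map_map]
      congr 1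
      apply List.map_congr_left
      intro p _
      simp only [Function.comp_apply]
      exact map_gamma_of_map_lam f hf p.1 p.2
  | zero =>
    rw [map_zero]
    exact Ideal.zero_mem _
  | add x y _ _ hx hy =>
    rw [map_add]
    exact Ideal.add_mem _ hx hy
  | smul c x _ hx =>
    rw [smul_eq_mul, map_mul]
    exact Ideal.mul_mem_left _ _ hx

end

end Groth.Agent.Lib.Helper44
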