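import Mathlib.RingTheory.MvPolynomial.WeightedHomogeneous
import Mathlib.RingTheory.MvPolynomial.Symmetric.Defs

set_option autoImplicit false
open MvPolynomial Finset

namespace Groth.Agent.Lib.Helper44

section WH

variable {R : Type*} [CommSemiring R] {σ τ : Type*} {M : Type*} [AddCommMonoid M]

/-- Substituting weighted-homogeneous polynomials of the right weights into a monomial. -/
theorem isWeightedHomogeneous_aeval_monomial {w : σ → M} {w' : τ → M} (f : σ → MvPolynomial τ R)
    (hf : ∀ s, IsWeightedHomogeneous w' (f s) (w s)) (d : σ →₀ ℕ) (r : R) :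
    IsWeightedHomogeneous w' (aeval f (monomial d r)) (Finsupp.weight w d) := by
  rw [aeval_monomial, Finsupp.weight_apply]
  have h1 : IsWeightedHomogeneous w' (d.prod fun i k => f i ^ k) (d.sum fun i k => k • w i) := by
    rw [Finsupp.prod, Finsupp.sum]
    exact IsWeightedHomogeneous.prod _ _ _ fun i _ => (hf i).pow _
  have := (isWeightedHomogeneous_C w' r).mul h1
  rwa [zero_add] at this

/-- Substituting weighted-homogeneous polynomials (of weights `w s`) for the variables carries
`w`-weighted-homogeneous polynomials to `w'`-weighted-homogeneous polynomials of the same weight. -/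
theorem isWeightedHomogeneous_aeval {w : σ → M} {w' : τ → M} (f : σ → MvPolynomial τ R)
    (hf : ∀ s, IsWeightedHomogeneous w' (f s) (w s)) {P : MvPolynomial σ R} {m : M}
    (hP : IsWeightedHomogeneous w P m) : IsWeightedHomogeneous w' (aeval f P) m := by
  conv => arg 2; rw [P.as_sum]
  rw [map_sum]
  apply IsWeightedHomogeneous.sum
  intro d hd
  have := isWeightedHomogeneous_aeval_monomial f hf d (coeff d P)
  rwa [hP (mem_support_iff.mp hd)] at this

/-- Substitution of weighted-homogeneous polynomials commutes with taking weighted-homogeneous
components. -/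
theorem aeval_weightedHomogeneousComponent [DecidableEq M] {w : σ → M} {w' : τ → M}
    (f : σ → MvPolynomial τ R)
    (hf : ∀ s, IsWeightedHomogeneous w' (f s) (w s)) (P : MvPolynomial σ R) (m : M) :
    aeval f (weightedHomogeneousComponent w m P) =
      weightedHomogeneousComponent w' m (aeval f P) := by
  conv_rhs => rw [P.as_sum]
  rw [weightedHomogeneousComponent_apply, map_sum, map_sum, map_sum, Finset.sum_filter]
  refine Finset.sum_congr rfl fun d _ => ?_
  have h := isWeightedHomogeneous_aeval_monomial f hf d (coeff d P)
  rw [weightedHomogeneousComponent_of_mem h]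
  by_cases hd : Finsupp.weight w d = m
  · rw [if_pos hd, if_pos hd.symm]
  · rw [if_neg hd, if_neg (fun h => hd h.symm)]

end WH

end Groth.Agent.Lib.Helper44
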