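import Mathlib.RingTheory.MvPolynomial.WeightedHomogeneous
import Mathlib.Algebra.MvPolynomial.Rename
import Groth.Agent.Lib.Helper44.WHom

/-!
# The weight filtration on a polynomial ring

`wfil R w k` is the ideal of polynomials all of whose monomials have `w`-weight `≥ k`.
-/

set_option autoImplicit false
open Finset

namespace Groth.Agent.Lib.Helper44

open MvPolynomial

section WFil

variable {σ : Type*} (R : Type*) [CommRing R]

/-- Polynomials all of whose monomials have `w`-weight at least `k`. -/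
def wfil (w : σ → ℕ) (k : ℕ) : Ideal (MvPolynomial σ R) where
  carrier := {p | ∀ d ∈ p.support, k ≤ Finsupp.weight w d}
  add_mem' := by
    intro p q hp hq d hd
    classical
    rcases Finset.mem_union.mp (MvPolynomial.support_add hd) with h | h
    · exact hp d h
    · exact hq d h
  zero_mem' := by
    intro d hd
    simp at hd
  smul_mem' := by
    intro c p hp d hd
    classical
    rw [smul_eq_mul] at hd
    obtain ⟨d1, _, d2, hd2, rfl⟩ := Finset.mem_add.mp (MvPolynomial.support_mul c p hd)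
    rw [map_add]
    exact le_trans (hp d2 hd2) (Nat.le_add_left _ _)

variable {R}

theorem mem_wfil {w : σ → ℕ} {k : ℕ} {p : MvPolynomial σ R} :
    p ∈ wfil R w k ↔ ∀ d ∈ p.support, k ≤ Finsupp.weight w d := Iff.rfl

theorem wfil_anti (w : σ → ℕ) {k l : ℕ} (h : k ≤ l) : wfil R w l ≤ wfil R w k :=
  fun _ hp d hd => le_trans h (hp d hd)

theorem wfil_zero (w : σ → ℕ) : wfil R w 0 = ⊤ := by
  rw [eq_top_iff]
  intro p _ d _
  exact Nat.zero_le _

theorem mul_mem_wfil {w : σ → ℕ} {a b : ℕ} {p q : MvPolynomial σ R} (hp : p ∈ wfil R w a)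
    (hq : q ∈ wfil R w b) : p * q ∈ wfil R w (a + b) := by
  classical
  intro d hd
  obtain ⟨d1, hd1, d2, hd2, rfl⟩ := Finset.mem_add.mp (MvPolynomial.support_mul p q hd)
  rw [map_add]
  exact Nat.add_le_add (hp d1 hd1) (hq d2 hd2)

theorem monomial_mem_wfil {w : σ → ℕ} {k : ℕ} {d : σ →₀ ℕ} (c : R) (h : k ≤ Finsupp.weight w d) :
    monomial d c ∈ wfil R w k := by
  classical
  intro e he
  have := MvPolynomial.support_monomial_subset he
  rw [Finset.mem_singleton] at this
  rw [this]
  exact h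

theorem X_mem_wfil (w : σ → ℕ) (v : σ) : (X v : MvPolynomial σ R) ∈ wfil R w (w v) := by
  apply monomial_mem_wfil
  rw [Finsupp.weight_single, one_smul]

theorem wfil_induction {w : σ → ℕ} {k : ℕ} {P : MvPolynomial σ R → Prop} {p : MvPolynomial σ R}
    (hp : p ∈ wfil R w k)
    (hmono : ∀ (d : σ →₀ ℕ) (c : R), k ≤ Finsupp.weight w d → P (monomial d c))
    (hadd : ∀ p q, P p → P q → P (p + q)) (h0 : P 0) : P p := by
  rw [← p.support_sum_monomial_coeff]
  apply Finset.sum_induction _ P hadd h0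
  intro d hd
  exact hmono d _ (hp d hd)

theorem of_smul_mem_wfil {w : σ → ℕ} {k : ℕ} {n : ℤ} (hn : n ≠ 0) {p : MvPolynomial σ ℤ}
    (h : n • p ∈ wfil ℤ w k) : p ∈ wfil ℤ w k := by
  intro d hd
  apply h d
  rw [mem_support_iff] at hd ⊢
  rw [coeff_smul, smul_eq_mul]
  exact mul_ne_zero hn hd

theorem of_natCast_mul_mem_wfil {w : σ → ℕ} {k : ℕ} {n : ℕ} (hn : n ≠ 0) {p : MvPolynomial σ ℤ}
    (h : (n : MvPolynomial σ ℤ) * p ∈ wfil ℤ w k) : p ∈ wfil ℤ w k := by
  apply of_smul_mem_wfil (n := (n : ℤ)) (by exact_mod_cast hn)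
  rw [zsmul_eq_mul]
  exact_mod_cast h

theorem mem_wfil_of_isWeightedHomogeneous {w : σ → ℕ} {k n : ℕ} {q : MvPolynomial σ R}
    (hq : IsWeightedHomogeneous w q n) (h : k ≤ n) : q ∈ wfil R w k := by
  intro d hd
  rw [mem_support_iff] at hd
  rw [hq hd]
  exact h

/-- Monomials in elements `f v ∈ J (w v)` lie in `J (weight)`. -/
theorem finsupp_prod_mem {S : Type*} [CommRing S] (w : σ → ℕ) (f : σ → S) (J : ℕ → Ideal S)
    (hJ0 : J 0 = ⊤) (hJmul : ∀ a b x y, x ∈ J a → y ∈ J b → x * y ∈ J (a + b))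
    (hf : ∀ v, f v ∈ J (w v)) (d : σ →₀ ℕ) :
    (d.prod fun v e => f v ^ e) ∈ J (Finsupp.weight w d) := by
  induction d using Finsupp.induction_linear with
  | zero =>
    rw [Finsupp.prod_zero_index, map_zero, hJ0]
    trivial
  | add d1 d2 h1 h2 =>
    rw [Finsupp.prod_add_index' (fun a => pow_zero _) (fun a b1 b2 => pow_add _ _ _), map_add]
    exact hJmul _ _ _ _ h1 h2
  | single v e =>
    rw [Finsupp.prod_single_index (h := fun v e => f v ^ e) (pow_zero _), Finsupp.weight_single]
    induction e with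
    | zero =>
      rw [pow_zero, zero_smul, hJ0]
      trivial
    | succ e ih =>
      rw [pow_succ, succ_nsmul]
      exact hJmul _ _ _ _ ih (hf v)

/-- Evaluation at elements `f v ∈ J (w v)` of a multiplicative decreasing family of ideals
maps the weight filtration into `J`. -/
theorem aeval_mem_of_mem_wfil {S : Type*} [CommRing S] [Algebra R S] (w : σ → ℕ) (f : σ → S)
    (J : ℕ → Ideal S) (hJ0 : J 0 = ⊤) (hJanti : ∀ a b, a ≤ b → J b ≤ J a)
    (hJmul : ∀ a b x y, x ∈ J a → y ∈ J b → x * y ∈ J (a + b))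
    (hf : ∀ v, f v ∈ J (w v)) {k : ℕ} {p : MvPolynomial σ R} (hp : p ∈ wfil R w k) :
    aeval f p ∈ J k := by
  refine wfil_induction (P := fun p => aeval f p ∈ J k) hp ?_ ?_ ?_
  · intro d c hd
    rw [aeval_monomial]
    exact Ideal.mul_mem_left _ _ (hJanti _ _ hd (finsupp_prod_mem w f J hJ0 hJmul hf d))
  · intro p q hp hq
    rw [map_add]
    exact Ideal.add_mem _ hp hq
  · rw [map_zero]
    exact Ideal.zero_mem _

theorem eq_zero_of_mem_wfil_of_low {w : σ → ℕ} {k : ℕ} {p : MvPolynomial σ R}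
    (h1 : p ∈ wfil R w k) (h2 : ∀ d ∈ p.support, Finsupp.weight w d < k) : p = 0 := by
  rw [← MvPolynomial.support_eq_empty]
  apply Finset.eq_empty_of_forall_notMem
  intro d hd
  exact absurd (h1 d hd) (not_le.mpr (h2 d hd))

section GI

variable {σ' : Type*} (w : σ → ℕ) (w' : σ' → ℕ) (f : σ → MvPolynomial σ' R)

/-- **Graded injectivity**: an injective weighted-homogeneous substitution reflects the weight
filtration. -/
theorem mem_wfil_of_aeval_mem
    (hf : ∀ v, IsWeightedHomogeneous w' (f v) (w v))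
    (hinj : Function.Injective (aeval f : MvPolynomial σ R →ₐ[R] MvPolynomial σ' R))
    {k : ℕ} {p : MvPolynomial σ R} (hp : aeval f p ∈ wfil R w' k) : p ∈ wfil R w k := by
  classical
  set p1 : MvPolynomial σ R :=
    ∑ d ∈ p.support.filter (fun d => k ≤ Finsupp.weight w d), monomial d (coeff d p) with hp1
  set p2 : MvPolynomial σ R :=
    ∑ d ∈ p.support.filter (fun d => ¬ k ≤ Finsupp.weight w d), monomial d (coeff d p) with hp2
  have hsum : p = p1 + p2 := by
    rw [hp1, hp2, Finset.sum_filter_add_sum_filter_not, p.support_sum_monomial_coeff]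
  have h1 : p1 ∈ wfil R w k := by
    apply Ideal.sum_mem
    intro d hd
    exact monomial_mem_wfil _ (Finset.mem_filter.mp hd).2
  have h1' : aeval f p1 ∈ wfil R w' k := by
    rw [hp1, map_sum]
    apply Ideal.sum_mem
    intro d hd
    exact mem_wfil_of_isWeightedHomogeneous (isWeightedHomogeneous_aeval_monomial (w := w) (w' := w') f hf d _)
      (Finset.mem_filter.mp hd).2
  have h2' : aeval f p2 ∈ wfil R w' k := by
    have : aeval f p2 = aeval f p - aeval f p1 := by
      rw [hsum, map_add]; ring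
    rw [this]
    exact Ideal.sub_mem _ hp h1'
  have h2low : ∀ e ∈ (aeval f p2).support, Finsupp.weight w' e < k := by
    intro e he
    rw [hp2, map_sum] at he
    obtain ⟨d, hd, hde⟩ := Finset.mem_biUnion.mp (MvPolynomial.support_sum he)
    rw [mem_support_iff] at hde
    rw [isWeightedHomogeneous_aeval_monomial (w := w) (w' := w') f hf d _ hde]
    exact not_le.mp (Finset.mem_filter.mp hd).2
  have h2zero : p2 = 0 := by
    apply hinj
    rw [map_zero]
    exact eq_zero_of_mem_wfil_of_low h2' h2low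
  rw [hsum, h2zero, add_zero]
  exact h1

end GI

end WFil

end Groth.Agent.Lib.Helper44
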