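import Groth.Agent.Lib.Helper44.AdamsMul
import Groth.Agent.Lib.Helper44.WeightFil
import Groth.Agent.Lib.Helper44.MulGen
import Groth.Agent.Lib.Helper44.GammaFilSpan

/-!
# The part of `λ^k(xy)` linear in the `λ^i(y)`

`P_k(X; Y) ≡ N_k(X) · Y_k` modulo `(Y)²`, where `N_k` is the Newton polynomial; hence in a special
λ-ring `λ^k(κ μ) ≡ ψ^k(κ) λ^k(μ)` modulo the square of any ideal containing all `λ^i(μ)`, `i ≥ 1`.
-/

set_option autoImplicit false
open Finset

namespace Groth.Agent.Lib.Helper44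

open LambdaRing MvPolynomial

section NL

variable {R : Type*} [CommRing R]

/-- If the positive-degree coefficients of `A` lie in `J1` and `J1 · J1 ⊆ J2 ⊆ J1` then
`ν_i(A) ≡ (-1)^(i-1) i a_i` modulo `J2`. -/
theorem newton_sub_mem (J1 J2 : Ideal R) (h12 : ∀ x y, x ∈ J1 → y ∈ J1 → x * y ∈ J2)
    (h21 : J2 ≤ J1) {A : PowerSeries R} (hA : PowerSeries.constantCoeff A = 1) (k : ℕ)
    (hk : ∀ i, 1 ≤ i → i ≤ k → PowerSeries.coeff i A ∈ J1) :
    ∀ i, 1 ≤ i → i ≤ k →
      newton i A - (-1 : R) ^ (i - 1) * (i : R) * PowerSeries.coeff i A ∈ J2 := by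
  intro i
  induction i using Nat.strong_induction_on with
  | _ i ih =>
    intro hi hik
    obtain ⟨i, rfl⟩ : ∃ i', i = i' + 1 := ⟨i - 1, by omega⟩
    have h := coeff_succ_mul_eq_sum hA i
    have hmem : (i, 0) ∈ Finset.antidiagonal i := by simp
    rw [← Finset.add_sum_erase _ _ hmem] at h
    simp only [PowerSeries.coeff_zero_eq_constantCoeff, hA, mul_one] at h
    have hS : ∑ pq ∈ (Finset.antidiagonal i).erase (i, 0),
        ((-1 : R) ^ pq.1 * newton (pq.1 + 1) A) * PowerSeries.coeff pq.2 A ∈ J2 := by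
      refine Ideal.sum_mem _ fun pq hpq => ?_
      have hne := (Finset.mem_erase.mp hpq).1
      have hsum := Finset.mem_antidiagonal.mp (Finset.mem_erase.mp hpq).2
      have h2 : 1 ≤ pq.2 := by
        rcases Nat.eq_zero_or_pos pq.2 with h0 | hpos
        · exfalso
          apply hne
          ext
          · simp only; omega
          · simp only; omega
        · exact hpos
      have hν : newton (pq.1 + 1) A ∈ J1 := by
        have h3 := h21 (ih (pq.1 + 1) (by omega) (by omega) (by omega))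
        have h4 : (-1 : R) ^ (pq.1 + 1 - 1) * ((pq.1 + 1 : ℕ) : R) *
            PowerSeries.coeff (pq.1 + 1) A ∈ J1 :=
          Ideal.mul_mem_left _ _ (hk _ (by omega) (by omega))
        have := Ideal.add_mem _ h3 h4
        rwa [sub_add_cancel] at this
      exact h12 _ _ (Ideal.mul_mem_left _ _ hν) (hk _ h2 (by omega))
    have hsq : (-1 : R) ^ i * (-1 : R) ^ i = 1 := by
      rw [← pow_add, ← two_mul, pow_mul]
      simp
    have e : newton (i + 1) A - (-1 : R) ^ (i + 1 - 1) * ((i + 1 : ℕ) : R) *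
        PowerSeries.coeff (i + 1) A =
        -((-1 : R) ^ i * ∑ pq ∈ (Finset.antidiagonal i).erase (i, 0),
          ((-1 : R) ^ pq.1 * newton (pq.1 + 1) A) * PowerSeries.coeff pq.2 A) := by
      rw [Nat.add_sub_cancel]
      push_cast
      linear_combination (-(-1 : R) ^ i) * h - newton (i + 1) A * hsq
    rw [e]
    exact Ideal.neg_mem_iff _ |>.mpr (Ideal.mul_mem_left _ _ hS)

end NL

section RN

variable {R : Type*} [CommRing R] {σ τ : Type*}

theorem rename_mem_wfil (f : σ → τ) (w : τ → ℕ) {k : ℕ} {p : MvPolynomial σ R}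
    (hp : p ∈ wfil R (w ∘ f) k) : rename f p ∈ wfil R w k := by
  rw [rename_eq_aeval]
  exact aeval_mem_of_mem_wfil (w ∘ f) _ (wfil R w) (wfil_zero _) (fun _ _ h => wfil_anti _ h)
    (fun _ _ _ _ hx hy => mul_mem_wfil hx hy) (fun v => X_mem_wfil w (f v)) hp

end RN

section YI

/-- The weight counting the `Y`-degree. -/
def wY (n : ℕ) : Fin n ⊕ Fin n → ℕ := Sum.elim (fun _ => 0) (fun _ => 1)

theorem weight_mulWeight_snd (n : ℕ) (d : Fin n ⊕ Fin n →₀ ℕ) :
    (Finsupp.weight (mulWeight n) d).2 = ∑ b : Fin n, d (Sum.inr b) * ((b : ℕ) + 1) := by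
  rw [Finsupp.weight_eq_sum, Fintype.sum_sum_type]
  simp [mulWeight, Prod.snd_sum]

/-- Every monomial of `P_n` (`n ≥ 1`) contains a `Y`-variable. -/
theorem mem_wfil_wY_of_isMulPoly {n : ℕ} (hn : 1 ≤ n) {P : MvPolynomial (Fin n ⊕ Fin n) ℤ}
    (hP : IsMulPoly n P) : P ∈ wfil ℤ (wY n) 1 := by
  intro d hd
  rw [mem_support_iff] at hd
  have hw : Finsupp.weight (mulWeight n) d = (n, n) := hP.2 hd
  have h2 := congrArg Prod.snd hw
  rw [weight_mulWeight_snd] at h2
  simp only at h2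
  by_contra hlt
  have h0 : ∀ b : Fin n, d (Sum.inr b) = 0 := by
    intro b
    have := Finsupp.le_weight (wY n) (s := Sum.inr b) (by simp [wY]) d
    omega
  rw [Finset.sum_eq_zero (fun b _ => by rw [h0 b, zero_mul])] at h2
  omega

theorem wY_comp_sumCastLE {m k : ℕ} (h : m ≤ k) : wY k ∘ sumCastLE h = wY m := by
  funext v
  rcases v with v | v <;> rfl

theorem sumCastLE_refl (k : ℕ) : sumCastLE (le_refl k) = id := by
  funext v
  rcases v with v | v <;> rfl

end YI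

section Lin

/-- `P_k ≡ N_k(X) Y_k` modulo `(Y)²`. -/
theorem univ_mul_linear (k : ℕ) (hk : 1 ≤ k) (P : (m : ℕ) → MvPolynomial (Fin m ⊕ Fin m) ℤ)
    (hP : ∀ m, IsMulPoly m (P m)) :
    P k - newton k (univAX k) * X (Sum.inr ⟨k - 1, by omega⟩) ∈ wfil ℤ (wY k) 2 := by
  have h12 : ∀ x y : MvPolynomial (Fin k ⊕ Fin k) ℤ, x ∈ wfil ℤ (wY k) 1 → y ∈ wfil ℤ (wY k) 1 →
      x * y ∈ wfil ℤ (wY k) 2 := fun x y hx hy => mul_mem_wfil hx hy
  have h21 : wfil ℤ (wY k) 2 ≤ wfil ℤ (wY k) 1 := wfil_anti _ (by omega)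
  have hB : ∀ i, 1 ≤ i → i ≤ k → PowerSeries.coeff i (univB k P) ∈ wfil ℤ (wY k) 1 := by
    intro i hi hik
    rw [univB, PowerSeries.coeff_mk, if_neg (by omega), dif_pos hik]
    apply rename_mem_wfil
    rw [wY_comp_sumCastLE]
    exact mem_wfil_wY_of_isMulPoly hi (hP i)
  have hY : ∀ i, 1 ≤ i → i ≤ k → PowerSeries.coeff i (univAY k) ∈ wfil ℤ (wY k) 1 := by
    intro i hi hik
    rw [univAY, PowerSeries.coeff_mk, if_neg (by omega), dif_pos (by omega)]
    exact X_mem_wfil (wY k) _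
  have h1 := newton_sub_mem _ _ h12 h21 (constantCoeff_univB k P) k hB k hk (le_refl k)
  have h2 := newton_sub_mem _ _ h12 h21 (constantCoeff_univAY k) k hY k hk (le_refl k)
  have h3 := newton_univB k P hP k hk (le_refl k)
  have cB : PowerSeries.coeff k (univB k P) = P k := by
    rw [univB, PowerSeries.coeff_mk, if_neg (by omega), dif_pos (le_refl k), sumCastLE_refl,
      rename_id_apply]
  have cY : PowerSeries.coeff k (univAY k) = X (Sum.inr ⟨k - 1, by omega⟩) := by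
    rw [univAY, PowerSeries.coeff_mk, if_neg (by omega), dif_pos (by omega)]
  rw [cB] at h1
  rw [cY] at h2
  have hc : ((-1 : ℤ) ^ (k - 1) * (k : ℤ)) ≠ 0 := by
    apply mul_ne_zero
    · exact pow_ne_zero _ (by norm_num)
    · exact_mod_cast (by omega : k ≠ 0)
  apply of_smul_mem_wfil hc
  have e : ((-1 : ℤ) ^ (k - 1) * (k : ℤ)) •
      (P k - newton k (univAX k) * X (Sum.inr ⟨k - 1, by omega⟩)) =
      -(newton k (univB k P) - (-1 : MvPolynomial (Fin k ⊕ Fin k) ℤ) ^ (k - 1) *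
        (k : MvPolynomial (Fin k ⊕ Fin k) ℤ) * P k) +
      newton k (univAX k) * (newton k (univAY k) - (-1 : MvPolynomial (Fin k ⊕ Fin k) ℤ) ^ (k - 1) *
        (k : MvPolynomial (Fin k ⊕ Fin k) ℤ) * X (Sum.inr ⟨k - 1, by omega⟩)) := by
    rw [zsmul_eq_mul, h3]
    push_cast
    ring
  rw [e]
  exact Ideal.add_mem _ (Ideal.neg_mem_iff _ |>.mpr h1) (Ideal.mul_mem_left _ _ h2)

end Lin

section Transfer

variable {A : Type*} [CommRing A] [LambdaOps A]

theorem thetaXY_mem_pow (k : ℕ) (κ μ : A) (I0 : Ideal A)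
    (hμ : ∀ i, 1 ≤ i → LambdaOps.lam i μ ∈ I0) {a : ℕ} {p : MvPolynomial (Fin k ⊕ Fin k) ℤ}
    (hp : p ∈ wfil ℤ (wY k) a) : thetaXY k κ μ p ∈ I0 ^ a := by
  refine aeval_mem_of_mem_wfil (wY k) _ (fun a => I0 ^ a) ?_ (fun _ _ h => Ideal.pow_le_pow_right h)
    (fun a b x y hx hy => ?_) ?_ hp
  · rw [pow_zero, Ideal.one_eq_top]
  · rw [pow_add]
    exact Ideal.mul_mem_mul hx hy
  · rintro (v | v)
    · change _ ∈ I0 ^ 0
      rw [pow_zero, Ideal.one_eq_top]
      trivial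
    · change _ ∈ I0 ^ 1
      rw [pow_one]
      exact hμ _ (by omega)

/-- `λ^k(a μ)` lies in any ideal containing all `λ^i(μ)`, `i ≥ 1`. -/
theorem lam_mul_mem (hA : IsSpecial A) (a μ : A) (I0 : Ideal A)
    (hμ : ∀ i, 1 ≤ i → LambdaOps.lam i μ ∈ I0) (k : ℕ) (hk : 1 ≤ k) :
    LambdaOps.lam k (a * μ) ∈ I0 := by
  obtain ⟨P, hP⟩ := exists_isMulPoly k
  rw [hA.lam_mul k P hP a μ]
  have := thetaXY_mem_pow k a μ I0 hμ (mem_wfil_wY_of_isMulPoly hk hP)
  rwa [pow_one] at this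

/-- `λ^k(κ μ) ≡ ψ^k(κ) λ^k(μ)` modulo the square of any ideal containing all `λ^i(μ)`, `i ≥ 1`. -/
theorem lam_mul_sub_mem (hA : IsSpecial A) (κ μ : A) (I0 : Ideal A)
    (hμ : ∀ i, 1 ≤ i → LambdaOps.lam i μ ∈ I0) (k : ℕ) (hk : 1 ≤ k) :
    LambdaOps.lam k (κ * μ) - adamsOp k κ * LambdaOps.lam k μ ∈ I0 ^ 2 := by
  have hPex : ∀ m : ℕ, ∃ P : MvPolynomial (Fin m ⊕ Fin m) ℤ, IsMulPoly m P := exists_isMulPoly
  choose P hP using hPex
  have h := thetaXY_mem_pow k κ μ I0 hμ (univ_mul_linear k hk P hP)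
  rw [map_sub, map_mul, newton_map_thetaXY_univAX k κ μ k (le_refl k)] at h
  have h1 : thetaXY k κ μ (P k) = LambdaOps.lam k (κ * μ) := (hA.lam_mul k (P k) (hP k) κ μ).symm
  have h2 : thetaXY k κ μ (X (Sum.inr ⟨k - 1, by omega⟩)) = LambdaOps.lam k μ := by
    rw [thetaXY, aeval_X, Sum.elim_inr]
    congr 1
    simp only
    omega
  rwa [h1, h2] at h

/-- All `γ^i(z)`, `i ≥ 1`, lie in `I` iff all `λ^i(z)`, `i ≥ 1`, do. -/
theorem forall_lam_mem_of_forall_gamma_mem (I : Ideal A) (z : A)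
    (h : ∀ i, 1 ≤ i → gamma i z ∈ I) : ∀ i, 1 ≤ i → LambdaOps.lam i z ∈ I := by
  intro i
  induction i using Nat.strong_induction_on with
  | _ i ih =>
    intro hi
    have hg := h i hi
    rw [gamma, if_neg (by omega), Finset.sum_range_succ, if_neg (by omega), Nat.choose_self,
      Nat.cast_one, one_mul] at hg
    have hs : ∑ j ∈ range i, (Nat.choose (i - 1) (j - 1) : A) *
        (if j = 0 then 0 else LambdaOps.lam j z) ∈ I := by
      refine Ideal.sum_mem _ fun j hj => ?_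
      apply Ideal.mul_mem_left
      split_ifs with h0
      · exact Ideal.zero_mem _
      · exact ih j (Finset.mem_range.mp hj) (by omega)
    have := Ideal.sub_mem _ hg hs
    rwa [add_sub_cancel_left] at this

theorem forall_gamma_mem_of_forall_lam_mem (I : Ideal A) (z : A)
    (h : ∀ i, 1 ≤ i → LambdaOps.lam i z ∈ I) : ∀ i, 1 ≤ i → gamma i z ∈ I := by
  intro i hi
  rw [gamma, if_neg (by omega)]
  refine Ideal.sum_mem _ fun j _ => ?_
  apply Ideal.mul_mem_left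
  split_ifs with h0
  · exact Ideal.zero_mem _
  · exact h j (by omega)

/-- `γ^k(a μ)` lies in any ideal containing all `γ^i(μ)`, `i ≥ 1`. -/
theorem gamma_mul_mem (hA : IsSpecial A) (a μ : A) (I0 : Ideal A)
    (hμ : ∀ i, 1 ≤ i → gamma i μ ∈ I0) (k : ℕ) (hk : 1 ≤ k) :
    gamma k (a * μ) ∈ I0 :=
  forall_gamma_mem_of_forall_lam_mem I0 (a * μ)
    (fun i hi => lam_mul_mem hA a μ I0 (forall_lam_mem_of_forall_gamma_mem I0 μ hμ) i hi) k hk

/-- `γ^k(κ μ) ≡ κ γ^k(μ)` modulo the square of any ideal containing all `γ^i(μ)`, `i ≥ 1`, when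
all Adams operations fix `κ`. -/
theorem gamma_mul_sub_mem (hA : IsSpecial A) (κ μ : A) (I0 : Ideal A)
    (hκ : ∀ i, 1 ≤ i → adamsOp i κ = κ)
    (hμ : ∀ i, 1 ≤ i → gamma i μ ∈ I0) (k : ℕ) (hk : 1 ≤ k) :
    gamma k (κ * μ) - κ * gamma k μ ∈ I0 ^ 2 := by
  have hlam := forall_lam_mem_of_forall_gamma_mem I0 μ hμ
  rw [gamma, gamma, if_neg (by omega), if_neg (by omega), Finset.mul_sum, ← Finset.sum_sub_distrib]
  refine Ideal.sum_mem _ fun j _ => ?_
  split_ifs with h0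
  · simp
  · have := lam_mul_sub_mem hA κ μ I0 hlam j (by omega)
    rw [hκ j (by omega)] at this
    have e : (Nat.choose (k - 1) (j - 1) : A) * LambdaOps.lam j (κ * μ) -
        κ * ((Nat.choose (k - 1) (j - 1) : A) * LambdaOps.lam j μ) =
        (Nat.choose (k - 1) (j - 1) : A) * (LambdaOps.lam j (κ * μ) - κ * LambdaOps.lam j μ) := by
      ring
    rw [e]
    exact Ideal.mul_mem_left _ _ this

end Transfer

end Groth.Agent.Lib.Helper44
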