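import Groth.Agent.Lib.Helper44.GammaPure
import Groth.Agent.Lib.Helper44.MulLinear
import Groth.Agent.Lib.Helper44.BinomialAdams

/-!
# The γ-filtration of an augmented λ-algebra over a binomial ring

* `gamma_mem_gammaFil`: `γ^j(Fil^a) ⊆ Fil^a` for `j ≥ 1`.
* `gamma_sub_mem_gammaFil`: `γ^m(z) ≡ (-1)^(m-1) (m-1)! z mod Fil^(m+1)` for `z ∈ Fil^m`, `m ≥ 1`.
-/

set_option autoImplicit false
set_option linter.unusedSectionVars false
open Finset Pointwise

namespace Groth.Agent.Lib.Helper44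

open LambdaRing

universe u v

section Fil

variable {K : Type u} [CommRing K] {A : Type v} [CommRing A] [LambdaOps A] (ε : A →+* K)

/-- The generating set of `gammaFil ε n`. -/
def filGen (n : ℕ) : Set A :=
  {y | ∃ l : List (ℕ × A), (∀ p ∈ l, ε p.2 = 0) ∧ n ≤ (l.map Prod.fst).sum ∧
    y = (l.map fun p => gamma p.1 p.2).prod}

theorem gammaFil_eq_span (n : ℕ) : gammaFil ε n = Ideal.span (filGen ε n) := rfl

theorem gammaFil_zero : gammaFil ε 0 = ⊤ := by
  rw [Ideal.eq_top_iff_one]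
  exact Ideal.subset_span ⟨[], by simp, by simp, by simp⟩

theorem gammaFil_anti {a b : ℕ} (h : a ≤ b) : gammaFil ε b ≤ gammaFil ε a := by
  apply Ideal.span_mono
  rintro y ⟨l, hl, hb, rfl⟩
  exact ⟨l, hl, le_trans h hb, rfl⟩

theorem filGen_mul (a b : ℕ) : filGen ε a * filGen ε b ⊆ filGen ε (a + b) := by
  rw [Set.mul_subset_iff]
  rintro x ⟨l₁, hl₁, h₁, rfl⟩ y ⟨l₂, hl₂, h₂, rfl⟩
  refine ⟨l₁ ++ l₂, ?_, ?_, ?_⟩
  · intro p hp
    rcases List.mem_append.mp hp with h | h
    · exact hl₁ p h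
    · exact hl₂ p h
  · rw [List.map_append, List.sum_append]
    exact Nat.add_le_add h₁ h₂
  · rw [List.map_append, List.prod_append]

theorem mul_mem_gammaFil {a b : ℕ} {x y : A} (hx : x ∈ gammaFil ε a) (hy : y ∈ gammaFil ε b) :
    x * y ∈ gammaFil ε (a + b) := by
  have h := Ideal.mul_mem_mul hx hy
  rw [gammaFil_eq_span, gammaFil_eq_span, Ideal.span_mul_span'] at h
  exact Ideal.span_mono (filGen_mul ε a b) h

theorem gamma_mem_gammaFil_of_aug_eq_zero {x : A} (hx : ε x = 0) (i : ℕ) :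
    gamma i x ∈ gammaFil ε i :=
  Ideal.subset_span ⟨[(i, x)], by simpa using hx, by simp, by simp⟩

theorem pow_two_gammaFil_le (a : ℕ) : gammaFil ε a ^ 2 ≤ gammaFil ε (a + a) := by
  rw [pow_two, Ideal.mul_le]
  exact fun x hx y hy => mul_mem_gammaFil ε hx hy

variable (hA : IsSpecial A)
include hA

/-- `γ^j` of a generator of weight `W` lies in `Fil^W`. -/
theorem gamma_listProd_mem (l : List (ℕ × A)) (hl : ∀ p ∈ l, ε p.2 = 0) (j : ℕ) (hj : 1 ≤ j) :
    gamma j (l.map fun p => gamma p.1 p.2).prod ∈ gammaFil ε (l.map Prod.fst).sum := by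
  have h := gamma_pure_mem (ι := Fin l.length) hA (gammaFil ε) (gammaFil_zero ε)
    (fun _ _ h => gammaFil_anti ε h) (fun _ _ _ _ hx hy => mul_mem_gammaFil ε hx hy)
    (fun s => (l[s.1]).2)
    (fun s i => gamma_mem_gammaFil_of_aug_eq_zero ε (hl _ (List.getElem_mem s.2)) (i + 1))
    (fun s => (l[s.1]).1) j hj
  rw [Fin.prod_univ_fun_getElem l (fun p => gamma p.1 p.2),
    Fin.sum_univ_fun_getElem l Prod.fst] at h
  exact h

/-- The fundamental congruence for a generator of weight `W ≥ 1`. -/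
theorem gamma_listProd_sub_mem (l : List (ℕ × A)) (hl : ∀ p ∈ l, ε p.2 = 0)
    (hW : 1 ≤ (l.map Prod.fst).sum) :
    gamma (l.map Prod.fst).sum (l.map fun p => gamma p.1 p.2).prod -
      (-1 : A) ^ ((l.map Prod.fst).sum - 1) * (((l.map Prod.fst).sum - 1).factorial : A) *
        (l.map fun p => gamma p.1 p.2).prod ∈ gammaFil ε ((l.map Prod.fst).sum + 1) := by
  have hsum := Fin.sum_univ_fun_getElem l Prod.fst
  have h := gamma_pure_sub_mem (ι := Fin l.length) hA (gammaFil ε) (gammaFil_zero ε)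
    (fun _ _ h => gammaFil_anti ε h) (fun _ _ _ _ hx hy => mul_mem_gammaFil ε hx hy)
    (fun s => (l[s.1]).2)
    (fun s i => gamma_mem_gammaFil_of_aug_eq_zero ε (hl _ (List.getElem_mem s.2)) (i + 1))
    (fun s => (l[s.1]).1) (by rw [hsum]; exact hW)
  rw [Fin.prod_univ_fun_getElem l (fun p => gamma p.1 p.2), hsum] at h
  exact h

/-- `γ^j(Fil^a) ⊆ Fil^a` for `j ≥ 1`. -/
theorem gamma_mem_gammaFil {a : ℕ} {z : A} (hz : z ∈ gammaFil ε a) :
    ∀ j, 1 ≤ j → gamma j z ∈ gammaFil ε a := by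
  rw [gammaFil_eq_span] at hz
  induction hz using Submodule.span_induction with
  | mem y hy =>
    obtain ⟨l, hl, ha, rfl⟩ := hy
    intro j hj
    exact gammaFil_anti ε ha (gamma_listProd_mem ε hA l hl j hj)
  | zero =>
    intro j hj
    obtain ⟨j, rfl⟩ : ∃ j', j = j' + 1 := ⟨j - 1, by omega⟩
    rw [gamma_succ_zero]
    exact Ideal.zero_mem _
  | add x y _ _ hx hy =>
    intro j hj
    rw [gamma_add']
    refine Ideal.sum_mem _ fun ab hab => ?_
    have hsum := Finset.mem_antidiagonal.mp hab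
    rcases Nat.eq_zero_or_pos ab.1 with h0 | hpos
    · exact Ideal.mul_mem_left _ _ (hy ab.2 (by omega))
    · exact Ideal.mul_mem_right _ _ (hx ab.1 hpos)
  | smul c x _ hx =>
    intro j hj
    rw [smul_eq_mul]
    exact gamma_mul_mem hA c x _ hx j hj

end Fil

section Main

variable {K : Type u} [CommRing K] [LambdaOps K] [BinomialRing K]
  {A : Type v} [CommRing A] [LambdaOps A] [Algebra K A]

theorem adamsOp_algebraMap_of_isBinomial (hKb : IsBinomial K) (hKA : IsLambdaAlg K A) (κ : K)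
    (i : ℕ) (hi : 1 ≤ i) : adamsOp i (algebraMap K A κ) = algebraMap K A κ := by
  have hmap : PowerSeries.map (algebraMap K A) (lamSeries κ) = lamSeries (algebraMap K A κ) := by
    ext n
    rw [PowerSeries.coeff_map, coeff_lamSeries, coeff_lamSeries, hKA]
  rw [adamsOp_eq_newton, ← hmap, ← map_newton _ _ (constantCoeff_lamSeries κ), ← adamsOp_eq_newton,
    adamsOp_eq_self_of_isBinomial hKb i hi]

variable (hKb : IsBinomial K) (hA : IsSpecial A) (ε : A →ₐ[K] K) (hε : IsAugLambdaAlg K A ε)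
include hKb hA hε

/-- The set of `z` satisfying the fundamental congruence in degree `m`. -/
theorem gamma_sub_add_mem {m : ℕ} (hm : 1 ≤ m) {x y : A}
    (hx : x ∈ gammaFil (ε : A →+* K) m) (hy : y ∈ gammaFil (ε : A →+* K) m)
    (hgx : gamma m x - (-1 : A) ^ (m - 1) * ((m - 1).factorial : A) * x ∈
      gammaFil (ε : A →+* K) (m + 1))
    (hgy : gamma m y - (-1 : A) ^ (m - 1) * ((m - 1).factorial : A) * y ∈
      gammaFil (ε : A →+* K) (m + 1)) :
    gamma m (x + y) - (-1 : A) ^ (m - 1) * ((m - 1).factorial : A) * (x + y) ∈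
      gammaFil (ε : A →+* K) (m + 1) := by
  obtain ⟨m, rfl⟩ : ∃ m', m = m' + 1 := ⟨m - 1, by omega⟩
  have hsplit : gamma (m + 1) (x + y) = gamma (m + 1) x + gamma (m + 1) y +
      ∑ i ∈ range m, gamma (i + 1) x * gamma (m + 1 - (i + 1)) y := by
    rw [gamma_add', Finset.Nat.sum_antidiagonal_eq_sum_range_succ_mk, Finset.sum_range_succ,
      Finset.sum_range_succ', Nat.sub_self, gamma_zero', gamma_zero', mul_one, one_mul, Nat.sub_zero]
    ring
  have e : gamma (m + 1) (x + y) - (-1 : A) ^ (m + 1 - 1) * ((m + 1 - 1).factorial : A) * (x + y) =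
      (gamma (m + 1) x - (-1 : A) ^ (m + 1 - 1) * ((m + 1 - 1).factorial : A) * x) +
      (gamma (m + 1) y - (-1 : A) ^ (m + 1 - 1) * ((m + 1 - 1).factorial : A) * y) +
      ∑ i ∈ range m, gamma (i + 1) x * gamma (m + 1 - (i + 1)) y := by
    rw [hsplit]; ring
  rw [e]
  refine Ideal.add_mem _ (Ideal.add_mem _ hgx hgy) (Ideal.sum_mem _ fun i hi => ?_)
  have hi' := Finset.mem_range.mp hi
  have h1 := gamma_mem_gammaFil (ε : A →+* K) hA hx (i + 1) (by omega)
  have h2 := gamma_mem_gammaFil (ε : A →+* K) hA hy (m + 1 - (i + 1)) (by omega)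
  exact gammaFil_anti (ε : A →+* K) (by omega) (mul_mem_gammaFil (ε : A →+* K) h1 h2)

/-- **The fundamental congruence**: `γ^m(z) ≡ (-1)^(m-1) (m-1)! z` modulo `Fil^(m+1)` for
`z ∈ Fil^m`, `m ≥ 1`. -/
theorem gamma_sub_mem_gammaFil {m : ℕ} (hm : 1 ≤ m) {z : A}
    (hz : z ∈ gammaFil (ε : A →+* K) m) :
    gamma m z - (-1 : A) ^ (m - 1) * ((m - 1).factorial : A) * z ∈
      gammaFil (ε : A →+* K) (m + 1) := by
  rw [gammaFil_eq_span] at hz
  induction hz using Submodule.span_induction with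
  | mem y hy =>
    obtain ⟨l, hl, hW, rfl⟩ := hy
    rcases Nat.lt_or_ge m (l.map Prod.fst).sum with hlt | hge
    · apply Ideal.sub_mem
      · exact gammaFil_anti (ε : A →+* K) hlt (gamma_listProd_mem (ε : A →+* K) hA l hl m hm)
      · apply Ideal.mul_mem_left
        have := gamma_listProd_mem (ε : A →+* K) hA l hl 1 (le_refl 1)
        rw [gamma_one'] at this
        exact gammaFil_anti (ε : A →+* K) hlt this
    · have heq : (l.map Prod.fst).sum = m := le_antisymm hge hW
      have := gamma_listProd_sub_mem (ε : A →+* K) hA l hl (by omega)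
      rwa [heq] at this
  | zero =>
    obtain ⟨m, rfl⟩ : ∃ m', m = m' + 1 := ⟨m - 1, by omega⟩
    rw [gamma_succ_zero, mul_zero, sub_zero]
    exact Ideal.zero_mem _
  | add x y hx hy hgx hgy =>
    exact gamma_sub_add_mem hKb hA ε hε hm hx hy hgx hgy
  | smul c x hx hgx =>
    rw [smul_eq_mul]
    have hx' : x ∈ gammaFil (ε : A →+* K) m := hx
    set κ : A := algebraMap K A (ε c) with hκ
    have hc0 : (ε : A →+* K) (c - κ) = 0 := by
      change ε (c - algebraMap K A (ε c)) = 0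
      rw [map_sub, AlgHom.commutes, Algebra.algebraMap_self_apply, sub_self]
    have hc1 : c - κ ∈ gammaFil (ε : A →+* K) 1 := by
      have := gamma_mem_gammaFil_of_aug_eq_zero (ε : A →+* K) hc0 1
      rwa [gamma_one'] at this
    have h1 : (c - κ) * x ∈ gammaFil (ε : A →+* K) (m + 1) := by
      have := mul_mem_gammaFil (ε : A →+* K) hc1 hx'
      rwa [add_comm] at this
    have hsplit : c * x = (c - κ) * x + κ * x := by ring
    rw [hsplit]
    apply gamma_sub_add_mem hKb hA ε hε hm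
      (gammaFil_anti (ε : A →+* K) (Nat.le_succ m) h1) (Ideal.mul_mem_left _ _ hx')
    · exact Ideal.sub_mem _ (gamma_mem_gammaFil (ε : A →+* K) hA h1 m hm)
        (Ideal.mul_mem_left _ _ h1)
    · have h2 := gamma_mul_sub_mem hA κ x (gammaFil (ε : A →+* K) m)
        (fun i hi => adamsOp_algebraMap_of_isBinomial hKb hε.isLambdaAlg (ε c) i hi)
        (gamma_mem_gammaFil (ε : A →+* K) hA hx') m hm
      have h3 := gammaFil_anti (ε : A →+* K) (show m + 1 ≤ m + m by omega)
        (pow_two_gammaFil_le (ε : A →+* K) m h2)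
      have e : gamma m (κ * x) - (-1 : A) ^ (m - 1) * ((m - 1).factorial : A) * (κ * x) =
          (gamma m (κ * x) - κ * gamma m x) +
            κ * (gamma m x - (-1 : A) ^ (m - 1) * ((m - 1).factorial : A) * x) := by
        ring
      rw [e]
      exact Ideal.add_mem _ h3 (Ideal.mul_mem_left _ _ hgx)

end Main

end Groth.Agent.Lib.Helper44
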