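import Groth.Agent.Lib.Helper44.BinomialGamma
import Groth.Agent.Lib.Helper44.GammaFilStab

/-!
# Upper bounds for the γ-filtration

* `gamma_evGam_mem_self`: for a polynomial `F` without constant term in the `γ^i(x_s)`,
  `γ^j(F(γ^•(x))) ∈ J j` for every multiplicative filtration `J` containing the `γ^i(x_s)`.
* `gammaFil_le_of_span`: if the augmentation ideal is spanned over the binomial ring `K` by
  elements all of whose `γ^i` lie in `J i`, then `Fil^k ⊆ J k`.
-/

set_option autoImplicit false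
set_option linter.unusedSectionVars false
open Finset

namespace Groth.Agent.Lib.Helper44

open LambdaRing MvPolynomial

universe u v

section GM

variable {ι : Type} [DecidableEq ι] [Fintype ι]

attribute [local instance] LineRing.lambdaOps

variable {A : Type v} [CommRing A] [LambdaOps A]

theorem evGam_mem_of_mem_wfil (J : ℕ → Ideal A) (hJ0 : J 0 = ⊤)
    (hJanti : ∀ a b, a ≤ b → J b ≤ J a)
    (hJmul : ∀ a b x y, x ∈ J a → y ∈ J b → x * y ∈ J (a + b))
    (x : ι → A) (hx : ∀ s i, gamma (i + 1) (x s) ∈ J (i + 1)) {k : ℕ}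
    {F : MvPolynomial (ι × ℕ) ℤ} (hF : F ∈ wfil ℤ (fun v : ι × ℕ => v.2 + 1) k) :
    evGam x F ∈ J k := by
  rw [evGam_eq_aeval]
  exact aeval_mem_of_mem_wfil (fun v : ι × ℕ => v.2 + 1) _ J hJ0 hJanti hJmul
    (fun v => hx v.1 v.2) hF

/-- `γ^j(F(γ^•(x))) ∈ J j` for `F` without constant term. -/
theorem gamma_evGam_mem_self (hA : IsSpecial A) (J : ℕ → Ideal A) (hJ0 : J 0 = ⊤)
    (hJanti : ∀ a b, a ≤ b → J b ≤ J a)
    (hJmul : ∀ a b x y, x ∈ J a → y ∈ J b → x * y ∈ J (a + b))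
    (x : ι → A) (hx : ∀ s i, gamma (i + 1) (x s) ∈ J (i + 1))
    {F : MvPolynomial (ι × ℕ) ℤ} (hF : F ∈ wfil ℤ (fun v : ι × ℕ => v.2 + 1) 1) (j : ℕ) :
    gamma j (evGam x F) ∈ J j := by
  obtain ⟨G, hG0, hGv⟩ := exists_gamma_rep.{0, v} F j
  have h := evGam_mem_of_forall_lineRing G j ?_ J hJ0 hJanti hJmul x hx
  · rwa [hGv A hA x] at h
  · intro n
    rw [hG0 (LineRing (ι × Fin n)) LineRing.isSpecial (yU n)]
    refine LineRing.gamma_mem_Ik_self ?_ j
    exact evGam_mem_of_mem_wfil (fun k => LineRing.Ik k) LineRing.Ik_zero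
      (fun _ _ h => LineRing.Ik_anti h) (fun _ _ _ _ hx hy => LineRing.mul_mem_Ik hx hy)
      (yU n) (fun s i => gamma_yU_mem_Ik n s (i + 1)) hF

end GM

section GT

variable {K : Type u} [CommRing K] [LambdaOps K] [BinomialRing K]
  {A : Type v} [CommRing A] [LambdaOps A] [Algebra K A]

omit [LambdaOps K] [BinomialRing K] [Algebra K A] in
theorem listProd_gamma_mem (J : ℕ → Ideal A) (hJ0 : J 0 = ⊤)
    (hJmul : ∀ a b x y, x ∈ J a → y ∈ J b → x * y ∈ J (a + b)) (l : List (ℕ × A))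
    (hl : ∀ p ∈ l, gamma p.1 p.2 ∈ J p.1) :
    (l.map fun p => gamma p.1 p.2).prod ∈ J (l.map Prod.fst).sum := by
  induction l with
  | nil =>
    simp only [List.map_nil, List.prod_nil, List.sum_nil]
    rw [hJ0]; trivial
  | cons p l ih =>
    simp only [List.map_cons, List.prod_cons, List.sum_cons]
    exact hJmul _ _ _ _ (hl p List.mem_cons_self) (ih fun q hq => hl q (List.mem_cons_of_mem _ hq))

/-- If the augmentation ideal is `K`-spanned by elements all of whose `γ^i` lie in `J i`, then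
`Fil^k ⊆ J k`. -/
theorem gammaFil_le_of_span (hKb : IsBinomial K) (hA : IsSpecial A) (ε : A →ₐ[K] K)
    (hε : IsAugLambdaAlg K A ε) (J : ℕ → Ideal A) (hJ0 : J 0 = ⊤)
    (hJanti : ∀ a b, a ≤ b → J b ≤ J a)
    (hJmul : ∀ a b x y, x ∈ J a → y ∈ J b → x * y ∈ J (a + b))
    (h : ∀ z : A, ε z = 0 → z ∈ Submodule.span K {p : A | ∀ i, gamma i p ∈ J i}) (k : ℕ) :
    gammaFil (ε : A →+* K) k ≤ J k := by
  have hspan : ∀ z : A, z ∈ Submodule.span K {p : A | ∀ i, gamma i p ∈ J i} →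
      z ∈ gamGood J hJ0 hJmul := by
    intro z hz'
    induction hz' using Submodule.span_induction with
    | mem p hp => exact hp
    | zero => exact AddSubgroup.zero_mem _
    | add x y _ _ hx hy => exact AddSubgroup.add_mem _ hx hy
    | smul κ x _ hx =>
      rw [Algebra.smul_def]
      exact algebraMap_mul_mem_gamGood hKb hA hε.isLambdaAlg J hJ0 hJmul κ hx
  have hgood : ∀ z : A, ε z = 0 → z ∈ gamGood J hJ0 hJmul := fun z hz => hspan z (h z hz)
  rw [gammaFil_eq_span, Ideal.span_le]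
  rintro y ⟨l, hl, hk, rfl⟩
  exact hJanti _ _ hk (listProd_gamma_mem J hJ0 hJmul l fun p hp => hgood p.2 (hl p hp) p.1)

end GT

end Groth.Agent.Lib.Helper44
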