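import Groth.Agent.Lib.Helper44.GammaFilUpper

/-!
# Small lemmas on γ-operations and multiplicative filtrations
-/

set_option autoImplicit false
open Finset

namespace Groth.Agent.Lib.Helper44

open LambdaRing

section

variable {A : Type*} [CommRing A] [LambdaOps A] {B : Type*} [CommRing B] [LambdaOps B]

/-- A ring map commuting with the `λ^n` commutes with the `γ^n`. -/
theorem map_gamma_of_map_lam (f : A →+* B)
    (hf : ∀ (n : ℕ) (a : A), f (LambdaOps.lam n a) = LambdaOps.lam n (f a)) (k : ℕ) (a : A) :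
    f (gamma k a) = gamma k (f a) := by
  unfold gamma
  split_ifs with h
  · rw [map_one]
  · rw [map_sum]
    refine Finset.sum_congr rfl fun j _ => ?_
    rw [map_mul, map_natCast]
    split_ifs with hj
    · rw [map_zero]
    · rw [hf]

omit [LambdaOps A] in
theorem pow_mem_of_mul (J : ℕ → Ideal A) (hJ0 : J 0 = ⊤)
    (hJmul : ∀ a b x y, x ∈ J a → y ∈ J b → x * y ∈ J (a + b)) {a : ℕ} {x : A} (hx : x ∈ J a)
    (e : ℕ) : x ^ e ∈ J (a * e) := by
  induction e with
  | zero => rw [pow_zero, mul_zero, hJ0]; trivial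
  | succ e ih =>
    rw [pow_succ, Nat.mul_succ]
    exact hJmul _ _ _ _ ih hx

end

end Groth.Agent.Lib.Helper44
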