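import Groth.Agent.Lib.Helper44.MultiInject

/-!
# γ-operations of products of γ-classes

For a special λ-ring `A`, a multiplicative decreasing filtration `J` and elements `x_s` with
`γ^i(x_s) ∈ J i`, the product `μ = ∏ γ^{e_s}(x_s)` of weight `W = Σ e_s` satisfies
`γ^j(μ) ∈ J W` (`j ≥ 1`) and `γ^W(μ) ≡ (-1)^(W-1) (W-1)! μ mod J (W+1)`.
-/

set_option autoImplicit false
set_option linter.unusedSectionVars false
open Finset

namespace Groth.Agent.Lib.Helper44

open LambdaRing MvPolynomial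

universe v

attribute [local instance] LineRing.lambdaOps

section Generic

variable {A : Type*} [CommRing A]

theorem prod_mem_of_mul (J : ℕ → Ideal A) (hJ0 : J 0 = ⊤)
    (hJmul : ∀ a b x y, x ∈ J a → y ∈ J b → x * y ∈ J (a + b)) {ι : Type*} (S : Finset ι)
    (f : ι → A) (e : ι → ℕ) (h : ∀ s ∈ S, f s ∈ J (e s)) :
    ∏ s ∈ S, f s ∈ J (∑ s ∈ S, e s) := by
  classical
  induction S using Finset.induction_on with
  | empty =>
    rw [Finset.prod_empty, Finset.sum_empty, hJ0]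
    trivial
  | insert a S ha ih =>
    rw [Finset.prod_insert ha, Finset.sum_insert ha]
    exact hJmul _ _ _ _ (h a (Finset.mem_insert_self a S))
      (ih fun s hs => h s (Finset.mem_insert_of_mem hs))

end Generic

section PM

variable {ι : Type} [DecidableEq ι] [Fintype ι]

/-- The variable standing for `γ^e(x_s)` (or `1` for `e = 0`). -/
noncomputable def gvar (s : ι) (e : ℕ) : MvPolynomial (ι × ℕ) ℤ :=
  if e = 0 then 1 else X (s, e - 1)

theorem evGam_gvar {A : Type*} [CommRing A] [LambdaOps A] (x : ι → A) (s : ι) (e : ℕ) :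
    evGam x (gvar s e) = gamma e (x s) := by
  unfold gvar
  split_ifs with h
  · rw [map_one, h, gamma_zero']
  · rw [evGam_X]
    congr 1
    omega

/-- The polynomial standing for `∏ γ^{e_s}(x_s)`. -/
noncomputable def pureMon (e : ι → ℕ) : MvPolynomial (ι × ℕ) ℤ := ∏ s, gvar s (e s)

theorem evGam_pureMon {A : Type*} [CommRing A] [LambdaOps A] (x : ι → A) (e : ι → ℕ) :
    evGam x (pureMon e) = ∏ s, gamma (e s) (x s) := by
  rw [pureMon, map_prod]
  exact Finset.prod_congr rfl fun s _ => evGam_gvar x s (e s)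

theorem evGam_pureMon_mem_Ik (n : ℕ) (e : ι → ℕ) :
    evGam (yU (ι := ι) n) (pureMon e) ∈ LineRing.Ik (∑ s, e s) := by
  rw [evGam_pureMon]
  exact prod_mem_of_mul (fun k => LineRing.Ik k) LineRing.Ik_zero
    (fun _ _ _ _ hx hy => LineRing.mul_mem_Ik hx hy) Finset.univ _ e
    (fun s _ => gamma_yU_mem_Ik n s (e s))

variable {A : Type v} [CommRing A] [LambdaOps A]

/-- `γ^j` of a product of γ-classes of total weight `W` lies in `J W`. -/
theorem gamma_pure_mem (hA : IsSpecial A) (J : ℕ → Ideal A) (hJ0 : J 0 = ⊤)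
    (hJanti : ∀ a b, a ≤ b → J b ≤ J a)
    (hJmul : ∀ a b x y, x ∈ J a → y ∈ J b → x * y ∈ J (a + b))
    (x : ι → A) (hx : ∀ s i, gamma (i + 1) (x s) ∈ J (i + 1)) (e : ι → ℕ) (j : ℕ) (hj : 1 ≤ j) :
    gamma j (∏ s, gamma (e s) (x s)) ∈ J (∑ s, e s) := by
  obtain ⟨G, hG0, hGv⟩ := exists_gamma_rep.{0, v} (pureMon e) j
  have h := evGam_mem_of_forall_lineRing G (∑ s, e s) ?_ J hJ0 hJanti hJmul x hx
  · rwa [hGv A hA x, evGam_pureMon] at h
  · intro n
    rw [hG0 (LineRing (ι × Fin n)) LineRing.isSpecial (yU n)]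
    exact LineRing.gamma_mem_Ik hj (evGam_pureMon_mem_Ik n e)

/-- `γ^W(μ) ≡ (-1)^(W-1) (W-1)! μ` modulo `J (W+1)` for a product `μ` of γ-classes of total
weight `W ≥ 1`. -/
theorem gamma_pure_sub_mem (hA : IsSpecial A) (J : ℕ → Ideal A) (hJ0 : J 0 = ⊤)
    (hJanti : ∀ a b, a ≤ b → J b ≤ J a)
    (hJmul : ∀ a b x y, x ∈ J a → y ∈ J b → x * y ∈ J (a + b))
    (x : ι → A) (hx : ∀ s i, gamma (i + 1) (x s) ∈ J (i + 1)) (e : ι → ℕ)
    (hW : 1 ≤ ∑ s, e s) :
    gamma (∑ s, e s) (∏ s, gamma (e s) (x s)) -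
      (-1 : A) ^ (∑ s, e s - 1) * ((∑ s, e s - 1).factorial : A) * ∏ s, gamma (e s) (x s) ∈
        J (∑ s, e s + 1) := by
  obtain ⟨G, hG0, hGv⟩ := exists_gamma_rep.{0, v} (pureMon e) (∑ s, e s)
  have h := evGam_mem_of_forall_lineRing
    (G - (-1 : MvPolynomial (ι × ℕ) ℤ) ^ (∑ s, e s - 1) *
      ((∑ s, e s - 1).factorial : MvPolynomial (ι × ℕ) ℤ) * pureMon e)
    (∑ s, e s + 1) ?_ J hJ0 hJanti hJmul x hx
  · rwa [map_sub, map_mul, map_mul, map_pow, map_neg, map_one, map_natCast, hGv A hA x,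
      evGam_pureMon] at h
  · intro n
    rw [map_sub, map_mul, map_mul, map_pow, map_neg, map_one, map_natCast,
      hG0 (LineRing (ι × Fin n)) LineRing.isSpecial (yU n)]
    exact LineRing.gamma_sub_mem_Ik hW (evGam_pureMon_mem_Ik n e)

end PM

end Groth.Agent.Lib.Helper44
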