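import Mathlib
import Groth.Prelude.Def_EtGm
import Groth.Prelude.Def_EtCore
import Groth.Agent.Lib.Helper43.EtOpenSub
import Groth.Agent.Lib.Helper43.MuSheaf
import Groth.Agent.Lib.Helper26.RankOneDescent

set_option autoImplicit false
open CategoryTheory CategoryTheory.Limits AlgebraicGeometry Opposite TensorProduct
universe u

namespace Groth.Agent.Lib.Helper44.GmH90

open Groth.Agent.Lib.Helper43 Groth.Agent.Lib.Helper43.EtOpenSub

variable {X : Scheme.{u}} {R : Type u} [CommRing R] (w : Spec (CommRingCat.of R) ⟶ X) [Etale w]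

instance etale_specMap_algebraMap (B : Type u) [CommRing B] [Algebra R B] [Algebra.Etale R B] :
    Etale (Spec.map (CommRingCat.ofHom (algebraMap R B))) := by
  rw [HasRingHomProperty.Spec_iff (P := @Etale)]
  exact RingHom.etale_algebraMap.2 inferInstance

/-- `Spec B ⟶ Spec R ⟶ X` as an object of the small étale site -/
noncomputable def E (B : Type u) [CommRing B] [Algebra R B] [Algebra.Etale R B] : X.Etale :=
  Scheme.Etale.mk (Spec.map (CommRingCat.ofHom (algebraMap R B)) ≫ w)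

lemma E_left (B : Type u) [CommRing B] [Algebra R B] [Algebra.Etale R B] :
    (E w B).left = Spec (CommRingCat.of B) := rfl

lemma E_hom (B : Type u) [CommRing B] [Algebra R B] [Algebra.Etale R B] :
    (E w B).hom = Spec.map (CommRingCat.ofHom (algebraMap R B)) ≫ w := rfl

section
variable {B B' B'' : Type u} [CommRing B] [Algebra R B] [Algebra.Etale R B]
  [CommRing B'] [Algebra R B'] [Algebra.Etale R B'] [CommRing B''] [Algebra R B''] [Algebra.Etale R B'']

/-- functoriality of `E` -/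
noncomputable def Emap (φ : B →ₐ[R] B') : E w B' ⟶ E w B :=
  MorphismProperty.Over.homMk (A := E w B') (B := E w B) (Spec.map (CommRingCat.ofHom φ.toRingHom)) (by
    change Spec.map (CommRingCat.ofHom φ.toRingHom) ≫
        (Spec.map (CommRingCat.ofHom (algebraMap R B)) ≫ w) =
      Spec.map (CommRingCat.ofHom (algebraMap R B')) ≫ w
    rw [← Category.assoc, ← Spec.map_comp]
    congr 2
    ext r
    exact φ.commutes r)

lemma Emap_left (φ : B →ₐ[R] B') : (Emap w φ).left = Spec.map (CommRingCat.ofHom φ.toRingHom) := rfl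

lemma Emap_comp (φ : B →ₐ[R] B') (ψ : B' →ₐ[R] B'') :
    Emap w ψ ≫ Emap w φ = Emap w (ψ.comp φ) := by
  apply MorphismProperty.Over.Hom.ext
  change Spec.map _ ≫ Spec.map _ = Spec.map _
  rw [← Spec.map_comp]
  rfl

/-- the identification `B ≃ Γ(Spec B)` -/
noncomputable def sec (B : Type u) [CommRing B] [Algebra R B] [Algebra.Etale R B] :
    B ≃+* Γ((E w B).left, ⊤) :=
  (Scheme.ΓSpecIso (CommRingCat.of B)).symm.commRingCatIsoToRingEquiv

lemma resMap_Emap (φ : B →ₐ[R] B') (b : B) :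
    MuConst.resMap X (Emap w φ) (sec w B b) = sec w B' (φ b) := by
  have h := Scheme.ΓSpecIso_inv_naturality (CommRingCat.ofHom φ.toRingHom)
  have h2 := congrArg (fun f => f.hom b) h
  exact h2.symm

end

section pair
variable [Mono w] {A : Type u} [CommRing A] [Algebra R A] [Algebra.Etale R A]

instance etale_tensor : Algebra.Etale R (A ⊗[R] A) := Algebra.Etale.comp R A (A ⊗[R] A)

instance etale_tensor3 : Algebra.Etale R (A ⊗[R] (A ⊗[R] A)) :=
  Algebra.Etale.comp R A (A ⊗[R] (A ⊗[R] A))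

lemma exists_pair {Z : X.Etale} (a₁ a₂ : Z ⟶ E w A) :
    ∃ h : Z ⟶ E w (A ⊗[R] A),
      h ≫ Emap w (Algebra.TensorProduct.includeLeft : A →ₐ[R] A ⊗[R] A) = a₁ ∧
      h ≫ Emap w (Algebra.TensorProduct.includeRight : A →ₐ[R] A ⊗[R] A) = a₂ := by
  obtain ⟨b₁, hb₁⟩ : ∃ b : Z.left ⟶ Spec (CommRingCat.of A), b = a₁.left := ⟨_, rfl⟩
  obtain ⟨b₂, hb₂⟩ : ∃ b : Z.left ⟶ Spec (CommRingCat.of A), b = a₂.left := ⟨_, rfl⟩
  have e1 : b₁ ≫ (Spec.map (CommRingCat.ofHom (algebraMap R A)) ≫ w) = Z.hom := by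
    rw [hb₁]; exact hom_left_eq a₁
  have e2 : b₂ ≫ (Spec.map (CommRingCat.ofHom (algebraMap R A)) ≫ w) = Z.hom := by
    rw [hb₂]; exact hom_left_eq a₂
  have e : b₁ ≫ Spec.map (CommRingCat.ofHom (algebraMap R A)) =
      b₂ ≫ Spec.map (CommRingCat.ofHom (algebraMap R A)) := by
    rw [← cancel_mono w, Category.assoc, Category.assoc]
    exact e1.trans e2.symm
  let l : Z.left ⟶ Spec (CommRingCat.of (A ⊗[R] A)) :=
    pullback.lift b₁ b₂ e ≫ (pullbackSpecIso R A A).hom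
  have l1 : l ≫ Spec.map (CommRingCat.ofHom
      (Algebra.TensorProduct.includeLeftRingHom : A →+* A ⊗[R] A)) = b₁ := by
    simp only [l, Category.assoc, pullbackSpecIso_hom_fst, pullback.lift_fst]
  have l2 : l ≫ Spec.map (CommRingCat.ofHom
      ((Algebra.TensorProduct.includeRight : A →ₐ[R] A ⊗[R] A).toRingHom)) = b₂ := by
    change (pullback.lift b₁ b₂ e ≫ (pullbackSpecIso R A A).hom) ≫ _ = _
    rw [Category.assoc]
    erw [pullbackSpecIso_hom_snd]
    exact pullback.lift_snd _ _ _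
  clear_value l
  have hw : l ≫ (Spec.map (CommRingCat.ofHom (algebraMap R (A ⊗[R] A))) ≫ w) = Z.hom := by
    have : Spec.map (CommRingCat.ofHom (algebraMap R (A ⊗[R] A))) =
        Spec.map (CommRingCat.ofHom
          (Algebra.TensorProduct.includeLeftRingHom : A →+* A ⊗[R] A)) ≫
          Spec.map (CommRingCat.ofHom (algebraMap R A)) := by
      rw [← Spec.map_comp]
      rfl
    rw [this, Category.assoc, ← Category.assoc l, l1]
    exact e1
  refine ⟨MorphismProperty.Over.homMk (A := Z) (B := E w (A ⊗[R] A)) l hw, ?_, ?_⟩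
  · apply MorphismProperty.Over.Hom.ext
    exact l1.trans hb₁
  · apply MorphismProperty.Over.Hom.ext
    exact l2.trans hb₂

end pair

section sheaf

lemma map_map (F : EtCoh.Ab X) {A B C : X.Etale} (k : A ⟶ B) (c : B ⟶ C) (s : F.obj.obj (op C)) :
    F.obj.map k.op (F.obj.map c.op s) = F.obj.map (k ≫ c).op s := by
  rw [op_comp, F.obj.map_comp]; rfl

lemma nat_apply {F G : EtCoh.Ab X} (φ : F ⟶ G) {A B : X.Etale} (k : A ⟶ B) (s : F.obj.obj (op B)) :
    φ.hom.app (op A) (F.obj.map k.op s) = G.obj.map k.op (φ.hom.app (op B) s) :=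
  congrArg (fun f => f.hom s) (φ.hom.naturality k.op)

variable (Q : EtCoh.Ab X) (q₀ : Q.obj.obj (op (EtCoh.top X)))

/-- restriction of the global section `q₀` -/
noncomputable def qZ (Z : X.Etale) : Q.obj.obj (op Z) :=
  Q.obj.map ((EtCore.topIsTerminal X).from Z).op q₀

lemma map_qZ {Z Z' : X.Etale} (g : Z' ⟶ Z) : Q.obj.map g.op (qZ Q q₀ Z) = qZ Q q₀ Z' := by
  unfold qZ
  rw [map_map]
  congr 3
  exact congrArg Quiver.Hom.op ((EtCore.topIsTerminal X).hom_ext _ _)

end sheaf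

/-- an extension of a sheaf `Q` by `G_m` with a chosen global section of `Q`, in terms of sections. -/
structure GmExt (X : Scheme.{u}) where
  I : EtCoh.Ab X
  Q : EtCoh.Ab X
  ι : EtCoh.Gm X ⟶ I
  π : I ⟶ Q
  q₀ : Q.obj.obj (op (EtCoh.top X))
  inj : ∀ Z : X.Etale, Function.Injective (ι.hom.app (op Z))
  zero : ∀ (Z : X.Etale) (g : (EtCoh.Gm X).obj.obj (op Z)), π.hom.app (op Z) (ι.hom.app (op Z) g) = 0
  exact : ∀ (Z : X.Etale) (s : I.obj.obj (op Z)), π.hom.app (op Z) s = 0 →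
    ∃ g, ι.hom.app (op Z) g = s

namespace GmExt

variable (D : GmExt X)

/-- the restriction of the chosen global section -/
noncomputable abbrev q (Z : X.Etale) : D.Q.obj.obj (op Z) := qZ D.Q D.q₀ Z

lemma exists_diff {Z Y : X.Etale} (a₁ a₂ : Z ⟶ Y) (t : D.I.obj.obj (op Y))
    (ht : D.π.hom.app (op Y) t = D.q Y) :
    ∃ g : (EtCoh.Gm X).obj.obj (op Z),
      D.ι.hom.app (op Z) g = D.I.obj.map a₁.op t - D.I.obj.map a₂.op t := by
  apply D.exact
  rw [map_sub, nat_apply, nat_apply, ht, map_qZ, map_qZ, sub_self]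

end GmExt

lemma resMap_comp {U V W : X.Etale} (f : W ⟶ V) (g : V ⟶ U) (x : Γ(U.left, ⊤)) :
    MuConst.resMap X (f ≫ g) x = MuConst.resMap X f (MuConst.resMap X g x) := by
  unfold MuConst.resMap
  have : (f ≫ g).left = f.left ≫ g.left := rfl
  rw [this, Scheme.Hom.comp_appTop]
  rfl

section core

open Groth.Agent.Lib.Helper26.RankOneDescent MuConst

variable [Mono w] {A : Type u} [CommRing A] [Algebra R A] [Algebra.Etale R A] (D : GmExt X)

/-- first projection `Spec (A ⊗ A) ⟶ Spec A` -/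
noncomputable abbrev pr₁ : E w (A ⊗[R] A) ⟶ E w A :=
  Emap w (Algebra.TensorProduct.includeLeft : A →ₐ[R] A ⊗[R] A)

/-- second projection `Spec (A ⊗ A) ⟶ Spec A` -/
noncomputable abbrev pr₂ : E w (A ⊗[R] A) ⟶ E w A :=
  Emap w (Algebra.TensorProduct.includeRight : A →ₐ[R] A ⊗[R] A)

lemma key_diff (t : D.I.obj.obj (op (E w A))) (g : (EtCoh.Gm X).obj.obj (op (E w (A ⊗[R] A))))
    (hg : D.ι.hom.app _ g = D.I.obj.map (pr₁ w).op t - D.I.obj.map (pr₂ w).op t)
    {Z : X.Etale} (h : Z ⟶ E w (A ⊗[R] A)) :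
    D.ι.hom.app _ ((EtCoh.Gm X).obj.map h.op g) =
      D.I.obj.map (h ≫ pr₁ w).op t - D.I.obj.map (h ≫ pr₂ w).op t := by
  rw [nat_apply, hg, map_sub, map_map, map_map]

lemma unGm_map_Emap {B B' : Type u} [CommRing B] [Algebra R B] [Algebra.Etale R B]
    [CommRing B'] [Algebra R B'] [Algebra.Etale R B'] (φ : B →ₐ[R] B')
    (g : (EtCoh.Gm X).obj.obj (op (E w B))) (c : Bˣ)
    (hc : unGm g = Units.map (sec w B).toRingHom.toMonoidHom c) :
    unGm ((EtCoh.Gm X).obj.map (Emap w φ).op g) =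
      Units.map (sec w B').toRingHom.toMonoidHom (Units.map φ.toRingHom.toMonoidHom c) := by
  rw [unGm_Gm_map, hc]
  apply Units.ext
  exact resMap_Emap w φ c.val

theorem exists_cocycle (t : D.I.obj.obj (op (E w A)))
    (ht : D.π.hom.app (op (E w A)) t = D.q (E w A)) :
    ∃ (c : (A ⊗[R] A)ˣ) (g : (EtCoh.Gm X).obj.obj (op (E w (A ⊗[R] A)))),
      unGm g = Units.map (sec w (A ⊗[R] A)).toRingHom.toMonoidHom c ∧
      D.ι.hom.app _ g = D.I.obj.map (pr₁ w).op t - D.I.obj.map (pr₂ w).op t ∧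
      (j13 (c : A ⊗[R] A) : A ⊗[R] (A ⊗[R] A)) = j12 (c : A ⊗[R] A) * j23 (c : A ⊗[R] A) ∧
      LinearMap.mul' R A (c : A ⊗[R] A) = 1 := by
  obtain ⟨g, hg⟩ := D.exists_diff (pr₁ w) (pr₂ w) t ht
  let c : (A ⊗[R] A)ˣ := Units.map (sec w (A ⊗[R] A)).symm.toRingHom.toMonoidHom (unGm g)
  have hc : unGm g = Units.map (sec w (A ⊗[R] A)).toRingHom.toMonoidHom c := by
    apply Units.ext
    exact ((sec w (A ⊗[R] A)).apply_symm_apply _).symm
  refine ⟨c, g, hc, hg, ?_, ?_⟩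
  · -- cocycle
    have e1 : Emap w (j12 : A ⊗[R] A →ₐ[R] _) ≫ pr₁ w = Emap w (j13 : A ⊗[R] A →ₐ[R] _) ≫ pr₁ w := by
      rw [Emap_comp, Emap_comp]
      congr 1
    have e2 : Emap w (j12 : A ⊗[R] A →ₐ[R] _) ≫ pr₂ w = Emap w (j23 : A ⊗[R] A →ₐ[R] _) ≫ pr₁ w := by
      rw [Emap_comp, Emap_comp]
      congr 1
    have e3 : Emap w (j23 : A ⊗[R] A →ₐ[R] _) ≫ pr₂ w = Emap w (j13 : A ⊗[R] A →ₐ[R] _) ≫ pr₂ w := by
      rw [Emap_comp, Emap_comp]
      congr 1
    have h12 := key_diff w D t g hg (Emap w (j12 : A ⊗[R] A →ₐ[R] _))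
    have h13 := key_diff w D t g hg (Emap w (j13 : A ⊗[R] A →ₐ[R] _))
    have h23 := key_diff w D t g hg (Emap w (j23 : A ⊗[R] A →ₐ[R] _))
    have hsum : (EtCoh.Gm X).obj.map (Emap w (j13 : A ⊗[R] A →ₐ[R] _)).op g =
        (EtCoh.Gm X).obj.map (Emap w (j12 : A ⊗[R] A →ₐ[R] _)).op g +
          (EtCoh.Gm X).obj.map (Emap w (j23 : A ⊗[R] A →ₐ[R] _)).op g := by
      apply D.inj
      rw [map_add, h12, h13, h23, e1, e2, e3]
      abel
    have h := congrArg unGm hsum
    rw [unGm_add, unGm_map_Emap w _ g c hc, unGm_map_Emap w _ g c hc, unGm_map_Emap w _ g c hc,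
      ← map_mul] at h
    have h' := congrArg Units.val h
    exact (sec w (A ⊗[R] (A ⊗[R] A))).injective h'
  · -- counit
    have e1 : Emap w (Algebra.TensorProduct.lmul' R : A ⊗[R] A →ₐ[R] A) ≫ pr₁ w =
        Emap w (Algebra.TensorProduct.lmul' R : A ⊗[R] A →ₐ[R] A) ≫ pr₂ w := by
      rw [Emap_comp, Emap_comp]
      congr 1
      ext a
      simp
    have hd := key_diff w D t g hg (Emap w (Algebra.TensorProduct.lmul' R : A ⊗[R] A →ₐ[R] A))
    rw [e1, sub_self] at hd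
    have hz : (EtCoh.Gm X).obj.map (Emap w (Algebra.TensorProduct.lmul' R : A ⊗[R] A →ₐ[R] A)).op g = 0 := by
      apply D.inj
      rw [hd, map_zero]
    have h := congrArg unGm hz
    rw [unGm_map_Emap w _ g c hc, unGm_zero] at h
    have h' := congrArg Units.val h
    exact (sec w A).injective (h'.trans (map_one _).symm)

lemma isSheafFor_singleton_of_surjective (F : EtCoh.Ab X) {V U : X.Etale} (f : V ⟶ U)
    (hf : Function.Surjective f.left) :
    Presieve.IsSheafFor (F.obj ⋙ forget AddCommGrpCat) (Presieve.singleton f) := by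
  have hcov : Sieve.generate (Presieve.singleton f) ∈ X.smallEtaleTopology U := by
    rw [mem_smallEtaleTopology_iff']
    intro x
    obtain ⟨y, hy⟩ := hf x
    exact ⟨V, f, y, Sieve.le_generate (Presieve.singleton f) V f Presieve.singleton.mk, hy⟩
  have h1 := (Presheaf.isSheaf_iff_isSheaf_forget X.smallEtaleTopology F.obj
    (forget AddCommGrpCat)).1 F.property
  have h2 := (isSheaf_iff_isSheaf_of_type _ _).1 h1 _ hcov
  exact (Presieve.isSheafFor_iff_generate _).2 h2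

theorem exists_open_lift (t : D.I.obj.obj (op (E w A)))
    (ht : D.π.hom.app (op (E w A)) t = D.q (E w A)) (v : (E w A).left) :
    ∃ (U : X.Opens), (E w A).hom v ∈ U ∧
      ∃ t'' : D.I.obj.obj (op (Scheme.Etale.mk U.ι)),
        D.π.hom.app (op (Scheme.Etale.mk U.ι)) t'' = D.q (Scheme.Etale.mk U.ι) := by
  obtain ⟨c, g, hc, hg, hco, hcounit⟩ := exists_cocycle w D t ht
  obtain ⟨n, a, ℓ, hℓ, hsum⟩ := exists_family (R := R) (A := A) (c : A ⊗[R] A) hco hcounit
  obtain ⟨i, -, hi⟩ := exists_mem_basicOpen_of_sum_eq_one Finset.univ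
    (fun i => sec w A (a i * ℓ i)) (by rw [← map_sum, hsum, map_one]) v
  rw [map_mul, Scheme.basicOpen_mul] at hi
  replace hi := hi.2
  obtain ⟨e, he⟩ : ∃ e : Γ((E w A).left, ⊤), e = sec w A (ℓ i) := ⟨_, rfl⟩
  rw [← he] at hi
  let V'' : X.Etale := basicEt (E w A) e
  let β : V'' ⟶ E w A := basicEtHom (E w A) e
  let ℓu : (Γ(V''.left, ⊤))ˣ := (isUnit_ι_appTop e).unit
  have hℓu : (ℓu : Γ(V''.left, ⊤)) = resMap X β e := rfl
  let t' : D.I.obj.obj (op V'') := D.I.obj.map β.op t + D.ι.hom.app (op V'') (mkGm ℓu)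
  have hcompat : ∀ {Z : X.Etale} (p₁ p₂ : Z ⟶ V''), D.I.obj.map p₁.op t' = D.I.obj.map p₂.op t' := by
    intro Z p₁ p₂
    obtain ⟨h, h1, h2⟩ := exists_pair w (p₁ ≫ β) (p₂ ≫ β)
    have hk := key_diff w D t g hg h
    rw [h1, h2] at hk
    have hu : (EtCoh.Gm X).obj.map h.op g + (EtCoh.Gm X).obj.map p₁.op (mkGm ℓu) =
        (EtCoh.Gm X).obj.map p₂.op (mkGm ℓu) := by
      apply unGm_injective
      rw [unGm_add, unGm_Gm_map, unGm_Gm_map, unGm_Gm_map, unGm_mkGm, hc]
      apply Units.ext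
      change resMap X h (sec w (A ⊗[R] A) (c : A ⊗[R] A)) * resMap X p₁ (ℓu : Γ(V''.left, ⊤)) =
        resMap X p₂ (ℓu : Γ(V''.left, ⊤))
      rw [hℓu, ← resMap_comp, ← resMap_comp, ← h1, ← h2, resMap_comp, resMap_comp, he,
        resMap_Emap, resMap_Emap, ← map_mul, ← map_mul]
      congr 2
      exact hℓ i
    have hu' := congrArg (D.ι.hom.app (op Z)) hu
    rw [map_add, hk, nat_apply, nat_apply] at hu'
    change D.I.obj.map p₁.op (D.I.obj.map β.op t + D.ι.hom.app (op V'') (mkGm ℓu)) =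
      D.I.obj.map p₂.op (D.I.obj.map β.op t + D.ι.hom.app (op V'') (mkGm ℓu))
    rw [map_add, map_add, map_map, map_map]
    rw [sub_add_eq_add_sub, sub_eq_iff_eq_add] at hu'
    rw [hu', add_comm]
  let U : X.Opens := ⟨Set.range V''.hom, V''.hom.isOpenMap.isOpen_range⟩
  obtain ⟨f⟩ := (nonempty_hom_open_iff U V'').2 (fun x hx => hx)
  have hf : Function.Surjective f.left := by
    intro x
    obtain ⟨y, hy⟩ := x.2
    refine ⟨y, ?_⟩
    apply U.ι.injective
    have := hom_apply f y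
    exact this.trans hy
  refine ⟨U, ⟨⟨v, hi⟩, rfl⟩, ?_⟩
  obtain ⟨t2, ht2, -⟩ := (Presieve.isSheafFor_singleton.1
    (isSheafFor_singleton_of_surjective D.I f hf)) t' (fun p₁ p₂ _ => hcompat p₁ p₂)
  refine ⟨t2, ?_⟩
  have hinj := Presieve.isSeparatedFor_singleton.1
    (isSheafFor_singleton_of_surjective D.Q f hf).isSeparatedFor
  apply hinj
  change D.Q.obj.map f.op (D.π.hom.app _ t2) = D.Q.obj.map f.op (D.q _)
  rw [← nat_apply, map_qZ]
  have ht3 : D.I.obj.map f.op t2 = t' := ht2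
  rw [ht3]
  change D.π.hom.app (op V'') (D.I.obj.map β.op t + D.ι.hom.app (op V'') (mkGm ℓu)) = _
  rw [map_add, D.zero, add_zero, nat_apply, ht, map_qZ]

end core

section general

variable {X : Scheme.{u}} (D : GmExt X)

theorem exists_open_lift_general (V : X.Etale) (t : D.I.obj.obj (op V))
    (ht : D.π.hom.app (op V) t = D.q V) (v : V.left) :
    ∃ (U : X.Opens), V.hom v ∈ U ∧
      ∃ t'' : D.I.obj.obj (op (Scheme.Etale.mk U.ι)),
        D.π.hom.app (op (Scheme.Etale.mk U.ι)) t'' = D.q (Scheme.Etale.mk U.ι) := by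
  obtain ⟨W, hW, hxW, -⟩ := TopologicalSpace.Opens.isBasis_iff_nbhd.mp X.isBasis_affineOpens
    (show V.hom v ∈ (⊤ : X.Opens) from trivial)
  obtain ⟨V', hV', hvV', hle⟩ := TopologicalSpace.Opens.isBasis_iff_nbhd.mp V.left.isBasis_affineOpens
    (show v ∈ V.hom ⁻¹ᵁ W from hxW)
  let φ := V.hom.appLE W V' hle
  have hφ : φ.hom.Etale := Etale.etale_appLE V.hom hW hV' hle
  letI : Algebra Γ(X, W) Γ(V.left, V') := φ.hom.toAlgebra
  haveI : Algebra.Etale Γ(X, W) Γ(V.left, V') := hφ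
  let w : Spec (CommRingCat.of Γ(X, W)) ⟶ X := hW.fromSpec
  haveI : IsOpenImmersion w := hW.isOpenImmersion_fromSpec
  have hcomm : hV'.fromSpec ≫ V.hom =
      Spec.map (CommRingCat.ofHom (algebraMap Γ(X, W) Γ(V.left, V'))) ≫ w :=
    (IsAffineOpen.SpecMap_appLE_fromSpec V.hom hW hV' hle).symm
  let a : E w Γ(V.left, V') ⟶ V :=
    MorphismProperty.Over.homMk (A := E w Γ(V.left, V')) (B := V) hV'.fromSpec hcomm
  obtain ⟨v₀, hv₀⟩ : ∃ v₀ : Spec Γ(V.left, V'), hV'.fromSpec v₀ = v := by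
    have : v ∈ Set.range hV'.fromSpec := by rw [hV'.range_fromSpec]; exact hvV'
    exact this
  obtain ⟨U, hU, t'', ht''⟩ := exists_open_lift w D (D.I.obj.map a.op t)
    (by rw [nat_apply, ht, map_qZ]) v₀
  refine ⟨U, ?_, t'', ht''⟩
  have h1 := hom_apply a v₀
  have h2 : a.left v₀ = v := hv₀
  rw [← h2, h1]
  exact hU


end general

end Groth.Agent.Lib.Helper44.GmH90
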