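import Groth.Agent.Lib.Helper44.EtPullSec
import Groth.Agent.Lib.Helper44.GmH90
import Groth.Agent.Lib.Helper44.BigCech4
import Groth.Agent.Lib.Helper43.EtOpenSub

set_option autoImplicit false
open CategoryTheory CategoryTheory.Limits AlgebraicGeometry Opposite Abelian
universe u

namespace Groth.Agent.Lib.Helper44.GmH1

open Groth.Agent.Lib.Helper44.EtPullSec Groth.Agent.Lib.Helper43.EtOpenSub

variable {X : Scheme.{u}}

/-- `Hpull` of a boundary class vanishes as soon as the section lifts over `W → X` -/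
theorem Hpull_delta_eq_zero {W : Scheme.{u}} (j : W ⟶ X) [Etale j]
    [PreservesFiniteLimits (EtCoh.pull j)]
    {S : ShortComplex (EtCoh.Ab X)} (hS : S.ShortExact) (q : EtCoh.const X ℤ ⟶ S.X₃)
    (t : S.X₂.obj.obj (op (oOf j)))
    (ht : S.g.hom.app (op (oOf j)) t = S.X₃.obj.map (toTop j).op (γ X S.X₃ q)) :
    EtCore.Hpull j S.X₁ 1 ((Ext.mk₀ q).comp hS.extClass (zero_add 1)) = 0 := by
  have hr : EtCore.Hpull j S.X₁ 1 ((Ext.mk₀ q).comp hS.extClass (zero_add 1)) =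
      (Ext.mk₀ (EtCore.pullConst j ℤ).inv).comp
        (((Ext.mk₀ q).comp hS.extClass (zero_add 1)).mapExactFunctor (EtCoh.pull j)) (zero_add 1) :=
    rfl
  obtain ⟨E', hE1, hE2⟩ : ∃ E' : Ext ((EtCoh.pull j).obj S.X₃) ((EtCoh.pull j).obj S.X₁) 1,
      hS.extClass.mapExactFunctor (EtCoh.pull j) = E' ∧
      (Ext.mk₀ ((EtCoh.pull j).map S.g)).comp E' (zero_add 1) = 0 :=
    ⟨_, Ext.mapExactFunctor_extClass _ hS, (hS.map_of_exact (EtCoh.pull j)).comp_extClass⟩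
  -- the lift
  let ψ : EtCoh.const W ℤ ⟶ (EtCoh.pull j).obj S.X₂ :=
    (γ W ((EtCoh.pull j).obj S.X₂)).symm ((secIso j S.X₂).symm t)
  have hψ : ψ ≫ (EtCoh.pull j).map S.g = (EtCore.pullConst j ℤ).inv ≫ (EtCoh.pull j).map q := by
    apply (γ W ((EtCoh.pull j).obj S.X₃)).injective
    apply (secIso j S.X₃).injective
    rw [secIso_γ_pull, γ_naturality, secIso_naturality]
    simp only [ψ, AddEquiv.apply_symm_apply]
    exact ht
  rw [hr, Ext.mapExactFunctor_comp, Ext.mapExactFunctor_mk₀, hE1, Ext.mk₀_comp_mk₀_assoc,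
    ← hψ, ← Ext.mk₀_comp_mk₀_assoc, hE2, Ext.comp_zero]

open GmH90

/-- the `GmExt` attached to a short exact sequence starting with `G_m` and a morphism `ℤ ⟶ Q` -/
noncomputable def ofSES {I Q : EtCoh.Ab X} (ι : EtCoh.Gm X ⟶ I) (π : I ⟶ Q) (w : ι ≫ π = 0)
    (hS : (ShortComplex.mk ι π w).ShortExact) (q₀ : Q.obj.obj (op (EtCoh.top X))) : GmExt X where
  I := I
  Q := Q
  ι := ι
  π := π
  q₀ := q₀
  inj Z := BigCech.sses_sections_injective _ hS Z
  zero Z g := BigCech.sses_sections_gf (ShortComplex.mk ι π w) Z g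
  exact Z s hs := BigCech.sses_sections_exact _ hS Z s hs

theorem exists_open_lift_of_epi (D : GmExt X) [Epi D.π] (x : X) :
    ∃ (U : X.Opens), x ∈ U ∧
      ∃ t : D.I.obj.obj (op (Scheme.Etale.mk U.ι)),
        D.π.hom.app (op (Scheme.Etale.mk U.ι)) t = D.q (Scheme.Etale.mk U.ι) := by
  have : Sheaf.IsLocallySurjective D.π := (Sheaf.isLocallySurjective_iff_epi' (φ := D.π)).2 inferInstance
  have hs := Presheaf.imageSieve_mem X.smallEtaleTopology D.π.hom D.q₀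
  rw [mem_smallEtaleTopology_iff'] at hs
  obtain ⟨V, f, y, ⟨t, ht⟩, hy⟩ := hs x
  have hq : D.π.hom.app (op V) t = D.q V := by
    rw [ht]
    change D.Q.obj.map f.op D.q₀ = D.Q.obj.map ((EtCore.topIsTerminal X).from V).op D.q₀
    rw [(EtCore.topIsTerminal X).hom_ext f ((EtCore.topIsTerminal X).from V)]
  obtain ⟨U, hU, t'', ht''⟩ := exists_open_lift_general D V t hq y
  refine ⟨U, ?_, t'', ht''⟩
  have h1 := hom_apply f y
  rw [hy] at h1
  rw [← h1] at hU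
  exact hU

/-- a class in `H¹(X_et, G_m)` is `δ(q)` for the canonical injective embedding of `G_m` -/
theorem exists_delta (c : EtCoh.H X (EtCoh.Gm X) 1) :
    ∃ (I Q : EtCoh.Ab X) (ι : EtCoh.Gm X ⟶ I) (π : I ⟶ Q) (w : ι ≫ π = 0)
      (hS : (ShortComplex.mk ι π w).ShortExact) (q : EtCoh.const X ℤ ⟶ Q),
      Injective I ∧ (Ext.mk₀ q).comp hS.extClass (zero_add 1) = c := by
  let ι := Injective.ι (EtCoh.Gm X)
  have hS : (ShortComplex.mk ι (cokernel.π ι) (cokernel.condition ι)).ShortExact :=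
    { exact := ShortComplex.exact_cokernel ι
      mono_f := inferInstanceAs (Mono ι)
      epi_g := inferInstanceAs (Epi (cokernel.π ι)) }
  have h0 : c.comp (Ext.mk₀ ι) (add_zero 1) = 0 := Ext.eq_zero_of_injective _
  obtain ⟨x₃, hx₃⟩ := Ext.covariant_sequence_exact₁ _ hS c h0 (zero_add 1)
  obtain ⟨q, rfl⟩ := (Ext.mk₀_bijective _ _).2 x₃
  exact ⟨_, _, ι, cokernel.π ι, cokernel.condition ι, hS, q, inferInstance, hx₃⟩

theorem h1_locally_trivial (c : EtCoh.H X (EtCoh.Gm X) 1) (x : X) :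
    ∃ U : X.Opens, x ∈ U ∧ ∀ (h : PreservesFiniteLimits (EtCoh.pull U.ι)),
      @EtCore.Hpull _ _ U.ι h (EtCoh.Gm X) 1 c = 0 := by
  obtain ⟨I, Q, ι, π, w, hS, q, -, rfl⟩ := exists_delta c
  let D : GmExt X := ofSES ι π w hS (γ X Q q)
  haveI : Epi D.π := hS.epi_g
  obtain ⟨U, hxU, t, ht⟩ := exists_open_lift_of_epi D x
  refine ⟨U, hxU, fun h => ?_⟩
  let κ : oOf U.ι ⟶ Scheme.Etale.mk U.ι :=
    MorphismProperty.Over.homMk (A := oOf U.ι) (B := Scheme.Etale.mk U.ι) (𝟙 _) (by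
      change 𝟙 _ ≫ U.ι = 𝟙 _ ≫ U.ι
      rfl)
  refine Hpull_delta_eq_zero U.ι hS q (I.obj.map κ.op t) ?_
  change D.π.hom.app _ (D.I.obj.map κ.op t) = D.q (oOf U.ι)
  rw [nat_apply, ht, map_qZ]

end Groth.Agent.Lib.Helper44.GmH1
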