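import Groth.Agent.Lib.Helper44.EtZarOpens
import Groth.Agent.Lib.Helper45.InvBasis
import Groth.Agent.Lib.Helper44.GmH1
import Groth.Agent.S10963
import Groth.Agent.S10964

set_option autoImplicit false
open CategoryTheory CategoryTheory.Limits AlgebraicGeometry Opposite
universe u

namespace Groth.Agent.Lib.Helper44.GmPic

open Groth.Agent.Lib.Helper45 Groth.Agent.Lib.Helper49 Groth.Agent.Lib.Helper43
  Groth.Agent.Lib.Helper43.MuConst Groth.Agent.Lib.Helper44.EtZarOpens Groth.Agent.Lib.Helper44.GmH90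

variable {X : Scheme.{u}}

/-- functions on an open as global functions of the open subscheme -/
noncomputable def toTop (V : X.Opens) : Γ(X, V) ≃+* Γ((O V).left, ⊤) :=
  V.topIso.symm.commRingCatIsoToRingEquiv

lemma toTop_fres {V V' : X.Opens} (h : V ≤ V') (f : Γ(X, V')) :
    resMap X (Ole h) (toTop V' f) = toTop V (fres h f) := by
  have e : V'.topIso.inv ≫ (X.homOfLE h).appTop = X.presheaf.map (homOfLE h).op ≫ V.topIso.inv := by
    rw [Scheme.homOfLE_appTop]
    simp only [Scheme.Opens.topIso_inv]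
    exact (X.presheaf.map_comp _ _).symm.trans
      ((congrArg X.presheaf.map (Subsingleton.elim _ _)).trans (X.presheaf.map_comp _ _))
  exact congrArg (fun φ => φ.hom f) e

/-- units on an open as sections of `G_m` -/
noncomputable def gmOf (V : X.Opens) (u : (Γ(X, V))ˣ) : (EtCoh.Gm X).obj.obj (op (O V)) :=
  mkGm (Units.map (toTop V).toRingHom.toMonoidHom u)

/-- sections of `G_m` over an open as units -/
noncomputable def unitOf (V : X.Opens) (s : (EtCoh.Gm X).obj.obj (op (O V))) : (Γ(X, V))ˣ :=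
  Units.map (toTop V).symm.toRingHom.toMonoidHom (unGm s)

lemma gmOf_unitOf (V : X.Opens) (s : (EtCoh.Gm X).obj.obj (op (O V))) : gmOf V (unitOf V s) = s := by
  apply unGm_injective
  apply Units.ext
  exact (toTop V).apply_symm_apply _

lemma unitOf_gmOf (V : X.Opens) (u : (Γ(X, V))ˣ) : unitOf V (gmOf V u) = u := by
  apply Units.ext
  exact (toTop V).symm_apply_apply _

lemma gmOf_mul (V : X.Opens) (u u' : (Γ(X, V))ˣ) : gmOf V (u * u') = gmOf V u + gmOf V u' := by
  apply unGm_injective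
  rw [unGm_add]
  exact map_mul (Units.map (toTop V).toRingHom.toMonoidHom) u u'

lemma unitOf_add (V : X.Opens) (s s' : (EtCoh.Gm X).obj.obj (op (O V))) :
    unitOf V (s + s') = unitOf V s * unitOf V s' := by
  unfold unitOf
  rw [unGm_add, map_mul]

lemma map_gmOf {V V' : X.Opens} (h : V ≤ V') (u : (Γ(X, V'))ˣ) :
    (EtCoh.Gm X).obj.map (Ole h).op (gmOf V' u) = gmOf V (Units.map (fres h).toMonoidHom u) := by
  apply unGm_injective
  rw [unGm_Gm_map]
  apply Units.ext
  exact toTop_fres h u.val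

lemma unitOf_map {V V' : X.Opens} (h : V ≤ V') (s : (EtCoh.Gm X).obj.obj (op (O V'))) :
    unitOf V ((EtCoh.Gm X).obj.map (Ole h).op s) = Units.map (fres h).toMonoidHom (unitOf V' s) := by
  conv_lhs => rw [← gmOf_unitOf V' s, map_gmOf, unitOf_gmOf]

/-- the unit section of the structure module -/
noncomputable def oneSec (V : X.Opens) : Γ(Coh.structureModule X, V) :=
  (show Γ(Coh.structureModule X, V) from (1 : Γ(X, V)))

lemma smul_oneSec (V : X.Opens) (r : Γ(X, V)) :
    r • oneSec V = (show Γ(Coh.structureModule X, V) from r) := by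
  change r * 1 = r
  exact mul_one r

lemma mres_oneSec {V W : X.Opens} (h : V ≤ W) :
    mres (Coh.structureModule X) h (oneSec W) = oneSec V := by
  change fres h 1 = 1
  exact map_one _

theorem isBasisOn_oneSec (V : X.Opens) : IsBasisOn (Coh.structureModule X) V (oneSec V) := by
  intro W h
  rw [mres_oneSec]
  have : (fun r : Γ(X, W) => r • oneSec W) = fun r => (show Γ(Coh.structureModule X, W) from r) := by
    funext r
    exact smul_oneSec W r
  rw [this]
  exact Function.bijective_id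

open Abelian Groth.Agent.Lib.Helper44.GmH1 Groth.Agent.Lib.Helper44.EtPullSec

/-- if every invertible module is trivial then `H¹(X_et, G_m) = 0` -/
theorem eq_zero_of_forall_trivial
    (htriv : ∀ L : X.Modules, PicF.IsInvertible L → Nonempty (L ≅ Coh.structureModule X))
    (c : EtCoh.H X (EtCoh.Gm X) 1) : c = 0 := by
  obtain ⟨I, Q, ι, π, w, hS, q, -, rfl⟩ := exists_delta c
  let D : GmExt X := ofSES ι π w hS (γ X Q q)
  haveI : Epi D.π := hS.epi_g
  have hinj : ∀ Z : X.Etale, Function.Injective (ι.hom.app (op Z)) := D.inj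
  have hex : ∀ (Z : X.Etale) (s : I.obj.obj (op Z)), π.hom.app (op Z) s = 0 →
      ∃ g, ι.hom.app (op Z) g = s := D.exact
  have hzero : ∀ (Z : X.Etale) (g : (EtCoh.Gm X).obj.obj (op Z)),
      π.hom.app (op Z) (ι.hom.app (op Z) g) = 0 := D.zero
  have key : ∀ x : X, ∃ (V : X.Opens), x ∈ V ∧ ∃ t : I.obj.obj (op (O V)),
      π.hom.app (op (O V)) t = Q.obj.map (toT (O V)).op (γ X Q q) :=
    fun x => exists_open_lift_of_epi D x
  choose U hxU τ hτ using key
  have hU : iSup U = ⊤ := by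
    rw [eq_top_iff]
    intro x _
    exact TopologicalSpace.Opens.mem_iSup.2 ⟨x, hxU x⟩
  have hres : ∀ {Z Z' : X.Etale} (f : Z' ⟶ Z), Q.obj.map f.op (Q.obj.map (toT Z).op (γ X Q q)) =
      Q.obj.map (toT Z').op (γ X Q q) := fun f => map_qZ Q (γ X Q q) f
  -- the differences
  have hd : ∀ i j : X, ∃ h : (EtCoh.Gm X).obj.obj (op (O (U i ⊓ U j))),
      ι.hom.app _ h = I.obj.map (Ole (inf_le_left : U i ⊓ U j ≤ U i)).op (τ i) -
        I.obj.map (Ole (inf_le_right : U i ⊓ U j ≤ U j)).op (τ j) := by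
    intro i j
    apply hex
    rw [map_sub, nat_apply, nat_apply, hτ i, hτ j, hres, hres, sub_self]
  choose h hh using hd
  let η : ∀ i j : X, (Γ(X, U i ⊓ U j))ˣ := fun i j => unitOf _ (h i j)
  have hcoc : ∀ (i j k : X) (a : U i ⊓ U j ⊓ U k ≤ U i ⊓ U k) (b : U i ⊓ U j ⊓ U k ≤ U i ⊓ U j)
      (c : U i ⊓ U j ⊓ U k ≤ U j ⊓ U k),
      (EtCoh.Gm X).obj.map (Ole a).op (h i k) =
        (EtCoh.Gm X).obj.map (Ole b).op (h i j) + (EtCoh.Gm X).obj.map (Ole c).op (h j k) := by
    intro i j k a b c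
    apply hinj
    rw [map_add, nat_apply, nat_apply, nat_apply, hh, hh, hh, map_sub, map_sub, map_sub,
      GmH90.map_map, GmH90.map_map, GmH90.map_map, GmH90.map_map, GmH90.map_map, GmH90.map_map,
      hom_O_ext (Ole a ≫ Ole inf_le_left) (Ole b ≫ Ole inf_le_left),
      hom_O_ext (Ole a ≫ Ole inf_le_right) (Ole c ≫ Ole inf_le_right),
      hom_O_ext (Ole b ≫ Ole inf_le_right) (Ole c ≫ Ole inf_le_left)]
    abel
  obtain ⟨L, s, hL, hs, hsη⟩ := Groth.Agent.S10963.result X U hU η (by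
    intro i j k
    have := congrArg (fun t => (unitOf _ t : Γ(X, U i ⊓ U j ⊓ U k))) (hcoc i j k
      (inf_le_inf_right (U k) inf_le_left) inf_le_left (inf_le_inf_right (U k) inf_le_right))
    simp only [unitOf_add, unitOf_map] at this
    exact this)
  obtain ⟨e⟩ := htriv L hL
  obtain ⟨u, hu⟩ := (Groth.Agent.S10964.result X U hU L (Coh.structureModule X) s
    (fun i => oneSec (U i)) hs (fun i V hV => isBasisOn_oneSec (U i) V hV)
    (fun i j => (η i j : Γ(X, U i ⊓ U j))) (fun _ _ => 1) hsη (by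
      intro i j
      rw [one_smul]
      exact (mres_oneSec _).trans (mres_oneSec _).symm)).1 ⟨e⟩
  have hv : ∀ i j : X, (EtCoh.Gm X).obj.map (Ole (inf_le_left : U i ⊓ U j ≤ U i)).op (gmOf (U i) (u i)) =
      (EtCoh.Gm X).obj.map (Ole (inf_le_right : U i ⊓ U j ≤ U j)).op (gmOf (U j) (u j)) + h i j := by
    intro i j
    rw [map_gmOf, map_gmOf, ← gmOf_unitOf _ (h i j), ← gmOf_mul]
    congr 1
    apply Units.ext
    have := hu i j
    rw [one_mul] at this
    exact this
  let τ' : ∀ i : X, I.obj.obj (op (O (U i))) := fun i => τ i - ι.hom.app _ (gmOf (U i) (u i))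
  have hglue : ∀ i j : X, I.obj.map (Ole (inf_le_left : U i ⊓ U j ≤ U i)).op (τ' i) =
      I.obj.map (Ole (inf_le_right : U i ⊓ U j ≤ U j)).op (τ' j) := by
    intro i j
    change I.obj.map _ (τ i - ι.hom.app _ (gmOf (U i) (u i))) =
      I.obj.map _ (τ j - ι.hom.app _ (gmOf (U j) (u j)))
    rw [map_sub, map_sub, ← nat_apply, ← nat_apply, hv, map_add, hh]
    abel
  obtain ⟨t, ht⟩ := glue_top I U hU τ' hglue
  have hπt : π.hom.app _ t = γ X Q q := by
    apply sep_top Q U hU
    intro i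
    rw [← nat_apply, ht i]
    change π.hom.app _ (τ i - ι.hom.app _ (gmOf (U i) (u i))) = _
    rw [map_sub, hzero, sub_zero, hτ i]
  have hq : q = (γ X I).symm t ≫ π := by
    apply (γ X Q).injective
    rw [γ_naturality, AddEquiv.apply_symm_apply, hπt]
  rw [hq, ← Ext.mk₀_comp_mk₀_assoc]
  have h0 : (Ext.mk₀ π).comp hS.extClass (zero_add 1) = 0 := hS.comp_extClass
  rw [h0, Ext.comp_zero]

/-- if `H¹(X_et, G_m) = 0` then every invertible module is trivial -/
theorem nonempty_iso_of_subsingleton [Subsingleton (EtCoh.H X (EtCoh.Gm X) 1)]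
    (L : X.Modules) (hL : PicF.IsInvertible L) : Nonempty (L ≅ Coh.structureModule X) := by
  choose U hxU t ht using fun x : X => exists_isBasisOn_of_isInvertible hL x
  have hU : iSup U = ⊤ := by
    rw [eq_top_iff]
    intro x _
    exact TopologicalSpace.Opens.mem_iSup.2 ⟨x, hxU x⟩
  -- transition functions
  have hr : ∀ i j : X, ∃ r : (Γ(X, U i ⊓ U j))ˣ,
      mres L (inf_le_left : U i ⊓ U j ≤ U i) (t i) =
        (r : Γ(X, U i ⊓ U j)) • mres L (inf_le_right : U i ⊓ U j ≤ U j) (t j) := by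
    intro i j
    have hi := (ht i).mono (inf_le_left : U i ⊓ U j ≤ U i)
    have hj := (ht j).mono (inf_le_right : U i ⊓ U j ≤ U j)
    obtain ⟨r, hr⟩ := hj.exists_eq_smul (mres L inf_le_left (t i))
    obtain ⟨r', hr'⟩ := hi.exists_eq_smul (mres L inf_le_right (t j))
    have h1 : r * r' = 1 := by
      apply hi.eq_of_smul_eq
      rw [mul_smul, hr', hr, one_smul]
    exact ⟨Units.mkOfMulEqOne r r' h1, hr.symm⟩
  choose r hr using hr
  -- the cocycle identity
  have hcoc : ∀ (i j k : X) (a : U i ⊓ U j ⊓ U k ≤ U i ⊓ U k) (b : U i ⊓ U j ⊓ U k ≤ U i ⊓ U j)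
      (c : U i ⊓ U j ⊓ U k ≤ U j ⊓ U k),
      fres a (r i k : Γ(X, U i ⊓ U k)) = fres b (r i j : Γ(X, U i ⊓ U j)) *
        fres c (r j k : Γ(X, U j ⊓ U k)) := by
    intro i j k a b c
    have hk := (ht k).mono ((inf_le_right : U i ⊓ U j ⊓ U k ≤ U k))
    apply hk.eq_of_smul_eq
    have e1 := congrArg (mres L a) (hr i k)
    have e2 := congrArg (mres L b) (hr i j)
    have e3 := congrArg (mres L c) (hr j k)
    simp only [mres_smul, mres_mres] at e1 e2 e3
    rw [mul_smul, ← e3, ← e2, ← e1]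
  -- the injective embedding of `G_m`
  obtain ⟨I, Q, ι, π, w, hS, hI⟩ : ∃ (I Q : EtCoh.Ab X) (ι : EtCoh.Gm X ⟶ I) (π : I ⟶ Q)
      (w : ι ≫ π = 0) (_ : (ShortComplex.mk ι π w).ShortExact), Injective I := by
    let ι := Injective.ι (EtCoh.Gm X)
    exact ⟨_, _, ι, cokernel.π ι, cokernel.condition ι,
      { exact := ShortComplex.exact_cokernel ι
        mono_f := inferInstanceAs (Mono ι)
        epi_g := inferInstanceAs (Epi (cokernel.π ι)) }, inferInstance⟩
  let D : GmExt X := ofSES ι π w hS 0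
  have hinj : ∀ Z : X.Etale, Function.Injective (ι.hom.app (op Z)) := D.inj
  have hex : ∀ (Z : X.Etale) (s : I.obj.obj (op Z)), π.hom.app (op Z) s = 0 →
      ∃ g, ι.hom.app (op Z) g = s := D.exact
  have hzero : ∀ (Z : X.Etale) (g : (EtCoh.Gm X).obj.obj (op Z)),
      π.hom.app (op Z) (ι.hom.app (op Z) g) = 0 := D.zero
  -- the Čech cocycle with values in `I`
  obtain ⟨τ, hτ⟩ := cech1_of_injective U I (fun i j => ι.hom.app _ (gmOf (U i ⊓ U j) (r i j))) (by
    intro i j k a b c
    rw [hom_O_ext a (Ole (inf_le_inf_right (U k) inf_le_left)), hom_O_ext b (Ole inf_le_left),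
      hom_O_ext c (Ole (inf_le_inf_right (U k) inf_le_right)),
      ← nat_apply, ← nat_apply, ← nat_apply, ← map_add, map_gmOf, map_gmOf, map_gmOf, ← gmOf_mul]
    congr 2
    apply Units.ext
    exact hcoc i j k _ _ _)
  -- glue the images in `Q`
  obtain ⟨q₀, hq₀⟩ := glue_top Q U hU (fun i => π.hom.app _ (τ i)) (by
    intro i j
    rw [← nat_apply, ← nat_apply, ← sub_eq_zero, ← map_sub, ← hτ i j, hzero])
  -- lift the global section
  have hδ : (Ext.mk₀ ((γ X Q).symm q₀)).comp hS.extClass (zero_add 1) = 0 := Subsingleton.elim _ _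
  obtain ⟨x₂, hx₂⟩ := Ext.covariant_sequence_exact₃ _ hS _ (zero_add 1) hδ
  obtain ⟨a, rfl⟩ := (Ext.mk₀_bijective _ _).2 x₂
  have ha : a ≫ π = (γ X Q).symm q₀ := by
    apply (Ext.mk₀_bijective _ _).1
    rw [← hx₂, Ext.mk₀_comp_mk₀]
  have hT : π.hom.app _ (γ X I a) = q₀ := by
    rw [← γ_naturality, ha, AddEquiv.apply_symm_apply]
  -- the units
  have hv : ∀ i : X, ∃ v : (EtCoh.Gm X).obj.obj (op (O (U i))),
      ι.hom.app _ v = τ i - I.obj.map (toT (O (U i))).op (γ X I a) := by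
    intro i
    apply hex
    rw [map_sub, nat_apply, hT, hq₀ i, sub_self]
  choose v hv using hv
  have hvv : ∀ i j : X, (EtCoh.Gm X).obj.map (Ole (inf_le_left : U i ⊓ U j ≤ U i)).op (v i) =
      (EtCoh.Gm X).obj.map (Ole (inf_le_right : U i ⊓ U j ≤ U j)).op (v j) +
        gmOf (U i ⊓ U j) (r i j) := by
    intro i j
    apply hinj
    rw [map_add, nat_apply, nat_apply, hv, hv, hτ i j, map_sub, map_sub, GmH90.map_map,
      GmH90.map_map, (EtCore.topIsTerminal X).hom_ext (Ole (inf_le_left : U i ⊓ U j ≤ U i) ≫ toT (O (U i)))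
        (Ole (inf_le_right : U i ⊓ U j ≤ U j) ≫ toT (O (U j)))]
    abel
  refine (Groth.Agent.S10964.result X U hU L (Coh.structureModule X) t
    (fun i => oneSec (U i)) (fun i V hV => ht i V hV) (fun i V hV => isBasisOn_oneSec (U i) V hV)
    (fun i j => (r i j : Γ(X, U i ⊓ U j))) (fun _ _ => 1) hr (by
      intro i j
      rw [one_smul]
      exact (mres_oneSec _).trans (mres_oneSec _).symm)).2 ⟨fun i => unitOf (U i) (v i), ?_⟩
  intro i j
  rw [one_mul]
  have := congrArg (fun s => (unitOf _ s : Γ(X, U i ⊓ U j))) (hvv i j)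
  simp only [unitOf_add, unitOf_map, unitOf_gmOf] at this
  exact this

end Groth.Agent.Lib.Helper44.GmPic
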