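import Groth.Agent.Lib.Helper44.GmPic
import Groth.Agent.Lib.Helper11.TensorBasis
import Groth.Prelude.Def_PicGrp
import Groth.Agent.S10963
import Groth.Agent.S10964

set_option autoImplicit false
open CategoryTheory CategoryTheory.Limits AlgebraicGeometry Opposite Abelian
universe u

namespace Groth.Agent.Lib.Helper44.GmPicGrp

open Groth.Agent.Lib.Helper45 Groth.Agent.Lib.Helper49 Groth.Agent.Lib.Helper43
  Groth.Agent.Lib.Helper43.MuConst Groth.Agent.Lib.Helper44.EtZarOpens Groth.Agent.Lib.Helper44.GmH90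
  Groth.Agent.Lib.Helper44.GmPic Groth.Agent.Lib.Helper44.GmH1 Groth.Agent.Lib.Helper44.EtPullSec
  Groth.Agent.Lib.Helper11.GenLocus

section basics

variable {X : Scheme.{u}}

/-- two bases over the same open differ by a unit -/
lemma exists_unit_smul {L : X.Modules} {V : X.Opens} {a b : Γ(L, V)} (ha : IsBasisOn L V a)
    (hb : IsBasisOn L V b) : ∃ r : (Γ(X, V))ˣ, a = (r : Γ(X, V)) • b := by
  obtain ⟨r, hr⟩ := hb.exists_eq_smul a
  obtain ⟨r', hr'⟩ := ha.exists_eq_smul b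
  have h1 : r * r' = 1 := by
    apply ha.eq_of_smul_eq
    rw [mul_smul, hr', hr, one_smul]
  exact ⟨Units.mkOfMulEqOne r r' h1, hr.symm⟩

lemma app_mres {M N : X.Modules} (φ : M ⟶ N) {V W : X.Opens} (h : V ≤ W) (m : Γ(M, W)) :
    φ.app V (mres M h m) = mres N h (φ.app W m) := by
  have := φ.mapPresheaf.naturality (homOfLE h).op
  exact congrArg (fun f => f.hom m) this

lemma IsBasisOn.map_iso {M N : X.Modules} (e : M ≅ N) {V : X.Opens} {t : Γ(M, V)}
    (ht : IsBasisOn M V t) : IsBasisOn N V (e.hom.app V t) := by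
  intro W hW
  have h1 := ht W hW
  have h2 : Function.Bijective (e.hom.app W) := by
    have : IsIso (e.hom.app W) := inferInstance
    exact (ConcreteCategory.isIso_iff_bijective _).1 this
  have : (fun r : Γ(X, W) => r • mres N hW (e.hom.app V t)) =
      (e.hom.app W) ∘ (fun r : Γ(X, W) => r • mres M hW t) := by
    funext r
    simp only [Function.comp_apply]
    rw [Scheme.Modules.Hom.app_smul, app_mres]
  rw [this]
  exact h2.comp h1

end basics

section embedding

variable (X : Scheme.{u})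

/-- the chosen injective sheaf containing `G_m` -/
noncomputable def I0 : EtCoh.Ab X := Injective.under (EtCoh.Gm X)

noncomputable instance : Injective (I0 X) := inferInstanceAs (Injective (Injective.under (EtCoh.Gm X)))

/-- the embedding of `G_m` -/
noncomputable def ι0 : EtCoh.Gm X ⟶ I0 X := Injective.ι (EtCoh.Gm X)

/-- the quotient -/
noncomputable def Q0 : EtCoh.Ab X := cokernel (ι0 X)

/-- the projection -/
noncomputable def π0 : I0 X ⟶ Q0 X := cokernel.π (ι0 X)

lemma w0 : ι0 X ≫ π0 X = 0 := cokernel.condition (ι0 X)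

lemma hS0 : (ShortComplex.mk (ι0 X) (π0 X) (w0 X)).ShortExact :=
  { exact := ShortComplex.exact_cokernel (ι0 X)
    mono_f := inferInstanceAs (Mono (Injective.ι (EtCoh.Gm X)))
    epi_g := inferInstanceAs (Epi (cokernel.π (ι0 X))) }

/-- the section-level structure -/
noncomputable def D0 (q₀ : (Q0 X).obj.obj (op (EtCoh.top X))) : GmExt X :=
  ofSES (ι0 X) (π0 X) (w0 X) (hS0 X) q₀

lemma ι0_inj (Z : X.Etale) : Function.Injective ((ι0 X).hom.app (op Z)) := (D0 X 0).inj Z

lemma π0_ι0 (Z : X.Etale) (g : (EtCoh.Gm X).obj.obj (op Z)) :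
    (π0 X).hom.app (op Z) ((ι0 X).hom.app (op Z) g) = 0 := (D0 X 0).zero Z g

lemma exact0 (Z : X.Etale) (s : (I0 X).obj.obj (op Z)) (hs : (π0 X).hom.app (op Z) s = 0) :
    ∃ g, (ι0 X).hom.app (op Z) g = s := (D0 X 0).exact Z s hs

/-- the boundary map `Q(X) → H¹(X, G_m)` -/
noncomputable def δ0 : (Q0 X).obj.obj (op (EtCoh.top X)) →+ EtCoh.H X (EtCoh.Gm X) 1 :=
  (AddMonoidHom.mk' (fun f : EtCoh.const X ℤ ⟶ Q0 X => (Ext.mk₀ f).comp (hS0 X).extClass (zero_add 1))
    (fun f g => by rw [Ext.mk₀_add, Ext.add_comp])).comp (γ X (Q0 X)).symm.toAddMonoidHom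

lemma δ0_apply (q₀ : (Q0 X).obj.obj (op (EtCoh.top X))) :
    δ0 X q₀ = (Ext.mk₀ ((γ X (Q0 X)).symm q₀)).comp (hS0 X).extClass (zero_add 1) := rfl

lemma δ0_eq_zero_iff (q₀ : (Q0 X).obj.obj (op (EtCoh.top X))) :
    δ0 X q₀ = 0 ↔ ∃ T : (I0 X).obj.obj (op (EtCoh.top X)), (π0 X).hom.app _ T = q₀ := by
  rw [δ0_apply]
  constructor
  · intro hδ
    obtain ⟨x₂, hx₂⟩ := Ext.covariant_sequence_exact₃ _ (hS0 X) _ (zero_add 1) hδ
    obtain ⟨a, rfl⟩ := (Ext.mk₀_bijective _ _).2 x₂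
    have ha : a ≫ π0 X = (γ X (Q0 X)).symm q₀ := by
      apply (Ext.mk₀_bijective _ _).1
      rw [← hx₂, Ext.mk₀_comp_mk₀]
    refine ⟨γ X (I0 X) a, ?_⟩
    rw [← γ_naturality, ha, AddEquiv.apply_symm_apply]
  · rintro ⟨T, rfl⟩
    have hq : (γ X (Q0 X)).symm ((π0 X).hom.app _ T) = (γ X (I0 X)).symm T ≫ π0 X := by
      apply (γ X (Q0 X)).injective
      rw [γ_naturality, AddEquiv.apply_symm_apply, AddEquiv.apply_symm_apply]
    rw [hq, ← Ext.mk₀_comp_mk₀_assoc]
    have h0 : (Ext.mk₀ (π0 X)).comp (hS0 X).extClass (zero_add 1) = 0 := (hS0 X).comp_extClass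
    rw [h0, Ext.comp_zero]

lemma δ0_surjective : Function.Surjective (δ0 X) := by
  intro c
  have h0 : c.comp (Ext.mk₀ (ι0 X)) (add_zero 1) = 0 := Ext.eq_zero_of_injective _
  obtain ⟨x₃, hx₃⟩ := Ext.covariant_sequence_exact₁ _ (hS0 X) c h0 (zero_add 1)
  obtain ⟨q, rfl⟩ := (Ext.mk₀_bijective _ _).2 x₃
  refine ⟨γ X (Q0 X) q, ?_⟩
  rw [δ0_apply, AddEquiv.symm_apply_apply]
  exact hx₃

end embedding

section data

variable {X : Scheme.{u}}

/-- Čech-type data computing the class of an invertible module `L` as `δ0 q₀`. -/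
structure IsPicData (L : X.Modules) (q₀ : (Q0 X).obj.obj (op (EtCoh.top X))) (U : X → X.Opens)
    (t : ∀ x, Γ(L, U x)) (τ : ∀ x, (I0 X).obj.obj (op (O (U x)))) : Prop where
  mem : ∀ x, x ∈ U x
  basis : ∀ x, IsBasisOn L (U x) (t x)
  lift : ∀ x, (π0 X).hom.app _ (τ x) = (Q0 X).obj.map (toT (O (U x))).op q₀
  trans : ∀ (i j : X) (r : (Γ(X, U i ⊓ U j))ˣ),
    mres L (inf_le_left : U i ⊓ U j ≤ U i) (t i) =
      (r : Γ(X, U i ⊓ U j)) • mres L (inf_le_right : U i ⊓ U j ≤ U j) (t j) →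
    (ι0 X).hom.app _ (gmOf _ r) = (I0 X).obj.map (Ole (inf_le_left : U i ⊓ U j ≤ U i)).op (τ i) -
      (I0 X).obj.map (Ole (inf_le_right : U i ⊓ U j ≤ U j)).op (τ j)

lemma iSup_eq_top_of_mem {U : X → X.Opens} (h : ∀ x, x ∈ U x) : iSup U = ⊤ := by
  rw [eq_top_iff]
  intro x _
  exact TopologicalSpace.Opens.mem_iSup.2 ⟨x, h x⟩

theorem IsPicData.restrict {L : X.Modules} {q₀ : (Q0 X).obj.obj (op (EtCoh.top X))} {U : X → X.Opens}
    {t : ∀ x, Γ(L, U x)} {τ : ∀ x, (I0 X).obj.obj (op (O (U x)))} (h : IsPicData L q₀ U t τ)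
    (W : X → X.Opens) (hW : ∀ x, x ∈ W x) (hle : ∀ x, W x ≤ U x) :
    IsPicData L q₀ W (fun x => mres L (hle x) (t x))
      (fun x => (I0 X).obj.map (Ole (hle x)).op (τ x)) where
  mem := hW
  basis x := (h.basis x).mono (hle x)
  lift x := by
    rw [nat_apply, h.lift x, GmH90.map_map]
    congr 3
    exact congrArg Quiver.Hom.op ((EtCore.topIsTerminal X).hom_ext _ _)
  trans i j r hr := by
    obtain ⟨r₀, hr₀⟩ := exists_unit_smul ((h.basis i).mono (inf_le_left : U i ⊓ U j ≤ U i))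
      ((h.basis j).mono (inf_le_right : U i ⊓ U j ≤ U j))
    have hle' : W i ⊓ W j ≤ U i ⊓ U j := inf_le_inf (hle i) (hle j)
    have hrr : (r : Γ(X, W i ⊓ W j)) = fres hle' (r₀ : Γ(X, U i ⊓ U j)) := by
      apply ((h.basis j).mono ((inf_le_right : W i ⊓ W j ≤ W j).trans (hle j))).eq_of_smul_eq
      have e1 := congrArg (mres L hle') hr₀
      simp only [mres_smul, mres_mres] at e1 hr
      rw [← hr, ← e1]
    have hr' : r = Units.map (fres hle').toMonoidHom r₀ := Units.ext hrr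
    rw [hr', ← map_gmOf, nat_apply, h.trans i j r₀ hr₀, map_sub, GmH90.map_map, GmH90.map_map,
      GmH90.map_map, GmH90.map_map]
    congr 2
    · congr 2
      exact congrArg Quiver.Hom.op (hom_O_ext _ _)
    · congr 2
      exact congrArg Quiver.Hom.op (hom_O_ext _ _)

/-- the structure sheaf has class zero -/
theorem isPicData_unit : IsPicData (Coh.structureModule X) 0 (fun _ => ⊤) (fun _ => oneSec ⊤)
    (fun _ => 0) where
  mem _ := trivial
  basis _ := isBasisOn_oneSec ⊤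
  lift _ := by rw [map_zero, map_zero]
  trans i j r hr := by
    have h1 : (r : Γ(X, (⊤ : X.Opens) ⊓ ⊤)) = 1 := by
      rw [mres_oneSec, smul_oneSec] at hr
      exact hr.symm
    have h2 : r = 1 := Units.ext h1
    have : gmOf ((⊤ : X.Opens) ⊓ ⊤) 1 = 0 := by
      apply unGm_injective
      rw [unGm_zero]
      exact map_one (Units.map (toTop ((⊤ : X.Opens) ⊓ ⊤)).toRingHom.toMonoidHom)
    rw [h2, this, map_zero]
    change _ = (I0 X).obj.map _ 0 - (I0 X).obj.map _ 0
    simp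

end data

section main

variable {X : Scheme.{u}}

/-- every invertible module has data -/
theorem exists_isPicData (L : X.Modules) (hL : PicF.IsInvertible L) :
    ∃ q₀ U t τ, IsPicData L q₀ U t τ := by
  choose U hxU t ht using fun x : X => exists_isBasisOn_of_isInvertible hL x
  have hU : iSup U = ⊤ := iSup_eq_top_of_mem hxU
  choose r hr using fun i j : X => exists_unit_smul
    ((ht i).mono (inf_le_left : U i ⊓ U j ≤ U i)) ((ht j).mono (inf_le_right : U i ⊓ U j ≤ U j))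
  have hcoc : ∀ (i j k : X) (a : U i ⊓ U j ⊓ U k ≤ U i ⊓ U k) (b : U i ⊓ U j ⊓ U k ≤ U i ⊓ U j)
      (c : U i ⊓ U j ⊓ U k ≤ U j ⊓ U k),
      fres a (r i k : Γ(X, U i ⊓ U k)) = fres b (r i j : Γ(X, U i ⊓ U j)) *
        fres c (r j k : Γ(X, U j ⊓ U k)) := by
    intro i j k a b c
    have hk := (ht k).mono ((inf_le_right : U i ⊓ U j ⊓ U k ≤ U k))
    apply hk.eq_of_smul_eq
    have e1 := congrArg (mres L a) (hr i k)
    have e2 := congrArg (mres L b) (hr i j)
    have e3 := congrArg (mres L c) (hr j k)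
    simp only [mres_smul, mres_mres] at e1 e2 e3
    rw [mul_smul, ← e3, ← e2, ← e1]
  obtain ⟨τ, hτ⟩ := cech1_of_injective U (I0 X)
    (fun i j => (ι0 X).hom.app _ (gmOf (U i ⊓ U j) (r i j))) (by
    intro i j k a b c
    rw [hom_O_ext a (Ole (inf_le_inf_right (U k) inf_le_left)), hom_O_ext b (Ole inf_le_left),
      hom_O_ext c (Ole (inf_le_inf_right (U k) inf_le_right)),
      ← nat_apply, ← nat_apply, ← nat_apply, ← map_add, map_gmOf, map_gmOf, map_gmOf, ← gmOf_mul]
    congr 2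
    apply Units.ext
    exact hcoc i j k _ _ _)
  obtain ⟨q₀, hq₀⟩ := glue_top (Q0 X) U hU (fun i => (π0 X).hom.app _ (τ i)) (by
    intro i j
    rw [← nat_apply, ← nat_apply, ← sub_eq_zero, ← map_sub, ← hτ i j, π0_ι0])
  refine ⟨q₀, U, t, τ, hxU, ht, fun x => (hq₀ x).symm, ?_⟩
  intro i j r' hr'
  have : r' = r i j := by
    apply Units.ext
    apply ((ht j).mono (inf_le_right : U i ⊓ U j ≤ U j)).eq_of_smul_eq
    rw [← hr', ← hr i j]
  rw [this]
  exact hτ i j

/-- additivity of the class with respect to the tensor product -/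
theorem delta_add {L L' L'' : X.Modules} (e : CohB1.tensorMod L L' ≅ L'')
    {q q' q'' : (Q0 X).obj.obj (op (EtCoh.top X))} {W : X → X.Opens}
    {t : ∀ x, Γ(L, W x)} {t' : ∀ x, Γ(L', W x)} {t'' : ∀ x, Γ(L'', W x)}
    {τ τ' τ'' : ∀ x, (I0 X).obj.obj (op (O (W x)))}
    (h : IsPicData L q W t τ) (h' : IsPicData L' q' W t' τ') (h'' : IsPicData L'' q'' W t'' τ'') :
    δ0 X q'' = δ0 X q + δ0 X q' := by
  have hW : iSup W = ⊤ := iSup_eq_top_of_mem h.mem
  -- the tensor basis transported to `L''`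
  let s : ∀ x, Γ(L'', W x) := fun x => e.hom.app (W x) (tm L L' (W x) (t x) (t' x))
  have hs : ∀ x, IsBasisOn L'' (W x) (s x) := fun x =>
    IsBasisOn.map_iso e (isBasisOn_tm (h.basis x) (h'.basis x))
  choose w hw using fun x => exists_unit_smul (hs x) (h''.basis x)
  let σ : ∀ x, (I0 X).obj.obj (op (O (W x))) := fun x =>
    τ'' x - τ x - τ' x + (ι0 X).hom.app _ (gmOf (W x) (w x))
  have hglue : ∀ i j : X, (I0 X).obj.map (Ole (inf_le_left : W i ⊓ W j ≤ W i)).op (σ i) =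
      (I0 X).obj.map (Ole (inf_le_right : W i ⊓ W j ≤ W j)).op (σ j) := by
    intro i j
    obtain ⟨r, hr⟩ := exists_unit_smul ((h.basis i).mono (inf_le_left : W i ⊓ W j ≤ W i))
      ((h.basis j).mono (inf_le_right : W i ⊓ W j ≤ W j))
    obtain ⟨r', hr'⟩ := exists_unit_smul ((h'.basis i).mono (inf_le_left : W i ⊓ W j ≤ W i))
      ((h'.basis j).mono (inf_le_right : W i ⊓ W j ≤ W j))
    obtain ⟨r'', hr''⟩ := exists_unit_smul ((h''.basis i).mono (inf_le_left : W i ⊓ W j ≤ W i))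
      ((h''.basis j).mono (inf_le_right : W i ⊓ W j ≤ W j))
    have e1 := h.trans i j r hr
    have e2 := h'.trans i j r' hr'
    have e3 := h''.trans i j r'' hr''
    -- the unit identity
    have hunit : Units.map (fres (inf_le_left : W i ⊓ W j ≤ W i)).toMonoidHom (w i) * r'' =
        r * r' * Units.map (fres (inf_le_right : W i ⊓ W j ≤ W j)).toMonoidHom (w j) := by
      apply Units.ext
      apply ((h''.basis j).mono (inf_le_right : W i ⊓ W j ≤ W j)).eq_of_smul_eq
      have a1 : mres L'' (inf_le_left : W i ⊓ W j ≤ W i) (s i) =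
          (fres (inf_le_left : W i ⊓ W j ≤ W i) (w i) * (r'' : Γ(X, W i ⊓ W j))) •
            mres L'' (inf_le_right : W i ⊓ W j ≤ W j) (t'' j) := by
        rw [hw i, mres_smul, hr'', mul_smul]
      have a2 : mres L'' (inf_le_left : W i ⊓ W j ≤ W i) (s i) =
          ((r : Γ(X, W i ⊓ W j)) * (r' : Γ(X, W i ⊓ W j)) *
            fres (inf_le_right : W i ⊓ W j ≤ W j) (w j)) •
            mres L'' (inf_le_right : W i ⊓ W j ≤ W j) (t'' j) := by
        have b1 : mres L'' (inf_le_left : W i ⊓ W j ≤ W i) (s i) =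
            e.hom.app _ (tm L L' _ (mres L inf_le_left (t i)) (mres L' inf_le_left (t' i))) := by
          change mres L'' _ (e.hom.app (W i) _) = _
          rw [← app_mres, tm_res]
        have b2 : mres L'' (inf_le_right : W i ⊓ W j ≤ W j) (s j) =
            e.hom.app _ (tm L L' _ (mres L inf_le_right (t j)) (mres L' inf_le_right (t' j))) := by
          change mres L'' _ (e.hom.app (W j) _) = _
          rw [← app_mres, tm_res]
        rw [b1, hr, hr', tm_smul_left, tm_smul_right, Scheme.Modules.Hom.app_smul,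
          Scheme.Modules.Hom.app_smul, ← b2, hw j, mres_smul, ← mul_smul, ← mul_smul]
      exact a1.symm.trans a2
    have hgm := congrArg (fun v => (ι0 X).hom.app _ (gmOf (W i ⊓ W j) v)) hunit
    simp only [gmOf_mul, map_add, ← map_gmOf, nat_apply] at hgm
    rw [e1, e2, e3] at hgm
    change (I0 X).obj.map _ (τ'' i - τ i - τ' i + (ι0 X).hom.app _ (gmOf (W i) (w i))) =
      (I0 X).obj.map _ (τ'' j - τ j - τ' j + (ι0 X).hom.app _ (gmOf (W j) (w j)))
    simp only [map_add, map_sub]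
    have := hgm
    rw [← sub_eq_zero] at this ⊢
    rw [← this]
    abel
  obtain ⟨T, hT⟩ := glue_top (I0 X) W hW σ hglue
  have hπ : (π0 X).hom.app _ T = q'' - q - q' := by
    apply sep_top (Q0 X) W hW
    intro i
    rw [← nat_apply, hT i]
    change (π0 X).hom.app _ (τ'' i - τ i - τ' i + (ι0 X).hom.app _ (gmOf (W i) (w i))) = _
    rw [map_add, map_sub, map_sub, π0_ι0, add_zero, h.lift, h'.lift, h''.lift, map_sub, map_sub]
  have h0 : δ0 X (q'' - q - q') = 0 := (δ0_eq_zero_iff X _).2 ⟨T, hπ⟩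
  rw [map_sub, map_sub, sub_sub, sub_eq_zero] at h0
  exact h0

end main

section bij

variable {X : Scheme.{u}}

/-- a module of class zero is trivial -/
theorem nonempty_iso_of_delta_eq_zero {L : X.Modules} {q₀ : (Q0 X).obj.obj (op (EtCoh.top X))}
    {U : X → X.Opens} {t : ∀ x, Γ(L, U x)} {τ : ∀ x, (I0 X).obj.obj (op (O (U x)))}
    (h : IsPicData L q₀ U t τ) (h0 : δ0 X q₀ = 0) : Nonempty (L ≅ Coh.structureModule X) := by
  have hU : iSup U = ⊤ := iSup_eq_top_of_mem h.mem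
  obtain ⟨T, hT⟩ := (δ0_eq_zero_iff X q₀).1 h0
  choose r hr using fun i j : X => exists_unit_smul
    ((h.basis i).mono (inf_le_left : U i ⊓ U j ≤ U i))
    ((h.basis j).mono (inf_le_right : U i ⊓ U j ≤ U j))
  have hv : ∀ i : X, ∃ v : (EtCoh.Gm X).obj.obj (op (O (U i))),
      (ι0 X).hom.app _ v = τ i - (I0 X).obj.map (toT (O (U i))).op T := by
    intro i
    apply exact0
    rw [map_sub, nat_apply, hT, h.lift i, sub_self]
  choose v hv using hv
  have hvv : ∀ i j : X, (EtCoh.Gm X).obj.map (Ole (inf_le_left : U i ⊓ U j ≤ U i)).op (v i) =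
      (EtCoh.Gm X).obj.map (Ole (inf_le_right : U i ⊓ U j ≤ U j)).op (v j) +
        gmOf (U i ⊓ U j) (r i j) := by
    intro i j
    apply ι0_inj
    rw [map_add, nat_apply, nat_apply, hv, hv, h.trans i j (r i j) (hr i j), map_sub, map_sub,
      GmH90.map_map, GmH90.map_map,
      (EtCore.topIsTerminal X).hom_ext (Ole (inf_le_left : U i ⊓ U j ≤ U i) ≫ toT (O (U i)))
        (Ole (inf_le_right : U i ⊓ U j ≤ U j) ≫ toT (O (U j)))]
    abel
  refine (Groth.Agent.S10964.result X U hU L (Coh.structureModule X) t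
    (fun i => oneSec (U i)) (fun i V hV => h.basis i V hV)
    (fun i V hV => isBasisOn_oneSec (U i) V hV)
    (fun i j => (r i j : Γ(X, U i ⊓ U j))) (fun _ _ => 1) hr (by
      intro i j
      rw [one_smul]
      exact (mres_oneSec _).trans (mres_oneSec _).symm)).2 ⟨fun i => unitOf (U i) (v i), ?_⟩
  intro i j
  rw [one_mul]
  have := congrArg (fun s => (unitOf _ s : Γ(X, U i ⊓ U j))) (hvv i j)
  simp only [unitOf_add, unitOf_map, unitOf_gmOf] at this
  exact this

/-- every class comes from an invertible module -/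
theorem exists_isPicData_of_section (q₀ : (Q0 X).obj.obj (op (EtCoh.top X))) :
    ∃ (L : X.Modules) (_ : PicF.IsInvertible L) (U : X → X.Opens) (t : ∀ x, Γ(L, U x))
      (τ : ∀ x, (I0 X).obj.obj (op (O (U x)))), IsPicData L q₀ U t τ := by
  haveI : Epi (D0 X q₀).π := (hS0 X).epi_g
  have key : ∀ x : X, ∃ (V : X.Opens), x ∈ V ∧ ∃ t : (I0 X).obj.obj (op (O V)),
      (π0 X).hom.app (op (O V)) t = (Q0 X).obj.map (toT (O V)).op q₀ :=
    fun x => exists_open_lift_of_epi (D0 X q₀) x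
  choose U hxU τ hτ using key
  have hU : iSup U = ⊤ := iSup_eq_top_of_mem hxU
  have hres : ∀ {Z Z' : X.Etale} (f : Z' ⟶ Z), (Q0 X).obj.map f.op ((Q0 X).obj.map (toT Z).op q₀) =
      (Q0 X).obj.map (toT Z').op q₀ := fun f => map_qZ (Q0 X) q₀ f
  have hd : ∀ i j : X, ∃ h : (EtCoh.Gm X).obj.obj (op (O (U i ⊓ U j))),
      (ι0 X).hom.app _ h = (I0 X).obj.map (Ole (inf_le_left : U i ⊓ U j ≤ U i)).op (τ i) -
        (I0 X).obj.map (Ole (inf_le_right : U i ⊓ U j ≤ U j)).op (τ j) := by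
    intro i j
    apply exact0
    rw [map_sub, nat_apply, nat_apply, hτ i, hτ j, hres, hres, sub_self]
  choose h hh using hd
  let η : ∀ i j : X, (Γ(X, U i ⊓ U j))ˣ := fun i j => unitOf _ (h i j)
  have hcoc : ∀ (i j k : X) (a : U i ⊓ U j ⊓ U k ≤ U i ⊓ U k) (b : U i ⊓ U j ⊓ U k ≤ U i ⊓ U j)
      (c : U i ⊓ U j ⊓ U k ≤ U j ⊓ U k),
      (EtCoh.Gm X).obj.map (Ole a).op (h i k) =
        (EtCoh.Gm X).obj.map (Ole b).op (h i j) + (EtCoh.Gm X).obj.map (Ole c).op (h j k) := by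
    intro i j k a b c
    apply ι0_inj
    rw [map_add, nat_apply, nat_apply, nat_apply, hh, hh, hh, map_sub, map_sub, map_sub,
      GmH90.map_map, GmH90.map_map, GmH90.map_map, GmH90.map_map, GmH90.map_map, GmH90.map_map,
      hom_O_ext (Ole a ≫ Ole inf_le_left) (Ole b ≫ Ole inf_le_left),
      hom_O_ext (Ole a ≫ Ole inf_le_right) (Ole c ≫ Ole inf_le_right),
      hom_O_ext (Ole b ≫ Ole inf_le_right) (Ole c ≫ Ole inf_le_left)]
    abel
  obtain ⟨L, s, hL, hs, hsη⟩ := Groth.Agent.S10963.result X U hU η (by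
    intro i j k
    have := congrArg (fun t => (unitOf _ t : Γ(X, U i ⊓ U j ⊓ U k))) (hcoc i j k
      (inf_le_inf_right (U k) inf_le_left) inf_le_left (inf_le_inf_right (U k) inf_le_right))
    simp only [unitOf_add, unitOf_map] at this
    exact this)
  refine ⟨L, hL, U, s, τ, hxU, fun x V hV => hs x V hV, hτ, ?_⟩
  intro i j r hr
  have hbj : IsBasisOn L (U j) (s j) := fun V hV => hs j V hV
  have : r = η i j := by
    apply Units.ext
    apply (hbj.mono (inf_le_right : U i ⊓ U j ≤ U j)).eq_of_smul_eq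
    rw [← hr]
    exact hsη i j
  rw [this, gmOf_unitOf]
  exact hh i j

end bij

section assemble

variable (X : Scheme.{u})

/-- the class relation between invertible classes and cohomology classes -/
def Rel (a : PicLoc.PicSet X) (c : EtCoh.H X (EtCoh.Gm X) 1) : Prop :=
  ∃ (L : X.Modules) (hL : PicF.IsInvertible L) (q₀ : (Q0 X).obj.obj (op (EtCoh.top X)))
    (U : X → X.Opens) (t : ∀ x, Γ(L, U x)) (τ : ∀ x, (I0 X).obj.obj (op (O (U x)))),
    a = PicGrp.cls L hL ∧ IsPicData L q₀ U t τ ∧ δ0 X q₀ = c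

lemma rel_exists (a : PicLoc.PicSet X) : ∃ c, Rel X a c := by
  obtain ⟨L, hL, rfl⟩ := PicGrp.exists_eq_cls a
  obtain ⟨q₀, U, t, τ, h⟩ := exists_isPicData L hL
  exact ⟨_, L, hL, q₀, U, t, τ, rfl, h, rfl⟩

variable [PicGrp.Law X]

lemma rel_mul {a b : PicLoc.PicSet X} {c c' c'' : EtCoh.H X (EtCoh.Gm X) 1}
    (h : Rel X a c) (h' : Rel X b c') (h'' : Rel X (a * b) c'') : c'' = c + c' := by
  obtain ⟨L, hL, q, U, t, τ, rfl, hd, rfl⟩ := h
  obtain ⟨L', hL', q', U', t', τ', rfl, hd', rfl⟩ := h'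
  obtain ⟨L'', hL'', q'', U'', t'', τ'', hab, hd'', rfl⟩ := h''
  have h1 : PicF.cl (CohB1.tensorMod L L') = PicF.cl L'' := by
    rw [← PicGrp.cls_mul_cls_val hL hL', hab]
    rfl
  obtain ⟨e⟩ := (PicGrp.cl_eq_cl_iff _ _).1 h1
  let W : X → X.Opens := fun x => U x ⊓ U' x ⊓ U'' x
  have hW : ∀ x, x ∈ W x := fun x => ⟨⟨hd.mem x, hd'.mem x⟩, hd''.mem x⟩
  exact delta_add e (hd.restrict W hW (fun x => inf_le_left.trans inf_le_left))
    (hd'.restrict W hW (fun x => inf_le_left.trans inf_le_right))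
    (hd''.restrict W hW (fun x => inf_le_right))

lemma rel_one : Rel X 1 0 :=
  ⟨Coh.structureModule X, PicLoc.isInvertible_structureModule X, 0, fun _ => ⊤, fun _ => oneSec ⊤,
    fun _ => 0, PicGrp.cls_structureModule_eq_one.symm, isPicData_unit, map_zero _⟩

lemma rel_unique {a : PicLoc.PicSet X} {c c' : EtCoh.H X (EtCoh.Gm X) 1}
    (h : Rel X a c) (h' : Rel X a c') : c' = c := by
  have := rel_mul X h (rel_one X) (by rwa [mul_one])
  rwa [add_zero] at this

/-- the class map -/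
noncomputable def Φ (a : PicLoc.PicSet X) : EtCoh.H X (EtCoh.Gm X) 1 := (rel_exists X a).choose

lemma rel_Φ (a : PicLoc.PicSet X) : Rel X a (Φ X a) := (rel_exists X a).choose_spec

/-- `Pic X ≃+ H¹(X_et, G_m)` -/
theorem nonempty_addEquiv :
    Nonempty (Additive (PicLoc.PicSet X) ≃+ EtCoh.H X (EtCoh.Gm X) 1) := by
  let f : Additive (PicLoc.PicSet X) →+ EtCoh.H X (EtCoh.Gm X) 1 :=
    AddMonoidHom.mk' (fun a => Φ X a.toMul) (fun a b => by
      change Φ X (a.toMul * b.toMul) = _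
      exact rel_mul X (rel_Φ X _) (rel_Φ X _) (rel_Φ X _))
  have hinj : Function.Injective f := by
    rw [injective_iff_map_eq_zero]
    intro a ha
    have hr : Rel X a.toMul 0 := by
      have := rel_Φ X a.toMul
      have ha' : Φ X a.toMul = 0 := ha
      rwa [ha'] at this
    obtain ⟨L, hL, q₀, U, t, τ, hcl, hd, hδ⟩ := hr
    have h1 : PicGrp.cls L hL = 1 := (PicGrp.cls_eq_one_iff hL).2
      (nonempty_iso_of_delta_eq_zero hd hδ)
    have h2 : a.toMul = 1 := hcl.trans h1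
    exact h2
  have hsurj : Function.Surjective f := by
    intro c
    obtain ⟨q₀, rfl⟩ := δ0_surjective X c
    obtain ⟨L, hL, U, t, τ, hd⟩ := exists_isPicData_of_section q₀
    refine ⟨Additive.ofMul (PicGrp.cls L hL), ?_⟩
    have hr : Rel X (PicGrp.cls L hL) (δ0 X q₀) := ⟨L, hL, q₀, U, t, τ, rfl, hd, rfl⟩
    exact rel_unique X hr (rel_Φ X _)
  exact ⟨AddEquiv.ofBijective f ⟨hinj, hsurj⟩⟩

end assemble

end Groth.Agent.Lib.Helper44.GmPicGrp
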