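import Mathlib

/-!
# Graded maps `Φ : ⊕ I^{nc'} → A[T_1, …, T_r]` determined by `φ_j : I^c → A` (helper44)

Coefficient bounds and the evaluation property.
-/

set_option autoImplicit false
universe u

namespace Groth.Agent.Lib.Helper44.GradedPhi

open MvPolynomial

variable {A : Type*} [CommRing A] {r : ℕ}

/-- the axioms of the graded algebra map `Φ` -/
structure PhiData (f : Fin r → A) (I : Ideal A) (c c' : ℕ) (hcc' : c ≤ c')
    (φ : Fin r → (↥(I ^ c) →ₗ[A] A)) (Φ : ℕ → A → MvPolynomial (Fin r) A) : Prop where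
  add : ∀ n : ℕ, ∀ g ∈ I ^ (n * c'), ∀ h ∈ I ^ (n * c'), Φ n (g + h) = Φ n g + Φ n h
  smul : ∀ (n : ℕ) (a : A), ∀ g ∈ I ^ (n * c'), Φ n (a * g) = a • Φ n g
  mul : ∀ n m : ℕ, ∀ g ∈ I ^ (n * c'), ∀ h ∈ I ^ (m * c'), Φ (n + m) (g * h) = Φ n g * Φ m h
  zero : ∀ a : A, Φ 0 a = MvPolynomial.C a
  one : ∀ (g : A) (hg : g ∈ I ^ c'), Φ 1 g =
    ∑ j, MvPolynomial.C (φ j ⟨g, Ideal.pow_le_pow_right hcc' hg⟩) * MvPolynomial.X j
  hφ : ∀ x : ↥(I ^ c), (x : A) = ∑ j, f j * φ j x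

variable {f : Fin r → A} {I : Ideal A} {c c' : ℕ} {hcc' : c ≤ c'}
  {φ : Fin r → (↥(I ^ c) →ₗ[A] A)} {Φ : ℕ → A → MvPolynomial (Fin r) A}

/-- induction principle over the powers `I ^ (n c')` -/
theorem pow_induction (I : Ideal A) (c' : ℕ) (P : ℕ → A → Prop)
    (h0 : ∀ a, P 0 a)
    (hmul : ∀ n g h, g ∈ I ^ (n * c') → h ∈ I ^ c' → P n g → P (n + 1) (g * h))
    (hadd : ∀ n x y, x ∈ I ^ (n * c') → y ∈ I ^ (n * c') → P n x → P n y → P n (x + y)) :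
    ∀ n g, g ∈ I ^ (n * c') → P n g := by
  intro n
  induction n with
  | zero => intro g _; exact h0 g
  | succ n ih =>
    intro g hg
    have hpow : I ^ ((n + 1) * c') = I ^ (n * c') * I ^ c' := by
      rw [Nat.succ_mul, pow_add]
    rw [hpow] at hg
    have key : g ∈ I ^ ((n + 1) * c') ∧ P (n + 1) g := by
      refine Submodule.mul_induction_on hg ?_ ?_
      · intro a ha b hb
        refine ⟨?_, hmul n a b ha hb (ih a ha)⟩
        rw [hpow]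
        exact Ideal.mul_mem_mul ha hb
      · rintro x y ⟨hx, hPx⟩ ⟨hy, hPy⟩
        exact ⟨add_mem hx hy, hadd (n + 1) x y hx hy hPx hPy⟩
    exact key.2

/-- `φ_j` maps `I ^ c'` into `I ^ (c' - c)` -/
theorem phi_mem (I : Ideal A) (c c' : ℕ) (hcc' : c ≤ c') (ψ : ↥(I ^ c) →ₗ[A] A)
    (g : A) (hg : g ∈ I ^ c') :
    ψ ⟨g, Ideal.pow_le_pow_right hcc' hg⟩ ∈ I ^ (c' - c) := by
  have hpow : I ^ c' = I ^ (c' - c) * I ^ c := by
    rw [← pow_add, Nat.sub_add_cancel hcc']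
  have hg' : g ∈ I ^ (c' - c) * I ^ c := hpow ▸ hg
  have key : ∀ g ∈ I ^ (c' - c) * I ^ c, ∃ hgc : g ∈ I ^ c, ψ ⟨g, hgc⟩ ∈ I ^ (c' - c) := by
    intro g hg
    refine Submodule.mul_induction_on hg ?_ ?_
    · intro a ha b hb
      refine ⟨Ideal.mul_mem_left _ a hb, ?_⟩
      have : (⟨a * b, Ideal.mul_mem_left _ a hb⟩ : ↥(I ^ c)) = a • ⟨b, hb⟩ := rfl
      rw [this, map_smul, smul_eq_mul]
      exact Ideal.mul_mem_right _ _ ha
    · rintro x y ⟨hx, hPx⟩ ⟨hy, hPy⟩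
      refine ⟨add_mem hx hy, ?_⟩
      have : (⟨x + y, add_mem hx hy⟩ : ↥(I ^ c)) = ⟨x, hx⟩ + ⟨y, hy⟩ := rfl
      rw [this, map_add]
      exact add_mem hPx hPy
  obtain ⟨_, h⟩ := key g hg'
  exact h

/-- coefficient bound: `Φ_n g ∈ I^{n (c' - c)} A[T]` for `g ∈ I^{n c'}` -/
theorem Phi_mem_map (hΦ : PhiData f I c c' hcc' φ Φ) :
    ∀ n g, g ∈ I ^ (n * c') → Φ n g ∈ Ideal.map (C : A →+* MvPolynomial (Fin r) A)
      (I ^ (n * (c' - c))) := by
  refine pow_induction I c' (fun n g => Φ n g ∈ Ideal.map (C : A →+* MvPolynomial (Fin r) A)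
      (I ^ (n * (c' - c)))) ?_ ?_ ?_
  · intro a
    rw [hΦ.zero, zero_mul, pow_zero, Ideal.one_eq_top, Ideal.map_top]
    exact Submodule.mem_top
  · intro n g h hg hh hPg
    have h1 : h ∈ I ^ (1 * c') := by rw [one_mul]; exact hh
    show Φ (n + 1) (g * h) ∈ _
    rw [hΦ.mul n 1 g hg h h1, Nat.succ_mul, pow_add, Ideal.map_mul]
    refine Ideal.mul_mem_mul hPg ?_
    rw [hΦ.one h hh]
    refine sum_mem fun j _ => Ideal.mul_mem_right _ _ (Ideal.mem_map_of_mem _ ?_)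
    exact phi_mem I c c' hcc' (φ j) h hh
  · intro n x y hx hy hPx hPy
    show Φ n (x + y) ∈ _
    rw [hΦ.add n x hx y hy]
    exact add_mem hPx hPy

theorem coeff_Phi_mem (hΦ : PhiData f I c c' hcc' φ Φ) (n : ℕ) (g : A) (hg : g ∈ I ^ (n * c'))
    (d : Fin r →₀ ℕ) : coeff d (Φ n g) ∈ I ^ (n * (c' - c)) :=
  MvPolynomial.mem_map_C_iff.mp (Phi_mem_map hΦ n g hg) d

/-- evaluation at `T_j ↦ f_j` recovers `g` -/
theorem aeval_Phi (hΦ : PhiData f I c c' hcc' φ Φ) :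
    ∀ n g, g ∈ I ^ (n * c') → aeval f (Φ n g) = g := by
  refine pow_induction I c' (fun n g => aeval f (Φ n g) = g) ?_ ?_ ?_
  · intro a
    show aeval f (Φ 0 a) = a
    rw [hΦ.zero, aeval_C]
    rfl
  · intro n g h hg hh hPg
    have h1 : h ∈ I ^ (1 * c') := by rw [one_mul]; exact hh
    show aeval f (Φ (n + 1) (g * h)) = g * h
    rw [hΦ.mul n 1 g hg h h1, map_mul, hPg, hΦ.one h hh, map_sum]
    congr 1
    have := hΦ.hφ ⟨h, Ideal.pow_le_pow_right hcc' hh⟩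
    simp only at this
    refine Eq.trans ?_ this.symm
    refine Finset.sum_congr rfl fun j _ => ?_
    rw [map_mul, aeval_C, aeval_X, mul_comm]
    rfl
  · intro n x y hx hy hPx hPy
    show aeval f (Φ n (x + y)) = x + y
    rw [hΦ.add n x hx y hy, map_add, hPx, hPy]

end Groth.Agent.Lib.Helper44.GradedPhi
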