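import Mathlib

/-!
# Extending a graded map `Φ_n : I^t → A[T]` to modules: `Ψ_n : I^t N → B[T] ⊗_B N` (helper44)
-/

set_option autoImplicit false
universe u

namespace Groth.Agent.Lib.Helper44.GradedPsi

open MvPolynomial TensorProduct

variable {A : Type*} [CommRing A] {r : ℕ} {B : Type*} [CommRing B] [Algebra A B]
  {N : Type*} [AddCommGroup N] [Module B N]

/-- the generators `g • x`, `g ∈ I ^ t` -/
def genSet (B : Type*) [CommRing B] [Algebra A B] (N : Type*) [AddCommGroup N] [Module B N]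
    (I : Ideal A) (t : ℕ) : Set N :=
  {y : N | ∃ g ∈ I ^ t, ∃ x : N, y = algebraMap A B g • x}

/-- `Σ g_i ⊗ x_i ↦ Σ g_i x_i` on formal sums -/
noncomputable def piMap (B : Type*) [CommRing B] [Algebra A B] (N : Type*) [AddCommGroup N]
    [Module B N] (I : Ideal A) (t : ℕ) : (↥(I ^ t) →₀ N) →ₗ[B] N :=
  Finsupp.lsum ℕ (fun g : ↥(I ^ t) => LinearMap.lsmul B N (algebraMap A B (g : A)))

/-- `Σ g_i ⊗ x_i ↦ Σ F(g_i) ⊗ x_i` on formal sums -/
noncomputable def thetaMap (B : Type*) [CommRing B] [Algebra A B] (N : Type*) [AddCommGroup N]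
    [Module B N] (I : Ideal A) (t : ℕ) (F : A → MvPolynomial (Fin r) A) :
    (↥(I ^ t) →₀ N) →ₗ[B] (MvPolynomial (Fin r) B ⊗[B] N) :=
  Finsupp.lsum ℕ (fun g : ↥(I ^ t) =>
    TensorProduct.mk B (MvPolynomial (Fin r) B) N (MvPolynomial.map (algebraMap A B) (F (g : A))))

@[simp] theorem piMap_single (I : Ideal A) (t : ℕ) (g : ↥(I ^ t)) (x : N) :
    piMap B N I t (Finsupp.single g x) = algebraMap A B (g : A) • x := by
  unfold piMap
  rw [Finsupp.lsum_single]
  rfl

@[simp] theorem thetaMap_single (I : Ideal A) (t : ℕ) (F : A → MvPolynomial (Fin r) A)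
    (g : ↥(I ^ t)) (x : N) :
    thetaMap B N I t F (Finsupp.single g x) =
      MvPolynomial.map (algebraMap A B) (F (g : A)) ⊗ₜ[B] x := by
  unfold thetaMap
  rw [Finsupp.lsum_single]
  rfl

theorem map_smul' (a : A) (p : MvPolynomial (Fin r) A) :
    MvPolynomial.map (algebraMap A B) (a • p) =
      algebraMap A B a • MvPolynomial.map (algebraMap A B) p := by
  rw [smul_eq_C_mul, map_mul, map_C, ← smul_eq_C_mul]

/-- the key torsion computation -/
theorem smul_thetaMap (I : Ideal A) (t : ℕ) (F : A → MvPolynomial (Fin r) A)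
    (hsmul : ∀ (a : A), ∀ g ∈ I ^ t, F (a * g) = a • F g)
    (ξ : ↥(I ^ t) →₀ N) (h : A) (hh : h ∈ I ^ t) :
    algebraMap A B h • thetaMap B N I t F ξ =
      MvPolynomial.map (algebraMap A B) (F h) ⊗ₜ[B] (piMap B N I t ξ) := by
  induction ξ using Finsupp.induction_linear with
  | zero => simp
  | add ξ₁ ξ₂ h₁ h₂ => rw [map_add, map_add, smul_add, tmul_add, h₁, h₂]
  | single g x =>
    rw [thetaMap_single, piMap_single, TensorProduct.smul_tmul', ← map_smul',
      ← hsmul h g g.2, mul_comm, hsmul g h hh, map_smul', TensorProduct.smul_tmul]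

/-- the coefficient isomorphism `B[T] ⊗ N ≃ (monomials →₀ N)` -/
noncomputable def coeffEquiv (B : Type*) [CommRing B] (N : Type*) [AddCommGroup N] [Module B N]
    (r : ℕ) : (MvPolynomial (Fin r) B ⊗[B] N) ≃ₗ[B] ((Fin r →₀ ℕ) →₀ N) :=
  TensorProduct.equivFinsuppOfBasisLeft (MvPolynomial.basisMonomials (Fin r) B)

theorem coeffEquiv_tmul (p : MvPolynomial (Fin r) B) (x : N) (d : Fin r →₀ ℕ) :
    coeffEquiv B N r (p ⊗ₜ[B] x) d = coeff d p • x := by
  unfold coeffEquiv
  rw [TensorProduct.equivFinsuppOfBasisLeft_apply_tmul_apply]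
  rfl

theorem coeffEquiv_thetaMap_mem (I : Ideal A) (t m : ℕ) (F : A → MvPolynomial (Fin r) A)
    (hcoef : ∀ g ∈ I ^ t, ∀ d, coeff d (F g) ∈ I ^ m)
    (ξ : ↥(I ^ t) →₀ N) (d : Fin r →₀ ℕ) :
    coeffEquiv B N r (thetaMap B N I t F ξ) d ∈
      ((I.map (algebraMap A B)) ^ m • ⊤ : Submodule B N) := by
  induction ξ using Finsupp.induction_linear with
  | zero => simp
  | add ξ₁ ξ₂ h₁ h₂ =>
    rw [map_add, map_add, Finsupp.add_apply]
    exact add_mem h₁ h₂
  | single g x =>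
    rw [thetaMap_single, coeffEquiv_tmul, coeff_map]
    refine Submodule.smul_mem_smul ?_ Submodule.mem_top
    rw [← Ideal.map_pow]
    exact Ideal.mem_map_of_mem _ (hcoef g g.2 d)

/-- `ker π ≤ ker θ` under the Artin–Rees torsion-freeness hypothesis -/
theorem thetaMap_eq_zero_of_piMap_eq_zero (I : Ideal A) (t m : ℕ)
    (F : A → MvPolynomial (Fin r) A)
    (hsmul : ∀ (a : A), ∀ g ∈ I ^ t, F (a * g) = a • F g)
    (hcoef : ∀ g ∈ I ^ t, ∀ d, coeff d (F g) ∈ I ^ m)
    (hAR : ∀ y ∈ ((I.map (algebraMap A B)) ^ m • ⊤ : Submodule B N),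
      (∀ b ∈ (I.map (algebraMap A B)) ^ t, b • y = 0) → y = 0)
    (ξ : ↥(I ^ t) →₀ N) (hξ : piMap B N I t ξ = 0) : thetaMap B N I t F ξ = 0 := by
  apply (coeffEquiv B N r).injective
  rw [map_zero]
  ext d
  rw [Finsupp.zero_apply]
  refine hAR _ (coeffEquiv_thetaMap_mem I t m F hcoef ξ d) ?_
  -- the annihilator of `y` contains the image of `I ^ t`
  set y := coeffEquiv B N r (thetaMap B N I t F ξ) d with hy
  have hle : (I.map (algebraMap A B)) ^ t ≤ LinearMap.ker (LinearMap.toSpanSingleton B N y) := by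
    rw [← Ideal.map_pow, Ideal.map_le_iff_le_comap]
    intro h hh
    rw [Ideal.mem_comap, LinearMap.mem_ker, LinearMap.toSpanSingleton_apply, hy,
      ← Finsupp.smul_apply, ← map_smul, smul_thetaMap I t F hsmul ξ h hh, hξ, tmul_zero, map_zero,
      Finsupp.zero_apply]
  intro b hb
  have := hle hb
  rwa [LinearMap.mem_ker, LinearMap.toSpanSingleton_apply] at this

/-- the case `1 ∈ I ^ t` (e.g. `t = 0`) -/
theorem thetaMap_eq_zero_of_piMap_eq_zero_of_one_mem (I : Ideal A) (t : ℕ)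
    (h1 : (1 : A) ∈ I ^ t) (F : A → MvPolynomial (Fin r) A)
    (hsmul : ∀ (a : A), ∀ g ∈ I ^ t, F (a * g) = a • F g)
    (ξ : ↥(I ^ t) →₀ N) (hξ : piMap B N I t ξ = 0) : thetaMap B N I t F ξ = 0 := by
  have := smul_thetaMap (B := B) (N := N) I t F hsmul ξ 1 h1
  rw [map_one, one_smul, hξ, tmul_zero] at this
  exact this

theorem range_piMap (I : Ideal A) (t : ℕ) :
    LinearMap.range (piMap B N I t) = Submodule.span B (genSet B N I t) := by
  apply le_antisymm
  · rintro _ ⟨ξ, rfl⟩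
    induction ξ using Finsupp.induction_linear with
    | zero => rw [map_zero]; exact zero_mem _
    | add ξ₁ ξ₂ h₁ h₂ => rw [map_add]; exact add_mem h₁ h₂
    | single g x =>
      rw [piMap_single]
      exact Submodule.subset_span ⟨g, g.2, x, rfl⟩
  · rw [Submodule.span_le]
    rintro _ ⟨g, hg, x, rfl⟩
    exact ⟨Finsupp.single ⟨g, hg⟩ x, piMap_single I t ⟨g, hg⟩ x⟩

/-- the evaluation map `B[T] ⊗ N → N`, `T_j ↦ f_j` -/
noncomputable def evMap (B : Type*) [CommRing B] [Algebra A B] (N : Type*) [AddCommGroup N]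
    [Module B N] (f : Fin r → A) : (MvPolynomial (Fin r) B ⊗[B] N) →ₗ[B] N :=
  TensorProduct.lift ((LinearMap.lsmul B N).comp
    (MvPolynomial.aeval (fun j ↦ algebraMap A B (f j))).toLinearMap)

theorem evMap_thetaMap (f : Fin r → A) (I : Ideal A) (t : ℕ) (F : A → MvPolynomial (Fin r) A)
    (heval : ∀ g ∈ I ^ t, aeval f (F g) = g) (ξ : ↥(I ^ t) →₀ N) :
    evMap B N f (thetaMap B N I t F ξ) = piMap B N I t ξ := by
  induction ξ using Finsupp.induction_linear with
  | zero => simp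
  | add ξ₁ ξ₂ h₁ h₂ => rw [map_add, map_add, map_add, h₁, h₂]
  | single g x =>
    rw [thetaMap_single, piMap_single]
    unfold evMap
    rw [TensorProduct.lift.tmul]
    simp only [LinearMap.coe_comp, Function.comp_apply, AlgHom.toLinearMap_apply,
      LinearMap.lsmul_apply]
    congr 1
    rw [MvPolynomial.aeval_map_algebraMap]
    have := MvPolynomial.aeval_algebraMap_apply (B := B) f (F (g : A))
    rw [heval g g.2] at this
    exact this

/-- existence and uniqueness of `Ψ` -/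
theorem exists_unique_psi (f : Fin r → A) (I : Ideal A) (t : ℕ) (F : A → MvPolynomial (Fin r) A)
    (heval : ∀ g ∈ I ^ t, aeval f (F g) = g)
    (hker : ∀ ξ : ↥(I ^ t) →₀ N, piMap B N I t ξ = 0 → thetaMap B N I t F ξ = 0) :
    ∃ Ψ : ↥(Submodule.span B (genSet B N I t)) →ₗ[B] (MvPolynomial (Fin r) B ⊗[B] N),
      (∀ (g : A) (hg : g ∈ I ^ t) (x : N),
        Ψ ⟨algebraMap A B g • x, Submodule.subset_span ⟨g, hg, x, rfl⟩⟩ =
          MvPolynomial.map (algebraMap A B) (F g) ⊗ₜ[B] x) ∧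
      (∀ y : ↥(Submodule.span B (genSet B N I t)), evMap B N f (Ψ y) = (y : N)) ∧
      (∀ Ψ' : ↥(Submodule.span B (genSet B N I t)) →ₗ[B] (MvPolynomial (Fin r) B ⊗[B] N),
        (∀ (g : A) (hg : g ∈ I ^ t) (x : N),
          Ψ' ⟨algebraMap A B g • x, Submodule.subset_span ⟨g, hg, x, rfl⟩⟩ =
            MvPolynomial.map (algebraMap A B) (F g) ⊗ₜ[B] x) → Ψ' = Ψ) := by
  set S := Submodule.span B (genSet B N I t) with hS
  let π' : (↥(I ^ t) →₀ N) →ₗ[B] ↥S :=
    (piMap B N I t).codRestrict S (fun ξ => by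
      rw [hS, ← range_piMap]; exact LinearMap.mem_range_self _ ξ)
  have hπ' : ∀ ξ, (π' ξ : N) = piMap B N I t ξ := fun ξ => rfl
  have hsurj : Function.Surjective π' := by
    rintro ⟨y, hy⟩
    rw [hS, ← range_piMap] at hy
    obtain ⟨ξ, rfl⟩ := hy
    exact ⟨ξ, Subtype.ext rfl⟩
  have hker' : LinearMap.ker π' ≤ LinearMap.ker (thetaMap B N I t F) := by
    intro ξ hξ
    rw [LinearMap.mem_ker] at hξ ⊢
    apply hker
    rw [← hπ', hξ]
    rfl
  let Ψ : ↥S →ₗ[B] (MvPolynomial (Fin r) B ⊗[B] N) :=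
    ((LinearMap.ker π').liftQ (thetaMap B N I t F) hker') ∘ₗ
      (π'.quotKerEquivOfSurjective hsurj).symm.toLinearMap
  have hΨ : ∀ ξ, Ψ (π' ξ) = thetaMap B N I t F ξ := by
    intro ξ
    show ((LinearMap.ker π').liftQ (thetaMap B N I t F) hker')
      ((π'.quotKerEquivOfSurjective hsurj).symm (π' ξ)) = _
    rw [LinearMap.quotKerEquivOfSurjective_symm_apply]
    rfl
  have hgen : ∀ (g : A) (hg : g ∈ I ^ t) (x : N),
      (⟨algebraMap A B g • x, Submodule.subset_span ⟨g, hg, x, rfl⟩⟩ : ↥S) =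
        π' (Finsupp.single ⟨g, hg⟩ x) := by
    intro g hg x
    apply Subtype.ext
    rw [hπ', piMap_single]
  refine ⟨Ψ, ?_, ?_, ?_⟩
  · intro g hg x
    rw [hgen g hg x, hΨ, thetaMap_single]
  · intro y
    obtain ⟨ξ, rfl⟩ := hsurj y
    rw [hΨ, evMap_thetaMap f I t F heval, hπ']
  · intro Ψ' hΨ'
    apply LinearMap.ext
    intro y
    obtain ⟨ξ, rfl⟩ := hsurj y
    rw [hΨ]
    induction ξ using Finsupp.induction_linear with
    | zero => simp
    | add ξ₁ ξ₂ h₁ h₂ => rw [map_add, map_add, map_add, h₁, h₂]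
    | single g x =>
      rw [thetaMap_single, ← hΨ' (g : A) g.2 x]
      congr 1
      apply Subtype.ext
      rw [hπ', piMap_single]

end Groth.Agent.Lib.Helper44.GradedPsi
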