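import Mathlib

set_option autoImplicit false

namespace Groth.Agent.Lib.Helper44

open Finset

variable {R : Type*} [CommRing R]

theorem sum_sum_ite_add_eq (N M : ℕ) (hMN : M < N) (g : ℕ → ℕ → R) :
    ∑ i ∈ range N, ∑ j ∈ range N, (if i + j = M then g i j else 0) =
      ∑ i ∈ range (M + 1), g i (M - i) := by
  have h1 : ∀ i ∈ range N, ∑ j ∈ range N, (if i + j = M then g i j else 0) =
      if i ≤ M then g i (M - i) else 0 := by
    intro i _
    split_ifs with hi
    · rw [Finset.sum_eq_single (M - i)]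
      · rw [if_pos (by omega)]
      · intro j _ hj
        rw [if_neg (by omega)]
      · intro h
        exact absurd (Finset.mem_range.mpr (by omega)) h
    · apply Finset.sum_eq_zero
      intro j _
      rw [if_neg (by omega)]
  rw [Finset.sum_congr rfl h1]
  have hsub : range (M + 1) ⊆ range N := by
    intro i hi
    rw [Finset.mem_range] at hi ⊢
    omega
  rw [← Finset.sum_subset hsub]
  · apply Finset.sum_congr rfl
    intro i hi
    rw [if_pos (by rw [Finset.mem_range] at hi; omega)]
  · intro i _ hi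
    rw [if_neg (by rw [Finset.mem_range] at hi; omega)]

theorem mul_sum_sum_ite_eq (y z : R) (c : ℕ → R) (N M : ℕ) (hMN : M ≤ N) :
    (y - z) * ∑ i ∈ range N, ∑ j ∈ range N,
        (if i + j + 1 ≤ M then c (i + j + 1) * y ^ i * z ^ j else 0) =
      ∑ k ∈ range (M + 1), c k * (y ^ k - z ^ k) := by
  induction M with
  | zero =>
    simp
  | succ M ih =>
    have hsplit : ∀ i j : ℕ, (if i + j + 1 ≤ M + 1 then c (i + j + 1) * y ^ i * z ^ j else 0) =
        (if i + j + 1 ≤ M then c (i + j + 1) * y ^ i * z ^ j else 0) +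
        (if i + j = M then c (M + 1) * (y ^ i * z ^ j) else 0) := by
      intro i j
      by_cases h1 : i + j + 1 ≤ M
      · rw [if_pos (by omega), if_pos h1, if_neg (by omega), add_zero]
      · by_cases h2 : i + j = M
        · rw [if_pos (by omega), if_neg h1, if_pos h2, zero_add, h2, mul_assoc]
        · rw [if_neg (by omega), if_neg h1, if_neg h2, zero_add]
    simp only [hsplit, Finset.sum_add_distrib, mul_add]
    rw [ih (by omega), sum_sum_ite_add_eq N M (by omega), Finset.sum_range_succ _ (M + 1)]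
    congr 1
    rw [← Finset.mul_sum, ← mul_assoc, mul_comm (y - z), mul_assoc]
    congr 1
    have := geom_sum₂_mul y z (M + 1)
    rw [← this, mul_comm]
    simp only [Nat.add_sub_cancel]

theorem pow_sub_pow_eq (y z : R) (m N : ℕ) (hmN : m ≤ N) :
    (1 + y) ^ m - (1 + z) ^ m =
      (y - z) * ∑ i ∈ range N, ∑ j ∈ range N,
        (if i + j + 1 ≤ m then ((m.choose (i + j + 1) : ℕ) : R) * y ^ i * z ^ j else 0) := by
  rw [mul_sum_sum_ite_eq y z (fun k => ((m.choose k : ℕ) : R)) N m hmN]
  rw [add_comm 1 y, add_comm 1 z, add_pow, add_pow, ← Finset.sum_sub_distrib]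
  apply Finset.sum_congr rfl
  intro k _
  simp only [one_pow, mul_one]
  ring

theorem pow_mul_sub_pow_mul_eq (y z : R) (a : ℕ) (ha : 1 ≤ a) :
    (1 + y) ^ a * z - (1 + z) ^ a * y =
      (y - z) * (-1 + ∑ i ∈ range (a + 1), ∑ j ∈ range (a + 1),
        (if 1 ≤ i ∧ 1 ≤ j ∧ i + j ≤ a then ((a.choose (i + j) : ℕ) : R) * y ^ i * z ^ j else 0)) := by
  have hshift : ∑ i ∈ range (a + 1), ∑ j ∈ range (a + 1),
        (if 1 ≤ i ∧ 1 ≤ j ∧ i + j ≤ a then ((a.choose (i + j) : ℕ) : R) * y ^ i * z ^ j else 0) =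
      y * z * ∑ i ∈ range a, ∑ j ∈ range a,
        (if i + j + 1 ≤ a - 1 then ((a.choose (i + j + 1 + 1) : ℕ) : R) * y ^ i * z ^ j else 0) := by
    rw [Finset.sum_range_succ']
    have h0 : ∑ j ∈ range (a + 1),
        (if 1 ≤ 0 ∧ 1 ≤ j ∧ 0 + j ≤ a then ((a.choose (0 + j) : ℕ) : R) * y ^ 0 * z ^ j else 0) = 0 := by
      apply Finset.sum_eq_zero
      intro j _
      rw [if_neg (by omega)]
    rw [h0, add_zero, Finset.mul_sum]
    apply Finset.sum_congr rfl
    intro i _
    rw [Finset.sum_range_succ']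
    rw [if_neg (by omega), add_zero, Finset.mul_sum]
    apply Finset.sum_congr rfl
    intro j _
    by_cases h : i + j + 1 ≤ a - 1
    · rw [if_pos (by omega), if_pos h]
      have : i + 1 + (j + 1) = i + j + 1 + 1 := by ring
      rw [this]
      ring
    · rw [if_neg (by omega), if_neg h, mul_zero]
  rw [hshift, mul_add, ← mul_assoc (y - z), mul_comm (y - z) (y * z), mul_assoc (y * z),
    mul_sum_sum_ite_eq y z (fun k => ((a.choose (k + 1) : ℕ) : R)) a (a - 1) (by omega)]
  have ha' : a - 1 + 1 = a := by omega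
  rw [ha', add_comm 1 y, add_comm 1 z, add_pow, add_pow, Finset.sum_range_succ' _ a,
    Finset.sum_range_succ' _ a]
  simp only [one_pow, mul_one, pow_zero, Nat.choose_zero_right, Nat.cast_one, Finset.mul_sum]
  rw [add_mul, add_mul, Finset.sum_mul, Finset.sum_mul]
  have : ∀ (S T : R), S + 1 * z - (T + 1 * y) = (y - z) * -1 + (S - T) := by intro S T; ring
  rw [this, ← Finset.sum_sub_distrib]
  congr 1
  apply Finset.sum_congr rfl
  intro k _
  ring

end Groth.Agent.Lib.Helper44
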