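import Groth.Prelude.Def_LambdaSp
import Groth.Agent.Lib.Helper44.WHom
import Mathlib.RingTheory.MvPolynomial.Symmetric.FundamentalTheorem
import Mathlib.RingTheory.MvPolynomial.Homogeneous

set_option autoImplicit false
open MvPolynomial Finset

namespace Groth.Agent.Lib.Helper44

open LambdaRing

section Esymm

variable {R S : Type*} [CommSemiring R] [CommSemiring S]

/-- Ring homomorphisms commute with `Multiset.esymm`. -/
theorem map_multiset_esymm (f : R →+* S) (s : Multiset R) (n : ℕ) :
    f (s.esymm n) = (s.map f).esymm n := by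
  rw [Multiset.esymm, Multiset.esymm, map_multiset_sum, Multiset.powersetCard_map,
    Multiset.map_map, Multiset.map_map]
  congr 1
  apply Multiset.map_congr rfl
  intro t _
  simp [map_multiset_prod]

/-- `esymm n` of a multiset of polynomials homogeneous of degree `i` is homogeneous of degree `i * n`. -/
theorem isHomogeneous_multiset_esymm {σ : Type*} (s : Multiset (MvPolynomial σ R)) (i n : ℕ)
    (hs : ∀ p ∈ s, p.IsHomogeneous i) : (s.esymm n).IsHomogeneous (i * n) := by
  rw [Multiset.esymm]
  have key : ∀ t ∈ s.powersetCard n, (t.prod).IsHomogeneous (i * n) := by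
    intro t ht
    rw [Multiset.mem_powersetCard] at ht
    obtain ⟨hts, hcard⟩ := ht
    have : ∀ (t : Multiset (MvPolynomial σ R)), (∀ p ∈ t, p.IsHomogeneous i) →
        t.prod.IsHomogeneous (i * Multiset.card t) := by
      intro t
      induction t using Multiset.induction_on with
      | empty => intro _; simpa using isHomogeneous_one σ R
      | cons a t ih =>
        intro h
        rw [Multiset.prod_cons, Multiset.card_cons, mul_add, mul_one, add_comm]
        exact (h a (Multiset.mem_cons_self a t)).mul (ih fun p hp => h p (Multiset.mem_cons_of_mem hp))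
    rw [← hcard]
    exact this t fun p hp => hs p (Multiset.mem_of_le hts hp)
  have : ∀ (u : Multiset (MvPolynomial σ R)), (∀ p ∈ u, p.IsHomogeneous (i * n)) →
      u.sum.IsHomogeneous (i * n) := by
    intro u
    induction u using Multiset.induction_on with
    | empty => intro _; simpa using isHomogeneous_zero σ R (i * n)
    | cons a t ih =>
      intro h
      rw [Multiset.sum_cons]
      exact (h a (Multiset.mem_cons_self a t)).add (ih fun p hp => h p (Multiset.mem_cons_of_mem hp))
  apply this
  intro p hp
  rw [Multiset.mem_map] at hp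
  obtain ⟨t, ht, rfl⟩ := hp
  exact key t ht

end Esymm

section CompGen

/-- `compGen N i j` is a symmetric polynomial. -/
theorem compGen_isSymmetric (N i j : ℕ) : (compGen N i j).IsSymmetric := by
  intro e
  rw [compGen]
  have h := map_multiset_esymm (rename e : MvPolynomial (Fin N) ℤ →ₐ[ℤ] MvPolynomial (Fin N) ℤ).toRingHom
    (((Finset.univ : Finset (Fin N)).powersetCard i).val.map
      fun s => (∏ a ∈ s, X a : MvPolynomial (Fin N) ℤ)) j
  simp only [AlgHom.toRingHom_eq_coe, RingHom.coe_coe] at h
  rw [h, Multiset.map_map]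
  congr 1
  have hS : ((Finset.univ : Finset (Fin N)).powersetCard i).map
      (Finset.mapEmbedding e.toEmbedding).toEmbedding = (Finset.univ : Finset (Fin N)).powersetCard i := by
    rw [← Finset.powersetCard_map, Finset.map_univ_equiv]
  conv_rhs => rw [← hS, Finset.map_val, Multiset.map_map]
  apply Multiset.map_congr rfl
  intro s _
  simp only [Function.comp_apply, map_prod, rename_X]
  change ∏ x ∈ s, X (e x) = ∏ a ∈ s.map e.toEmbedding, X a
  rw [Finset.prod_map]
  rfl

/-- `compGen N i j` is homogeneous of degree `i * j`. -/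
theorem compGen_isHomogeneous (N i j : ℕ) : (compGen N i j).IsHomogeneous (i * j) := by
  rw [compGen]
  apply isHomogeneous_multiset_esymm
  intro p hp
  rw [Multiset.mem_map] at hp
  obtain ⟨s, hs, rfl⟩ := hp
  have hs' : s.card = i := (Finset.mem_powersetCard.mp (Finset.mem_val.mp hs)).2
  have := IsHomogeneous.prod s (fun a => (X a : MvPolynomial (Fin N) ℤ)) (fun _ => 1)
    (fun a _ => isHomogeneous_X ℤ a)
  simpa [hs'] using this

theorem esymm_isHomogeneous' (σ R : Type*) [CommSemiring R] [Fintype σ] (n : ℕ) :
    (esymm σ R n).IsHomogeneous n := by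
  rw [esymm]
  apply IsHomogeneous.sum
  intro t ht
  have := IsHomogeneous.prod t (fun a => (X a : MvPolynomial σ R)) (fun _ => 1)
    (fun a _ => isHomogeneous_X R a)
  simpa [(Finset.mem_powersetCard.mp ht).2] using this

/-- Existence of the universal polynomial `Q_{i,j}`. -/
theorem exists_isCompPoly (i j : ℕ) : ∃ Q : MvPolynomial (Fin (i * j)) ℤ, IsCompPoly i j Q := by
  obtain ⟨Q₀, hQ₀⟩ := esymmAlgHom_fin_surjective ℤ (le_refl (i * j))
    ⟨compGen (i * j) i j, compGen_isSymmetric _ _ _⟩
  have h0 : aeval (fun k : Fin (i * j) => esymm (Fin (i * j)) ℤ ((k : ℕ) + 1)) Q₀ = compGen (i * j) i j := by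
    rw [← esymmAlgHom_apply, hQ₀]
  refine ⟨weightedHomogeneousComponent (fun k : Fin (i * j) => (k : ℕ) + 1) (i * j) Q₀, ?_,
    weightedHomogeneousComponent_isWeightedHomogeneous _ _⟩
  rw [aeval_weightedHomogeneousComponent (w := fun k : Fin (i * j) => (k : ℕ) + 1)
    (w' := (1 : Fin (i * j) → ℕ)) (fun k : Fin (i * j) => esymm (Fin (i * j)) ℤ ((k : ℕ) + 1))
    (fun k => esymm_isHomogeneous' (Fin (i * j)) ℤ ((k : ℕ) + 1)), h0]
  exact (compGen_isHomogeneous (i * j) i j).weightedHomogeneousComponent_same

end CompGen

end Groth.Agent.Lib.Helper44
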