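import Groth.Agent.Lib.Helper44.LineRing

/-!
# The verification principle for special λ-rings

For a polynomial `F` in variables `w_{s,i}` (standing for `λ^{i+1}(x_s)`) and `m : ℕ` there is a
polynomial `G` with `ev(G) = λ^m(ev(F))` in every special λ-ring, for all values of the `x_s`.
We state it for two universes at once so that the same `G` can be used in an arbitrary special
λ-ring and in a `LineRing`.
-/

set_option autoImplicit false
open Finset

namespace Groth.Agent.Lib.Helper44

open LambdaRing MvPolynomial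

universe u v w

section VP

variable {ι : Type w}

/-- Evaluation `w_{s,i} ↦ λ^{i+1}(x_s)`. -/
noncomputable def evLam {A : Type u} [CommRing A] [LambdaOps A] (x : ι → A) :
    MvPolynomial (ι × ℕ) ℤ →ₐ[ℤ] A :=
  aeval fun si : ι × ℕ => LambdaOps.lam (si.2 + 1) (x si.1)

@[simp] theorem evLam_X {A : Type u} [CommRing A] [LambdaOps A] (x : ι → A) (s : ι) (i : ℕ) :
    evLam x (X (s, i)) = LambdaOps.lam (i + 1) (x s) := by
  simp [evLam]

/-- `G` represents `λ^m ∘ F` in all special λ-rings of universes `u` and `v`. -/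
def LamRep (F : MvPolynomial (ι × ℕ) ℤ) (m : ℕ) (G : MvPolynomial (ι × ℕ) ℤ) : Prop :=
  (∀ (A : Type u) [CommRing A] [LambdaOps A], IsSpecial A → ∀ x : ι → A,
      evLam x G = LambdaOps.lam m (evLam x F)) ∧
    (∀ (A : Type v) [CommRing A] [LambdaOps A], IsSpecial A → ∀ x : ι → A,
      evLam x G = LambdaOps.lam m (evLam x F))

/-- `F` has representing polynomials for all `λ^m`. -/
def HasLamRep (F : MvPolynomial (ι × ℕ) ℤ) : Prop :=
  ∀ m : ℕ, ∃ G : MvPolynomial (ι × ℕ) ℤ, LamRep.{u, v} F m G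

theorem hasLamRep_zero : HasLamRep.{u, v} (0 : MvPolynomial (ι × ℕ) ℤ) := by
  intro m
  rcases m with _ | m
  · refine ⟨1, ?_, ?_⟩ <;> intro A _ _ _ x <;> rw [map_one, LambdaOps.lam_zero]
  · refine ⟨0, ?_, ?_⟩ <;> intro A _ _ _ x <;>
      rw [map_zero, ← coeff_lamSeries, lamSeries_zero] <;> simp

theorem hasLamRep_one : HasLamRep.{u, v} (1 : MvPolynomial (ι × ℕ) ℤ) := by
  intro m
  rcases m with _ | _ | m
  · refine ⟨1, ?_, ?_⟩ <;> intro A _ _ _ x <;> rw [map_one, LambdaOps.lam_zero]
  · refine ⟨1, ?_, ?_⟩ <;> intro A _ _ _ x <;> rw [map_one, LambdaOps.lam_one]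
  · refine ⟨0, ?_, ?_⟩ <;> intro A _ _ hA x <;>
      rw [map_zero, map_one, hA.lam_one_eq_zero (m + 2) (by omega)]

theorem hasLamRep_add {F₁ F₂ : MvPolynomial (ι × ℕ) ℤ} (h₁ : HasLamRep.{u, v} F₁)
    (h₂ : HasLamRep.{u, v} F₂) : HasLamRep.{u, v} (F₁ + F₂) := by
  choose G₁ hG₁ using h₁
  choose G₂ hG₂ using h₂
  intro m
  refine ⟨∑ i ∈ range (m + 1), G₁ i * G₂ (m - i), ?_, ?_⟩
  · intro A _ _ hA x
    rw [map_add, LambdaOps.lam_add, map_sum]
    refine Finset.sum_congr rfl fun i _ => ?_
    rw [map_mul, (hG₁ i).1 A hA x, (hG₂ (m - i)).1 A hA x]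
  · intro A _ _ hA x
    rw [map_add, LambdaOps.lam_add, map_sum]
    refine Finset.sum_congr rfl fun i _ => ?_
    rw [map_mul, (hG₁ i).2 A hA x, (hG₂ (m - i)).2 A hA x]

/-- `λ^m(-y)` in terms of `λ^i(-y)`, `i < m`, and the `λ^j(y)`. -/
theorem lam_neg_eq {A : Type u} [CommRing A] [LambdaOps A] (y : A) (m : ℕ) :
    LambdaOps.lam (m + 1) (-y) =
      -∑ i ∈ range (m + 1), LambdaOps.lam i (-y) * LambdaOps.lam (m + 1 - i) y := by
  have h := LambdaOps.lam_add (m + 1) (-y) y
  rw [neg_add_cancel, Finset.sum_range_succ, Nat.sub_self, LambdaOps.lam_zero, mul_one] at h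
  have h0 : LambdaOps.lam (m + 1) (0 : A) = 0 := by
    rw [← coeff_lamSeries, lamSeries_zero]; simp
  rw [h0] at h
  linear_combination -h

theorem hasLamRep_neg {F : MvPolynomial (ι × ℕ) ℤ} (h : HasLamRep.{u, v} F) :
    HasLamRep.{u, v} (-F) := by
  choose G hG using h
  intro m
  induction m using Nat.strong_induction_on with
  | _ m ih =>
    rcases m with _ | m
    · refine ⟨1, ?_, ?_⟩ <;> intro A _ _ _ x <;> rw [map_one, LambdaOps.lam_zero]
    · have ih' : ∀ i : ℕ, ∃ H : MvPolynomial (ι × ℕ) ℤ, i < m + 1 → LamRep.{u, v} (-F) i H := by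
        intro i
        by_cases hi : i < m + 1
        · obtain ⟨H, hH⟩ := ih i hi
          exact ⟨H, fun _ => hH⟩
        · exact ⟨0, fun h => absurd h hi⟩
      choose H hH using ih'
      refine ⟨-∑ i ∈ range (m + 1), H i * G (m + 1 - i), ?_, ?_⟩
      · intro A _ _ hA x
        rw [map_neg, map_neg (evLam x) F, lam_neg_eq, map_sum]
        congr 1
        refine Finset.sum_congr rfl fun i hi => ?_
        rw [map_mul, ((hH i) (Finset.mem_range.mp hi)).1 A hA x, (hG (m + 1 - i)).1 A hA x, map_neg]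
      · intro A _ _ hA x
        rw [map_neg, map_neg (evLam x) F, lam_neg_eq, map_sum]
        congr 1
        refine Finset.sum_congr rfl fun i hi => ?_
        rw [map_mul, ((hH i) (Finset.mem_range.mp hi)).2 A hA x, (hG (m + 1 - i)).2 A hA x, map_neg]

theorem hasLamRep_C (a : ℤ) : HasLamRep.{u, v} (C a : MvPolynomial (ι × ℕ) ℤ) := by
  induction a using Int.induction_on with
  | zero => rw [map_zero]; exact hasLamRep_zero
  | succ n ih =>
    rw [map_add, map_one]
    exact hasLamRep_add ih hasLamRep_one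
  | pred n ih =>
    rw [map_sub, map_one, sub_eq_add_neg]
    exact hasLamRep_add ih (hasLamRep_neg hasLamRep_one)

theorem hasLamRep_mul_X {F : MvPolynomial (ι × ℕ) ℤ} (h : HasLamRep.{u, v} F) (s : ι) (i : ℕ) :
    HasLamRep.{u, v} (F * X (s, i)) := by
  choose G hG using h
  intro m
  obtain ⟨P, hP⟩ := exists_isMulPoly m
  have hQex : ∀ k : ℕ, ∃ Q : MvPolynomial (Fin ((i + 1) * (k + 1))) ℤ, IsCompPoly (i + 1) (k + 1) Q :=
    fun k => exists_isCompPoly (i + 1) (k + 1)
  choose Q hQ using hQex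
  refine ⟨aeval (Sum.elim (fun k : Fin m => G ((k : ℕ) + 1))
    (fun k : Fin m => rename (fun l : Fin ((i + 1) * ((k : ℕ) + 1)) => (s, (l : ℕ))) (Q k))) P, ?_, ?_⟩
  · intro A _ _ hA x
    rw [map_mul, evLam_X, hA.lam_mul m P hP]
    have : (evLam x).comp (aeval (Sum.elim (fun k : Fin m => G ((k : ℕ) + 1))
        (fun k : Fin m => rename (fun l : Fin ((i + 1) * ((k : ℕ) + 1)) => (s, (l : ℕ))) (Q k)))) =
        aeval (Sum.elim (fun k : Fin m => LambdaOps.lam ((k : ℕ) + 1) (evLam x F))
          (fun k : Fin m => LambdaOps.lam ((k : ℕ) + 1) (LambdaOps.lam (i + 1) (x s)))) := by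
      rw [comp_aeval]
      congr 1
      funext k
      rcases k with k | k
      · simp only [Sum.elim_inl]
        exact (hG _).1 A hA x
      · simp only [Sum.elim_inr]
        rw [hA.lam_lam (i + 1) ((k : ℕ) + 1) (Q k) (hQ k), evLam, aeval_rename]
        rfl
    exact DFunLike.congr_fun this P
  · intro A _ _ hA x
    rw [map_mul, evLam_X, hA.lam_mul m P hP]
    have : (evLam x).comp (aeval (Sum.elim (fun k : Fin m => G ((k : ℕ) + 1))
        (fun k : Fin m => rename (fun l : Fin ((i + 1) * ((k : ℕ) + 1)) => (s, (l : ℕ))) (Q k)))) =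
        aeval (Sum.elim (fun k : Fin m => LambdaOps.lam ((k : ℕ) + 1) (evLam x F))
          (fun k : Fin m => LambdaOps.lam ((k : ℕ) + 1) (LambdaOps.lam (i + 1) (x s)))) := by
      rw [comp_aeval]
      congr 1
      funext k
      rcases k with k | k
      · simp only [Sum.elim_inl]
        exact (hG _).2 A hA x
      · simp only [Sum.elim_inr]
        rw [hA.lam_lam (i + 1) ((k : ℕ) + 1) (Q k) (hQ k), evLam, aeval_rename]
        rfl
    exact DFunLike.congr_fun this P

/-- **Verification principle** (λ-form). -/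
theorem hasLamRep (F : MvPolynomial (ι × ℕ) ℤ) : HasLamRep.{u, v} F := by
  induction F using MvPolynomial.induction_on with
  | C a => exact hasLamRep_C a
  | add p q hp hq => exact hasLamRep_add hp hq
  | mul_X p n hp => exact hasLamRep_mul_X hp n.1 n.2

/-- The polynomial `Σ_j C(i, j-1) w_{s,j-1}` giving `γ^{i+1}(x_s)`. -/
noncomputable def gammaPoly (s : ι) (i : ℕ) : MvPolynomial (ι × ℕ) ℤ :=
  ∑ j ∈ range (i + 2), (Nat.choose i (j - 1) : MvPolynomial (ι × ℕ) ℤ) *
    (if j = 0 then 0 else X (s, j - 1))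

theorem evLam_gammaPoly {A : Type u} [CommRing A] [LambdaOps A] (x : ι → A) (s : ι) (i : ℕ) :
    evLam x (gammaPoly s i) = gamma (i + 1) (x s) := by
  rw [gammaPoly, gamma, if_neg (Nat.succ_ne_zero i), map_sum]
  refine Finset.sum_congr rfl fun j _ => ?_
  rw [map_mul, map_natCast, Nat.add_sub_cancel]
  congr 1
  rcases j with _ | j
  · simp
  · rw [if_neg (Nat.succ_ne_zero j), if_neg (Nat.succ_ne_zero j), evLam_X, Nat.add_sub_cancel]

/-- Change of coordinates from γ-variables to λ-variables. -/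
noncomputable def toLam : MvPolynomial (ι × ℕ) ℤ →ₐ[ℤ] MvPolynomial (ι × ℕ) ℤ :=
  aeval fun si : ι × ℕ => gammaPoly si.1 si.2

/-- Evaluation `w_{s,i} ↦ γ^{i+1}(x_s)`. -/
noncomputable def evGam {A : Type u} [CommRing A] [LambdaOps A] (x : ι → A) :
    MvPolynomial (ι × ℕ) ℤ →ₐ[ℤ] A :=
  (evLam x).comp toLam

@[simp] theorem evGam_X {A : Type u} [CommRing A] [LambdaOps A] (x : ι → A) (s : ι) (i : ℕ) :
    evGam x (X (s, i)) = gamma (i + 1) (x s) := by
  rw [evGam, AlgHom.comp_apply, toLam, aeval_X, evLam_gammaPoly]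

theorem evGam_eq_aeval {A : Type u} [CommRing A] [LambdaOps A] (x : ι → A) :
    evGam x = aeval fun si : ι × ℕ => gamma (si.2 + 1) (x si.1) := by
  apply MvPolynomial.algHom_ext
  intro si
  rw [aeval_X]
  exact evGam_X x si.1 si.2

theorem X_mem_range_toLam (s : ι) (i : ℕ) :
    (X (s, i) : MvPolynomial (ι × ℕ) ℤ) ∈ (toLam (ι := ι)).range := by
  induction i using Nat.strong_induction_on with
  | _ i ih =>
    have h1 : toLam (X (s, i) : MvPolynomial (ι × ℕ) ℤ) = gammaPoly s i := by
      rw [toLam, aeval_X]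
    have h2 : gammaPoly s i = (X (s, i) : MvPolynomial (ι × ℕ) ℤ) +
        ∑ j ∈ range (i + 1), (Nat.choose i (j - 1) : MvPolynomial (ι × ℕ) ℤ) *
          (if j = 0 then 0 else X (s, j - 1)) := by
      rw [gammaPoly, Finset.sum_range_succ, if_neg (Nat.succ_ne_zero i), Nat.add_sub_cancel,
        Nat.choose_self, Nat.cast_one, one_mul, add_comm]
    have h3 : (X (s, i) : MvPolynomial (ι × ℕ) ℤ) = toLam (X (s, i)) -
        ∑ j ∈ range (i + 1), (Nat.choose i (j - 1) : MvPolynomial (ι × ℕ) ℤ) *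
          (if j = 0 then 0 else X (s, j - 1)) := by
      rw [h1, h2]; ring
    rw [h3]
    apply Subalgebra.sub_mem
    · exact ⟨_, rfl⟩
    · apply Subalgebra.sum_mem
      intro j hj
      apply Subalgebra.mul_mem
      · exact natCast_mem _ _
      · rcases j with _ | j
        · simp
        · rw [if_neg (Nat.succ_ne_zero j), Nat.add_sub_cancel]
          exact ih j (by have := Finset.mem_range.mp hj; omega)

theorem toLam_surjective : Function.Surjective (toLam (ι := ι)) := by
  intro p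
  have : p ∈ (toLam (ι := ι)).range := by
    induction p using MvPolynomial.induction_on with
    | C a => exact Subalgebra.algebraMap_mem _ a
    | add p q hp hq => exact Subalgebra.add_mem _ hp hq
    | mul_X p n hp => exact Subalgebra.mul_mem _ hp (X_mem_range_toLam n.1 n.2)
  exact this

/-- **Verification principle** (γ-form, in γ-coordinates): for every polynomial `F` in the
variables `c_{s,i} = γ^{i+1}(x_s)` and every `m` there is `G` with `ev(G) = γ^m(ev(F))` in all
special λ-rings (of two given universes). -/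
theorem exists_gamma_rep (F : MvPolynomial (ι × ℕ) ℤ) (m : ℕ) :
    ∃ G : MvPolynomial (ι × ℕ) ℤ,
      (∀ (A : Type u) [CommRing A] [LambdaOps A], IsSpecial A → ∀ x : ι → A,
        evGam x G = gamma m (evGam x F)) ∧
      (∀ (A : Type v) [CommRing A] [LambdaOps A], IsSpecial A → ∀ x : ι → A,
        evGam x G = gamma m (evGam x F)) := by
  have h := hasLamRep.{u, v} (toLam F)
  choose G' hG' using h
  obtain ⟨G, hG⟩ := toLam_surjective (ι := ι)
    (if m = 0 then 1 else ∑ j ∈ range (m + 1), (Nat.choose (m - 1) (j - 1) : MvPolynomial (ι × ℕ) ℤ) *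
      (if j = 0 then 0 else G' j))
  refine ⟨G, ?_, ?_⟩
  · intro A _ _ hA x
    rw [evGam, AlgHom.comp_apply, hG, AlgHom.comp_apply, gamma]
    split_ifs with hm
    · rw [map_one]
    · rw [map_sum]
      refine Finset.sum_congr rfl fun j _ => ?_
      rw [map_mul, map_natCast]
      congr 1
      split_ifs with hj
      · rw [map_zero]
      · exact (hG' j).1 A hA x
  · intro A _ _ hA x
    rw [evGam, AlgHom.comp_apply, hG, AlgHom.comp_apply, gamma]
    split_ifs with hm
    · rw [map_one]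
    · rw [map_sum]
      refine Finset.sum_congr rfl fun j _ => ?_
      rw [map_mul, map_natCast]
      congr 1
      split_ifs with hj
      · rw [map_zero]
      · exact (hG' j).2 A hA x

end VP

end Groth.Agent.Lib.Helper44
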