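import Groth.Agent.Lib.Helper44.LineRingGamma
import Groth.Agent.Lib.Helper44.VerifPrinciple
import Groth.Agent.Lib.Helper44.Inject
import Groth.Agent.Lib.Helper44.UnivPoly

/-!
# Several families of elementary symmetric functions, and the transfer principle

* `subS_injective`: the substitution `c_{s,i} ↦ e_{i+1}(ξ_{s,•})` (several families) is injective.
* `evGam_mem_of_forall_lineRing`: a polynomial in the `γ^i(x_s)` which lies in `I^k` in the
  universal rings `ℤ[L_{s,a}]` lies in the `k`-th step of any filtration containing the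
  `γ^i(x_s)` in degree `i`.
-/

set_option autoImplicit false
set_option linter.unusedSectionVars false
open Finset

namespace Groth.Agent.Lib.Helper44

open LambdaRing MvPolynomial

section Multi

variable {ι : Type} [DecidableEq ι] (n : ℕ)

/-- The `i`-th elementary symmetric polynomial in the `s`-th family of variables. -/
noncomputable def famEsymm (s : ι) (i : ℕ) : MvPolynomial (ι × Fin n) ℤ :=
  rename (fun a : Fin n => (s, a)) (esymm (Fin n) ℤ i)

theorem famEsymm_eq (s : ι) (i : ℕ) :
    famEsymm n s i = ∑ t ∈ (Finset.univ : Finset (Fin n)).powersetCard i,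
      ∏ a ∈ t, (X (s, a) : MvPolynomial (ι × Fin n) ℤ) := by
  rw [famEsymm, esymm, map_sum]
  refine Finset.sum_congr rfl fun t _ => ?_
  rw [map_prod]
  refine Finset.prod_congr rfl fun a _ => ?_
  rw [rename_X]

theorem famEsymm_isHomogeneous (s : ι) (i : ℕ) :
    IsWeightedHomogeneous (fun _ : ι × Fin n => 1) (famEsymm n s i) i :=
  (esymm_isHomogeneous' (Fin n) ℤ i).rename_isHomogeneous

/-- Substitute, in place, `e_{i+1}` of the `t`-th family for the variable `(t, i)`. -/
noncomputable def sub1 (t : ι) : MvPolynomial (ι × Fin n) ℤ →ₐ[ℤ] MvPolynomial (ι × Fin n) ℤ :=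
  aeval fun v : ι × Fin n => if v.1 = t then famEsymm n t ((v.2 : ℕ) + 1) else X v

/-- Separate the `t`-th family from the other variables. -/
def sepFam (t : ι) (v : ι × Fin n) : Fin n ⊕ {v : ι × Fin n // v.1 ≠ t} :=
  if h : v.1 = t then Sum.inl v.2 else Sum.inr ⟨v, h⟩

theorem sepFam_injective (t : ι) : Function.Injective (sepFam n t) := by
  intro v v' h
  unfold sepFam at h
  by_cases h1 : v.1 = t <;> by_cases h2 : v'.1 = t
  · rw [dif_pos h1, dif_pos h2] at h
    exact Prod.ext (h1.trans h2.symm) (Sum.inl.inj h)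
  · rw [dif_pos h1, dif_neg h2] at h
    exact absurd h (by simp)
  · rw [dif_neg h1, dif_pos h2] at h
    exact absurd h (by simp)
  · rw [dif_neg h1, dif_neg h2] at h
    exact congrArg Subtype.val (Sum.inr.inj h)

theorem rename_sepFam_sub1 (t : ι) (p : MvPolynomial (ι × Fin n) ℤ) :
    rename (sepFam n t) (sub1 n t p) =
      substL {v : ι × Fin n // v.1 ≠ t} n n (rename (sepFam n t) p) := by
  have : (rename (sepFam n t)).comp (sub1 n t) =
      (substL {v : ι × Fin n // v.1 ≠ t} n n).comp (rename (sepFam n t)) := by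
    apply MvPolynomial.algHom_ext
    intro v
    rw [AlgHom.comp_apply, AlgHom.comp_apply, sub1, aeval_X, rename_X]
    by_cases h : v.1 = t
    · rw [if_pos h]
      have hv : sepFam n t v = Sum.inl v.2 := by rw [sepFam, dif_pos h]
      have hfun : (sepFam n t ∘ fun a : Fin n => (t, a)) = Sum.inl := by
        funext a
        simp [sepFam]
      rw [hv, substL, aeval_X, Sum.elim_inl, famEsymm, rename_rename, hfun]
    · rw [if_neg h]
      have hv : sepFam n t v = Sum.inr ⟨v, h⟩ := by rw [sepFam, dif_neg h]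
      rw [rename_X, hv, substL, aeval_X, Sum.elim_inr]
  exact AlgHom.congr_fun this p

theorem sub1_injective (t : ι) : Function.Injective (sub1 n t) := by
  intro p q hpq
  have h := congrArg (rename (sepFam n t)) hpq
  rw [rename_sepFam_sub1, rename_sepFam_sub1] at h
  exact rename_injective _ (sepFam_injective n t) (substL_injective _ (le_refl n) h)

theorem sub1_famEsymm_of_ne {s t : ι} (h : s ≠ t) (i : ℕ) :
    sub1 n t (famEsymm n s i) = famEsymm n s i := by
  have : (sub1 n t).comp (rename (fun a : Fin n => (s, a))) =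
      (rename (fun a : Fin n => (s, a)) : MvPolynomial (Fin n) ℤ →ₐ[ℤ] _) := by
    apply MvPolynomial.algHom_ext
    intro a
    rw [AlgHom.comp_apply, rename_X, sub1, aeval_X, if_neg h]
  exact AlgHom.congr_fun this _

/-- Substitute elementary symmetric functions for the variables of the families in `S`. -/
noncomputable def subS (S : Finset ι) :
    MvPolynomial (ι × Fin n) ℤ →ₐ[ℤ] MvPolynomial (ι × Fin n) ℤ :=
  aeval fun v : ι × Fin n => if v.1 ∈ S then famEsymm n v.1 ((v.2 : ℕ) + 1) else X v

theorem subS_empty : subS n (∅ : Finset ι) = AlgHom.id ℤ _ := by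
  apply MvPolynomial.algHom_ext
  intro v
  simp [subS]

theorem subS_insert {t : ι} {S : Finset ι} (ht : t ∉ S) :
    subS n (insert t S) = (sub1 n t).comp (subS n S) := by
  apply MvPolynomial.algHom_ext
  intro v
  rw [AlgHom.comp_apply, subS, aeval_X, subS, aeval_X]
  by_cases hS : v.1 ∈ S
  · have hne : v.1 ≠ t := fun h => ht (h ▸ hS)
    rw [if_pos hS, if_pos (Finset.mem_insert_of_mem hS), sub1_famEsymm_of_ne n hne]
  · rw [if_neg hS, sub1, aeval_X]
    by_cases hvt : v.1 = t
    · rw [if_pos hvt, if_pos (by rw [hvt]; exact Finset.mem_insert_self t S), hvt]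
    · rw [if_neg hvt, if_neg]
      intro h
      rcases Finset.mem_insert.mp h with h | h
      · exact hvt h
      · exact hS h

theorem subS_injective (S : Finset ι) : Function.Injective (subS n S) := by
  induction S using Finset.induction_on with
  | empty =>
    rw [subS_empty]
    exact fun _ _ h => h
  | insert t S ht ih =>
    rw [subS_insert n ht, AlgHom.coe_comp]
    exact (sub1_injective n t).comp ih

end Multi

section Transfer

variable {ι : Type} [DecidableEq ι] [Fintype ι]

attribute [local instance] LineRing.lambdaOps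

/-- The universal elements `y_s = Σ_a (L_{s,a} - 1)`. -/
noncomputable def yU (n : ℕ) (s : ι) : LineRing (ι × Fin n) :=
  ∑ a : Fin n, (X (s, a) - 1 : LineRing (ι × Fin n))

theorem shiftA_gamma_yU (n : ℕ) (s : ι) (i : ℕ) :
    LineRing.shiftA (gamma i (yU n s)) = famEsymm n s i := by
  rw [yU, LineRing.shiftA_gamma_sum_X_sub_one, famEsymm_eq]

theorem gamma_yU_mem_Ik (n : ℕ) (s : ι) (i : ℕ) : gamma i (yU n s) ∈ LineRing.Ik i := by
  rw [LineRing.mem_Ik, shiftA_gamma_yU]
  exact mem_wfil_of_isWeightedHomogeneous (famEsymm_isHomogeneous n s i) (le_refl i)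

/-- Evaluation of polynomials in the variables `(s, i)`, `i < n`, at `γ^{i+1}(y_s)`. -/
noncomputable def evU (n : ℕ) : MvPolynomial (ι × Fin n) ℤ →ₐ[ℤ] LineRing (ι × Fin n) :=
  aeval fun v : ι × Fin n => gamma ((v.2 : ℕ) + 1) (yU n v.1)

theorem shiftA_evU (n : ℕ) (p : MvPolynomial (ι × Fin n) ℤ) :
    LineRing.shiftA (evU n p) = subS n (Finset.univ : Finset ι) p := by
  have : (LineRing.shiftA (τ := ι × Fin n)).comp (evU n) = subS n (Finset.univ : Finset ι) := by
    apply MvPolynomial.algHom_ext
    intro v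
    rw [AlgHom.comp_apply, evU, aeval_X, shiftA_gamma_yU, subS, aeval_X,
      if_pos (Finset.mem_univ _)]
  exact AlgHom.congr_fun this p

/-- Graded injectivity for the universal evaluation. -/
theorem mem_wfil_of_evU_mem (n k : ℕ) {p : MvPolynomial (ι × Fin n) ℤ}
    (hp : evU n p ∈ LineRing.Ik k) :
    p ∈ wfil ℤ (fun v : ι × Fin n => (v.2 : ℕ) + 1) k := by
  rw [LineRing.mem_Ik, shiftA_evU] at hp
  refine mem_wfil_of_aeval_mem (fun v : ι × Fin n => (v.2 : ℕ) + 1) (fun _ : ι × Fin n => 1)
    (fun v : ι × Fin n => if v.1 ∈ (Finset.univ : Finset ι) then famEsymm n v.1 ((v.2 : ℕ) + 1)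
      else X v) ?_ (subS_injective n Finset.univ) hp
  intro v
  rw [if_pos (Finset.mem_univ _)]
  exact famEsymm_isHomogeneous n v.1 _

/-- The inclusion of the variables `(s, i)`, `i < n`. -/
def inclVar (n : ℕ) (v : ι × Fin n) : ι × ℕ := (v.1, (v.2 : ℕ))

theorem inclVar_injective (n : ℕ) : Function.Injective (inclVar (ι := ι) n) := by
  intro v v' h
  simp only [inclVar, Prod.mk.injEq] at h
  exact Prod.ext h.1 (Fin.ext h.2)

theorem evGam_rename_inclVar {A : Type*} [CommRing A] [LambdaOps A] (x : ι → A) (n : ℕ)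
    (p : MvPolynomial (ι × Fin n) ℤ) :
    evGam x (rename (inclVar n) p) =
      aeval (fun v : ι × Fin n => gamma ((v.2 : ℕ) + 1) (x v.1)) p := by
  rw [evGam_eq_aeval, aeval_rename]
  rfl

/-- **Transfer principle**: if `H(γ^•(y))` lies in `I^k` in all the universal rings, then
`H(γ^•(x))` lies in `J k` for every multiplicative filtration `J` with `γ^i(x_s) ∈ J i`. -/
theorem evGam_mem_of_forall_lineRing (H : MvPolynomial (ι × ℕ) ℤ) (k : ℕ)
    (hU : ∀ n : ℕ, evGam (yU (ι := ι) n) H ∈ LineRing.Ik k)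
    {A : Type*} [CommRing A] [LambdaOps A] (J : ℕ → Ideal A) (hJ0 : J 0 = ⊤)
    (hJanti : ∀ a b, a ≤ b → J b ≤ J a)
    (hJmul : ∀ a b x y, x ∈ J a → y ∈ J b → x * y ∈ J (a + b))
    (x : ι → A) (hx : ∀ s i, gamma (i + 1) (x s) ∈ J (i + 1)) :
    evGam x H ∈ J k := by
  classical
  set n : ℕ := H.vars.sup (fun v => v.2) + 1 with hn
  have hrange : (H.vars : Set (ι × ℕ)) ⊆ Set.range (inclVar (ι := ι) n) := by
    intro v hv
    have hlt : v.2 < n := by
      have := Finset.le_sup (f := fun v : ι × ℕ => v.2) hv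
      omega
    exact ⟨(v.1, ⟨v.2, hlt⟩), rfl⟩
  obtain ⟨H', hH'⟩ := exists_rename_eq_of_vars_subset_range H (inclVar n) (inclVar_injective n) hrange
  have h1 := hU n
  rw [← hH', evGam_rename_inclVar] at h1
  have h2 : H' ∈ wfil ℤ (fun v : ι × Fin n => (v.2 : ℕ) + 1) k := mem_wfil_of_evU_mem n k h1
  rw [← hH', evGam_rename_inclVar]
  exact aeval_mem_of_mem_wfil (fun v : ι × Fin n => (v.2 : ℕ) + 1) _ J hJ0 hJanti hJmul
    (fun v => hx v.1 v.2) h2

end Transfer

end Groth.Agent.Lib.Helper44
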