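import Groth.Agent.Lib.Helper44.TwoFamily
import Groth.Agent.Lib.Helper44.MultiInject

/-!
# `λ_{-1}(N)` divides `λ^p(x · λ_{-1}(N))`
-/

set_option autoImplicit false
open Finset

namespace Groth.Agent.Lib.Helper44

open LambdaRing MvPolynomial

universe u

attribute [local instance] LineRing.lambdaOps

section

variable {K : Type u} [CommRing K] [LambdaOps K]

theorem evLam_rename_inclVar {ι : Type} (v : ι → K) (n : ℕ) (p : MvPolynomial (ι × Fin n) ℤ) :
    evLam v (rename (inclVar n) p) =
      aeval (fun w : ι × Fin n => LambdaOps.lam ((w.2 : ℕ) + 1) (v w.1)) p := by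
  rw [evLam, aeval_rename]
  rfl

theorem lam_succ_zero (i : ℕ) : LambdaOps.lam (i + 1) (0 : K) = 0 := by
  rw [← coeff_lamSeries, lamSeries_zero, PowerSeries.coeff_one, if_neg (Nat.succ_ne_zero i)]

/-- The killing map `X (false, i) ↦ 0` for `i ≥ a`, onto the variables `Fin a ⊕ Fin m`. -/
noncomputable def killMap (a m : ℕ) :
    MvPolynomial (Bool × Fin m) ℤ →ₐ[ℤ] MvPolynomial (Fin a ⊕ Fin m) ℤ :=
  aeval fun w : Bool × Fin m =>
    if w.1 then (X (Sum.inr w.2) : MvPolynomial (Fin a ⊕ Fin m) ℤ)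
    else if h : (w.2 : ℕ) < a then X (Sum.inl ⟨w.2, h⟩) else 0

/-- The section of the killing map. -/
noncomputable def killSec (a m : ℕ) (h : a ≤ m) :
    MvPolynomial (Fin a ⊕ Fin m) ℤ →ₐ[ℤ] MvPolynomial (Bool × Fin m) ℤ :=
  aeval (Sum.elim (fun i : Fin a => (X (false, Fin.castLE h i) : MvPolynomial (Bool × Fin m) ℤ))
    (fun j : Fin m => X (true, j)))

/-- The universal elements: `a` line elements and `m` line elements. -/
noncomputable def vU2 (a m : ℕ) (b : Bool) : LineRing (Fin a ⊕ Fin m) :=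
  if b then ∑ j : Fin m, (X (Sum.inr j) : LineRing (Fin a ⊕ Fin m))
  else ∑ i : Fin a, (X (Sum.inl i) : LineRing (Fin a ⊕ Fin m))

theorem rename_esymm_eq {σ τ : Type*} [Fintype σ] (f : σ → τ) (i : ℕ) :
    rename f (esymm σ ℤ i) =
      ∑ t ∈ (Finset.univ : Finset σ).powersetCard i, ∏ a ∈ t, (X (f a) : MvPolynomial τ ℤ) := by
  rw [esymm, map_sum]
  refine Finset.sum_congr rfl fun t _ => ?_
  rw [map_prod]
  refine Finset.prod_congr rfl fun a _ => ?_
  rw [rename_X]

theorem phi2_killMap (a m : ℕ) (p : MvPolynomial (Bool × Fin m) ℤ) :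
    phi2 a m (killMap a m p) =
      aeval (fun w : Bool × Fin m => LambdaOps.lam ((w.2 : ℕ) + 1) (vU2 a m w.1)) p := by
  have : (phi2 a m).comp (killMap a m) =
      aeval (fun w : Bool × Fin m => LambdaOps.lam ((w.2 : ℕ) + 1) (vU2 a m w.1)) := by
    apply MvPolynomial.algHom_ext
    rintro ⟨b, j⟩
    rw [AlgHom.comp_apply, killMap, aeval_X, aeval_X]
    cases b
    · simp only [Bool.false_eq_true, if_false]
      have hlam : LambdaOps.lam ((j : ℕ) + 1) (vU2 a m false) =
          rename Sum.inl (esymm (Fin a) ℤ ((j : ℕ) + 1)) := by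
        rw [vU2, if_neg (by simp), LineRing.lam_sum_X, rename_esymm_eq]
      rw [hlam]
      by_cases h : (j : ℕ) < a
      · rw [dif_pos h, phi2_X_inl]
      · rw [dif_neg h, map_zero, esymm, Finset.powersetCard_eq_empty.mpr, Finset.sum_empty, map_zero]
        rw [Finset.card_univ, Fintype.card_fin]
        omega
    · simp only [if_true]
      rw [phi2_X_inr, vU2, if_pos rfl, LineRing.lam_sum_X, rename_esymm_eq]
  exact AlgHom.congr_fun this p

/-- `λ_{-1}(N)` divides `λ^p(x · λ_{-1}(N))` when `λ^i(N) = 0` for `i > d`. -/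
theorem lamAlt_dvd_lam_mul (hK : IsSpecial K) (d : ℕ) (N : K)
    (hN : ∀ i : ℕ, d < i → LambdaOps.lam i N = 0) (p : ℕ) (hp : 1 ≤ p) (x : K) :
    (∑ i ∈ range (d + 1), (-1 : K) ^ i * LambdaOps.lam i N) ∣
      LambdaOps.lam p (x * ∑ i ∈ range (d + 1), (-1 : K) ^ i * LambdaOps.lam i N) := by
  classical
  set Λ : K := ∑ i ∈ range (d + 1), (-1 : K) ^ i * LambdaOps.lam i N with hΛ
  rcases d with _ | d'
  · have : Λ = 1 := by simp [hΛ, LambdaOps.lam_zero]
    rw [this]
    exact one_dvd _
  have h1 := hK.lam_one_eq_zero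
  set N' : K := N - 1 with hN'
  have hNN' : N' + 1 = N := by rw [hN']; ring
  have hlamN' : ∀ m, d' + 1 ≤ m → LambdaOps.lam m N' = (-1 : K) ^ m * Λ := by
    intro m hm
    have h := sum_alt_lam_add_one h1 m N'
    rw [hNN'] at h
    have hsub : ∑ i ∈ range (m + 1), (-1 : K) ^ i * LambdaOps.lam i N = Λ := by
      rw [hΛ]
      symm
      apply Finset.sum_subset (Finset.range_subset_range.mpr (by omega))
      intro i hi hni
      rw [Finset.mem_range] at hi hni
      rw [hN i (by omega), mul_zero]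
    rw [hsub] at h
    rw [h, ← mul_assoc, ← pow_add, ← two_mul, pow_mul]
    simp
  -- the verification principle
  set v : Bool → K := fun b => if b then x else N' with hv
  set F : MvPolynomial (Bool × ℕ) ℤ := (-1) ^ (d' + 1) * X (true, 0) * X (false, d') with hF
  have hFv : evLam v F = x * Λ := by
    rw [hF, map_mul, map_mul, map_pow, map_neg, map_one, evLam_X, evLam_X, hv]
    simp only [if_true, Bool.false_eq_true, if_false, zero_add, LambdaOps.lam_one]
    rw [hlamN' (d' + 1) (le_refl _)]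
    have hsq : (-1 : K) ^ (d' + 1) * (-1 : K) ^ (d' + 1) = 1 := by
      rw [← pow_add, ← two_mul, pow_mul]; simp
    linear_combination (x * Λ) * hsq
  obtain ⟨G, hG0, hGu⟩ := hasLamRep.{0, u} F p
  set m : ℕ := max (G.vars.sup (fun w => w.2) + 1) d' with hm
  have hdm : d' ≤ m := le_max_right _ _
  have hrange : (G.vars : Set (Bool × ℕ)) ⊆ Set.range (inclVar (ι := Bool) m) := by
    intro w hw
    have hlt : w.2 < m := by
      have := Finset.le_sup (f := fun w : Bool × ℕ => w.2) hw
      have h2 : G.vars.sup (fun w => w.2) + 1 ≤ m := le_max_left _ _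
      omega
    exact ⟨(w.1, ⟨w.2, hlt⟩), rfl⟩
  obtain ⟨G', hG'⟩ := exists_rename_eq_of_vars_subset_range G (inclVar m) (inclVar_injective m) hrange
  -- the universal evaluation vanishes
  have hU : evLam (vU2 d' m) G = 0 := by
    rw [hG0 (LineRing (Fin d' ⊕ Fin m)) LineRing.isSpecial (vU2 d' m)]
    have hF0 : evLam (vU2 d' m) F = 0 := by
      rw [hF, map_mul, evLam_X]
      have : LambdaOps.lam (d' + 1) (vU2 d' m false) = 0 := by
        rw [vU2, if_neg (by simp), LineRing.lam_sum_X, Finset.powersetCard_eq_empty.mpr,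
          Finset.sum_empty]
        rw [Finset.card_univ, Fintype.card_fin]
        omega
      rw [this, mul_zero]
    rw [hF0]
    obtain ⟨p, rfl⟩ : ∃ p', p = p' + 1 := ⟨p - 1, by omega⟩
    exact lam_succ_zero p
  rw [← hG', evLam_rename_inclVar] at hU
  have hU' : phi2 d' m (killMap d' m G') = 0 := (phi2_killMap d' m G').trans hU
  have hπ0 : killMap d' m G' = 0 := by
    apply phi2_injective d' m
    rw [hU', map_zero]
  have hker := sub_section_mem_span (killMap d' m) (killSec d' m hdm) G'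
  rw [hπ0, map_zero, sub_zero] at hker
  -- evaluate in `K`
  have hmap : Ideal.map (aeval (fun w : Bool × Fin m => LambdaOps.lam ((w.2 : ℕ) + 1) (v w.1)) :
      MvPolynomial (Bool × Fin m) ℤ →ₐ[ℤ] K)
      (Ideal.span (Set.range fun w : Bool × Fin m =>
        (X w : MvPolynomial (Bool × Fin m) ℤ) - killSec d' m hdm (killMap d' m (X w)))) ≤
      Ideal.span {Λ} := by
    rw [Ideal.map_span, Ideal.span_le]
    rintro _ ⟨_, ⟨⟨b, j⟩, rfl⟩, rfl⟩
    rw [SetLike.mem_coe, map_sub, killMap, aeval_X, aeval_X]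
    cases b
    · simp only [Bool.false_eq_true, if_false]
      by_cases h : (j : ℕ) < d'
      · rw [dif_pos h, killSec, aeval_X, Sum.elim_inl, aeval_X]
        have : Fin.castLE hdm ⟨(j : ℕ), h⟩ = j := Fin.ext rfl
        rw [this, sub_self]
        exact Ideal.zero_mem _
      · rw [dif_neg h, map_zero, map_zero, sub_zero, hv]
        simp only [Bool.false_eq_true, if_false]
        rw [hlamN' _ (by omega)]
        exact Ideal.mul_mem_left _ _ (Ideal.subset_span rfl)
    · simp only [if_true]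
      rw [killSec, aeval_X, Sum.elim_inr, aeval_X, sub_self]
      exact Ideal.zero_mem _
  have hmem := hmap (Ideal.mem_map_of_mem _ hker)
  have heq : (aeval (fun w : Bool × Fin m => LambdaOps.lam ((w.2 : ℕ) + 1) (v w.1)) :
      MvPolynomial (Bool × Fin m) ℤ →ₐ[ℤ] K) G' = LambdaOps.lam p (x * Λ) := by
    rw [← evLam_rename_inclVar, hG', hGu K hK v, hFv]
  rw [heq] at hmem
  exact Ideal.mem_span_singleton.mp hmem

end

end Groth.Agent.Lib.Helper44
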