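import Groth.Agent.Lib.Helper44.SpecialOfAdams
import Groth.Agent.Lib.Helper44.GammaSeries

/-!
# The λ-ring `ℤ[L_i]` in which all monomials are line elements

`LineRing τ` is `MvPolynomial τ ℤ` with the λ-structure `λ_t(Σ n_β L^β) = ∏ (1 + L^β t)^{n_β}`.
It is a special λ-ring with Adams operations `ψ^k(L_i) = L_i^k`.
-/

set_option autoImplicit false
open Finset

namespace Groth.Agent.Lib.Helper44

open LambdaRing MvPolynomial

universe u

/-- The ring `ℤ[L_i : i ∈ τ]`, to be equipped with the λ-structure making monomials line elements. -/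
abbrev LineRing (τ : Type u) : Type u := MvPolynomial τ ℤ

namespace LineRing

variable {τ : Type u}

/-- The unit `1 + L^β t` of the power series ring. -/
noncomputable def lineUnit (β : τ →₀ ℕ) : (PowerSeries (MvPolynomial τ ℤ))ˣ :=
  IsUnit.unit (a := (1 + PowerSeries.C (monomial β (1 : ℤ)) * PowerSeries.X :
    PowerSeries (MvPolynomial τ ℤ))) (by
      rw [PowerSeries.isUnit_iff_constantCoeff]
      simp)

theorem coe_lineUnit (β : τ →₀ ℕ) :
    ((lineUnit β : (PowerSeries (MvPolynomial τ ℤ))ˣ) : PowerSeries (MvPolynomial τ ℤ)) =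
      1 + PowerSeries.C (monomial β (1 : ℤ)) * PowerSeries.X := rfl

/-- The additive-to-multiplicative homomorphism `p ↦ λ_t(p)`. -/
noncomputable def lamHom : MvPolynomial τ ℤ →+ Additive (PowerSeries (MvPolynomial τ ℤ))ˣ :=
  (Finsupp.liftAddHom fun β => zmultiplesHom _ (Additive.ofMul (lineUnit β))).comp
    (AddMonoidAlgebra.coeffAddEquiv (R := ℤ) (M := τ →₀ ℕ)).toAddMonoidHom

/-- The series `λ_t(p)`. -/
noncomputable def lamSer (p : MvPolynomial τ ℤ) : PowerSeries (MvPolynomial τ ℤ) :=
  ((lamHom p).toMul : (PowerSeries (MvPolynomial τ ℤ))ˣ)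

theorem lamSer_add (p q : MvPolynomial τ ℤ) : lamSer (p + q) = lamSer p * lamSer q := by
  unfold lamSer
  have : lamHom (p + q) = lamHom p + lamHom q := map_add lamHom p q
  rw [this]
  rfl

theorem lamSer_zero : lamSer (0 : MvPolynomial τ ℤ) = 1 := by
  unfold lamSer
  have : lamHom (0 : MvPolynomial τ ℤ) = 0 := map_zero lamHom
  rw [this]
  rfl

theorem lamSer_monomial (β : τ →₀ ℕ) (n : ℤ) :
    lamSer (monomial β n) = ((lineUnit β ^ n : (PowerSeries (MvPolynomial τ ℤ))ˣ) :
      PowerSeries (MvPolynomial τ ℤ)) := by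
  unfold lamSer lamHom
  rw [AddMonoidHom.comp_apply]
  change ((Finsupp.liftAddHom fun β => zmultiplesHom _ (Additive.ofMul (lineUnit β)))
    (Finsupp.single β n)).toMul.val = _
  rw [Finsupp.liftAddHom_apply_single]
  rfl

theorem lamSer_monomial_one (β : τ →₀ ℕ) :
    lamSer (monomial β (1 : ℤ)) = 1 + PowerSeries.C (monomial β (1 : ℤ)) * PowerSeries.X := by
  have := lamSer_monomial β 1
  rw [zpow_one, coe_lineUnit] at this
  exact this

theorem isUnit_lamSer (p : MvPolynomial τ ℤ) : IsUnit (lamSer p) :=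
  ((lamHom p).toMul : (PowerSeries (MvPolynomial τ ℤ))ˣ).isUnit

theorem constantCoeff_lamSer (p : MvPolynomial τ ℤ) : PowerSeries.constantCoeff (lamSer p) = 1 := by
  induction p using MvPolynomial.induction_on' with
  | monomial β n =>
    rw [lamSer_monomial]
    have h1 : PowerSeries.constantCoeff ((lineUnit β : (PowerSeries (MvPolynomial τ ℤ))ˣ) :
        PowerSeries (MvPolynomial τ ℤ)) = 1 := by
      rw [coe_lineUnit]; simp
    have h2 : Units.map (PowerSeries.constantCoeff (R := MvPolynomial τ ℤ)).toMonoidHom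
        (lineUnit β) = 1 := Units.ext h1
    have h3 : Units.map (PowerSeries.constantCoeff (R := MvPolynomial τ ℤ)).toMonoidHom
        (lineUnit β ^ n) = 1 := by rw [map_zpow, h2, one_zpow]
    exact congrArg Units.val h3
  | add p q hp hq => rw [lamSer_add, map_mul, hp, hq, mul_one]

theorem coeff_one_mul' {R : Type*} [CommRing R] (f g : PowerSeries R)
    (hf : PowerSeries.constantCoeff f = 1) (hg : PowerSeries.constantCoeff g = 1) :
    PowerSeries.coeff 1 (f * g) = PowerSeries.coeff 1 f + PowerSeries.coeff 1 g := by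
  rw [PowerSeries.coeff_mul, show Finset.antidiagonal 1 = {(0, 1), (1, 0)} from rfl,
    Finset.sum_pair (by decide)]
  simp only [PowerSeries.coeff_zero_eq_constantCoeff_apply, hf, hg, one_mul, mul_one]
  rw [add_comm]

theorem constantCoeff_lineUnit_zpow (β : τ →₀ ℕ) (n : ℤ) :
    PowerSeries.constantCoeff ((lineUnit β ^ n : (PowerSeries (MvPolynomial τ ℤ))ˣ) :
      PowerSeries (MvPolynomial τ ℤ)) = 1 := by
  have := constantCoeff_lamSer (monomial β n)
  rwa [lamSer_monomial] at this

theorem coeff_one_lineUnit_pow (β : τ →₀ ℕ) (m : ℕ) :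
    PowerSeries.coeff 1 (((lineUnit β ^ (m : ℤ) : (PowerSeries (MvPolynomial τ ℤ))ˣ) :
      PowerSeries (MvPolynomial τ ℤ))) = monomial β (m : ℤ) := by
  induction m with
  | zero => simp
  | succ m ih =>
    have : (lineUnit β ^ ((m + 1 : ℕ) : ℤ) : (PowerSeries (MvPolynomial τ ℤ))ˣ) =
        lineUnit β ^ (m : ℤ) * lineUnit β := by
      rw [Nat.cast_succ, zpow_add_one]
    rw [this, Units.val_mul, coeff_one_mul' _ _ (constantCoeff_lineUnit_zpow β m)
      (by rw [coe_lineUnit]; simp), ih, coe_lineUnit]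
    simp only [map_add, PowerSeries.coeff_one, PowerSeries.coeff_C_mul, PowerSeries.coeff_X,
      one_ne_zero, if_false, if_true, mul_one, zero_add]
    rw [← map_add, Nat.cast_succ]

theorem coeff_one_lamSer (p : MvPolynomial τ ℤ) : PowerSeries.coeff 1 (lamSer p) = p := by
  induction p using MvPolynomial.induction_on' with
  | monomial β n =>
    rw [lamSer_monomial]
    rcases Int.eq_nat_or_neg n with ⟨m, rfl | rfl⟩
    · exact coeff_one_lineUnit_pow β m
    · have hmul : ((lineUnit β ^ (-(m : ℤ)) : (PowerSeries (MvPolynomial τ ℤ))ˣ) :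
          PowerSeries (MvPolynomial τ ℤ)) * ((lineUnit β ^ (m : ℤ) :
            (PowerSeries (MvPolynomial τ ℤ))ˣ) : PowerSeries (MvPolynomial τ ℤ)) = 1 := by
        rw [← Units.val_mul, ← zpow_add, neg_add_cancel, zpow_zero, Units.val_one]
      have h1 := congrArg (PowerSeries.coeff 1) hmul
      rw [coeff_one_mul' _ _ (constantCoeff_lineUnit_zpow β _) (constantCoeff_lineUnit_zpow β _),
        coeff_one_lineUnit_pow] at h1
      simp only [PowerSeries.coeff_one, one_ne_zero, if_false] at h1
      rw [eq_neg_of_add_eq_zero_left h1, ← map_neg]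
  | add p q hp hq =>
    rw [lamSer_add, coeff_one_mul' _ _ (constantCoeff_lamSer p) (constantCoeff_lamSer q), hp, hq]

/-- The λ-structure on `LineRing τ`.  Use with `attribute [local instance]`. -/
@[reducible] noncomputable def lambdaOps (τ : Type u) : LambdaOps (LineRing τ) where
  lam n p := PowerSeries.coeff n (lamSer (τ := τ) p)
  lam_zero p := by
    rw [PowerSeries.coeff_zero_eq_constantCoeff_apply]
    exact constantCoeff_lamSer p
  lam_one p := coeff_one_lamSer p
  lam_add k p q := by
    change PowerSeries.coeff k (lamSer (τ := τ) (p + q)) = _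
    rw [lamSer_add, PowerSeries.coeff_mul,
      Finset.Nat.sum_antidiagonal_eq_sum_range_succ
        (fun i j => PowerSeries.coeff i (lamSer (τ := τ) p) * PowerSeries.coeff j (lamSer (τ := τ) q))]

attribute [local instance] lambdaOps

theorem lamSeries_eq (p : LineRing τ) : lamSeries p = lamSer (τ := τ) p := by
  ext n
  rw [coeff_lamSeries]
  rfl

/-- The monomial `L^β` as an element of `LineRing τ`. -/
noncomputable def mono (β : τ →₀ ℕ) : LineRing τ := monomial β (1 : ℤ)

theorem lamSeries_mono (β : τ →₀ ℕ) :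
    lamSeries (mono β) = 1 + PowerSeries.C (mono β) * PowerSeries.X := by
  rw [lamSeries_eq]
  exact lamSer_monomial_one β

theorem lam_mono (β : τ →₀ ℕ) (j : ℕ) (hj : 2 ≤ j) : LambdaOps.lam j (mono β) = 0 := by
  rw [← coeff_lamSeries, lamSeries_mono]
  obtain ⟨m, rfl⟩ : ∃ m, j = m + 2 := ⟨j - 2, by omega⟩
  simp [PowerSeries.coeff_one]

theorem mono_zero : mono (0 : τ →₀ ℕ) = 1 := rfl

theorem lam_one_eq_zero (j : ℕ) (hj : 2 ≤ j) : LambdaOps.lam j (1 : LineRing τ) = 0 := by
  rw [← mono_zero]; exact lam_mono 0 j hj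

theorem mono_add (β γ : τ →₀ ℕ) : mono (β + γ) = mono β * mono γ := by
  unfold mono
  change monomial (β + γ) (1 : ℤ) = monomial β (1 : ℤ) * monomial γ (1 : ℤ)
  rw [monomial_mul, one_mul]

theorem mono_nsmul (k : ℕ) (β : τ →₀ ℕ) : mono (k • β) = mono β ^ k := by
  induction k with
  | zero => rw [zero_smul, pow_zero, mono_zero]
  | succ k ih => rw [succ_nsmul, mono_add, ih, pow_succ]

theorem adamsOp_mono (k : ℕ) (hk : 1 ≤ k) (β : τ →₀ ℕ) : adamsOp k (mono β) = mono β ^ k := by
  rw [adamsOp_eq_newton, lamSeries_mono, newton_one_add_C_mul_X k hk]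

/-- The ring endomorphism `L_i ↦ L_i^k`. -/
noncomputable def psi (k : ℕ) : LineRing τ →+* LineRing τ :=
  (aeval (R := ℤ) (fun i : τ => (X i : MvPolynomial τ ℤ) ^ k) :
    MvPolynomial τ ℤ →ₐ[ℤ] MvPolynomial τ ℤ).toRingHom

theorem psi_mono (k : ℕ) (β : τ →₀ ℕ) : psi k (mono β) = mono β ^ k := by
  unfold psi mono
  change aeval (R := ℤ) (fun i : τ => (X i : MvPolynomial τ ℤ) ^ k) (monomial β (1 : ℤ)) =
    (monomial β (1 : ℤ) : MvPolynomial τ ℤ) ^ k
  rw [aeval_monomial, map_one, one_mul, monomial_eq, map_one, one_mul, Finsupp.prod, Finsupp.prod,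
    ← Finset.prod_pow]
  apply Finset.prod_congr rfl
  intro i _
  rw [← pow_mul, ← pow_mul, mul_comm]

/-- Additive maps out of `LineRing τ` agreeing on monomials agree. -/
theorem addHom_ext {G : Type*} [AddCommGroup G] (f g : LineRing τ →+ G)
    (h : ∀ β, f (mono β) = g (mono β)) : f = g := by
  apply DFunLike.ext
  intro p
  induction p using MvPolynomial.induction_on' with
  | monomial β n =>
    have : (monomial β n : MvPolynomial τ ℤ) = n • (monomial β (1 : ℤ) : MvPolynomial τ ℤ) := by
      rw [smul_monomial, smul_eq_mul, mul_one]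
    change f (monomial β n : MvPolynomial τ ℤ) = g (monomial β n : MvPolynomial τ ℤ)
    rw [this]
    change f (n • mono β) = g (n • mono β)
    rw [map_zsmul, map_zsmul, h]
  | add p q hp hq =>
    rw [map_add, map_add, hp, hq]

/-- The Adams operation as an additive map. -/
noncomputable def adamsHom (k : ℕ) : LineRing τ →+ LineRing τ where
  toFun := adamsOp k
  map_zero' := by
    have := adamsOp_add k (0 : LineRing τ) 0
    rw [add_zero] at this
    exact left_eq_add.mp this
  map_add' := adamsOp_add k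

theorem adamsOp_eq_psi (k : ℕ) (hk : 1 ≤ k) (p : LineRing τ) : adamsOp k p = psi k p := by
  have : adamsHom (τ := τ) k = (psi k).toAddMonoidHom := by
    apply addHom_ext
    intro β
    change adamsOp k (mono β) = psi k (mono β)
    rw [adamsOp_mono k hk, psi_mono]
  exact DFunLike.congr_fun this p

theorem psi_psi (k k' : ℕ) (p : LineRing τ) : psi k (psi k' p) = psi (k * k') p := by
  have : ((psi k).comp (psi k')).toAddMonoidHom = (psi (τ := τ) (k * k')).toAddMonoidHom := by
    apply addHom_ext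
    intro β
    change psi k (psi k' (mono β)) = psi (k * k') (mono β)
    rw [psi_mono, map_pow, psi_mono, psi_mono, ← pow_mul, mul_comm]
  exact DFunLike.congr_fun this p

/-- `LineRing τ` is a special λ-ring. -/
theorem isSpecial : IsSpecial (LineRing τ) where
  lam_one_eq_zero := lam_one_eq_zero
  lam_mul n P hP x y := by
    apply lam_mul_of_adamsOp_mul _ n P hP x y
    intro k hk x y
    rw [adamsOp_eq_psi k hk, adamsOp_eq_psi k hk, adamsOp_eq_psi k hk, map_mul]
  lam_lam i j Q hQ x := by
    apply lam_lam_of_adamsOp _ _ _ i j Q hQ x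
    · intro k hk
      rw [adamsOp_eq_psi k hk, map_one]
    · intro k hk x y
      rw [adamsOp_eq_psi k hk, adamsOp_eq_psi k hk, adamsOp_eq_psi k hk, map_mul]
    · intro k k' hk hk' x
      rw [adamsOp_eq_psi k hk, adamsOp_eq_psi k' hk', psi_psi,
        adamsOp_eq_psi (k * k') (Nat.mul_pos hk hk')]

end LineRing

end Groth.Agent.Lib.Helper44
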