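import Groth.Agent.Lib.Helper44.LineRing
import Groth.Agent.Lib.Helper44.WeightFil
import Groth.Agent.Lib.Helper44.AdamsMul
import Groth.Agent.Lib.Helper44.GammaFilSpan
import Mathlib.Algebra.Group.ForwardDiff
import Mathlib.Algebra.Ring.GeomSum

/-!
# γ-operations and the augmentation filtration in the ring `ℤ[L_i]`

With `I = (L_i - 1)` the augmentation ideal of `LineRing τ` we show `γ^i(I^k) ⊆ I^k` (`i ≥ 1`) and
`γ^m(μ) ≡ (-1)^(m-1) (m-1)! μ mod I^(m+1)` for `μ ∈ I^m`.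
-/

set_option autoImplicit false
open Finset

namespace Groth.Agent.Lib.Helper44

open LambdaRing MvPolynomial

universe u

section NewtonMul

variable {R : Type*} [CommRing R]

theorem newton_mul (j : ℕ) {A B : PowerSeries R} (hA : PowerSeries.constantCoeff A = 1)
    (hB : PowerSeries.constantCoeff B = 1) : newton j (A * B) = newton j A + newton j B := by
  rcases j with _ | j
  · simp [newton]
  · rw [newton_succ, newton_succ, newton_succ, logD_mul hA hB, map_add, mul_add]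

theorem newton_one' (j : ℕ) : newton j (1 : PowerSeries R) = 0 := by
  rcases j with _ | j
  · rfl
  · rw [newton_succ, logD_one, map_zero, mul_zero]

end NewtonMul

namespace LineRing

variable {τ : Type u}

attribute [local instance] lambdaOps

/-- The shift `L_v ↦ L_v + 1`, carrying `L_v - 1` to `L_v`. -/
noncomputable def shiftA : MvPolynomial τ ℤ →ₐ[ℤ] MvPolynomial τ ℤ :=
  aeval fun v : τ => (X v + 1 : MvPolynomial τ ℤ)

/-- The conjugate of `ψ^l` by the shift: `L_v ↦ (L_v + 1)^l - 1`. -/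
noncomputable def rhoA (l : ℕ) : MvPolynomial τ ℤ →ₐ[ℤ] MvPolynomial τ ℤ :=
  aeval fun v : τ => ((X v + 1) ^ l - 1 : MvPolynomial τ ℤ)

/-- `ψ^l` as an algebra map. -/
noncomputable def psiA (l : ℕ) : MvPolynomial τ ℤ →ₐ[ℤ] MvPolynomial τ ℤ :=
  aeval fun v : τ => (X v ^ l : MvPolynomial τ ℤ)

theorem psi_eq_psiA (l : ℕ) (p : LineRing τ) : psi l p = psiA l p := rfl

theorem rhoA_shiftA (l : ℕ) (p : MvPolynomial τ ℤ) : rhoA l (shiftA p) = shiftA (psiA l p) := by
  have : (rhoA l).comp (shiftA (τ := τ)) = shiftA.comp (psiA l) := by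
    apply MvPolynomial.algHom_ext
    intro v
    simp [rhoA, shiftA, psiA]
  exact AlgHom.congr_fun this p

/-- The `k`-th power of the augmentation ideal, as the pull-back of the degree filtration. -/
noncomputable def Ik (k : ℕ) : Ideal (LineRing τ) :=
  Ideal.comap (shiftA (τ := τ)) (wfil ℤ (fun _ : τ => 1) k)

theorem mem_Ik {k : ℕ} {p : LineRing τ} :
    p ∈ Ik k ↔ shiftA p ∈ wfil ℤ (fun _ : τ => 1) k := Iff.rfl

theorem Ik_anti {k l : ℕ} (h : k ≤ l) : Ik (τ := τ) l ≤ Ik k :=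
  fun _ hp => wfil_anti _ h hp

theorem Ik_zero : Ik (τ := τ) 0 = ⊤ := by
  rw [Ik, wfil_zero, Ideal.comap_top]

theorem mul_mem_Ik {a b : ℕ} {p q : LineRing τ} (hp : p ∈ Ik a) (hq : q ∈ Ik b) :
    p * q ∈ Ik (a + b) := by
  rw [mem_Ik, map_mul]
  exact mul_mem_wfil hp hq

theorem of_natCast_mul_mem_Ik {k n : ℕ} (hn : n ≠ 0) {p : LineRing τ}
    (h : (n : LineRing τ) * p ∈ Ik k) : p ∈ Ik k := by
  rw [mem_Ik, map_mul, map_natCast] at h
  exact of_natCast_mul_mem_wfil hn h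

theorem X_sub_one_mem_Ik (v : τ) : (X v - 1 : LineRing τ) ∈ Ik 1 := by
  rw [mem_Ik, map_sub, map_one, shiftA, aeval_X, add_sub_cancel_right]
  exact X_mem_wfil (fun _ : τ => 1) v

theorem rho_gen_mem (l : ℕ) (v : τ) :
    ((X v + 1) ^ l - 1 : MvPolynomial τ ℤ) ∈ wfil ℤ (fun _ : τ => 1) 1 := by
  rw [← geom_sum_mul, add_sub_cancel_right]
  exact Ideal.mul_mem_left _ _ (X_mem_wfil (fun _ : τ => 1) v)

theorem rho_gen_sub_mem (l : ℕ) (v : τ) :
    ((X v + 1) ^ l - 1 - (l : MvPolynomial τ ℤ) * X v : MvPolynomial τ ℤ) ∈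
      wfil ℤ (fun _ : τ => 1) 2 := by
  induction l with
  | zero => simp
  | succ l ih =>
    have hXX : (X v * X v : MvPolynomial τ ℤ) ∈ wfil ℤ (fun _ : τ => 1) 2 :=
      mul_mem_wfil (X_mem_wfil (fun _ : τ => 1) v) (X_mem_wfil (fun _ : τ => 1) v)
    have : ((X v + 1) ^ (l + 1) - 1 - ((l + 1 : ℕ) : MvPolynomial τ ℤ) * X v : MvPolynomial τ ℤ) =
        (X v + 1) * ((X v + 1) ^ l - 1 - (l : MvPolynomial τ ℤ) * X v) +
          (l : MvPolynomial τ ℤ) * (X v * X v) := by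
      push_cast
      ring
    rw [this]
    exact Ideal.add_mem _ (Ideal.mul_mem_left _ _ ih) (Ideal.mul_mem_left _ _ hXX)

theorem rhoA_mem {l k : ℕ} {q : MvPolynomial τ ℤ} (hq : q ∈ wfil ℤ (fun _ : τ => 1) k) :
    rhoA l q ∈ wfil ℤ (fun _ : τ => 1) k :=
  aeval_mem_of_mem_wfil (fun _ : τ => 1) _ (wfil ℤ (fun _ : τ => 1)) (wfil_zero _)
    (fun _ _ h => wfil_anti _ h) (fun _ _ _ _ hx hy => mul_mem_wfil hx hy)
    (fun v => rho_gen_mem l v) hq

theorem psi_mem_Ik {l k : ℕ} {p : LineRing τ} (hp : p ∈ Ik k) : psi l p ∈ Ik k := by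
  rw [mem_Ik, psi_eq_psiA, ← rhoA_shiftA]
  exact rhoA_mem hp

/-- `q` has degree `≥ a` and `ρ_l(q) ≡ l^a q` modulo degree `≥ a+1`. -/
def RhoEig (l a : ℕ) (q : MvPolynomial τ ℤ) : Prop :=
  q ∈ wfil ℤ (fun _ : τ => 1) a ∧
    rhoA l q - (l : MvPolynomial τ ℤ) ^ a * q ∈ wfil ℤ (fun _ : τ => 1) (a + 1)

theorem RhoEig.mul {l a b : ℕ} {q q' : MvPolynomial τ ℤ} (h : RhoEig l a q) (h' : RhoEig l b q') :
    RhoEig l (a + b) (q * q') := by
  refine ⟨mul_mem_wfil h.1 h'.1, ?_⟩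
  have e : rhoA l (q * q') - (l : MvPolynomial τ ℤ) ^ (a + b) * (q * q') =
      rhoA l q * (rhoA l q' - (l : MvPolynomial τ ℤ) ^ b * q') +
        ((l : MvPolynomial τ ℤ) ^ b * q') * (rhoA l q - (l : MvPolynomial τ ℤ) ^ a * q) := by
    rw [map_mul, pow_add]; ring
  rw [e]
  apply Ideal.add_mem
  · have := mul_mem_wfil (rhoA_mem (l := l) h.1) h'.2
    rwa [← add_assoc] at this
  · have := mul_mem_wfil (Ideal.mul_mem_left _ ((l : MvPolynomial τ ℤ) ^ b) h'.1) h.2
    have e2 : b + (a + 1) = a + b + 1 := by omega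
    rwa [e2] at this

theorem rhoEig_one (l : ℕ) : RhoEig (τ := τ) l 0 1 := by
  refine ⟨by rw [wfil_zero]; trivial, ?_⟩
  rw [map_one, pow_zero, one_mul, sub_self]
  exact Ideal.zero_mem _

theorem rhoEig_X (l : ℕ) (v : τ) : RhoEig l 1 (X v : MvPolynomial τ ℤ) := by
  refine ⟨X_mem_wfil (fun _ : τ => 1) v, ?_⟩
  rw [rhoA, aeval_X, pow_one]
  exact rho_gen_sub_mem l v

theorem rhoEig_monomial (l : ℕ) (d : τ →₀ ℕ) :
    RhoEig l (Finsupp.weight (fun _ : τ => 1) d) (monomial d (1 : ℤ)) := by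
  induction d using Finsupp.induction_linear with
  | zero =>
    rw [map_zero]
    exact rhoEig_one l
  | add d1 d2 h1 h2 =>
    rw [map_add]
    have : (monomial (d1 + d2) (1 : ℤ) : MvPolynomial τ ℤ) = monomial d1 1 * monomial d2 1 := by
      rw [monomial_mul, one_mul]
    rw [this]
    exact h1.mul h2
  | single v e =>
    rw [Finsupp.weight_single, smul_eq_mul, mul_one]
    induction e with
    | zero =>
      have : (monomial (Finsupp.single v 0) (1 : ℤ) : MvPolynomial τ ℤ) = 1 := by simp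
      rw [this]
      exact rhoEig_one l
    | succ e ih =>
      have : (monomial (Finsupp.single v (e + 1)) (1 : ℤ) : MvPolynomial τ ℤ) =
          monomial (Finsupp.single v e) 1 * X v := by
        rw [X, monomial_mul, one_mul, ← Finsupp.single_add]
      rw [this]
      exact ih.mul (rhoEig_X l v)

theorem rhoA_sub_mem {l m : ℕ} {q : MvPolynomial τ ℤ} (hq : q ∈ wfil ℤ (fun _ : τ => 1) m) :
    rhoA l q - (l : MvPolynomial τ ℤ) ^ m * q ∈ wfil ℤ (fun _ : τ => 1) (m + 1) := by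
  refine wfil_induction (P := fun q => rhoA l q - (l : MvPolynomial τ ℤ) ^ m * q ∈
    wfil ℤ (fun _ : τ => 1) (m + 1)) hq ?_ ?_ ?_
  · intro d c hd
    have hmono : (monomial d c : MvPolynomial τ ℤ) = C c * monomial d 1 := by
      rw [C_mul_monomial, mul_one]
    have e : rhoA l (monomial d c) - (l : MvPolynomial τ ℤ) ^ m * monomial d c =
        C c * (rhoA l (monomial d 1) - (l : MvPolynomial τ ℤ) ^ m * monomial d 1) := by
      rw [hmono, map_mul, rhoA, aeval_C]
      simp only [algebraMap_eq]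
      ring
    rw [e]
    apply Ideal.mul_mem_left
    have hE := rhoEig_monomial l d
    rcases Nat.lt_or_ge m (Finsupp.weight (fun _ : τ => 1) d) with hlt | hge
    · apply Ideal.sub_mem
      · exact wfil_anti _ hlt (rhoA_mem hE.1)
      · exact Ideal.mul_mem_left _ _ (wfil_anti _ hlt hE.1)
    · have heq : Finsupp.weight (fun _ : τ => 1) d = m := le_antisymm hge hd
      rw [heq] at hE
      exact hE.2
  · intro p q hp hq
    have : rhoA l (p + q) - (l : MvPolynomial τ ℤ) ^ m * (p + q) =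
        (rhoA l p - (l : MvPolynomial τ ℤ) ^ m * p) + (rhoA l q - (l : MvPolynomial τ ℤ) ^ m * q) := by
      rw [map_add]; ring
    rw [this]
    exact Ideal.add_mem _ hp hq
  · rw [map_zero, mul_zero, sub_zero]
    exact Ideal.zero_mem _

/-- `ψ^l(μ) ≡ l^m μ` modulo `I^(m+1)` for `μ ∈ I^m`. -/
theorem psi_sub_mem_Ik {l m : ℕ} {p : LineRing τ} (hp : p ∈ Ik m) :
    psi l p - (l : LineRing τ) ^ m * p ∈ Ik (m + 1) := by
  rw [mem_Ik, map_sub, map_mul, map_pow, map_natCast, psi_eq_psiA, ← rhoA_shiftA]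
  exact rhoA_sub_mem hp


/-! ### Newton coefficients of the γ-series -/

theorem constantCoeff_gammaSeries' (p : LineRing τ) :
    PowerSeries.constantCoeff (gammaSeries p) = 1 := by
  rw [← PowerSeries.coeff_zero_eq_constantCoeff_apply, coeff_gammaSeries, gamma_zero']

/-- The Newton coefficients of the γ-series, as an additive map. -/
noncomputable def gamNewtonHom (j : ℕ) : LineRing τ →+ LineRing τ :=
  AddMonoidHom.mk' (fun p => newton j (gammaSeries p)) (by
    intro p q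
    rw [gammaSeries_add, newton_mul j (constantCoeff_gammaSeries' p) (constantCoeff_gammaSeries' q)])

/-- `Σ_l (-1)^(j-l) C(j,l) ψ^l` as an additive map (with `ψ^0 = 0`). -/
noncomputable def altPsiHom (j : ℕ) : LineRing τ →+ LineRing τ :=
  ∑ l ∈ range (j + 1), ((-1 : ℤ) ^ (j - l) * (j.choose l : ℤ)) • adamsHom (τ := τ) l

theorem altPsiHom_apply (j : ℕ) (p : LineRing τ) :
    altPsiHom j p = ∑ l ∈ range (j + 1), ((-1 : ℤ) ^ (j - l) * (j.choose l : ℤ)) • adamsOp l p := by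
  rw [altPsiHom, AddMonoidHom.finsetSum_apply]
  rfl

theorem newton_gammaSeries_one (j : ℕ) (hj : 1 ≤ j) :
    newton j (gammaSeries (1 : LineRing τ)) = -(-1 : LineRing τ) ^ j := by
  have h1X : (1 - PowerSeries.X) * gammaSeries (1 : LineRing τ) = 1 := by
    rw [gammaSeries_one lam_one_eq_zero]
    simpa using one_sub_X_mul (1 : LineRing τ)
  have hc : PowerSeries.constantCoeff (1 - PowerSeries.X : PowerSeries (LineRing τ)) = 1 := by simp
  have h2 := newton_mul j hc (constantCoeff_gammaSeries' (1 : LineRing τ))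
  rw [h1X, newton_one'] at h2
  have h3 : (1 - PowerSeries.X : PowerSeries (LineRing τ)) =
      1 + PowerSeries.C (-1 : LineRing τ) * PowerSeries.X := by
    rw [map_neg, map_one]; ring
  rw [h3, newton_one_add_C_mul_X j hj] at h2
  exact (neg_eq_of_add_eq_zero_right h2.symm).symm

theorem newton_gammaSeries_mono (j : ℕ) (hj : 1 ≤ j) (β : τ →₀ ℕ) :
    newton j (gammaSeries (mono β)) = (mono β - 1) ^ j - (-1 : LineRing τ) ^ j := by
  have h1 : gammaSeries (mono β) = gammaSeries (mono β - 1) * gammaSeries (1 : LineRing τ) := by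
    rw [← gammaSeries_add, sub_add_cancel]
  rw [h1, newton_mul j (constantCoeff_gammaSeries' _) (constantCoeff_gammaSeries' _),
    newton_gammaSeries_one j hj,
    gammaSeries_line_sub_one lam_one_eq_zero (mono β) (fun i hi => lam_mono β i hi),
    newton_one_add_C_mul_X j hj]
  ring

theorem altPsi_mono (j : ℕ) (β : τ →₀ ℕ) :
    ∑ l ∈ range (j + 1), ((-1 : ℤ) ^ (j - l) * (j.choose l : ℤ)) • adamsOp l (mono β) =
      (mono β - 1) ^ j - (-1 : LineRing τ) ^ j := by
  have hpow : (mono β - 1) ^ j =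
      ∑ l ∈ range (j + 1), ((-1 : ℤ) ^ (j - l) * (j.choose l : ℤ)) • (mono β) ^ l := by
    rw [sub_eq_add_neg, add_pow]
    refine Finset.sum_congr rfl fun l _ => ?_
    rw [zsmul_eq_mul]
    push_cast
    ring
  rw [hpow, Finset.sum_range_succ', Finset.sum_range_succ' (fun l => ((-1 : ℤ) ^ (j - l) *
    (j.choose l : ℤ)) • (mono β) ^ l)]
  have h0 : adamsOp 0 (mono β) = 0 := rfl
  rw [h0, smul_zero, add_zero]
  have hsum : ∀ l ∈ range j, ((-1 : ℤ) ^ (j - (l + 1)) * (j.choose (l + 1) : ℤ)) •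
      adamsOp (l + 1) (mono β) = ((-1 : ℤ) ^ (j - (l + 1)) * (j.choose (l + 1) : ℤ)) •
        (mono β) ^ (l + 1) := by
    intro l _
    rw [adamsOp_mono (l + 1) (by omega)]
  rw [Finset.sum_congr rfl hsum]
  simp

theorem gamNewtonHom_eq (j : ℕ) (hj : 1 ≤ j) : gamNewtonHom (τ := τ) j = altPsiHom j := by
  apply addHom_ext
  intro β
  rw [altPsiHom_apply, altPsi_mono]
  exact newton_gammaSeries_mono j hj β

theorem newton_gammaSeries_eq (j : ℕ) (hj : 1 ≤ j) (p : LineRing τ) :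
    newton j (gammaSeries p) =
      ∑ l ∈ range (j + 1), ((-1 : ℤ) ^ (j - l) * (j.choose l : ℤ)) • adamsOp l p := by
  rw [← altPsiHom_apply, ← gamNewtonHom_eq j hj]
  rfl

theorem adamsOp_mem_Ik {l k : ℕ} {p : LineRing τ} (hp : p ∈ Ik k) : adamsOp l p ∈ Ik k := by
  rcases l with _ | l
  · have h0 : adamsOp 0 p = 0 := rfl
    rw [h0]
    exact Ideal.zero_mem _
  · rw [adamsOp_eq_psi _ (by omega)]
    exact psi_mem_Ik hp

theorem newton_gammaSeries_mem_Ik {j k : ℕ} (hj : 1 ≤ j) {p : LineRing τ} (hp : p ∈ Ik k) :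
    newton j (gammaSeries p) ∈ Ik k := by
  rw [newton_gammaSeries_eq j hj]
  exact Ideal.sum_mem _ fun l _ => zsmul_mem (adamsOp_mem_Ik hp) _

/-- (R1) `γ^i(I^k) ⊆ I^k` for `i ≥ 1`. -/
theorem gamma_mem_Ik {i k : ℕ} (hi : 1 ≤ i) {p : LineRing τ} (hp : p ∈ Ik k) :
    gamma i p ∈ Ik k := by
  obtain ⟨i, rfl⟩ : ∃ i', i = i' + 1 := ⟨i - 1, by omega⟩
  have h := coeff_succ_mul_eq_sum (constantCoeff_gammaSeries' p) i
  rw [coeff_gammaSeries] at h
  apply of_natCast_mul_mem_Ik (Nat.succ_ne_zero i)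
  have e : ((i + 1 : ℕ) : LineRing τ) * gamma (i + 1) p =
      gamma (i + 1) p * ((i : LineRing τ) + 1) := by
    push_cast; ring
  rw [e, h]
  refine Ideal.sum_mem _ fun pq _ => ?_
  exact Ideal.mul_mem_right _ _ (Ideal.mul_mem_left _ _ (newton_gammaSeries_mem_Ik (by omega) hp))

theorem sum_alt_choose_pow (m : ℕ) :
    ∑ l ∈ range (m + 1), ((-1 : ℤ) ^ (m - l) * (m.choose l : ℤ)) * (l : ℤ) ^ m =
      (m.factorial : ℤ) := by
  have h1 := fwdDiff_iter_eq_sum_shift (1 : ℤ) (fun r : ℤ => r ^ m) m 0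
  have h2 := congrFun (fwdDiff_iter_eq_factorial (R := ℤ) (n := m)) 0
  rw [h2] at h1
  simp only [zero_add, smul_eq_mul, mul_one, nsmul_eq_mul] at h1
  rw [← h1]
  simp

theorem newton_gammaSeries_sub_mem_Ik {m : ℕ} (hm : 1 ≤ m) {μ : LineRing τ} (hμ : μ ∈ Ik m) :
    newton m (gammaSeries μ) - (m.factorial : LineRing τ) * μ ∈ Ik (m + 1) := by
  have hfac : (m.factorial : LineRing τ) * μ =
      ∑ l ∈ range (m + 1), ((-1 : ℤ) ^ (m - l) * (m.choose l : ℤ)) • ((l : LineRing τ) ^ m * μ) := by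
    have := congrArg (Int.cast : ℤ → LineRing τ) (sum_alt_choose_pow m)
    push_cast at this
    rw [← this, Finset.sum_mul]
    refine Finset.sum_congr rfl fun l _ => ?_
    rw [zsmul_eq_mul]
    push_cast
    ring
  rw [newton_gammaSeries_eq m hm, hfac, ← Finset.sum_sub_distrib]
  refine Ideal.sum_mem _ fun l _ => ?_
  rw [← smul_sub]
  apply zsmul_mem
  rcases l with _ | l
  · have h0 : adamsOp 0 μ = 0 := rfl
    rw [h0, Nat.cast_zero, zero_pow (by omega), zero_mul, sub_zero]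
    exact Ideal.zero_mem _
  · rw [adamsOp_eq_psi _ (by omega)]
    exact psi_sub_mem_Ik hμ

/-- (R2) `γ^m(μ) ≡ (-1)^(m-1) (m-1)! μ` modulo `I^(m+1)` for `μ ∈ I^m`. -/
theorem gamma_sub_mem_Ik {m : ℕ} (hm : 1 ≤ m) {μ : LineRing τ} (hμ : μ ∈ Ik m) :
    gamma m μ - (-1 : LineRing τ) ^ (m - 1) * ((m - 1).factorial : LineRing τ) * μ ∈ Ik (m + 1) := by
  obtain ⟨m, rfl⟩ : ∃ m', m = m' + 1 := ⟨m - 1, by omega⟩
  rw [Nat.add_sub_cancel]
  have h := coeff_succ_mul_eq_sum (constantCoeff_gammaSeries' μ) m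
  rw [coeff_gammaSeries] at h
  have hmem : (m, 0) ∈ Finset.antidiagonal m := by simp
  rw [← Finset.add_sum_erase _ _ hmem] at h
  simp only [PowerSeries.coeff_zero_eq_constantCoeff, constantCoeff_gammaSeries', mul_one] at h
  apply of_natCast_mul_mem_Ik (Nat.succ_ne_zero m)
  have key : ((m + 1 : ℕ) : LineRing τ) *
      (gamma (m + 1) μ - (-1 : LineRing τ) ^ m * (m.factorial : LineRing τ) * μ) =
      (-1 : LineRing τ) ^ m * (newton (m + 1) (gammaSeries μ) -
        ((m + 1).factorial : LineRing τ) * μ) +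
      ∑ pq ∈ (Finset.antidiagonal m).erase (m, 0),
        ((-1 : LineRing τ) ^ pq.1 * newton (pq.1 + 1) (gammaSeries μ)) *
          PowerSeries.coeff pq.2 (gammaSeries μ) := by
    rw [Nat.factorial_succ]
    push_cast
    linear_combination h
  rw [key]
  apply Ideal.add_mem
  · exact Ideal.mul_mem_left _ _ (newton_gammaSeries_sub_mem_Ik (by omega) hμ)
  · refine Ideal.sum_mem _ fun pq hpq => ?_
    have hne := (Finset.mem_erase.mp hpq).1
    have hsum := Finset.mem_antidiagonal.mp (Finset.mem_erase.mp hpq).2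
    have h2 : 1 ≤ pq.2 := by
      rcases Nat.eq_zero_or_pos pq.2 with h0 | hpos
      · exfalso
        apply hne
        ext
        · simp only; omega
        · simp only; omega
      · exact hpos
    rw [coeff_gammaSeries]
    have hprod := mul_mem_Ik
      (Ideal.mul_mem_left _ ((-1 : LineRing τ) ^ pq.1)
        (newton_gammaSeries_mem_Ik (j := pq.1 + 1) (by omega) hμ))
      (gamma_mem_Ik h2 hμ)
    exact Ik_anti (by omega) hprod

/-! ### Sums of the classes `L_v - 1` -/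

theorem gammaSeries_sum_X_sub_one {α : Type*} (s : Finset α) (f : α → τ) :
    gammaSeries (∑ a ∈ s, (X (f a) - 1 : LineRing τ)) =
      ∏ a ∈ s, (1 + PowerSeries.C (X (f a) - 1 : LineRing τ) * PowerSeries.X) := by
  rw [gammaSeries_sum]
  refine Finset.prod_congr rfl fun a _ => ?_
  have hX : (X (f a) : LineRing τ) = mono (Finsupp.single (f a) 1) := rfl
  rw [hX]
  exact gammaSeries_line_sub_one lam_one_eq_zero _ (fun j hj => lam_mono _ j hj)

theorem gamma_sum_X_sub_one {α : Type*} (s : Finset α) (f : α → τ) (i : ℕ) :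
    gamma i (∑ a ∈ s, (X (f a) - 1 : LineRing τ)) =
      ∑ t ∈ s.powersetCard i, ∏ a ∈ t, (X (f a) - 1 : LineRing τ) := by
  rw [← coeff_gammaSeries, gammaSeries_sum_X_sub_one, coeff_ps_prod_one_add_C_mul_X]

theorem shiftA_gamma_sum_X_sub_one {α : Type*} (s : Finset α) (f : α → τ) (i : ℕ) :
    shiftA (gamma i (∑ a ∈ s, (X (f a) - 1 : LineRing τ))) =
      ∑ t ∈ s.powersetCard i, ∏ a ∈ t, (X (f a) : MvPolynomial τ ℤ) := by
  rw [gamma_sum_X_sub_one, map_sum]
  refine Finset.sum_congr rfl fun t _ => ?_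
  rw [map_prod]
  refine Finset.prod_congr rfl fun a _ => ?_
  rw [map_sub, map_one, shiftA, aeval_X, add_sub_cancel_right]

end LineRing

end Groth.Agent.Lib.Helper44
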