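import Mathlib.RingTheory.PicardGroup
import Mathlib.RingTheory.Localization.AtPrime.Basic
import Mathlib.RingTheory.Spectrum.Prime.Basic
import Mathlib.Algebra.Module.LocalizedModule.Basic

/-!
# Simultaneous local generators of invertible modules

For an invertible module `M` over a commutative ring `A` and finitely many primes, there is one
element of `M` generating the localization of `M` at each of the primes.
-/

set_option autoImplicit false
universe u

namespace Groth.Agent.Lib.Helper44

section

variable {A : Type u} [CommRing A] {M : Type u} [AddCommGroup M] [Module A M]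

/-- `s` generates `M` locally at `P`, in elementary terms. -/
def LocGen (P : Ideal A) (s : M) : Prop := ∀ m : M, ∃ u : A, u ∉ P ∧ ∃ a : A, u • m = a • s

theorem LocGen.mono {P Q : Ideal A} (h : P ≤ Q) {s : M} (hs : LocGen Q s) : LocGen P s := by
  intro m
  obtain ⟨u, hu, a, ha⟩ := hs m
  exact ⟨u, fun hup => hu (h hup), a, ha⟩

theorem span_eq_top_of_locGen (P : Ideal A) [P.IsPrime] {s : M} (hs : LocGen P s) :
    Submodule.span (Localization.AtPrime P)
      {LocalizedModule.mkLinearMap P.primeCompl M s} = ⊤ := by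
  rw [eq_top_iff]
  rintro y -
  induction y using LocalizedModule.induction_on with
  | h m t =>
    obtain ⟨u, hu, a, ha⟩ := hs m
    rw [Submodule.mem_span_singleton]
    refine ⟨Localization.mk a ((⟨u, hu⟩ : P.primeCompl) * t), ?_⟩
    rw [LocalizedModule.mkLinearMap_apply, LocalizedModule.mk_smul_mk, mul_one, ← ha]
    exact LocalizedModule.mk_cancel_common_left (⟨u, hu⟩ : P.primeCompl) t m

theorem locGen_of_span_eq_top (P : Ideal A) [P.IsPrime] {s : M}
    (h : Submodule.span (Localization.AtPrime P)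
      {LocalizedModule.mkLinearMap P.primeCompl M s} = ⊤) : LocGen P s := by
  intro m
  have hm : LocalizedModule.mkLinearMap P.primeCompl M m ∈
      Submodule.span (Localization.AtPrime P)
        {LocalizedModule.mkLinearMap P.primeCompl M s} := by
    rw [h]
    trivial
  rw [Submodule.mem_span_singleton] at hm
  obtain ⟨r, hr⟩ := hm
  obtain ⟨a, u, rfl⟩ := IsLocalization.exists_mk'_eq P.primeCompl r
  rw [LocalizedModule.mkLinearMap_apply, LocalizedModule.mkLinearMap_apply,
    ← Localization.mk_eq_mk', LocalizedModule.mk_smul_mk, mul_one, LocalizedModule.mk_eq] at hr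
  obtain ⟨v, hv⟩ := hr
  refine ⟨(v : A) * (u : A), (v * u).2, (v : A) * a, ?_⟩
  rw [one_smul] at hv
  rw [mul_smul, mul_smul]
  exact hv.symm

end

section Inv

variable {A : Type u} [CommRing A] {M : Type u} [AddCommGroup M] [Module A M]
  [Module.Invertible A M]

theorem exists_locEquiv (P : Ideal A) [P.IsPrime] :
    Nonempty (LocalizedModule P.primeCompl M ≃ₗ[Localization.AtPrime P] Localization.AtPrime P) :=
  Module.Invertible.free_iff_linearEquiv.mp inferInstance

/-- The coordinate of an element of `M` in a trivialization of `M_P`. -/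
noncomputable def locCoord (P : Ideal A) [P.IsPrime] : M →ₗ[A] Localization.AtPrime P :=
  ((exists_locEquiv (M := M) P).some.toLinearMap.restrictScalars A) ∘ₗ
    LocalizedModule.mkLinearMap P.primeCompl M

theorem locCoord_apply (P : Ideal A) [P.IsPrime] (m : M) :
    locCoord P m = (exists_locEquiv (M := M) P).some (LocalizedModule.mk m 1) := rfl

theorem locCoord_smul (P : Ideal A) [P.IsPrime] (a : A) (m : M) :
    locCoord P (a • m) = algebraMap A (Localization.AtPrime P) a * locCoord P m := by
  rw [map_smul, Algebra.smul_def]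

theorem locGen_of_isUnit (P : Ideal A) [P.IsPrime] {s : M} (h : IsUnit (locCoord P s)) :
    LocGen P s := by
  apply locGen_of_span_eq_top
  rw [eq_top_iff]
  rintro y -
  rw [Submodule.mem_span_singleton]
  obtain ⟨u, hu⟩ := h
  refine ⟨(exists_locEquiv (M := M) P).some y * ↑u⁻¹, ?_⟩
  apply (exists_locEquiv (M := M) P).some.injective
  rw [map_smul, smul_eq_mul]
  have h1 : (exists_locEquiv (M := M) P).some (LocalizedModule.mkLinearMap P.primeCompl M s) = u :=
    hu.symm
  rw [h1, mul_assoc, Units.inv_mul, mul_one]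

theorem exists_isUnit_locCoord (P : Ideal A) [P.IsPrime] : ∃ m : M, IsUnit (locCoord P m) := by
  obtain ⟨m, t, hmt⟩ : ∃ (m : M) (t : P.primeCompl),
      (exists_locEquiv (M := M) P).some.symm 1 = LocalizedModule.mk m t := by
    induction ((exists_locEquiv (M := M) P).some.symm 1) using LocalizedModule.induction_on with
    | h m t => exact ⟨m, t, rfl⟩
  refine ⟨m, ?_⟩
  have h1 : LocalizedModule.mk m 1 = (t : A) • LocalizedModule.mk m t := by
    rw [LocalizedModule.smul'_mk]
    exact (LocalizedModule.mk_cancel t m).symm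
  have h2 : locCoord P m = algebraMap A (Localization.AtPrime P) (t : A) := by
    rw [locCoord_apply, h1, ← hmt, ← algebraMap_smul (Localization.AtPrime P) (t : A), map_smul,
      LinearEquiv.apply_symm_apply, smul_eq_mul, mul_one]
  rw [h2]
  exact IsLocalization.map_units (Localization.AtPrime P) t

theorem isUnit_add_of_mem_maximalIdeal {R : Type*} [CommRing R] [IsLocalRing R] {x y : R}
    (hx : IsUnit x) (hy : y ∈ IsLocalRing.maximalIdeal R) : IsUnit (x + y) := by
  by_contra h
  have h1 : x + y ∈ IsLocalRing.maximalIdeal R := (IsLocalRing.mem_maximalIdeal _).mpr h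
  have h2 : x ∈ IsLocalRing.maximalIdeal R := by
    have := (IsLocalRing.maximalIdeal R).sub_mem h1 hy
    rwa [add_sub_cancel_right] at this
  exact ((IsLocalRing.mem_maximalIdeal _).mp h2) hx

open Classical in
/-- Simultaneous coordinates for pairwise incomparable primes. -/
theorem exists_simultaneous (T : Finset (PrimeSpectrum A))
    (hT : ∀ P ∈ T, ∀ Q ∈ T, P.asIdeal ≤ Q.asIdeal → P = Q) :
    ∃ s : M, ∀ P ∈ T, IsUnit (locCoord P.asIdeal s) := by
  have hb : ∀ P ∈ T, ∀ Q ∈ T, Q ≠ P → ∃ b : A, b ∈ Q.asIdeal ∧ b ∉ P.asIdeal := by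
    intro P hP Q hQ hne
    by_contra hcon
    push Not at hcon
    exact hne (hT Q hQ P hP (fun b hb => hcon b hb))
  let bfun : PrimeSpectrum A → PrimeSpectrum A → A := fun P Q =>
    if h : ∃ b : A, b ∈ Q.asIdeal ∧ b ∉ P.asIdeal then h.choose else 0
  have hbfun : ∀ P ∈ T, ∀ Q ∈ T, Q ≠ P → bfun P Q ∈ Q.asIdeal ∧ bfun P Q ∉ P.asIdeal := by
    intro P hP Q hQ hne
    have h := hb P hP Q hQ hne
    simp only [bfun, dif_pos h]
    exact h.choose_spec
  let a : PrimeSpectrum A → A := fun P => ∏ Q ∈ T.erase P, bfun P Q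
  have ha1 : ∀ P ∈ T, a P ∉ P.asIdeal := by
    intro P hP hmem
    obtain ⟨Q, hQ, hQmem⟩ := (Ideal.IsPrime.prod_mem_iff (p := P.asIdeal)).mp hmem
    rw [Finset.mem_erase] at hQ
    exact (hbfun P hP Q hQ.2 hQ.1).2 hQmem
  have ha2 : ∀ P ∈ T, ∀ Q ∈ T, Q ≠ P → a P ∈ Q.asIdeal := by
    intro P hP Q hQ hne
    have hQ' : Q ∈ T.erase P := Finset.mem_erase.mpr ⟨hne, hQ⟩
    have : a P = bfun P Q * ∏ Q' ∈ (T.erase P).erase Q, bfun P Q' :=
      (Finset.mul_prod_erase (T.erase P) (bfun P) hQ').symm
    rw [this]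
    exact Ideal.mul_mem_right _ _ (hbfun P hP Q hQ hne).1
  let mP : PrimeSpectrum A → M := fun P => (exists_isUnit_locCoord (M := M) P.asIdeal).choose
  have hmP : ∀ P : PrimeSpectrum A, IsUnit (locCoord P.asIdeal (mP P)) := fun P =>
    (exists_isUnit_locCoord (M := M) P.asIdeal).choose_spec
  refine ⟨∑ Q ∈ T, a Q • mP Q, fun P hP => ?_⟩
  rw [map_sum, ← Finset.add_sum_erase T _ hP]
  apply isUnit_add_of_mem_maximalIdeal
  · rw [locCoord_smul]
    exact ((IsLocalization.AtPrime.isUnit_to_map_iff _ P.asIdeal (a P)).mpr (ha1 P hP)).mul (hmP P)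
  · refine Ideal.sum_mem _ fun Q hQ => ?_
    rw [Finset.mem_erase] at hQ
    rw [locCoord_smul]
    refine Ideal.mul_mem_right _ _ ?_
    exact (IsLocalization.AtPrime.to_map_mem_maximal_iff _ P.asIdeal (a Q)).mpr
      (ha2 Q hQ.2 P hP hQ.1.symm)

/-- One element generating an invertible module locally at finitely many primes. -/
theorem exists_locGen_of_finite {ι : Type} [Finite ι] (p : ι → PrimeSpectrum A) :
    ∃ s : M, ∀ i, LocGen (p i).asIdeal s := by
  classical
  have hfin : (Set.range p).Finite := Set.finite_range p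
  let T : Finset (PrimeSpectrum A) :=
    hfin.toFinset.filter (fun Q => Maximal (· ∈ Set.range p) Q)
  have hT : ∀ P ∈ T, ∀ Q ∈ T, P.asIdeal ≤ Q.asIdeal → P = Q := by
    intro P hP Q hQ hle
    rw [Finset.mem_filter] at hP hQ
    have hle' : P ≤ Q := hle
    exact le_antisymm hle' (hP.2.2 hQ.2.1 hle')
  obtain ⟨s, hs⟩ := exists_simultaneous (M := M) T hT
  refine ⟨s, fun i => ?_⟩
  obtain ⟨Q, hle, hQ⟩ := hfin.exists_le_maximal (Set.mem_range_self i)
  have hQT : Q ∈ T := by
    rw [Finset.mem_filter, Set.Finite.mem_toFinset]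
    exact ⟨hQ.1, hQ⟩
  exact (locGen_of_isUnit Q.asIdeal (hs Q hQT)).mono hle

end Inv

end Groth.Agent.Lib.Helper44
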