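import Mathlib

/-!
# Membership in monomial ideals of multivariate power series rings
-/

set_option autoImplicit false

namespace Groth.Agent.Lib.Helper44

open MvPowerSeries

variable {σ : Type*} {R : Type*} [CommRing R]

/-- A power series all of whose monomials are divisible by one of finitely many monomials
lies in the ideal these generate. -/
theorem mem_span_monomial_of_support (E : Finset (σ →₀ ℕ)) (g : MvPowerSeries σ R)
    (h : ∀ d, coeff d g ≠ 0 → ∃ e ∈ E, e ≤ d) :
    g ∈ Ideal.span ((fun e => (monomial e (1 : R) : MvPowerSeries σ R)) '' (E : Set (σ →₀ ℕ))) := by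
  classical
  induction E using Finset.induction_on generalizing g with
  | empty =>
    have : g = 0 := by
      ext d
      by_contra hd
      obtain ⟨e, he, -⟩ := h d (by simpa using hd)
      simp at he
    rw [this]
    exact Submodule.zero_mem _
  | insert e E he ih =>
    let g₂ : MvPowerSeries σ R := fun d => if e ≤ d then 0 else coeff d g
    let hq : MvPowerSeries σ R := fun d => coeff (d + e) g
    have hg₂ : ∀ d, coeff d g₂ = if e ≤ d then 0 else coeff d g := fun d => rfl
    have hhq : ∀ d, coeff d hq = coeff (d + e) g := fun d => rfl
    have hdecomp : g = monomial e (1 : R) * hq + g₂ := by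
      ext d
      rw [map_add, coeff_monomial_mul, hg₂, hhq]
      by_cases hed : e ≤ d
      · rw [if_pos hed, if_pos hed, one_mul, add_zero, tsub_add_cancel_of_le hed]
      · rw [if_neg hed, if_neg hed, zero_add]
    rw [hdecomp]
    apply Ideal.add_mem
    · apply Ideal.mul_mem_right
      apply Ideal.subset_span
      exact ⟨e, Finset.mem_coe.mpr (Finset.mem_insert_self e E), rfl⟩
    · have hsub : Ideal.span ((fun e => (monomial e (1 : R) : MvPowerSeries σ R)) ''
            (E : Set (σ →₀ ℕ))) ≤
          Ideal.span ((fun e => (monomial e (1 : R) : MvPowerSeries σ R)) ''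
            ((insert e E : Finset (σ →₀ ℕ)) : Set (σ →₀ ℕ))) := by
        apply Ideal.span_mono
        apply Set.image_mono
        intro x hx
        exact Finset.mem_coe.mpr (Finset.mem_insert_of_mem (Finset.mem_coe.mp hx))
      apply hsub
      apply ih
      intro d hd
      rw [hg₂] at hd
      by_cases hed : e ≤ d
      · rw [if_pos hed] at hd
        exact absurd rfl hd
      · rw [if_neg hed] at hd
        obtain ⟨e', he', hle⟩ := h d hd
        rcases Finset.mem_insert.mp he' with rfl | he''
        · exact absurd hle hed
        · exact ⟨e', he'', hle⟩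

end Groth.Agent.Lib.Helper44
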