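import Mathlib

/-!
# Power series with non-negative integer coefficients: supports of sums and products (helper44)
-/

set_option autoImplicit false
universe u

namespace Groth.Agent.Lib.Helper44.NonnegSeries

open MvPowerSeries

variable {σ : Type*}

/-- all coefficients are non-negative -/
def Nonneg (f : MvPowerSeries σ ℤ) : Prop := ∀ d, 0 ≤ coeff d f

theorem Nonneg.zero : Nonneg (0 : MvPowerSeries σ ℤ) := fun d => by simp

theorem Nonneg.one : Nonneg (1 : MvPowerSeries σ ℤ) := fun d => by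
  classical
  rw [coeff_one]
  split_ifs <;> norm_num

theorem Nonneg.add {f g : MvPowerSeries σ ℤ} (hf : Nonneg f) (hg : Nonneg g) : Nonneg (f + g) :=
  fun d => by rw [map_add]; exact add_nonneg (hf d) (hg d)

theorem Nonneg.mul {f g : MvPowerSeries σ ℤ} (hf : Nonneg f) (hg : Nonneg g) : Nonneg (f * g) :=
  fun d => by
    classical
    rw [coeff_mul]
    exact Finset.sum_nonneg fun p _ => mul_nonneg (hf p.1) (hg p.2)

theorem Nonneg.sum {ι : Type*} (s : Finset ι) (f : ι → MvPowerSeries σ ℤ)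
    (hf : ∀ i ∈ s, Nonneg (f i)) : Nonneg (∑ i ∈ s, f i) := fun d => by
  rw [map_sum]
  exact Finset.sum_nonneg fun i hi => hf i hi d

theorem Nonneg.prod {ι : Type*} (s : Finset ι) (f : ι → MvPowerSeries σ ℤ)
    (hf : ∀ i ∈ s, Nonneg (f i)) : Nonneg (∏ i ∈ s, f i) := by
  classical
  induction s using Finset.induction_on with
  | empty => rw [Finset.prod_empty]; exact Nonneg.one
  | insert j s hj ih =>
    rw [Finset.prod_insert hj]
    exact (hf j (Finset.mem_insert_self j s)).mul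
      (ih fun i hi => hf i (Finset.mem_insert_of_mem hi))

theorem Nonneg.pow {f : MvPowerSeries σ ℤ} (hf : Nonneg f) (n : ℕ) : Nonneg (f ^ n) := by
  induction n with
  | zero => rw [pow_zero]; exact Nonneg.one
  | succ n ih => rw [pow_succ]; exact ih.mul hf

theorem coeff_mul_ne_zero_iff {f g : MvPowerSeries σ ℤ} (hf : Nonneg f) (hg : Nonneg g)
    (d : σ →₀ ℕ) :
    coeff d (f * g) ≠ 0 ↔ ∃ d₁ d₂, d₁ + d₂ = d ∧ coeff d₁ f ≠ 0 ∧ coeff d₂ g ≠ 0 := by
  classical
  rw [coeff_mul]
  constructor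
  · intro h
    obtain ⟨p, hp, hne⟩ := Finset.exists_ne_zero_of_sum_ne_zero h
    rw [Finset.HasAntidiagonal.mem_antidiagonal] at hp
    exact ⟨p.1, p.2, hp, left_ne_zero_of_mul hne, right_ne_zero_of_mul hne⟩
  · rintro ⟨d₁, d₂, hd, h1, h2⟩
    have hnn : ∀ p ∈ Finset.HasAntidiagonal.antidiagonal d, 0 ≤ coeff p.1 f * coeff p.2 g :=
      fun p _ => mul_nonneg (hf p.1) (hg p.2)
    have hmem : (d₁, d₂) ∈ Finset.HasAntidiagonal.antidiagonal d := Finset.HasAntidiagonal.mem_antidiagonal.mpr hd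
    have hpos : 0 < coeff d₁ f * coeff d₂ g :=
      mul_pos (lt_of_le_of_ne (hf d₁) (Ne.symm h1)) (lt_of_le_of_ne (hg d₂) (Ne.symm h2))
    have := Finset.single_le_sum hnn hmem
    exact (lt_of_lt_of_le hpos this).ne'

theorem coeff_sum_ne_zero_iff {ι : Type*} (s : Finset ι) (f : ι → MvPowerSeries σ ℤ)
    (hf : ∀ i ∈ s, Nonneg (f i)) (d : σ →₀ ℕ) :
    coeff d (∑ i ∈ s, f i) ≠ 0 ↔ ∃ i ∈ s, coeff d (f i) ≠ 0 := by
  rw [map_sum]
  constructor
  · intro h
    obtain ⟨i, hi, hne⟩ := Finset.exists_ne_zero_of_sum_ne_zero h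
    exact ⟨i, hi, hne⟩
  · rintro ⟨i, hi, hne⟩
    have hnn : ∀ j ∈ s, 0 ≤ coeff d (f j) := fun j hj => hf j hj d
    have hpos : 0 < coeff d (f i) := lt_of_le_of_ne (hf i hi d) (Ne.symm hne)
    exact (lt_of_lt_of_le hpos (Finset.single_le_sum hnn hi)).ne'

theorem coeff_prod_ne_zero_iff {ι : Type*} (s : Finset ι) (f : ι → MvPowerSeries σ ℤ)
    (hf : ∀ i ∈ s, Nonneg (f i)) (d : σ →₀ ℕ) :
    coeff d (∏ i ∈ s, f i) ≠ 0 ↔
      ∃ δ : ι → (σ →₀ ℕ), ∑ i ∈ s, δ i = d ∧ ∀ i ∈ s, coeff (δ i) (f i) ≠ 0 := by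
  classical
  induction s using Finset.induction_on generalizing d with
  | empty =>
    rw [Finset.prod_empty, coeff_one]
    constructor
    · intro h
      have hd : d = 0 := by
        by_contra hne
        rw [if_neg hne] at h
        exact h rfl
      exact ⟨fun _ => 0, by rw [Finset.sum_empty, hd], fun i hi => absurd hi (Finset.notMem_empty i)⟩
    · rintro ⟨δ, hδ, -⟩
      rw [Finset.sum_empty] at hδ
      rw [if_pos hδ.symm]
      exact one_ne_zero
  | insert j s hj ih =>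
    have hfs : ∀ i ∈ s, Nonneg (f i) := fun i hi => hf i (Finset.mem_insert_of_mem hi)
    rw [Finset.prod_insert hj,
      coeff_mul_ne_zero_iff (hf j (Finset.mem_insert_self j s)) (Nonneg.prod s f hfs)]
    constructor
    · rintro ⟨d₁, d₂, hd, h1, h2⟩
      obtain ⟨δ, hδ, hδ'⟩ := (ih hfs d₂).mp h2
      refine ⟨Function.update δ j d₁, ?_, ?_⟩
      · rw [Finset.sum_insert hj, Function.update_self]
        have : ∑ i ∈ s, Function.update δ j d₁ i = ∑ i ∈ s, δ i := by
          refine Finset.sum_congr rfl fun i hi => ?_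
          rw [Function.update_of_ne (fun h : i = j => hj (h ▸ hi))]
        rw [this, hδ, hd]
      · intro i hi
        rcases Finset.mem_insert.mp hi with rfl | his
        · rw [Function.update_self]; exact h1
        · rw [Function.update_of_ne (fun h : i = j => hj (h ▸ his))]
          exact hδ' i his
    · rintro ⟨δ, hδ, hδ'⟩
      rw [Finset.sum_insert hj] at hδ
      refine ⟨δ j, ∑ i ∈ s, δ i, hδ, hδ' j (Finset.mem_insert_self j s), ?_⟩
      exact (ih hfs _).mpr ⟨δ, rfl, fun i hi => hδ' i (Finset.mem_insert_of_mem hi)⟩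

end Groth.Agent.Lib.Helper44.NonnegSeries
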