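import Mathlib.Dynamics.Newton
import Mathlib.RingTheory.Nilpotent.Lemmas

/-! `n`-th roots of `1 + nilpotent` when `n` is invertible. -/

set_option autoImplicit false

namespace Groth.Agent.Lib.Helper44.NthRoot

open Polynomial

variable {R : Type*} [CommRing R]

theorem existsUnique_pow_eq (n : ℕ) (hn : IsUnit (n : R)) (r : R) (hr : IsNilpotent (r - 1)) :
    ∃! r' : R, IsNilpotent (r' - 1) ∧ r' ^ n = r := by
  have h1 : IsNilpotent (aeval (1 : R) (X ^ n - C r : R[X])) := by
    simp only [map_sub, map_pow, aeval_X, one_pow, aeval_C, Algebra.algebraMap_self, RingHom.id_apply]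
    rw [← neg_sub, isNilpotent_neg_iff]
    exact hr
  have h2 : IsUnit (aeval (1 : R) (derivative (X ^ n - C r : R[X]))) := by
    simp only [derivative_sub, derivative_X_pow, derivative_C, sub_zero, map_mul, map_pow, aeval_X,
      one_pow, mul_one, aeval_C, Algebra.algebraMap_self, RingHom.id_apply, map_natCast]
    exact hn
  obtain ⟨r', ⟨hr1, hr2⟩, huniq⟩ := existsUnique_nilpotent_sub_and_aeval_eq_zero
    (P := (X ^ n - C r : R[X])) h1 h2
  simp only [map_sub, map_pow, aeval_X, aeval_C, Algebra.algebraMap_self, RingHom.id_apply,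
    sub_eq_zero] at hr2
  refine ⟨r', ⟨?_, hr2⟩, ?_⟩
  · rw [← neg_sub, isNilpotent_neg_iff]; exact hr1
  · rintro y ⟨hy1, hy2⟩
    apply huniq
    refine ⟨?_, ?_⟩
    · rw [← neg_sub, isNilpotent_neg_iff]; exact hy1
    · simp only [map_sub, map_pow, aeval_X, aeval_C, Algebra.algebraMap_self, RingHom.id_apply,
        sub_eq_zero]
      exact hy2

theorem eq_one_of_pow_eq_one (n : ℕ) (hn : IsUnit (n : R)) {r : R} (hr : IsNilpotent (r - 1))
    (h : r ^ n = 1) : r = 1 := by
  have h0 : IsNilpotent ((1 : R) - 1) := by rw [sub_self]; exact IsNilpotent.zero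
  obtain ⟨r', _, huniq⟩ := existsUnique_pow_eq n hn (1 : R) h0
  rw [huniq r ⟨hr, h⟩, huniq 1 ⟨h0, one_pow n⟩]

end Groth.Agent.Lib.Helper44.NthRoot
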