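import Groth.Agent.Lib.Helper44.ZarPicGrp

/-!
# `Pic X ≃+ H¹(X', i_* O_X^×)` for a morphism `i : X ⟶ X'` which is a homeomorphism

Variant of `ZarPicGrp` where the sheaf lives on the space of `X'` (the direct image of the units
sheaf of `X`), while the modules live on `X`.  Used for first-order thickenings.
-/

set_option autoImplicit false
open CategoryTheory CategoryTheory.Limits AlgebraicGeometry Opposite Abelian
universe u

namespace Groth.Agent.Lib.Helper44.ZarPicPush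

open Groth.Agent.Lib.Helper45 Groth.Agent.Lib.Helper49 Groth.Agent.Lib.Lead
  Groth.Agent.Lib.Helper44.ZarSheafBasics Groth.Agent.Lib.Helper11.GenLocus

section units

variable {X X' : Scheme.{u}} (i : X ⟶ X')

/-- the direct image of the units sheaf -/
noncomputable abbrev G : CohTop.Ab X'.toTopCat :=
  (CohTop.push i.base).obj (UnitsSh.unitsAb X)

lemma ple {V W : X'.Opens} (h : V ≤ W) : i ⁻¹ᵁ V ≤ i ⁻¹ᵁ W := fun _ hx => h hx

/-- units on a preimage as sections of `i_* O_X^×` -/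
def pgmOf (V : X'.Opens) (r : (Γ(X, i ⁻¹ᵁ V))ˣ) : (G i).obj.obj (op V) :=
  UnitsSh.sectOfUnit (O := X.sheaf.obj) (U := op (i ⁻¹ᵁ V)) r

/-- sections of `i_* O_X^×` as units -/
def punitOf (V : X'.Opens) (s : (G i).obj.obj (op V)) : (Γ(X, i ⁻¹ᵁ V))ˣ :=
  UnitsSh.unitOfSect (O := X.sheaf.obj) (U := op (i ⁻¹ᵁ V)) s

lemma pgmOf_punitOf (V : X'.Opens) (s : (G i).obj.obj (op V)) :
    pgmOf i V (punitOf i V s) = s := rfl

lemma punitOf_pgmOf (V : X'.Opens) (r : (Γ(X, i ⁻¹ᵁ V))ˣ) : punitOf i V (pgmOf i V r) = r := rfl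

lemma pgmOf_mul (V : X'.Opens) (r r' : (Γ(X, i ⁻¹ᵁ V))ˣ) :
    pgmOf i V (r * r') = pgmOf i V r + pgmOf i V r' := rfl

lemma pgmOf_one (V : X'.Opens) : pgmOf i V (1 : (Γ(X, i ⁻¹ᵁ V))ˣ) = 0 := rfl

lemma punitOf_add (V : X'.Opens) (s s' : (G i).obj.obj (op V)) :
    punitOf i V (s + s') = punitOf i V s * punitOf i V s' := rfl

lemma res_pgmOf {V V' : X'.Opens} (h : V ≤ V') (r : (Γ(X, i ⁻¹ᵁ V'))ˣ) :
    res (G i).obj h (pgmOf i V' r) = pgmOf i V (Units.map (fres (ple i h)).toMonoidHom r) := rfl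

lemma punitOf_res {V V' : X'.Opens} (h : V ≤ V') (s : (G i).obj.obj (op V')) :
    punitOf i V (res (G i).obj h s) = Units.map (fres (ple i h)).toMonoidHom (punitOf i V' s) := rfl

end units

section embedding

variable {X X' : Scheme.{u}} (i : X ⟶ X')

/-- the chosen injective sheaf containing `i_* O_X^×` -/
noncomputable def I0 : CohTop.Ab X'.toTopCat := Injective.under (G i)

noncomputable instance : Injective (I0 i) :=
  inferInstanceAs (Injective (Injective.under (G i)))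

/-- the embedding -/
noncomputable def ι0 : G i ⟶ I0 i := Injective.ι (G i)

/-- the quotient -/
noncomputable def Q0 : CohTop.Ab X'.toTopCat := cokernel (ι0 i)

/-- the projection -/
noncomputable def π0 : I0 i ⟶ Q0 i := cokernel.π (ι0 i)

lemma w0 : ι0 i ≫ π0 i = 0 := cokernel.condition (ι0 i)

lemma hS0 : (ShortComplex.mk (ι0 i) (π0 i) (w0 i)).ShortExact :=
  { exact := ShortComplex.exact_cokernel (ι0 i)
    mono_f := inferInstanceAs (Mono (Injective.ι (G i)))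
    epi_g := inferInstanceAs (Epi (cokernel.π (ι0 i))) }

lemma ι0_inj (V : X'.Opens) : Function.Injective ((ι0 i).hom.app (op V)) :=
  sections_injective (hS0 i) V

lemma π0_ι0 (V : X'.Opens) (g : (G i).obj.obj (op V)) :
    (π0 i).hom.app (op V) ((ι0 i).hom.app (op V) g) = 0 :=
  sections_gf (ShortComplex.mk (ι0 i) (π0 i) (w0 i)) V g

lemma exact0 (V : X'.Opens) (s : (I0 i).obj.obj (op V)) (hs : (π0 i).hom.app (op V) s = 0) :
    ∃ g, (ι0 i).hom.app (op V) g = s :=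
  sections_exact (hS0 i) V s hs

/-- the boundary map `Q(X') → H¹(X', i_* O_X^×)` -/
noncomputable def δ0 : (Q0 i).obj.obj (op (⊤ : X'.Opens)) →+ CohTop.H (G i) 1 :=
  (AddMonoidHom.mk' (fun f : Zc X'.toTopCat ⟶ Q0 i =>
      (Ext.mk₀ f).comp (hS0 i).extClass (zero_add 1))
    (fun f g => by rw [Ext.mk₀_add, Ext.add_comp])).comp (γ (Q0 i)).symm.toAddMonoidHom

lemma δ0_apply (q₀ : (Q0 i).obj.obj (op (⊤ : X'.Opens))) :
    δ0 i q₀ = (Ext.mk₀ ((γ (Q0 i)).symm q₀)).comp (hS0 i).extClass (zero_add 1) := rfl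

lemma δ0_eq_zero_iff (q₀ : (Q0 i).obj.obj (op (⊤ : X'.Opens))) :
    δ0 i q₀ = 0 ↔ ∃ T : (I0 i).obj.obj (op (⊤ : X'.Opens)), (π0 i).hom.app _ T = q₀ := by
  rw [δ0_apply]
  constructor
  · intro hδ
    obtain ⟨x₂, hx₂⟩ := Ext.covariant_sequence_exact₃ _ (hS0 i) _ (zero_add 1) hδ
    obtain ⟨a, rfl⟩ := (Ext.mk₀_bijective _ _).2 x₂
    have ha : a ≫ π0 i = (γ (Q0 i)).symm q₀ := by
      apply (Ext.mk₀_bijective _ _).1
      rw [← hx₂, Ext.mk₀_comp_mk₀]
    refine ⟨γ (I0 i) a, ?_⟩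
    rw [← γ_naturality, ha, AddEquiv.apply_symm_apply]
  · rintro ⟨T, rfl⟩
    have hq : (γ (Q0 i)).symm ((π0 i).hom.app _ T) = (γ (I0 i)).symm T ≫ π0 i := by
      apply (γ (Q0 i)).injective
      rw [γ_naturality, AddEquiv.apply_symm_apply, AddEquiv.apply_symm_apply]
    rw [hq, ← Ext.mk₀_comp_mk₀_assoc]
    have h0 : (Ext.mk₀ (π0 i)).comp (hS0 i).extClass (zero_add 1) = 0 := (hS0 i).comp_extClass
    rw [h0, Ext.comp_zero]

lemma δ0_surjective : Function.Surjective (δ0 i) := by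
  intro c
  have h0 : c.comp (Ext.mk₀ (ι0 i)) (add_zero 1) = 0 := Ext.eq_zero_of_injective _
  obtain ⟨x₃, hx₃⟩ := Ext.covariant_sequence_exact₁ _ (hS0 i) c h0 (zero_add 1)
  obtain ⟨q, rfl⟩ := (Ext.mk₀_bijective _ _).2 x₃
  refine ⟨γ (Q0 i) q, ?_⟩
  rw [δ0_apply, AddEquiv.symm_apply_apply]
  exact hx₃

end embedding

section data

variable {X X' : Scheme.{u}} (i : X ⟶ X')

/-- Čech-type data computing the class of an invertible module `M` on `X` as `δ0 q₀`. -/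
structure IsPicDataP (M : X.Modules) (q₀ : (Q0 i).obj.obj (op (⊤ : X'.Opens))) (U : X' → X'.Opens)
    (t : ∀ x, Γ(M, i ⁻¹ᵁ U x)) (τ : ∀ x, (I0 i).obj.obj (op (U x))) : Prop where
  mem : ∀ x, x ∈ U x
  basis : ∀ x, IsBasisOn M (i ⁻¹ᵁ U x) (t x)
  lift : ∀ x, (π0 i).hom.app _ (τ x) = res (Q0 i).obj (le_top : U x ≤ ⊤) q₀
  trans : ∀ (a b : X') (r : (Γ(X, i ⁻¹ᵁ (U a ⊓ U b)))ˣ),
    mres M (ple i (inf_le_left : U a ⊓ U b ≤ U a)) (t a) =
      (r : Γ(X, i ⁻¹ᵁ (U a ⊓ U b))) • mres M (ple i (inf_le_right : U a ⊓ U b ≤ U b)) (t b) →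
    (ι0 i).hom.app _ (pgmOf i _ r) = res (I0 i).obj (inf_le_left : U a ⊓ U b ≤ U a) (τ a) -
      res (I0 i).obj (inf_le_right : U a ⊓ U b ≤ U b) (τ b)

lemma iSup_eq_top_of_mem {U : X' → X'.Opens} (h : ∀ x, x ∈ U x) : iSup U = ⊤ := by
  rw [eq_top_iff]
  intro x _
  exact TopologicalSpace.Opens.mem_iSup.2 ⟨x, h x⟩

lemma iSup_preimage_eq_top {U : X' → X'.Opens} (h : ∀ x, x ∈ U x) :
    (⨆ x, i ⁻¹ᵁ U x) = ⊤ := by
  rw [eq_top_iff]
  intro x _
  exact TopologicalSpace.Opens.mem_iSup.2 ⟨i.base x, h (i.base x)⟩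

variable {i}

theorem IsPicDataP.restrict {M : X.Modules} {q₀ : (Q0 i).obj.obj (op (⊤ : X'.Opens))}
    {U : X' → X'.Opens} {t : ∀ x, Γ(M, i ⁻¹ᵁ U x)} {τ : ∀ x, (I0 i).obj.obj (op (U x))}
    (h : IsPicDataP i M q₀ U t τ)
    (W : X' → X'.Opens) (hW : ∀ x, x ∈ W x) (hle : ∀ x, W x ≤ U x) :
    IsPicDataP i M q₀ W (fun x => mres M (ple i (hle x)) (t x))
      (fun x => res (I0 i).obj (hle x) (τ x)) where
  mem := hW
  basis x := (h.basis x).mono (ple i (hle x))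
  lift x := by
    rw [res_naturality, h.lift x, res_res]
  trans a b r hr := by
    obtain ⟨r₀, hr₀⟩ := GmPicGrp.exists_unit_smul
      ((h.basis a).mono (ple i (inf_le_left : U a ⊓ U b ≤ U a)))
      ((h.basis b).mono (ple i (inf_le_right : U a ⊓ U b ≤ U b)))
    have hle' : W a ⊓ W b ≤ U a ⊓ U b := inf_le_inf (hle a) (hle b)
    have hrr : (r : Γ(X, i ⁻¹ᵁ (W a ⊓ W b))) = fres (ple i hle') (r₀ : Γ(X, i ⁻¹ᵁ (U a ⊓ U b))) := by
      apply ((h.basis b).mono (ple i ((inf_le_right : W a ⊓ W b ≤ W b).trans (hle b)))).eq_of_smul_eq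
      have e1 := congrArg (mres M (ple i hle')) hr₀
      simp only [mres_smul, mres_mres] at e1 hr
      rw [← hr, ← e1]
    have hr' : r = Units.map (fres (ple i hle')).toMonoidHom r₀ := Units.ext hrr
    rw [hr', ← res_pgmOf i hle', res_naturality, h.trans a b r₀ hr₀, map_sub, res_res, res_res,
      res_res, res_res]

variable (i)

/-- the structure sheaf has class zero -/
theorem isPicDataP_unit : IsPicDataP i (Coh.structureModule X) 0 (fun _ => ⊤)
    (fun _ => GmPic.oneSec (i ⁻¹ᵁ ⊤)) (fun _ => 0) where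
  mem _ := trivial
  basis _ := GmPic.isBasisOn_oneSec _
  lift _ := by rw [map_zero, map_zero]
  trans a b r hr := by
    have h1 : (r : Γ(X, i ⁻¹ᵁ ((⊤ : X'.Opens) ⊓ ⊤))) = 1 := by
      rw [GmPic.mres_oneSec, GmPic.smul_oneSec] at hr
      exact hr.symm
    have h2 : r = 1 := Units.ext h1
    rw [h2, pgmOf_one, map_zero, map_zero, sub_zero]

end data

section main

variable {X X' : Scheme.{u}} {i : X ⟶ X'}

/-- opens of `X` around a point are refined by preimages of opens of `X'` -/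
lemma exists_preimage_le (hind : Topology.IsInducing i.base) (V : X.Opens) (x : X) (hx : x ∈ V) :
    ∃ U : X'.Opens, i.base x ∈ U ∧ i ⁻¹ᵁ U ≤ V := by
  obtain ⟨t, ht, hte⟩ := hind.isOpen_iff.1 V.2
  refine ⟨⟨t, ht⟩, ?_, ?_⟩
  · change x ∈ i.base ⁻¹' t
    rw [hte]
    exact hx
  · intro y hy
    have h1 : y ∈ i.base ⁻¹' t := hy
    rw [hte] at h1
    exact h1

/-- every invertible module has data -/
theorem exists_isPicDataP (hs : Function.Surjective i.base) (hind : Topology.IsInducing i.base)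
    (M : X.Modules) (hM : PicF.IsInvertible M) :
    ∃ q₀ U t τ, IsPicDataP i M q₀ U t τ := by
  have key : ∀ x' : X', ∃ (U : X'.Opens), x' ∈ U ∧ ∃ t : Γ(M, i ⁻¹ᵁ U), IsBasisOn M (i ⁻¹ᵁ U) t := by
    intro x'
    obtain ⟨x, rfl⟩ := hs x'
    obtain ⟨V, hxV, t, ht⟩ := exists_isBasisOn_of_isInvertible hM x
    obtain ⟨U, hxU, hUV⟩ := exists_preimage_le hind V x hxV
    exact ⟨U, hxU, mres M hUV t, ht.mono hUV⟩
  choose U hxU t ht using key
  have hU : iSup U = ⊤ := iSup_eq_top_of_mem hxU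
  choose r hr using fun a b : X' => GmPicGrp.exists_unit_smul
    ((ht a).mono (ple i (inf_le_left : U a ⊓ U b ≤ U a)))
    ((ht b).mono (ple i (inf_le_right : U a ⊓ U b ≤ U b)))
  have hcoc : ∀ (a b c : X') (ha : U a ⊓ U b ⊓ U c ≤ U a ⊓ U c) (hb : U a ⊓ U b ⊓ U c ≤ U a ⊓ U b)
      (hc : U a ⊓ U b ⊓ U c ≤ U b ⊓ U c),
      fres (ple i ha) (r a c : Γ(X, i ⁻¹ᵁ (U a ⊓ U c))) =
        fres (ple i hb) (r a b : Γ(X, i ⁻¹ᵁ (U a ⊓ U b))) *
        fres (ple i hc) (r b c : Γ(X, i ⁻¹ᵁ (U b ⊓ U c))) := by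
    intro a b c ha hb hc
    have hk := (ht c).mono (ple i (inf_le_right : U a ⊓ U b ⊓ U c ≤ U c))
    apply hk.eq_of_smul_eq
    have e1 := congrArg (mres M (ple i ha)) (hr a c)
    have e2 := congrArg (mres M (ple i hb)) (hr a b)
    have e3 := congrArg (mres M (ple i hc)) (hr b c)
    simp only [mres_smul, mres_mres] at e1 e2 e3
    rw [mul_smul, ← e3, ← e2, ← e1]
  obtain ⟨τ, hτ⟩ := cech1_of_injective (X := X'.toTopCat) U (I0 i)
    (fun a b => (ι0 i).hom.app _ (pgmOf i (U a ⊓ U b) (r a b))) (by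
    intro a b c ha hb hc
    rw [← res_naturality, ← res_naturality, ← res_naturality, ← map_add, res_pgmOf, res_pgmOf,
      res_pgmOf, ← pgmOf_mul]
    congr 2
    apply Units.ext
    exact hcoc a b c ha hb hc)
  obtain ⟨q₀, hq₀⟩ := glue_top (Q0 i) U hU (fun a => (π0 i).hom.app _ (τ a)) (by
    intro a b
    rw [← res_naturality, ← res_naturality, ← sub_eq_zero, ← map_sub, ← hτ a b, π0_ι0])
  refine ⟨q₀, U, t, τ, hxU, ht, fun x => (hq₀ x).symm, ?_⟩
  intro a b r' hr'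
  have : r' = r a b := by
    apply Units.ext
    apply ((ht b).mono (ple i (inf_le_right : U a ⊓ U b ≤ U b))).eq_of_smul_eq
    rw [← hr', ← hr a b]
  rw [this]
  exact hτ a b

/-- additivity of the class with respect to the tensor product -/
theorem delta_add {L L' L'' : X.Modules} (e : CohB1.tensorMod L L' ≅ L'')
    {q q' q'' : (Q0 i).obj.obj (op (⊤ : X'.Opens))} {W : X' → X'.Opens}
    {t : ∀ x, Γ(L, i ⁻¹ᵁ W x)} {t' : ∀ x, Γ(L', i ⁻¹ᵁ W x)} {t'' : ∀ x, Γ(L'', i ⁻¹ᵁ W x)}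
    {τ τ' τ'' : ∀ x, (I0 i).obj.obj (op (W x))}
    (h : IsPicDataP i L q W t τ) (h' : IsPicDataP i L' q' W t' τ')
    (h'' : IsPicDataP i L'' q'' W t'' τ'') :
    δ0 i q'' = δ0 i q + δ0 i q' := by
  have hW : iSup W = ⊤ := iSup_eq_top_of_mem h.mem
  -- the tensor basis transported to `L''`
  let s : ∀ x, Γ(L'', i ⁻¹ᵁ W x) := fun x =>
    e.hom.app (i ⁻¹ᵁ W x) (tm L L' (i ⁻¹ᵁ W x) (t x) (t' x))
  have hs : ∀ x, IsBasisOn L'' (i ⁻¹ᵁ W x) (s x) := fun x =>
    GmPicGrp.IsBasisOn.map_iso e (isBasisOn_tm (h.basis x) (h'.basis x))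
  choose w hw using fun x => GmPicGrp.exists_unit_smul (hs x) (h''.basis x)
  let σ : ∀ x, (I0 i).obj.obj (op (W x)) := fun x =>
    τ'' x - τ x - τ' x + (ι0 i).hom.app _ (pgmOf i (W x) (w x))
  have hglue : ∀ a b : X', res (I0 i).obj (inf_le_left : W a ⊓ W b ≤ W a) (σ a) =
      res (I0 i).obj (inf_le_right : W a ⊓ W b ≤ W b) (σ b) := by
    intro a b
    have la : i ⁻¹ᵁ (W a ⊓ W b) ≤ i ⁻¹ᵁ W a := ple i inf_le_left
    have lb : i ⁻¹ᵁ (W a ⊓ W b) ≤ i ⁻¹ᵁ W b := ple i inf_le_right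
    obtain ⟨r, hr⟩ := GmPicGrp.exists_unit_smul ((h.basis a).mono la) ((h.basis b).mono lb)
    obtain ⟨r', hr'⟩ := GmPicGrp.exists_unit_smul ((h'.basis a).mono la) ((h'.basis b).mono lb)
    obtain ⟨r'', hr''⟩ := GmPicGrp.exists_unit_smul ((h''.basis a).mono la) ((h''.basis b).mono lb)
    have e1 := h.trans a b r hr
    have e2 := h'.trans a b r' hr'
    have e3 := h''.trans a b r'' hr''
    -- the unit identity
    have hunit : Units.map (fres la).toMonoidHom (w a) * r'' =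
        r * r' * Units.map (fres lb).toMonoidHom (w b) := by
      apply Units.ext
      apply ((h''.basis b).mono lb).eq_of_smul_eq
      have a1 : mres L'' la (s a) =
          (fres la (w a) * (r'' : Γ(X, i ⁻¹ᵁ (W a ⊓ W b)))) • mres L'' lb (t'' b) := by
        rw [hw a, mres_smul, hr'', mul_smul]
      have a2 : mres L'' la (s a) =
          ((r : Γ(X, i ⁻¹ᵁ (W a ⊓ W b))) * (r' : Γ(X, i ⁻¹ᵁ (W a ⊓ W b))) * fres lb (w b)) •
            mres L'' lb (t'' b) := by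
        have b1 : mres L'' la (s a) =
            e.hom.app _ (tm L L' _ (mres L la (t a)) (mres L' la (t' a))) := by
          change mres L'' _ (e.hom.app (i ⁻¹ᵁ W a) _) = _
          rw [← GmPicGrp.app_mres, tm_res]
        have b2 : mres L'' lb (s b) =
            e.hom.app _ (tm L L' _ (mres L lb (t b)) (mres L' lb (t' b))) := by
          change mres L'' _ (e.hom.app (i ⁻¹ᵁ W b) _) = _
          rw [← GmPicGrp.app_mres, tm_res]
        rw [b1, hr, hr', tm_smul_left, tm_smul_right, Scheme.Modules.Hom.app_smul,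
          Scheme.Modules.Hom.app_smul, ← b2, hw b, mres_smul, ← mul_smul, ← mul_smul]
      exact a1.symm.trans a2
    have hgm := congrArg (fun v => (ι0 i).hom.app _ (pgmOf i (W a ⊓ W b) v)) hunit
    simp only [pgmOf_mul, map_add] at hgm
    rw [← res_pgmOf i (inf_le_left : W a ⊓ W b ≤ W a), ← res_pgmOf i (inf_le_right : W a ⊓ W b ≤ W b),
      res_naturality, res_naturality, e1, e2, e3] at hgm
    change res (I0 i).obj _ (τ'' a - τ a - τ' a + (ι0 i).hom.app _ (pgmOf i (W a) (w a))) =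
      res (I0 i).obj _ (τ'' b - τ b - τ' b + (ι0 i).hom.app _ (pgmOf i (W b) (w b)))
    simp only [map_add, map_sub]
    have := hgm
    rw [← sub_eq_zero] at this ⊢
    rw [← this]
    abel
  obtain ⟨T, hT⟩ := glue_top (I0 i) W hW σ hglue
  have hπ : (π0 i).hom.app _ T = q'' - q - q' := by
    apply sep_top (Q0 i) W hW
    intro a
    rw [← res_naturality, hT a]
    change (π0 i).hom.app _ (τ'' a - τ a - τ' a + (ι0 i).hom.app _ (pgmOf i (W a) (w a))) = _
    rw [map_add, map_sub, map_sub, π0_ι0, add_zero, h.lift, h'.lift, h''.lift, map_sub, map_sub]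
  have h0 : δ0 i (q'' - q - q') = 0 := (δ0_eq_zero_iff i _).2 ⟨T, hπ⟩
  rw [map_sub, map_sub, sub_sub, sub_eq_zero] at h0
  exact h0

end main

section bij

variable {X X' : Scheme.{u}} {i : X ⟶ X'}

/-- a module of class zero is trivial -/
theorem nonempty_iso_of_delta_eq_zero {M : X.Modules} {q₀ : (Q0 i).obj.obj (op (⊤ : X'.Opens))}
    {U : X' → X'.Opens} {t : ∀ x, Γ(M, i ⁻¹ᵁ U x)} {τ : ∀ x, (I0 i).obj.obj (op (U x))}
    (h : IsPicDataP i M q₀ U t τ) (h0 : δ0 i q₀ = 0) : Nonempty (M ≅ Coh.structureModule X) := by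
  have hU : (⨆ x, i ⁻¹ᵁ U x) = ⊤ := iSup_preimage_eq_top i h.mem
  obtain ⟨T, hT⟩ := (δ0_eq_zero_iff i q₀).1 h0
  choose r hr using fun a b : X' => GmPicGrp.exists_unit_smul
    ((h.basis a).mono (ple i (inf_le_left : U a ⊓ U b ≤ U a)))
    ((h.basis b).mono (ple i (inf_le_right : U a ⊓ U b ≤ U b)))
  have hv : ∀ a : X', ∃ v : (G i).obj.obj (op (U a)),
      (ι0 i).hom.app _ v = τ a - res (I0 i).obj (le_top : U a ≤ ⊤) T := by
    intro a
    apply exact0
    rw [map_sub, res_naturality, hT, h.lift a, sub_self]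
  choose v hv using hv
  have hvv : ∀ a b : X', res (G i).obj (inf_le_left : U a ⊓ U b ≤ U a) (v a) =
      res (G i).obj (inf_le_right : U a ⊓ U b ≤ U b) (v b) + pgmOf i (U a ⊓ U b) (r a b) := by
    intro a b
    apply ι0_inj
    rw [map_add, res_naturality, res_naturality, hv, hv, h.trans a b (r a b) (hr a b), map_sub,
      map_sub, res_res, res_res]
    abel
  refine (Groth.Agent.S10964.result X (fun a : X' => i ⁻¹ᵁ U a) hU M (Coh.structureModule X) t
    (fun a => GmPic.oneSec (i ⁻¹ᵁ U a)) (fun a V hV => h.basis a V hV)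
    (fun a V hV => GmPic.isBasisOn_oneSec (i ⁻¹ᵁ U a) V hV)
    (fun a b => (r a b : Γ(X, i ⁻¹ᵁ (U a ⊓ U b)))) (fun _ _ => 1) hr (by
      intro a b
      rw [one_smul]
      exact (GmPic.mres_oneSec _).trans (GmPic.mres_oneSec _).symm)).2
        ⟨fun a => punitOf i (U a) (v a), ?_⟩
  intro a b
  rw [one_mul]
  have := congrArg (fun s => (punitOf i _ s : Γ(X, i ⁻¹ᵁ (U a ⊓ U b)))) (hvv a b)
  simp only [punitOf_add, punitOf_res, punitOf_pgmOf] at this
  exact this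

/-- every class comes from an invertible module -/
theorem exists_isPicDataP_of_section (q₀ : (Q0 i).obj.obj (op (⊤ : X'.Opens))) :
    ∃ (M : X.Modules) (_ : PicF.IsInvertible M) (U : X' → X'.Opens) (t : ∀ x, Γ(M, i ⁻¹ᵁ U x))
      (τ : ∀ x, (I0 i).obj.obj (op (U x))), IsPicDataP i M q₀ U t τ := by
  haveI : Epi (π0 i) := (hS0 i).epi_g
  have key : ∀ x : X', ∃ (V : X'.Opens), x ∈ V ∧ ∃ t : (I0 i).obj.obj (op V),
      (π0 i).hom.app (op V) t = res (Q0 i).obj (le_top : V ≤ ⊤) q₀ :=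
    fun x => exists_open_lift_of_epi (X := X'.toTopCat) (π0 i) q₀ x
  choose U hxU τ hτ using key
  have hU : (⨆ x, i ⁻¹ᵁ U x) = ⊤ := iSup_preimage_eq_top i hxU
  have hd : ∀ a b : X', ∃ h : (G i).obj.obj (op (U a ⊓ U b)),
      (ι0 i).hom.app _ h = res (I0 i).obj (inf_le_left : U a ⊓ U b ≤ U a) (τ a) -
        res (I0 i).obj (inf_le_right : U a ⊓ U b ≤ U b) (τ b) := by
    intro a b
    apply exact0
    rw [map_sub, res_naturality, res_naturality, hτ a, hτ b, res_res, res_res, sub_self]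
  choose h hh using hd
  let η : ∀ a b : X', (Γ(X, i ⁻¹ᵁ U a ⊓ i ⁻¹ᵁ U b))ˣ := fun a b => punitOf i _ (h a b)
  have hcoc : ∀ (a b c : X') (ha : U a ⊓ U b ⊓ U c ≤ U a ⊓ U c) (hb : U a ⊓ U b ⊓ U c ≤ U a ⊓ U b)
      (hc : U a ⊓ U b ⊓ U c ≤ U b ⊓ U c),
      res (G i).obj ha (h a c) = res (G i).obj hb (h a b) + res (G i).obj hc (h b c) := by
    intro a b c ha hb hc
    apply ι0_inj
    rw [map_add, res_naturality, res_naturality, res_naturality, hh, hh, hh, map_sub, map_sub,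
      map_sub, res_res, res_res, res_res, res_res, res_res, res_res]
    abel
  obtain ⟨M, s, hM, hs, hsη⟩ := Groth.Agent.S10963.result X (fun a : X' => i ⁻¹ᵁ U a) hU η (by
    intro a b c
    have := congrArg (fun t => (punitOf i _ t : Γ(X, i ⁻¹ᵁ (U a ⊓ U b ⊓ U c)))) (hcoc a b c
      (inf_le_inf_right (U c) inf_le_left) inf_le_left (inf_le_inf_right (U c) inf_le_right))
    simp only [punitOf_add, punitOf_res] at this
    exact this)
  refine ⟨M, hM, U, s, τ, hxU, fun x V hV => hs x V hV, hτ, ?_⟩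
  intro a b r hr
  have hbj : IsBasisOn M (i ⁻¹ᵁ U b) (s b) := fun V hV => hs b V hV
  have : r = η a b := by
    apply Units.ext
    apply (hbj.mono (ple i (inf_le_right : U a ⊓ U b ≤ U b))).eq_of_smul_eq
    rw [← hr]
    exact hsη a b
  rw [this]
  exact hh a b

end bij

section assemble

variable {X X' : Scheme.{u}} (i : X ⟶ X')

/-- the class relation between invertible classes on `X` and classes in `H¹(X', i_* O_X^×)` -/
def Rel (a : PicLoc.PicSet X) (c : CohTop.H (G i) 1) : Prop :=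
  ∃ (M : X.Modules) (hM : PicF.IsInvertible M) (q₀ : (Q0 i).obj.obj (op (⊤ : X'.Opens)))
    (U : X' → X'.Opens) (t : ∀ x, Γ(M, i ⁻¹ᵁ U x)) (τ : ∀ x, (I0 i).obj.obj (op (U x))),
    a = PicGrp.cls M hM ∧ IsPicDataP i M q₀ U t τ ∧ δ0 i q₀ = c

variable (hs : Function.Surjective i.base) (hind : Topology.IsInducing i.base)

include hs hind in
lemma rel_exists (a : PicLoc.PicSet X) : ∃ c, Rel i a c := by
  obtain ⟨M, hM, rfl⟩ := PicGrp.exists_eq_cls a
  obtain ⟨q₀, U, t, τ, h⟩ := exists_isPicDataP hs hind M hM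
  exact ⟨_, M, hM, q₀, U, t, τ, rfl, h, rfl⟩

variable [PicGrp.Law X]

lemma rel_mul {a b : PicLoc.PicSet X} {c c' c'' : CohTop.H (G i) 1}
    (h : Rel i a c) (h' : Rel i b c') (h'' : Rel i (a * b) c'') : c'' = c + c' := by
  obtain ⟨L, hL, q, U, t, τ, rfl, hd, rfl⟩ := h
  obtain ⟨L', hL', q', U', t', τ', rfl, hd', rfl⟩ := h'
  obtain ⟨L'', hL'', q'', U'', t'', τ'', hab, hd'', rfl⟩ := h''
  have h1 : PicF.cl (CohB1.tensorMod L L') = PicF.cl L'' := by
    rw [← PicGrp.cls_mul_cls_val hL hL', hab]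
    rfl
  obtain ⟨e⟩ := (PicGrp.cl_eq_cl_iff _ _).1 h1
  let W : X' → X'.Opens := fun x => U x ⊓ U' x ⊓ U'' x
  have hW : ∀ x, x ∈ W x := fun x => ⟨⟨hd.mem x, hd'.mem x⟩, hd''.mem x⟩
  exact delta_add e (hd.restrict W hW (fun x => inf_le_left.trans inf_le_left))
    (hd'.restrict W hW (fun x => inf_le_left.trans inf_le_right))
    (hd''.restrict W hW (fun x => inf_le_right))

lemma rel_one : Rel i 1 0 :=
  ⟨Coh.structureModule X, PicLoc.isInvertible_structureModule X, 0, fun _ => ⊤,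
    fun _ => GmPic.oneSec (i ⁻¹ᵁ ⊤),
    fun _ => 0, PicGrp.cls_structureModule_eq_one.symm, isPicDataP_unit i, map_zero _⟩

lemma rel_unique {a : PicLoc.PicSet X} {c c' : CohTop.H (G i) 1}
    (h : Rel i a c) (h' : Rel i a c') : c' = c := by
  have := rel_mul i h (rel_one i) (by rwa [mul_one])
  rwa [add_zero] at this

/-- the class map -/
noncomputable def Ψ (a : PicLoc.PicSet X) : CohTop.H (G i) 1 := (rel_exists i hs hind a).choose

lemma rel_Ψ (a : PicLoc.PicSet X) : Rel i a (Ψ i hs hind a) := (rel_exists i hs hind a).choose_spec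

/-- the class map as a homomorphism -/
noncomputable def Ψhom : Additive (PicLoc.PicSet X) →+ CohTop.H (G i) 1 :=
  AddMonoidHom.mk' (fun a => Ψ i hs hind a.toMul) (fun a b => by
    change Ψ i hs hind (a.toMul * b.toMul) = _
    exact rel_mul i (rel_Ψ i hs hind _) (rel_Ψ i hs hind _) (rel_Ψ i hs hind _))

lemma Ψhom_apply (a : Additive (PicLoc.PicSet X)) : Ψhom i hs hind a = Ψ i hs hind a.toMul := rfl

lemma Ψ_eq_of_rel {a : PicLoc.PicSet X} {c : CohTop.H (G i) 1} (h : Rel i a c) :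
    Ψ i hs hind a = c := rel_unique i h (rel_Ψ i hs hind a)

lemma Ψhom_injective : Function.Injective (Ψhom i hs hind) := by
  rw [injective_iff_map_eq_zero]
  intro a ha
  have hr : Rel i a.toMul 0 := by
    have := rel_Ψ i hs hind a.toMul
    have ha' : Ψ i hs hind a.toMul = 0 := ha
    rwa [ha'] at this
  obtain ⟨L, hL, q₀, U, t, τ, hcl, hd, hδ⟩ := hr
  have h1 : PicGrp.cls L hL = 1 := (PicGrp.cls_eq_one_iff hL).2
    (nonempty_iso_of_delta_eq_zero hd hδ)
  have h2 : a.toMul = 1 := hcl.trans h1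
  exact h2

lemma Ψhom_surjective : Function.Surjective (Ψhom i hs hind) := by
  intro c
  obtain ⟨q₀, rfl⟩ := δ0_surjective i c
  obtain ⟨L, hL, U, t, τ, hd⟩ := exists_isPicDataP_of_section (i := i) q₀
  refine ⟨Additive.ofMul (PicGrp.cls L hL), ?_⟩
  have hr : Rel i (PicGrp.cls L hL) (δ0 i q₀) := ⟨L, hL, q₀, U, t, τ, rfl, hd, rfl⟩
  exact rel_unique i hr (rel_Ψ i hs hind _)

end assemble

end Groth.Agent.Lib.Helper44.ZarPicPush
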