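import Groth.Agent.Lib.Helper44.ZarPicGrp2
import Groth.Agent.Lib.Helper44.ZarPicPush
import Groth.Agent.Lib.Helper11.PullbackBasis

/-!
# Compatibility of the class maps with pullback of invertible modules

For `i : X ⟶ X'` (a homeomorphism on spaces) the square
`Pic X' → Pic X`, `H¹(X', O_{X'}^×) → H¹(X', i_* O_X^×)` commutes.
-/

set_option autoImplicit false
open CategoryTheory CategoryTheory.Limits AlgebraicGeometry Opposite Abelian
universe u

namespace Groth.Agent.Lib.Helper44.PicPushCompat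

open Groth.Agent.Lib.Helper45 Groth.Agent.Lib.Helper49 Groth.Agent.Lib.Lead
  Groth.Agent.Lib.Helper44.ZarSheafBasics Groth.Agent.Lib.Helper11.PullbackBasis

variable {X X' : Scheme.{u}} (i : X ⟶ X')

instance : Mono (ZarPicGrp.ι0 X') := (ZarPicGrp.hS0 X').mono_f

/-- the extension of the units map to the injective hulls -/
noncomputable def a : ZarPicGrp.I0 X' ⟶ ZarPicPush.I0 i :=
  Injective.factorThru (UnitsSh.comap i ≫ ZarPicPush.ι0 i) (ZarPicGrp.ι0 X')

lemma ι0_a : ZarPicGrp.ι0 X' ≫ a i = UnitsSh.comap i ≫ ZarPicPush.ι0 i :=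
  Injective.comp_factorThru _ _

/-- the induced map on quotients -/
noncomputable def b : ZarPicGrp.Q0 X' ⟶ ZarPicPush.Q0 i :=
  cokernel.desc (ZarPicGrp.ι0 X') (a i ≫ ZarPicPush.π0 i) (by
    rw [← Category.assoc, ι0_a, Category.assoc, ZarPicPush.w0, comp_zero])

lemma π0_b : ZarPicGrp.π0 X' ≫ b i = a i ≫ ZarPicPush.π0 i :=
  cokernel.π_desc _ _ _

/-- the morphism of short exact sequences -/
noncomputable def sesHom :
    ShortComplex.mk (ZarPicGrp.ι0 X') (ZarPicGrp.π0 X') (ZarPicGrp.w0 X') ⟶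
      ShortComplex.mk (ZarPicPush.ι0 i) (ZarPicPush.π0 i) (ZarPicPush.w0 i) where
  τ₁ := UnitsSh.comap i
  τ₂ := a i
  τ₃ := b i
  comm₁₂ := (ι0_a i).symm
  comm₂₃ := (π0_b i).symm

/-- the map on `H¹` induced by the units map, on boundary classes -/
theorem Hmap_δ0 (q : (ZarPicGrp.Q0 X').obj.obj (op (⊤ : X'.Opens))) :
    Sheaf.H.map (UnitsSh.comap i) 1 (ZarPicGrp.δ0 X' q) =
      ZarPicPush.δ0 i ((b i).hom.app (op ⊤) q) := by
  rw [Sheaf.H.map_apply, ZarPicGrp.δ0_apply, ZarPicPush.δ0_apply]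
  have hnat := ShortComplex.ShortExact.extClass_naturality (ZarPicGrp.hS0 X') (ZarPicPush.hS0 i)
    (sesHom i)
  have hq : (γ (ZarPicPush.Q0 i)).symm ((b i).hom.app (op ⊤) q) =
      (γ (ZarPicGrp.Q0 X')).symm q ≫ b i := by
    apply (γ (ZarPicPush.Q0 i)).injective
    rw [γ_naturality, AddEquiv.apply_symm_apply, AddEquiv.apply_symm_apply]
  rw [hq, ← Ext.mk₀_comp_mk₀_assoc]
  change _ = (Ext.mk₀ _).comp ((Ext.mk₀ (sesHom i).τ₃).comp _ _) _
  rw [← hnat, Ext.comp_assoc_of_third_deg_zero]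
  rfl

lemma a_ι0_apply (V : X'.Opens) (g : (UnitsSh.unitsAb X').obj.obj (op V)) :
    (a i).hom.app (op V) ((ZarPicGrp.ι0 X').hom.app (op V) g) =
      (ZarPicPush.ι0 i).hom.app (op V) ((UnitsSh.comap i).hom.app (op V) g) := by
  have h := ι0_a i
  have h' := congrArg (fun φ => φ.hom.app (op V)) h
  exact ConcreteCategory.congr_hom h' g

lemma b_π0_apply (V : X'.Opens) (s : (ZarPicGrp.I0 X').obj.obj (op V)) :
    (b i).hom.app (op V) ((ZarPicGrp.π0 X').hom.app (op V) s) =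
      (ZarPicPush.π0 i).hom.app (op V) ((a i).hom.app (op V) s) := by
  have h := π0_b i
  have h' := congrArg (fun φ => φ.hom.app (op V)) h
  exact ConcreteCategory.congr_hom h' s

lemma comap_zgmOf (V : X'.Opens) (r : (Γ(X', V))ˣ) :
    (UnitsSh.comap i).hom.app (op V) (ZarPicGrp.zgmOf V r) =
      ZarPicPush.pgmOf i V (Units.map (i.app V).hom.toMonoidHom r) := rfl

/-- data for `L` on `X'` gives data for `i^* L` -/
theorem isPicDataP_pullback {L : X'.Modules} {q : (ZarPicGrp.Q0 X').obj.obj (op (⊤ : X'.Opens))}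
    {U : X' → X'.Opens} {t : ∀ x, Γ(L, U x)} {τ : ∀ x, (ZarPicGrp.I0 X').obj.obj (op (U x))}
    (h : ZarPicGrp.IsPicData L q U t τ) :
    ZarPicPush.IsPicDataP i ((Scheme.Modules.pullback i).obj L) ((b i).hom.app (op ⊤) q) U
      (fun x => pullS i L (U x) (t x)) (fun x => (a i).hom.app (op (U x)) (τ x)) where
  mem := h.mem
  basis x := isBasisOn_pullS i (U x) L (t x) (h.basis x)
  lift x := by
    rw [← b_π0_apply, h.lift x, res_naturality]
  trans x y s hs := by
    obtain ⟨r, hr⟩ := GmPicGrp.exists_unit_smul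
      ((h.basis x).mono (inf_le_left : U x ⊓ U y ≤ U x))
      ((h.basis y).mono (inf_le_right : U x ⊓ U y ≤ U y))
    have e1 := h.trans x y r hr
    have hsr : s = Units.map (i.app (U x ⊓ U y)).hom.toMonoidHom r := by
      apply Units.ext
      apply ((isBasisOn_pullS i (U y) L (t y) (h.basis y)).mono
        (ZarPicPush.ple i (inf_le_right : U x ⊓ U y ≤ U y))).eq_of_smul_eq
      rw [← hs, pullS_res L (inf_le_left : U x ⊓ U y ≤ U x) (t x),
        pullS_res L (inf_le_right : U x ⊓ U y ≤ U y) (t y), hr, pullS_smul]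
      rfl
    rw [hsr, ← comap_zgmOf, ← a_ι0_apply, e1, map_sub, res_naturality, res_naturality]

variable (hs : Function.Surjective i.base) (hind : Topology.IsInducing i.base)
  [PicGrp.Law X] [PicGrp.Law X']

/-- **compatibility of the class maps with pullback** -/
theorem Ψ_pullHom (hi : PicGrp.PullMul i) (c : PicLoc.PicSet X') :
    ZarPicPush.Ψ i hs hind (PicGrp.pullHom i hi c) =
      Sheaf.H.map (UnitsSh.comap i) 1 (ZarPicGrp.Φ X' c) := by
  obtain ⟨L, hL, q, U, t, τ, rfl, hd, hδ⟩ := ZarPicGrp.rel_Φ X' c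
  rw [← hδ, Hmap_δ0, PicGrp.pullHom_cls]
  exact ZarPicPush.Ψ_eq_of_rel i hs hind ⟨_, _, _, U, _, _, rfl, isPicDataP_pullback i hd, rfl⟩

end Groth.Agent.Lib.Helper44.PicPushCompat
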