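import Groth.Agent.Lib.Helper44.ZarPicUniq
import Groth.Agent.Lib.Helper44.PicPushCompat
import Groth.Agent.Lib.Helper11.TensorBasis

/-!
# Law-free classes of invertible modules in `H¹(X, O^×)` and `H¹(X', i_* O_X^×)`
-/

set_option autoImplicit false
open CategoryTheory CategoryTheory.Limits AlgebraicGeometry Opposite Abelian
universe u

namespace Groth.Agent.Lib.Helper44.PicClass

open Groth.Agent.Lib.Helper45 Groth.Agent.Lib.Helper49 Groth.Agent.Lib.Lead
  Groth.Agent.Lib.Helper44.ZarSheafBasics Groth.Agent.Lib.Helper11.GenLocus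

section Zar

variable {X : Scheme.{u}}

/-- `c` is the class of `L` in `H¹(X, O_X^×)` -/
def HasClass (L : X.Modules) (c : Sheaf.H (UnitsSh.unitsAb X) 1) : Prop :=
  ∃ (q₀ : (ZarPicGrp.Q0 X).obj.obj (op (⊤ : X.Opens))) (U : X → X.Opens) (t : ∀ x, Γ(L, U x))
    (τ : ∀ x, (ZarPicGrp.I0 X).obj.obj (op (U x))),
    ZarPicGrp.IsPicData L q₀ U t τ ∧ ZarPicGrp.δ0 X q₀ = c

theorem exists_hasClass {L : X.Modules} (hL : PicF.IsInvertible L) : ∃ c, HasClass L c := by
  obtain ⟨q₀, U, t, τ, h⟩ := ZarPicGrp.exists_isPicData L hL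
  exact ⟨_, q₀, U, t, τ, h, rfl⟩

theorem hasClass_unit : HasClass (Coh.structureModule X) 0 :=
  ⟨0, _, _, _, ZarPicGrp.isPicData_unit, map_zero _⟩

theorem HasClass.tensor {L L' L'' : X.Modules} (e : CohB1.tensorMod L L' ≅ L'')
    {c c' c'' : Sheaf.H (UnitsSh.unitsAb X) 1}
    (h : HasClass L c) (h' : HasClass L' c') (h'' : HasClass L'' c'') : c'' = c + c' := by
  obtain ⟨q, U, t, τ, hd, rfl⟩ := h
  obtain ⟨q', U', t', τ', hd', rfl⟩ := h'
  obtain ⟨q'', U'', t'', τ'', hd'', rfl⟩ := h''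
  let W : X → X.Opens := fun x => U x ⊓ U' x ⊓ U'' x
  have hW : ∀ x, x ∈ W x := fun x => ⟨⟨hd.mem x, hd'.mem x⟩, hd''.mem x⟩
  exact ZarPicGrp.delta_add e (hd.restrict W hW (fun x => inf_le_left.trans inf_le_left))
    (hd'.restrict W hW (fun x => inf_le_left.trans inf_le_right))
    (hd''.restrict W hW (fun x => inf_le_right))

theorem HasClass.eq_of_iso {L L' : X.Modules} (e : L ≅ L')
    {c c' : Sheaf.H (UnitsSh.unitsAb X) 1} (h : HasClass L c) (h' : HasClass L' c') : c = c' := by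
  obtain ⟨q, U, t, τ, hd, rfl⟩ := h
  obtain ⟨q', U', t', τ', hd', rfl⟩ := h'
  let W : X → X.Opens := fun x => U x ⊓ U' x
  have hW : ∀ x, x ∈ W x := fun x => ⟨hd.mem x, hd'.mem x⟩
  exact ZarPicGrp.delta_eq_of_iso e (hd.restrict W hW (fun x => inf_le_left))
    (hd'.restrict W hW (fun x => inf_le_right))

theorem HasClass.iso {L L' : X.Modules} {c : Sheaf.H (UnitsSh.unitsAb X) 1}
    (h : HasClass L c) (h' : HasClass L' c) : Nonempty (L ≅ L') := by
  obtain ⟨q, U, t, τ, hd, hc⟩ := h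
  obtain ⟨q', U', t', τ', hd', hc'⟩ := h'
  let W : X → X.Opens := fun x => U x ⊓ U' x
  have hW : ∀ x, x ∈ W x := fun x => ⟨hd.mem x, hd'.mem x⟩
  exact ZarPicGrp.nonempty_iso_of_delta_eq (hd.restrict W hW (fun x => inf_le_left))
    (hd'.restrict W hW (fun x => inf_le_right)) (hc.trans hc'.symm)

theorem exists_of_class (c : Sheaf.H (UnitsSh.unitsAb X) 1) :
    ∃ L : X.Modules, PicF.IsInvertible L ∧ HasClass L c := by
  obtain ⟨q₀, rfl⟩ := ZarPicGrp.δ0_surjective X c
  obtain ⟨L, hL, U, t, τ, hd⟩ := ZarPicGrp.exists_isPicData_of_section q₀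
  exact ⟨L, hL, q₀, U, t, τ, hd, rfl⟩

theorem HasClass.tensorPow {L : X.Modules} (hL : PicF.IsInvertible L)
    {c : Sheaf.H (UnitsSh.unitsAb X) 1} (h : HasClass L c) (n : ℕ) :
    HasClass (CohB1.tensorPow L n) (n • c) := by
  induction n with
  | zero =>
    rw [zero_smul]
    exact hasClass_unit
  | succ k ih =>
    obtain ⟨c'', hc''⟩ := exists_hasClass (isInvertible_tensorPow hL (k + 1))
    have h1 : c'' = k • c + c :=
      HasClass.tensor (L := CohB1.tensorPow L k) (L' := L) (L'' := CohB1.tensorPow L (k + 1))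
        (Iso.refl _) ih h hc''
    rw [succ_nsmul, ← h1]
    exact hc''

end Zar

section Push

variable {X X' : Scheme.{u}} (i : X ⟶ X')

/-- `c` is the class of `M` in `H¹(X', i_* O_X^×)` -/
def HasClassP (M : X.Modules) (c : Sheaf.H (ZarPicPush.G i) 1) : Prop :=
  ∃ (q₀ : (ZarPicPush.Q0 i).obj.obj (op (⊤ : X'.Opens))) (U : X' → X'.Opens)
    (t : ∀ x, Γ(M, i ⁻¹ᵁ U x)) (τ : ∀ x, (ZarPicPush.I0 i).obj.obj (op (U x))),
    ZarPicPush.IsPicDataP i M q₀ U t τ ∧ ZarPicPush.δ0 i q₀ = c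

variable {i}

theorem exists_hasClassP (hs : Function.Surjective i.base) (hind : Topology.IsInducing i.base)
    {M : X.Modules} (hM : PicF.IsInvertible M) : ∃ c, HasClassP i M c := by
  obtain ⟨q₀, U, t, τ, h⟩ := ZarPicPush.exists_isPicDataP hs hind M hM
  exact ⟨_, q₀, U, t, τ, h, rfl⟩

theorem hasClassP_unit : HasClassP i (Coh.structureModule X) 0 :=
  ⟨0, _, _, _, ZarPicPush.isPicDataP_unit i, map_zero _⟩

theorem HasClassP.tensor {L L' L'' : X.Modules} (e : CohB1.tensorMod L L' ≅ L'')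
    {c c' c'' : Sheaf.H (ZarPicPush.G i) 1}
    (h : HasClassP i L c) (h' : HasClassP i L' c') (h'' : HasClassP i L'' c'') : c'' = c + c' := by
  obtain ⟨q, U, t, τ, hd, rfl⟩ := h
  obtain ⟨q', U', t', τ', hd', rfl⟩ := h'
  obtain ⟨q'', U'', t'', τ'', hd'', rfl⟩ := h''
  let W : X' → X'.Opens := fun x => U x ⊓ U' x ⊓ U'' x
  have hW : ∀ x, x ∈ W x := fun x => ⟨⟨hd.mem x, hd'.mem x⟩, hd''.mem x⟩
  exact ZarPicPush.delta_add e (hd.restrict W hW (fun x => inf_le_left.trans inf_le_left))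
    (hd'.restrict W hW (fun x => inf_le_left.trans inf_le_right))
    (hd''.restrict W hW (fun x => inf_le_right))

theorem HasClassP.eq_of_iso {L L' : X.Modules} (e : L ≅ L')
    {c c' : Sheaf.H (ZarPicPush.G i) 1} (h : HasClassP i L c) (h' : HasClassP i L' c') :
    c = c' := by
  obtain ⟨q, U, t, τ, hd, rfl⟩ := h
  obtain ⟨q', U', t', τ', hd', rfl⟩ := h'
  let W : X' → X'.Opens := fun x => U x ⊓ U' x
  have hW : ∀ x, x ∈ W x := fun x => ⟨hd.mem x, hd'.mem x⟩
  exact ZarPicPush.delta_eq_of_iso e (hd.restrict W hW (fun x => inf_le_left))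
    (hd'.restrict W hW (fun x => inf_le_right))

theorem HasClassP.iso {L L' : X.Modules} {c : Sheaf.H (ZarPicPush.G i) 1}
    (h : HasClassP i L c) (h' : HasClassP i L' c) : Nonempty (L ≅ L') := by
  obtain ⟨q, U, t, τ, hd, hc⟩ := h
  obtain ⟨q', U', t', τ', hd', hc'⟩ := h'
  let W : X' → X'.Opens := fun x => U x ⊓ U' x
  have hW : ∀ x, x ∈ W x := fun x => ⟨hd.mem x, hd'.mem x⟩
  exact ZarPicPush.nonempty_iso_of_delta_eq (hd.restrict W hW (fun x => inf_le_left))
    (hd'.restrict W hW (fun x => inf_le_right)) (hc.trans hc'.symm)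

theorem HasClassP.tensorPow (hs : Function.Surjective i.base) (hind : Topology.IsInducing i.base)
    {L : X.Modules} (hL : PicF.IsInvertible L)
    {c : Sheaf.H (ZarPicPush.G i) 1} (h : HasClassP i L c) (n : ℕ) :
    HasClassP i (CohB1.tensorPow L n) (n • c) := by
  induction n with
  | zero =>
    rw [zero_smul]
    exact hasClassP_unit
  | succ k ih =>
    obtain ⟨c'', hc''⟩ := exists_hasClassP hs hind (isInvertible_tensorPow hL (k + 1))
    have h1 : c'' = k • c + c :=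
      HasClassP.tensor (L := CohB1.tensorPow L k) (L' := L) (L'' := CohB1.tensorPow L (k + 1))
        (Iso.refl _) ih h hc''
    rw [succ_nsmul, ← h1]
    exact hc''

/-- the class of a pullback is the image of the class -/
theorem HasClass.pullback {L : X'.Modules} {c : Sheaf.H (UnitsSh.unitsAb X') 1}
    (h : HasClass L c) :
    HasClassP i ((Scheme.Modules.pullback i).obj L) (Sheaf.H.map (UnitsSh.comap i) 1 c) := by
  obtain ⟨q, U, t, τ, hd, rfl⟩ := h
  exact ⟨_, U, _, _, PicPushCompat.isPicDataP_pullback i hd, (PicPushCompat.Hmap_δ0 i q).symm⟩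

end Push

end Groth.Agent.Lib.Helper44.PicClass
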