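import Groth.Prelude.Def_CAlgX
import Groth.Prelude.Def_W4stkadequatePure
import Mathlib.Algebra.Module.CharacterModule
import Mathlib.LinearAlgebra.TensorProduct.RightExactness

set_option autoImplicit false
universe u
open TensorProduct

namespace Groth.Agent.Lib.Helper44

/-- `(ev_Q)^∨ ∘ ev_{Q^∨} = id`. -/
theorem dual_charEval_comp_charEval (R : Type u) [CommRing R] (Q : Type u) [AddCommGroup Q] [Module R Q] :
    (CharacterModule.dual (PureExt.charEval R Q)) ∘ₗ (PureExt.charEval R (CharacterModule Q)) = LinearMap.id := by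
  ext χ q
  rfl

/-- Character modules are pure injective. -/
theorem characterModule_pureInjective (R : Type u) [CommRing R] (M : Type u) [AddCommGroup M] [Module R M]
    {K L : Type u} [AddCommGroup K] [Module R K] [AddCommGroup L] [Module R L] (f : K →ₗ[R] L)
    (hf : CAlgX.UniversallyInjective R f) (φ : K →ₗ[R] CharacterModule M) :
    ∃ ψ : L →ₗ[R] CharacterModule M, ψ ∘ₗ f = φ := by
  have := (rTensor_injective_iff_lcomp_surjective (R := R) (B := M) (f := f)).mp (hf M)
  obtain ⟨ψ, hψ⟩ := this φ
  exact ⟨ψ, hψ⟩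

/-- Every map `M → Q^∨` extends along `ev_M : M → M^∨∨`. -/
theorem exists_extension_charEval (R : Type u) [CommRing R] (M Q : Type u) [AddCommGroup M] [Module R M]
    [AddCommGroup Q] [Module R Q] (φ : M →ₗ[R] CharacterModule Q) :
    ∃ ψ : CharacterModule (CharacterModule M) →ₗ[R] CharacterModule Q, ψ ∘ₗ PureExt.charEval R M = φ := by
  refine ⟨CharacterModule.dual (PureExt.charEval R Q) ∘ₗ
    CharacterModule.dual (CharacterModule.dual φ), ?_⟩
  ext m q
  rfl

theorem universallyInjective_charEval (R : Type u) [CommRing R] (M : Type u) [AddCommGroup M] [Module R M] :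
    CAlgX.UniversallyInjective R (PureExt.charEval R M) := by
  intro Q _ _
  rw [rTensor_injective_iff_lcomp_surjective]
  intro φ
  obtain ⟨ψ, hψ⟩ := exists_extension_charEval R M Q φ
  exact ⟨ψ, hψ⟩

end Groth.Agent.Lib.Helper44
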