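import Groth.Agent.Lib.Helper44.PureBasic
import Groth.Agent.Lib.Helper44.AugQuasiIso
import Mathlib.Algebra.Category.ModuleCat.Monoidal.Basic
import Mathlib.Algebra.Homology.ShortComplex.ModuleCat
import Mathlib.Algebra.Homology.Additive
import Mathlib.CategoryTheory.Monoidal.Preadditive
import Mathlib.Algebra.Category.ModuleCat.EpiMono

/-!
# Pure injective resolutions

The resolution `M → M^∨∨ → (coker)^∨∨ → …` by double character modules.
-/

set_option autoImplicit false
universe u

open CategoryTheory MonoidalCategory HomologicalComplex Limits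

namespace Groth.Agent.Lib.Helper44

variable {R : Type u} [CommRing R]

/-- The double character module. -/
noncomputable def dcm (M : ModuleCat.{u} R) : ModuleCat.{u} R :=
  ModuleCat.of R (CharacterModule (CharacterModule M))

/-- The evaluation map into the double character module. -/
noncomputable def dcmι (M : ModuleCat.{u} R) : M ⟶ dcm M :=
  ModuleCat.ofHom (PureExt.charEval R M)

/-- The cokernel of `f`, as an explicit quotient. -/
noncomputable def cokObj {X₀ X₁ : ModuleCat.{u} R} (f : X₀ ⟶ X₁) : ModuleCat.{u} R :=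
  ModuleCat.of R (X₁ ⧸ LinearMap.range f.hom)

/-- The projection onto the cokernel. -/
noncomputable def cokπ {X₀ X₁ : ModuleCat.{u} R} (f : X₀ ⟶ X₁) : X₁ ⟶ cokObj f :=
  ModuleCat.ofHom (LinearMap.range f.hom).mkQ

theorem comp_cokπ {X₀ X₁ : ModuleCat.{u} R} (f : X₀ ⟶ X₁) : f ≫ cokπ f = 0 := by
  ext x
  change (LinearMap.range f.hom).mkQ (f.hom x) = 0
  rw [Submodule.mkQ_apply, Submodule.Quotient.mk_eq_zero]
  exact LinearMap.mem_range_self _ x

/-- The next differential: `X₁ → coker f → (coker f)^∨∨`. -/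
noncomputable def pureInjD {X₀ X₁ : ModuleCat.{u} R} (f : X₀ ⟶ X₁) : X₁ ⟶ dcm (cokObj f) :=
  cokπ f ≫ dcmι (cokObj f)

theorem comp_pureInjD {X₀ X₁ : ModuleCat.{u} R} (f : X₀ ⟶ X₁) : f ≫ pureInjD f = 0 := by
  rw [pureInjD, ← Category.assoc, comp_cokπ, zero_comp]

theorem exact_comp_of_injective {M₁ M₂ M₃ M₄ : Type*} [AddCommGroup M₁] [Module R M₁]
    [AddCommGroup M₂] [Module R M₂] [AddCommGroup M₃] [Module R M₃] [AddCommGroup M₄] [Module R M₄]
    (f : M₁ →ₗ[R] M₂) (g : M₂ →ₗ[R] M₃) (i : M₃ →ₗ[R] M₄) (h : Function.Exact f g)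
    (hi : Function.Injective i) : Function.Exact f (i ∘ₗ g) := by
  intro y
  rw [LinearMap.comp_apply, ← h y]
  constructor
  · intro hy
    exact hi (hy.trans (map_zero _).symm)
  · intro hy
    rw [hy, map_zero]

theorem pureInjD_rTensor_exact {X₀ X₁ : ModuleCat.{u} R} (f : X₀ ⟶ X₁) (T : Type u)
    [AddCommGroup T] [Module R T] :
    Function.Exact (f.hom.rTensor T) ((pureInjD f).hom.rTensor T) := by
  have h1 : Function.Exact (f.hom.rTensor T) ((LinearMap.range f.hom).mkQ.rTensor T) :=
    rTensor_exact T (LinearMap.exact_map_mkQ_range f.hom) (Submodule.mkQ_surjective _)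
  have h2 : Function.Injective ((PureExt.charEval R (X₁ ⧸ LinearMap.range f.hom)).rTensor T) :=
    universallyInjective_charEval R _ T
  have h3 := exact_comp_of_injective _ _ _ h1 h2
  rw [← LinearMap.rTensor_comp] at h3
  exact h3

/-- The pure injective resolution as a cochain complex. -/
noncomputable def pureInjCocomplex (M : ModuleCat.{u} R) : CochainComplex (ModuleCat.{u} R) ℕ :=
  CochainComplex.mk' (dcm M) (dcm (cokObj (dcmι M))) (pureInjD (dcmι M))
    (fun f => ⟨_, pureInjD f, comp_pureInjD f⟩)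

set_option backward.isDefEq.respectTransparency.types false in
theorem pureInjCocomplex_d_0_1 (M : ModuleCat.{u} R) :
    (pureInjCocomplex M).d 0 1 = pureInjD (dcmι M) := by
  simp [pureInjCocomplex]

theorem pureInjCocomplex_pureInj (M : ModuleCat.{u} R) (n : ℕ) :
    ∀ ⦃K L : Type u⦄ [AddCommGroup K] [Module R K] [AddCommGroup L] [Module R L] (g : K →ₗ[R] L),
      CAlgX.UniversallyInjective R g → ∀ φ : K →ₗ[R] (pureInjCocomplex M).X n,
        ∃ ψ : L →ₗ[R] (pureInjCocomplex M).X n, ψ ∘ₗ g = φ := by
  intro K L _ _ _ _ g hg φ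
  obtain (_ | _ | _ | n) := n <;> exact characterModule_pureInjective R _ g hg φ

set_option backward.isDefEq.respectTransparency.types false in
theorem pureInjCocomplex_rTensor_exact_succ (M : ModuleCat.{u} R) (n : ℕ) (T : Type u)
    [AddCommGroup T] [Module R T] :
    Function.Exact (((pureInjCocomplex M).d n (n + 1)).hom.rTensor T)
      (((pureInjCocomplex M).d (n + 1) (n + 1 + 1)).hom.rTensor T) := by
  simp only [pureInjCocomplex, CochainComplex.mk', CochainComplex.mk, CochainComplex.of_d]
  match n with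
  | 0 => exact pureInjD_rTensor_exact ((CochainComplex.mkAux _ _ _
      (pureInjD (dcmι M)) (pureInjD (pureInjD (dcmι M))) _ _ 0).f) T
  | n + 1 => exact pureInjD_rTensor_exact ((CochainComplex.mkAux _ _ _
      (pureInjD (dcmι M)) (pureInjD (pureInjD (dcmι M))) _ _ (n + 1)).f) T

/-- The coaugmentation `M → I⁰`. -/
noncomputable def pureInjCoaug (M : ModuleCat.{u} R) :
    (CochainComplex.single₀ (ModuleCat.{u} R)).obj M ⟶ pureInjCocomplex M :=
  (CochainComplex.fromSingle₀Equiv _ _).symm ⟨dcmι M, by
    rw [pureInjCocomplex_d_0_1]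
    exact comp_pureInjD (dcmι M)⟩

theorem pureInjCoaug_f_0 (M : ModuleCat.{u} R) : (pureInjCoaug M).f 0 = dcmι M :=
  CochainComplex.fromSingle₀Equiv_symm_apply_f_zero _ _

theorem pureInjCoaug_quasiIso (M T : ModuleCat.{u} R) :
    QuasiIso (((tensorRight T).mapHomologicalComplex (ComplexShape.up ℕ)).map
      (pureInjCoaug M)) := by
  apply quasiIso_of_coaug
  · rw [ShortComplex.ShortExact.moduleCat_exact_iff_function_exact]
    change Function.Exact (((pureInjCoaug M).f 0).hom.rTensor T)
      (((pureInjCocomplex M).d 0 1).hom.rTensor T)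
    rw [pureInjCoaug_f_0, pureInjCocomplex_d_0_1]
    exact pureInjD_rTensor_exact (dcmι M) T
  · rw [ModuleCat.mono_iff_injective]
    change Function.Injective (((pureInjCoaug M).f 0).hom.rTensor T)
    rw [pureInjCoaug_f_0]
    exact universallyInjective_charEval R M T
  · intro n
    rw [HomologicalComplex.exactAt_iff' _ n (n + 1) (n + 1 + 1) (by simp) (by simp),
      ShortComplex.ShortExact.moduleCat_exact_iff_function_exact]
    exact pureInjCocomplex_rTensor_exact_succ M n T
  · intro n
    exact Functor.map_isZero (tensorRight T) (isZero_single_obj_X _ _ _ _ (by simp))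

end Groth.Agent.Lib.Helper44
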