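import Groth.Agent.Lib.Helper44.TensorAug
import Groth.Agent.Lib.Helper44.CompareAbstract
import Groth.Agent.S8773

/-!
# Comparison theorems for pure projective and pure injective resolutions
-/

set_option autoImplicit false
universe u

open CategoryTheory MonoidalCategory HomologicalComplex

namespace Groth.Agent.Lib.Helper44

variable {R : Type u} [CommRing R]

/-- The lifting property of pure projective modules. -/
def PureProjLift (R : Type u) [CommRing R] (X : Type u) [AddCommGroup X] [Module R X] : Prop :=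
  ∀ ⦃L T : Type u⦄ [AddCommGroup L] [Module R L] [AddCommGroup T] [Module R T] (g : L →ₗ[R] T),
    Function.Surjective g → CAlgX.UniversallyInjective R (LinearMap.ker g).subtype →
    ∀ φ : X →ₗ[R] T, ∃ ψ : X →ₗ[R] L, g ∘ₗ ψ = φ

/-- The extension property of pure injective modules. -/
def PureInjExt (R : Type u) [CommRing R] (Y : Type u) [AddCommGroup Y] [Module R Y] : Prop :=
  ∀ ⦃K L : Type u⦄ [AddCommGroup K] [Module R K] [AddCommGroup L] [Module R L] (g : K →ₗ[R] L),
    CAlgX.UniversallyInjective R g → ∀ φ : K →ₗ[R] Y, ∃ ψ : L →ₗ[R] Y, ψ ∘ₗ g = φ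

theorem universallyInjective_subtype_of_eq {M : Type u} [AddCommGroup M] [Module R M]
    {p q : Submodule R M} (h : p = q) (hp : CAlgX.UniversallyInjective R p.subtype) :
    CAlgX.UniversallyInjective R q.subtype := by
  subst h
  exact hp

theorem PureProjLift.exists_lift {X : Type u} [AddCommGroup X] [Module R X]
    (hX : PureProjLift R X) {M₄ M₃ M₂ M₁ M₀ : Type u}
    [AddCommGroup M₄] [Module R M₄] [AddCommGroup M₃] [Module R M₃] [AddCommGroup M₂] [Module R M₂]
    [AddCommGroup M₁] [Module R M₁] [AddCommGroup M₀] [Module R M₀]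
    (a' : M₄ →ₗ[R] M₃) (a : M₃ →ₗ[R] M₂) (b : M₂ →ₗ[R] M₁) (c : M₁ →ₗ[R] M₀)
    (h1 : ∀ (Q : Type u) [AddCommGroup Q] [Module R Q],
      Function.Exact (a'.rTensor Q) (a.rTensor Q))
    (h2 : Function.Exact a b) (h3 : Function.Exact b c) (k : X →ₗ[R] M₁)
    (hk : ∀ x, c (k x) = 0) : ∃ l : X →ₗ[R] M₂, ∀ x, b (l x) = k x := by
  let g : M₂ →ₗ[R] LinearMap.ker c :=
    b.codRestrict (LinearMap.ker c) (fun x => h3.apply_apply_eq_zero x)
  have hg : Function.Surjective g := by
    rintro ⟨y, hy⟩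
    obtain ⟨x, hx⟩ := (h3 y).mp hy
    exact ⟨x, Subtype.ext hx⟩
  have hker : LinearMap.range a = LinearMap.ker g := by
    have : LinearMap.ker g = LinearMap.ker b := LinearMap.ker_codRestrict _ _ _
    rw [this]
    exact ((LinearMap.exact_iff.mp h2)).symm
  have hui : CAlgX.UniversallyInjective R (LinearMap.ker g).subtype :=
    universallyInjective_subtype_of_eq hker (Groth.Agent.S8773.result R a' a h1)
  obtain ⟨ψ, hψ⟩ := hX g hg hui (k.codRestrict (LinearMap.ker c) hk)
  refine ⟨ψ, fun x => ?_⟩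
  have := LinearMap.congr_fun hψ x
  exact congrArg Subtype.val this

theorem PureInjExt.exists_ext {Y : Type u} [AddCommGroup Y] [Module R Y]
    (hY : PureInjExt R Y) {M₀ M₁ M₂ : Type u}
    [AddCommGroup M₀] [Module R M₀] [AddCommGroup M₁] [Module R M₁] [AddCommGroup M₂] [Module R M₂]
    (a : M₀ →ₗ[R] M₁) (b : M₁ →ₗ[R] M₂)
    (h1 : ∀ (Q : Type u) [AddCommGroup Q] [Module R Q],
      Function.Exact (a.rTensor Q) (b.rTensor Q))
    (k : M₁ →ₗ[R] Y) (hk : ∀ x, k (a x) = 0) : ∃ l : M₂ →ₗ[R] Y, ∀ x, l (b x) = k x := by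
  have hui : CAlgX.UniversallyInjective R (LinearMap.range b).subtype :=
    Groth.Agent.S8773.result R a b h1
  have hex : Function.Exact a b := exact_of_rTensor_exact a b (h1 R)
  have hle : LinearMap.ker b ≤ LinearMap.ker k := by
    intro x hx
    obtain ⟨z, rfl⟩ := (hex x).mp hx
    exact hk z
  let g' : LinearMap.range b →ₗ[R] Y :=
    (LinearMap.ker b).liftQ k hle ∘ₗ (b.quotKerEquivRange).symm.toLinearMap
  obtain ⟨ψ, hψ⟩ := hY (LinearMap.range b).subtype hui g'
  refine ⟨ψ, fun x => ?_⟩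
  have h2 := LinearMap.congr_fun hψ ⟨b x, LinearMap.mem_range_self b x⟩
  rw [LinearMap.comp_apply, Submodule.subtype_apply] at h2
  rw [h2]
  change (LinearMap.ker b).liftQ k hle ((b.quotKerEquivRange).symm ⟨b x, _⟩) = k x
  rw [LinearMap.quotKerEquivRange_symm_apply_image]
  rfl

theorem exact_zero_right_of_surjective {M₁ M₂ : Type u} [AddCommGroup M₁] [Module R M₁]
    [AddCommGroup M₂] [Module R M₂] (b : M₁ →ₗ[R] M₂) (hb : Function.Surjective b) :
    Function.Exact b (0 : M₂ →ₗ[R] M₂) := by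
  intro y
  exact ⟨fun _ => hb y, fun _ => rfl⟩

theorem exact_zero_left_of_injective {M₁ M₂ : Type u} [AddCommGroup M₁] [Module R M₁]
    [AddCommGroup M₂] [Module R M₂] (b : M₁ →ₗ[R] M₂) (hb : Function.Injective b) :
    Function.Exact (0 : M₁ →ₗ[R] M₁) b := by
  intro y
  constructor
  · intro hy
    exact ⟨0, (hb (hy.trans (map_zero b).symm)).symm⟩
  · rintro ⟨x, rfl⟩
    exact map_zero b

section Chain

variable {N : ModuleCat.{u} R} (P Q : ChainComplex (ModuleCat.{u} R) ℕ)
  (ε : Q ⟶ (ChainComplex.single₀ (ModuleCat.{u} R)).obj N)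

theorem chainLifting_of_pure (hP : ∀ n : ℕ, PureProjLift R (P.X n))
    (hε : ∀ T : ModuleCat.{u} R,
      QuasiIso (((tensorRight T).mapHomologicalComplex (ComplexShape.down ℕ)).map ε)) :
    ChainLifting P Q ε where
  h0 m k := by
    obtain ⟨l, hl⟩ := (hP m).exists_lift (Q.d 2 1).hom (Q.d 1 0).hom (ε.f 0).hom 0
      (fun T _ _ => chain_rTensor_exact_succ Q ε hε 0 T) (chain_exact_zero Q ε hε)
      (exact_zero_right_of_surjective _ (chain_aug_surjective Q ε hε)) k.hom (fun _ => rfl)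
    exact ⟨ModuleCat.ofHom l, ModuleCat.hom_ext (LinearMap.ext hl)⟩
  h1 m k hk := by
    obtain ⟨l, hl⟩ := (hP m).exists_lift (Q.d 3 2).hom (Q.d 2 1).hom (Q.d 1 0).hom (ε.f 0).hom
      (fun T _ _ => chain_rTensor_exact_succ Q ε hε 1 T) (chain_exact_succ Q ε hε 0)
      (chain_exact_zero Q ε hε) k.hom
      (fun x => LinearMap.congr_fun (congrArg ModuleCat.Hom.hom hk) x)
    exact ⟨ModuleCat.ofHom l, ModuleCat.hom_ext (LinearMap.ext hl)⟩
  hs m n k hk := by
    obtain ⟨l, hl⟩ := (hP m).exists_lift (Q.d (n + 4) (n + 3)).hom (Q.d (n + 3) (n + 2)).hom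
      (Q.d (n + 2) (n + 1)).hom (Q.d (n + 1) n).hom
      (fun T _ _ => chain_rTensor_exact_succ Q ε hε (n + 2) T) (chain_exact_succ Q ε hε (n + 1))
      (chain_exact_succ Q ε hε n) k.hom
      (fun x => LinearMap.congr_fun (congrArg ModuleCat.Hom.hom hk) x)
    exact ⟨ModuleCat.ofHom l, ModuleCat.hom_ext (LinearMap.ext hl)⟩

end Chain

section Cochain

variable {M : ModuleCat.{u} R} (M' I : CochainComplex (ModuleCat.{u} R) ℕ)
  (η : (CochainComplex.single₀ (ModuleCat.{u} R)).obj M ⟶ M')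

theorem cochainExtending_of_pure (hI : ∀ n : ℕ, PureInjExt R (I.X n))
    (hη : ∀ T : ModuleCat.{u} R,
      QuasiIso (((tensorRight T).mapHomologicalComplex (ComplexShape.up ℕ)).map η)) :
    CochainExtending M' I η where
  h0 m k := by
    obtain ⟨l, hl⟩ := (hI m).exists_ext (0 : _ →ₗ[R] _) (η.f 0).hom
      (fun T _ _ => by
        rw [LinearMap.rTensor_zero]
        exact exact_zero_left_of_injective _ (cochain_rTensor_injective_zero M' η hη T))
      k.hom (fun _ => map_zero _)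
    exact ⟨ModuleCat.ofHom l, ModuleCat.hom_ext (LinearMap.ext hl)⟩
  h1 m k hk := by
    obtain ⟨l, hl⟩ := (hI m).exists_ext (η.f 0).hom (M'.d 0 1).hom
      (fun T _ _ => cochain_rTensor_exact_zero M' η hη T) k.hom
      (fun x => LinearMap.congr_fun (congrArg ModuleCat.Hom.hom hk) x)
    exact ⟨ModuleCat.ofHom l, ModuleCat.hom_ext (LinearMap.ext hl)⟩
  hs m n k hk := by
    obtain ⟨l, hl⟩ := (hI m).exists_ext (M'.d n (n + 1)).hom (M'.d (n + 1) (n + 2)).hom
      (fun T _ _ => cochain_rTensor_exact_succ M' η hη n T) k.hom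
      (fun x => LinearMap.congr_fun (congrArg ModuleCat.Hom.hom hk) x)
    exact ⟨ModuleCat.ofHom l, ModuleCat.hom_ext (LinearMap.ext hl)⟩

end Cochain

end Groth.Agent.Lib.Helper44
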