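import Groth.Agent.S2057
import Groth.Agent.S6302
import Mathlib.Algebra.Module.FinitePresentation
import Mathlib.LinearAlgebra.DFinsupp

/-!
# Pure projective modules

Every module is the target of a surjection from a direct sum of finitely presented modules whose
kernel inclusion is universally injective, and direct summands of such direct sums are exactly the
pure projective modules.
-/

set_option autoImplicit false
universe u

namespace Groth.Agent.Lib.Helper44

open scoped BigOperators

/-- A finite system of linear relations together with a solution in `M`. -/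
structure PresIdx (R : Type u) [CommRing R] (M : Type u) [AddCommGroup M] [Module R M] :
    Type u where
  n : ℕ
  m : ℕ
  a : Fin n → Fin m → R
  v : Fin m → M
  hv : ∀ i, ∑ j, a i j • v j = 0

namespace PresIdx

variable {R : Type u} [CommRing R] {M : Type u} [AddCommGroup M] [Module R M]

/-- The submodule of relations. -/
def rel (p : PresIdx R M) : Submodule R (Fin p.m → R) := Submodule.span R (Set.range p.a)

/-- The finitely presented module with the given relations. -/
def Q (p : PresIdx R M) : Type u := (Fin p.m → R) ⧸ p.rel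

instance (p : PresIdx R M) : AddCommGroup p.Q :=
  inferInstanceAs (AddCommGroup ((Fin p.m → R) ⧸ p.rel))

instance (p : PresIdx R M) : Module R p.Q :=
  inferInstanceAs (Module R ((Fin p.m → R) ⧸ p.rel))

/-- The quotient map onto the finitely presented module. -/
def proj (p : PresIdx R M) : (Fin p.m → R) →ₗ[R] p.Q := p.rel.mkQ

theorem proj_surjective (p : PresIdx R M) : Function.Surjective p.proj := p.rel.mkQ_surjective

theorem ker_proj (p : PresIdx R M) : LinearMap.ker p.proj = p.rel := p.rel.ker_mkQ

instance (p : PresIdx R M) : Module.FinitePresentation R p.Q := by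
  refine Module.finitePresentation_of_surjective p.proj p.proj_surjective ?_
  rw [ker_proj]
  exact Submodule.fg_span (Set.finite_range p.a)

/-- The map from the finitely presented module to `M` given by the solution. -/
noncomputable def toM (p : PresIdx R M) : p.Q →ₗ[R] M :=
  show ((Fin p.m → R) ⧸ p.rel) →ₗ[R] M from p.rel.liftQ (Fintype.linearCombination R p.v) (by
    rw [rel, Submodule.span_le]
    rintro _ ⟨i, rfl⟩
    rw [SetLike.mem_coe, LinearMap.mem_ker, Fintype.linearCombination_apply]
    exact p.hv i)

theorem toM_mk (p : PresIdx R M) (c : Fin p.m → R) :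
    p.toM (p.proj c) = ∑ j, c j • p.v j := by
  change p.rel.liftQ (Fintype.linearCombination R p.v) _ (p.rel.mkQ c) = _
  rw [Submodule.mkQ_apply, Submodule.liftQ_apply, Fintype.linearCombination_apply]

/-- The `j`-th generator. -/
noncomputable def gen (p : PresIdx R M) (j : Fin p.m) : p.Q := p.proj (Pi.single j 1)

theorem toM_gen (p : PresIdx R M) (j : Fin p.m) : p.toM (p.gen j) = p.v j := by
  classical
  rw [gen, toM_mk, Finset.sum_eq_single j]
  · rw [Pi.single_eq_same, one_smul]
  · intro b _ hb
    rw [Pi.single_eq_of_ne hb, zero_smul]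
  · intro h
    exact absurd (Finset.mem_univ j) h

theorem sum_smul_gen (p : PresIdx R M) (i : Fin p.n) : ∑ j, p.a i j • p.gen j = 0 := by
  classical
  have h1 : ∑ j, p.a i j • p.gen j = p.proj (p.a i) := by
    simp only [gen, ← map_smul, ← map_sum]
    congr 1
    ext k
    simp [Finset.sum_apply, Pi.single_apply]
  rw [h1, ← LinearMap.mem_ker, ker_proj]
  exact Submodule.subset_span ⟨i, rfl⟩

end PresIdx

section

variable (R : Type u) [CommRing R] (M : Type u) [AddCommGroup M] [Module R M]

open Classical in
/-- The canonical map from the direct sum of all finite presentations over `M`. -/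
noncomputable def presSum : (Π₀ p : PresIdx R M, p.Q) →ₗ[R] M :=
  DFinsupp.lsum ℕ (fun p : PresIdx R M => p.toM)

open Classical in
theorem presSum_single (p : PresIdx R M) (q : p.Q) :
    presSum R M (DFinsupp.single p q) = p.toM q := by
  rw [presSum, DFinsupp.lsum_single]

theorem presSum_surjective : Function.Surjective (presSum R M) := by
  classical
  intro x
  let p : PresIdx R M := ⟨0, 1, fun i => i.elim0, fun _ => x, fun i => i.elim0⟩
  refine ⟨DFinsupp.single p (p.gen 0), ?_⟩
  rw [presSum_single, PresIdx.toM_gen]

theorem presSum_universallyInjective :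
    CAlgX.UniversallyInjective R (LinearMap.ker (presSum R M)).subtype := by
  classical
  rw [Groth.Agent.S2057.result _ (Submodule.injective_subtype _)]
  intro n m x y a h
  have hx : ∀ i, presSum R M (∑ j, a i j • y j) = 0 := by
    intro i
    rw [← h i]
    exact (x i).2
  let p : PresIdx R M := ⟨n, m, a, fun j => presSum R M (y j), fun i => by
    have := hx i
    rw [map_sum] at this
    simp_rw [map_smul] at this
    exact this⟩
  let w : Fin m → (Π₀ p : PresIdx R M, p.Q) := fun j => DFinsupp.single p (p.gen j)
  have hw : ∀ j, presSum R M (w j) = presSum R M (y j) := by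
    intro j
    rw [presSum_single, PresIdx.toM_gen]
  have hw2 : ∀ i, ∑ j, a i j • w j = 0 := by
    intro i
    have h1 : ∑ j, a i j • w j = DFinsupp.single p (∑ j, a i j • p.gen j) := by
      rw [← DFinsupp.singleAddHom_apply, map_sum]
      refine Finset.sum_congr rfl fun j _ => ?_
      rw [DFinsupp.singleAddHom_apply, DFinsupp.single_smul]
    rw [h1, p.sum_smul_gen i, DFinsupp.single_zero]
  refine ⟨fun j => ⟨y j - w j, ?_⟩, fun i => ?_⟩
  · rw [LinearMap.mem_ker, map_sub, hw j, sub_self]
  · apply Subtype.ext
    have h2 := h i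
    rw [Submodule.subtype_apply] at h2
    rw [h2]
    have h3 : (((∑ j, a i j • (⟨y j - w j, by
        rw [LinearMap.mem_ker, map_sub, hw j, sub_self]⟩ : LinearMap.ker (presSum R M)) :
          LinearMap.ker (presSum R M)) : Π₀ p : PresIdx R M, p.Q)) = ∑ j, a i j • (y j - w j) := by
      rw [Submodule.coe_sum]
      rfl
    rw [h3]
    simp_rw [smul_sub]
    rw [Finset.sum_sub_distrib, hw2 i, sub_zero]

end

section Lift

variable {R : Type u} [CommRing R] {L N : Type u} [AddCommGroup L] [Module R L]
  [AddCommGroup N] [Module R N]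

theorem universallyInjective_of_comp {M₁ M₂ M₃ : Type u} [AddCommGroup M₁] [Module R M₁]
    [AddCommGroup M₂] [Module R M₂] [AddCommGroup M₃] [Module R M₃] (f : M₁ →ₗ[R] M₂)
    (h : M₂ →ₗ[R] M₃) (hc : CAlgX.UniversallyInjective R (h ∘ₗ f)) :
    CAlgX.UniversallyInjective R f := by
  intro Q' _ _
  have h1 := hc Q'
  rw [LinearMap.rTensor_comp] at h1
  exact Function.Injective.of_comp h1

/-- Finitely presented modules are pure projective. -/
theorem exists_lift_of_finitePresentation {Q : Type u} [AddCommGroup Q] [Module R Q]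
    [Module.FinitePresentation R Q] (g : L →ₗ[R] N) (hg : Function.Surjective g)
    (hk : CAlgX.UniversallyInjective R (LinearMap.ker g).subtype) (φ : Q →ₗ[R] N) :
    ∃ ψ : Q →ₗ[R] L, g ∘ₗ ψ = φ := by
  let E : Submodule R (L × Q) := LinearMap.ker (g.coprod (-φ))
  have hE : ∀ e : E, g e.1.1 = φ e.1.2 := by
    intro e
    have := e.2
    rw [LinearMap.mem_ker, LinearMap.coprod_apply, LinearMap.neg_apply, ← sub_eq_add_neg,
      sub_eq_zero] at this
    exact this
  let f : LinearMap.ker g →ₗ[R] E :=
    LinearMap.codRestrict E (LinearMap.inl R L Q ∘ₗ (LinearMap.ker g).subtype) (by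
      intro k
      rw [LinearMap.mem_ker, LinearMap.coprod_apply, LinearMap.comp_apply, LinearMap.inl_apply,
        LinearMap.neg_apply, map_zero, neg_zero, add_zero]
      exact k.2)
  let g' : E →ₗ[R] Q := LinearMap.snd R L Q ∘ₗ E.subtype
  have hexact : Function.Exact f g' := by
    intro e
    constructor
    · intro he
      have he2 : e.1.2 = 0 := he
      have h1 : g e.1.1 = 0 := by rw [hE e, he2, map_zero]
      refine ⟨⟨e.1.1, h1⟩, ?_⟩
      apply Subtype.ext
      apply Prod.ext
      · rfl
      · exact he2.symm
    · rintro ⟨k, rfl⟩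
      rfl
  have hsurj : Function.Surjective g' := by
    intro q
    obtain ⟨l, hl⟩ := hg (φ q)
    refine ⟨⟨(l, q), ?_⟩, rfl⟩
    rw [LinearMap.mem_ker, LinearMap.coprod_apply, LinearMap.neg_apply, hl, add_neg_cancel]
  have hf : CAlgX.UniversallyInjective R f := by
    apply universallyInjective_of_comp f (LinearMap.fst R L Q ∘ₗ E.subtype)
    have : (LinearMap.fst R L Q ∘ₗ E.subtype) ∘ₗ f = (LinearMap.ker g).subtype := by
      ext k
      rfl
    rw [this]
    exact hk
  obtain ⟨s, hs⟩ := Groth.Agent.S6302.result f g' hexact hsurj hf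
  refine ⟨LinearMap.fst R L Q ∘ₗ E.subtype ∘ₗ s, ?_⟩
  ext q
  have h1 : g' (s q) = q := LinearMap.congr_fun hs q
  change g (s q).1.1 = φ q
  rw [hE (s q)]
  exact congrArg φ h1

/-- Direct sums of finitely presented modules are pure projective. -/
theorem exists_lift_dfinsupp {ι : Type u} (Q : ι → Type u) [∀ i, AddCommGroup (Q i)]
    [∀ i, Module R (Q i)] (hQ : ∀ i, Module.FinitePresentation R (Q i))
    (g : L →ₗ[R] N) (hg : Function.Surjective g)
    (hk : CAlgX.UniversallyInjective R (LinearMap.ker g).subtype)
    (φ : (Π₀ i, Q i) →ₗ[R] N) : ∃ ψ : (Π₀ i, Q i) →ₗ[R] L, g ∘ₗ ψ = φ := by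
  classical
  have h := fun i => exists_lift_of_finitePresentation g hg hk (φ ∘ₗ DFinsupp.lsingle i)
  choose ψ hψ using h
  refine ⟨DFinsupp.lsum ℕ ψ, ?_⟩
  refine DFinsupp.lhom_ext' fun i => ?_
  rw [← hψ i]
  ext q
  rw [LinearMap.comp_apply, LinearMap.comp_apply, LinearMap.comp_apply, DFinsupp.lsingle_apply,
    DFinsupp.lsum_single]

end Lift

end Groth.Agent.Lib.Helper44
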