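import Groth.Agent.Lib.Helper44.PureProj
import Groth.Agent.Lib.Helper44.AugQuasiIso
import Groth.Agent.Lib.Helper44.PureInjRes
import Mathlib.Algebra.Category.ModuleCat.Monoidal.Basic
import Mathlib.Algebra.Homology.ShortComplex.ModuleCat
import Mathlib.Algebra.Homology.Additive
import Mathlib.CategoryTheory.Monoidal.Preadditive
import Mathlib.Algebra.Category.ModuleCat.EpiMono
import Mathlib.LinearAlgebra.TensorProduct.RightExactness

/-!
# Pure projective resolutions

The resolution by direct sums of finitely presented modules, each step the canonical surjection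
`presSum` onto the kernel of the previous differential.
-/

set_option autoImplicit false
universe u

open CategoryTheory MonoidalCategory HomologicalComplex Limits

namespace Groth.Agent.Lib.Helper44

variable {R : Type u} [CommRing R]

section Inv

variable {L N : Type u} [AddCommGroup L] [Module R L] [AddCommGroup N] [Module R N]

/-- The invariant: the kernel inclusion of `g` is universally injective and stays a kernel after
tensoring. -/
def KerInv (g : L →ₗ[R] N) : Prop :=
  CAlgX.UniversallyInjective R (LinearMap.ker g).subtype ∧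
    ∀ (T : Type u) [AddCommGroup T] [Module R T],
      Function.Exact ((LinearMap.ker g).subtype.rTensor T) (g.rTensor T)

theorem KerInv.of_surjective (g : L →ₗ[R] N) (hg : Function.Surjective g)
    (hk : CAlgX.UniversallyInjective R (LinearMap.ker g).subtype) : KerInv g :=
  ⟨hk, fun T _ _ => rTensor_exact T (LinearMap.exact_subtype_ker_map g) hg⟩

theorem fexact_comp_surjective {A₀ A B C : Type*} [Zero C] (p : A₀ → A) (f : A → B) (g : B → C)
    (h : Function.Exact f g) (hp : Function.Surjective p) : Function.Exact (f ∘ p) g := by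
  intro y
  rw [h y]
  constructor
  · rintro ⟨x, rfl⟩
    obtain ⟨z, rfl⟩ := hp x
    exact ⟨z, rfl⟩
  · rintro ⟨z, rfl⟩
    exact ⟨p z, rfl⟩

theorem fexact_comp_injective {A B C D : Type*} [Zero C] [Zero D] (f : A → B) (g : B → C)
    (i : C → D) (h : Function.Exact f g) (hi : Function.Injective i) (hi0 : i 0 = 0) :
    Function.Exact f (i ∘ g) := by
  intro y
  rw [← h y, Function.comp_apply]
  constructor
  · intro hy
    exact hi (hy.trans hi0.symm)
  · intro hy
    rw [hy, hi0]

/-- The canonical map onto the kernel of `g`, followed by the inclusion. -/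
noncomputable def kerCover (g : L →ₗ[R] N) :
    (Π₀ p : PresIdx R (LinearMap.ker g), p.Q) →ₗ[R] L :=
  (LinearMap.ker g).subtype ∘ₗ presSum R (LinearMap.ker g)

theorem ker_kerCover (g : L →ₗ[R] N) :
    LinearMap.ker (kerCover g) = LinearMap.ker (presSum R (LinearMap.ker g)) :=
  LinearMap.ker_comp_of_ker_eq_bot _ (Submodule.ker_subtype _)

theorem KerInv.exact_kerCover {g : L →ₗ[R] N} (hg : KerInv g) (T : Type u) [AddCommGroup T]
    [Module R T] : Function.Exact ((kerCover g).rTensor T) (g.rTensor T) := by
  rw [kerCover, LinearMap.rTensor_comp, LinearMap.coe_comp]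
  exact fexact_comp_surjective _ _ _ (hg.2 T)
    (LinearMap.rTensor_surjective T (presSum_surjective R (LinearMap.ker g)))

theorem kerInv_subtype_of_eq {M : Type u} [AddCommGroup M] [Module R M]
    {M' : Type u} [AddCommGroup M'] [Module R M'] {f : M →ₗ[R] M'}
    {p q : Submodule R M} (h : p = q) (T : Type u) [AddCommGroup T] [Module R T]
    (hp : Function.Exact (p.subtype.rTensor T) (f.rTensor T)) :
    Function.Exact (q.subtype.rTensor T) (f.rTensor T) := by
  subst h
  exact hp

theorem KerInv.kerCover {g : L →ₗ[R] N} (hg : KerInv g) : KerInv (kerCover g) := by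
  constructor
  · have h1 := presSum_universallyInjective R (LinearMap.ker g)
    have h2 := ker_kerCover g
    rw [← h2] at h1
    exact h1
  · intro T _ _
    have h1 : Function.Exact ((LinearMap.ker (presSum R (LinearMap.ker g))).subtype.rTensor T)
        ((presSum R (LinearMap.ker g)).rTensor T) :=
      rTensor_exact T (LinearMap.exact_subtype_ker_map _) (presSum_surjective R _)
    have h2 := fexact_comp_injective _ _ ((LinearMap.ker g).subtype.rTensor T) h1 (hg.1 T)
      (map_zero _)
    rw [← LinearMap.coe_comp, ← LinearMap.rTensor_comp] at h2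
    exact kerInv_subtype_of_eq (ker_kerCover g).symm T h2

end Inv

section Complex

/-- The zeroth term: the direct sum of all finite presentations over `M`. -/
noncomputable def ppObj0 (M : ModuleCat.{u} R) : ModuleCat.{u} R :=
  ModuleCat.of R (Π₀ p : PresIdx R M, p.Q)

/-- The augmentation. -/
noncomputable def ppπ (M : ModuleCat.{u} R) : ppObj0 M ⟶ M := ModuleCat.ofHom (presSum R M)

/-- The next term: the direct sum of all finite presentations over the kernel of `f`. -/
noncomputable def ppObj {X₁ X₀ : ModuleCat.{u} R} (f : X₁ ⟶ X₀) : ModuleCat.{u} R :=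
  ModuleCat.of R (Π₀ p : PresIdx R (LinearMap.ker f.hom), p.Q)

/-- The next differential. -/
noncomputable def ppD {X₁ X₀ : ModuleCat.{u} R} (f : X₁ ⟶ X₀) : ppObj f ⟶ X₁ :=
  ModuleCat.ofHom (kerCover f.hom)

theorem ppD_comp {X₁ X₀ : ModuleCat.{u} R} (f : X₁ ⟶ X₀) : ppD f ≫ f = 0 := by
  ext x
  exact (presSum R (LinearMap.ker f.hom) x).2

/-- The pure projective resolution as a chain complex. -/
noncomputable def ppComplex (M : ModuleCat.{u} R) : ChainComplex (ModuleCat.{u} R) ℕ :=
  ChainComplex.mk' (ppObj0 M) (ppObj (ppπ M)) (ppD (ppπ M))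
    (fun f => ⟨ppObj f, ppD f, ppD_comp f⟩)

set_option backward.isDefEq.respectTransparency.types false in
theorem ppComplex_d_1_0 (M : ModuleCat.{u} R) : (ppComplex M).d 1 0 = ppD (ppπ M) := by
  simp [ppComplex]

/-- The auxiliary short complexes of the inductive construction. -/
noncomputable def ppAux (M : ModuleCat.{u} R) (n : ℕ) : ShortComplex (ModuleCat.{u} R) :=
  ChainComplex.mkAux (ppObj0 M) (ppObj (ppπ M)) (ppObj (ppD (ppπ M))) (ppD (ppπ M))
    (ppD (ppD (ppπ M))) (ppD_comp _) (fun S => ⟨ppObj S.f, ppD S.f, ppD_comp S.f⟩) n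

theorem ppπ_kerInv (M : ModuleCat.{u} R) : KerInv (ppπ M).hom :=
  KerInv.of_surjective _ (presSum_surjective R M) (presSum_universallyInjective R M)

theorem ppAux_inv (M : ModuleCat.{u} R) (n : ℕ) :
    KerInv (ppAux M n).g.hom ∧ KerInv (ppAux M n).f.hom := by
  induction n with
  | zero => exact ⟨(ppπ_kerInv M).kerCover, (ppπ_kerInv M).kerCover.kerCover⟩
  | succ n ih => exact ⟨ih.2, ih.2.kerCover⟩

theorem ppAux_rTensor_exact (M : ModuleCat.{u} R) (n : ℕ) (T : Type u) [AddCommGroup T]
    [Module R T] :
    Function.Exact ((ppAux M n).f.hom.rTensor T) ((ppAux M n).g.hom.rTensor T) := by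
  match n with
  | 0 => exact (ppπ_kerInv M).kerCover.exact_kerCover T
  | n + 1 => exact (ppAux_inv M n).2.exact_kerCover T

set_option backward.isDefEq.respectTransparency.types false in
theorem ppComplex_rTensor_exact_succ (M : ModuleCat.{u} R) (n : ℕ) (T : Type u) [AddCommGroup T]
    [Module R T] :
    Function.Exact (((ppComplex M).d (n + 1 + 1) (n + 1)).hom.rTensor T)
      (((ppComplex M).d (n + 1) n).hom.rTensor T) := by
  simp only [ppComplex, ChainComplex.mk', ChainComplex.mk, ChainComplex.of_d]
  exact ppAux_rTensor_exact M n T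

/-- The augmentation `P₀ → M` as a map of complexes. -/
noncomputable def ppAug (M : ModuleCat.{u} R) :
    ppComplex M ⟶ (ChainComplex.single₀ (ModuleCat.{u} R)).obj M :=
  (ChainComplex.toSingle₀Equiv _ _).symm ⟨ppπ M, by
    rw [ppComplex_d_1_0]
    exact ppD_comp (ppπ M)⟩

theorem ppAug_f_0 (M : ModuleCat.{u} R) : (ppAug M).f 0 = ppπ M :=
  ChainComplex.toSingle₀Equiv_symm_apply_f_zero _ _

theorem ppObj0_summand (M : ModuleCat.{u} R) :
    ∃ (ι : Type u) (Q : ι → Type u) (_ : ∀ i, AddCommGroup (Q i)) (_ : ∀ i, Module R (Q i)),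
      (∀ i, Module.FinitePresentation R (Q i)) ∧
      ∃ (s : ppObj0 M →ₗ[R] (Π₀ i, Q i)) (r : (Π₀ i, Q i) →ₗ[R] ppObj0 M),
        r ∘ₗ s = LinearMap.id :=
  ⟨PresIdx R M, fun p => p.Q, fun _ => inferInstance, fun _ => inferInstance,
    fun _ => inferInstance, LinearMap.id, LinearMap.id, rfl⟩

theorem ppObj_summand {X₁ X₀ : ModuleCat.{u} R} (f : X₁ ⟶ X₀) :
    ∃ (ι : Type u) (Q : ι → Type u) (_ : ∀ i, AddCommGroup (Q i)) (_ : ∀ i, Module R (Q i)),
      (∀ i, Module.FinitePresentation R (Q i)) ∧
      ∃ (s : ppObj f →ₗ[R] (Π₀ i, Q i)) (r : (Π₀ i, Q i) →ₗ[R] ppObj f),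
        r ∘ₗ s = LinearMap.id :=
  ⟨PresIdx R (LinearMap.ker f.hom), fun p => p.Q, fun _ => inferInstance, fun _ => inferInstance,
    fun _ => inferInstance, LinearMap.id, LinearMap.id, rfl⟩

set_option backward.isDefEq.respectTransparency.types false in
theorem ppComplex_summand (M : ModuleCat.{u} R) (n : ℕ) :
    ∃ (ι : Type u) (Q : ι → Type u) (_ : ∀ i, AddCommGroup (Q i)) (_ : ∀ i, Module R (Q i)),
      (∀ i, Module.FinitePresentation R (Q i)) ∧
      ∃ (s : (ppComplex M).X n →ₗ[R] (Π₀ i, Q i)) (r : (Π₀ i, Q i) →ₗ[R] (ppComplex M).X n),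
        r ∘ₗ s = LinearMap.id := by
  obtain (_ | _ | _ | n) := n
  · exact ppObj0_summand M
  · exact ppObj_summand _
  · exact ppObj_summand _
  · exact ppObj_summand _

theorem ppAug_quasiIso (M T : ModuleCat.{u} R) :
    QuasiIso (((tensorRight T).mapHomologicalComplex (ComplexShape.down ℕ)).map (ppAug M)) := by
  apply quasiIso_of_aug
  · rw [ShortComplex.ShortExact.moduleCat_exact_iff_function_exact]
    change Function.Exact (((ppComplex M).d 1 0).hom.rTensor T) (((ppAug M).f 0).hom.rTensor T)
    rw [ppAug_f_0, ppComplex_d_1_0]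
    exact (ppπ_kerInv M).exact_kerCover T
  · rw [ModuleCat.epi_iff_surjective]
    change Function.Surjective (((ppAug M).f 0).hom.rTensor T)
    rw [ppAug_f_0]
    exact LinearMap.rTensor_surjective T (presSum_surjective R M)
  · intro n
    rw [HomologicalComplex.exactAt_iff' _ (n + 1 + 1) (n + 1) n (by simp) (by simp),
      ShortComplex.ShortExact.moduleCat_exact_iff_function_exact]
    exact ppComplex_rTensor_exact_succ M n T
  · intro n
    exact Functor.map_isZero (tensorRight T) (isZero_single_obj_X _ _ _ _ (by simp))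

end Complex

end Groth.Agent.Lib.Helper44
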