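import Groth.Agent.Lib.Helper44.PushCover
import Groth.Agent.Lib.Helper44.AdeqFamily
import Mathlib

set_option autoImplicit false
universe u w
open CategoryTheory CategoryTheory.Limits Opposite TensorProduct AlgebraicGeometry

namespace Groth.Agent.Lib.Helper44

section
variable {S T : Scheme.{u}} (f : T ⟶ S) (M : BigSite.Mod Scheme.fppfPrecoverage T)
variable {R : CommRingCat.{u}} (a : Spec R ⟶ S)

theorem chartRes_trans (A : CommRingCat.{u}) [Algebra R A] (c : Spec A ⟶ pullback a f)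
    (hc : c ≫ pullback.fst a f = Spec.map (CommRingCat.ofHom (algebraMap R A)))
    (A' : CommRingCat.{u}) [Algebra R A'] (c' : Spec A' ⟶ pullback a f)
    (hc' : c' ≫ pullback.fst a f = Spec.map (CommRingCat.ofHom (algebraMap R A')))
    (θ : A →ₐ[R] A') (hθ : Spec.map (CommRingCat.ofHom θ.toRingHom) ≫ c = c') :
    chartRes f M a A c hc ≫ chartTransRes f M a A c A' c' θ hθ = chartRes f M a A' c' hc' := by
  apply PresheafOfModules.hom_ext
  intro X
  obtain ⟨⟨B⟩⟩ := X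
  ext x
  change M.val.presheaf.map (chartTrans f a A c A' c' θ hθ B).op
    (M.val.presheaf.map (chartHom f a A c hc B).op x) =
      M.val.presheaf.map (chartHom f a A' c' hc' B).op x
  refine (sheaf_map_map_apply M.val.presheaf (chartTrans f a A c A' c' θ hθ B)
    (chartHom f a A c hc B) x).trans ?_
  rw [chartHom_trans f a A c hc A' c' hc' θ hθ B]

variable {K : Type w} [Finite K] (A : K → CommRingCat.{u}) [∀ k, Algebra R (A k)]
  (c : ∀ k, Spec (A k) ⟶ pullback a f)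
  (hc : ∀ k, c k ≫ pullback.fst a f = Spec.map (CommRingCat.ofHom (algebraMap R (A k))))
  (hcov : Presieve.ofArrows (fun k => Spec (A k)) c ∈
    Scheme.fppfPrecoverage.coverings (pullback a f))
variable (L : K → K → Type w) [∀ k l, Finite (L k l)] (A' : ∀ k l, L k l → CommRingCat.{u})
  [∀ k l m, Algebra R (A' k l m)]
  (c' : ∀ k l m, Spec (A' k l m) ⟶ pullback a f)
  (hc' : ∀ k l m, c' k l m ≫ pullback.fst a f =
    Spec.map (CommRingCat.ofHom (algebraMap R (A' k l m))))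
  (θ₁ : ∀ k l m, A k →ₐ[R] A' k l m) (θ₂ : ∀ k l m, A l →ₐ[R] A' k l m)
  (hθ₁ : ∀ k l m, Spec.map (CommRingCat.ofHom (θ₁ k l m).toRingHom) ≫ c k = c' k l m)
  (hθ₂ : ∀ k l m, Spec.map (CommRingCat.ofHom (θ₂ k l m).toRingHom) ≫ c l = c' k l m)
  (href : ∀ (k l : K) (Z : Scheme.{u}) (ζk : Z ⟶ Spec (A k)) (ζl : Z ⟶ Spec (A l)),
    ζk ≫ c k = ζl ≫ c l →
    ∃ (I : Type u) (Z' : I → Scheme.{u}) (z : ∀ i, Z' i ⟶ Z),
      Presieve.ofArrows Z' z ∈ Scheme.fppfPrecoverage.coverings Z ∧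
      ∀ i, ∃ (m : L k l) (ε : Z' i ⟶ Spec (A' k l m)),
        ε ≫ Spec.map (CommRingCat.ofHom (θ₁ k l m).toRingHom) = z i ≫ ζk ∧
        ε ≫ Spec.map (CommRingCat.ofHom (θ₂ k l m).toRingHom) = z i ≫ ζl)
  (hM : Adeq.adequateMod Scheme.fppfPrecoverage T M)

include hcov hc' href hM hc hθ₁ hθ₂ in
/-- the push-forward functor of sections is adequate, given a finite atlas -/
theorem adequate_pushF_of_atlas : Adeq.adequate R (pushF f M a) := by
  classical
  have : HasFiniteBiproducts (Adeq.MVF R) := Abelian.hasFiniteBiproducts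
  let E : Type w := (k : K) × (l : K) × L k l
  let G : K → Adeq.MVF R := fun k => chartF f M a (A k) (c k)
  let H : E → Adeq.MVF R := fun e => chartF f M a (A' e.1 e.2.1 e.2.2) (c' e.1 e.2.1 e.2.2)
  have hG : ∀ k, Adeq.adequate R (G k) := fun k =>
    adequate_push R (A k) _ (adequate_toMVF_fppf T M hM (A k) (c k ≫ pullback.snd a f))
  have hH : ∀ e, Adeq.adequate R (H e) := fun e =>
    adequate_push R (A' e.1 e.2.1 e.2.2) _
      (adequate_toMVF_fppf T M hM (A' e.1 e.2.1 e.2.2) (c' e.1 e.2.1 e.2.2 ≫ pullback.snd a f))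
  have hGa : Adeq.adequate R (⨁ G) :=
    (Adeq.adequate R).prop_of_isLimit_fan (biproduct.isLimit G) hG
  have hHa : Adeq.adequate R (⨁ H) :=
    (Adeq.adequate R).prop_of_isLimit_fan (biproduct.isLimit H) hH
  let i : pushF f M a ⟶ ⨁ G := biproduct.lift (fun k => chartRes f M a (A k) (c k) (hc k))
  let d0 : ∀ e : E, G e.1 ⟶ H e := fun e =>
    chartTransRes f M a (A e.1) (c e.1) (A' e.1 e.2.1 e.2.2) (c' e.1 e.2.1 e.2.2)
      (θ₁ e.1 e.2.1 e.2.2) (hθ₁ e.1 e.2.1 e.2.2)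
  let d1 : ∀ e : E, G e.2.1 ⟶ H e := fun e =>
    chartTransRes f M a (A e.2.1) (c e.2.1) (A' e.1 e.2.1 e.2.2) (c' e.1 e.2.1 e.2.2)
      (θ₂ e.1 e.2.1 e.2.2) (hθ₂ e.1 e.2.1 e.2.2)
  let dd : ∀ e : E, ⨁ G ⟶ H e := fun e =>
    biproduct.π G e.1 ≫ d0 e - biproduct.π G e.2.1 ≫ d1 e
  let d : ⨁ G ⟶ ⨁ H := biproduct.lift dd
  have hiπ : ∀ k, i ≫ biproduct.π G k = chartRes f M a (A k) (c k) (hc k) :=
    fun k => biproduct.lift_π _ _
  have hdπ : ∀ e, d ≫ biproduct.π H e = dd e := fun e => biproduct.lift_π _ _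
  refine adequate_of_exact' hGa hHa i d ?_ ?_ ?_
  · apply biproduct.hom_ext
    intro e
    rw [Category.assoc, hdπ, zero_comp]
    change i ≫ (biproduct.π G e.1 ≫ d0 e - biproduct.π G e.2.1 ≫ d1 e) = 0
    rw [Preadditive.comp_sub, ← Category.assoc, ← Category.assoc, hiπ, hiπ, sub_eq_zero]
    exact (chartRes_trans f M a (A e.1) (c e.1) (hc e.1) (A' e.1 e.2.1 e.2.2)
      (c' e.1 e.2.1 e.2.2) (hc' e.1 e.2.1 e.2.2) (θ₁ e.1 e.2.1 e.2.2) (hθ₁ e.1 e.2.1 e.2.2)).trans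
      (chartRes_trans f M a (A e.2.1) (c e.2.1) (hc e.2.1) (A' e.1 e.2.1 e.2.2)
      (c' e.1 e.2.1 e.2.2) (hc' e.1 e.2.1 e.2.2) (θ₂ e.1 e.2.1 e.2.2) (hθ₂ e.1 e.2.1 e.2.2)).symm
  · intro X
    obtain ⟨⟨B⟩⟩ := X
    intro x x' hxx'
    have hk : ∀ k, (chartRes f M a (A k) (c k) (hc k)).app (Adeq.pt B) (x - x') = 0 := by
      intro k
      have h1 : (chartRes f M a (A k) (c k) (hc k)).app (Adeq.pt B) x =
          (chartRes f M a (A k) (c k) (hc k)).app (Adeq.pt B) x' := by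
        rw [← hiπ k, fam_comp_app_apply, fam_comp_app_apply, hxx']
      rw [map_sub, h1, sub_self]
    exact sub_eq_zero.1 (pushF_inj f M a A c hc hcov B (x - x') hk)
  · intro X y hy
    obtain ⟨⟨B⟩⟩ := X
    have hcomp : ∀ k l m,
        (chartTransRes f M a (A k) (c k) (A' k l m) (c' k l m) (θ₁ k l m) (hθ₁ k l m)).app
          (Adeq.pt B) ((biproduct.π G k).app (Adeq.pt B) y) =
        (chartTransRes f M a (A l) (c l) (A' k l m) (c' k l m) (θ₂ k l m) (hθ₂ k l m)).app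
          (Adeq.pt B) ((biproduct.π G l).app (Adeq.pt B) y) := by
      intro k l m
      have h0 : (dd ⟨k, l, m⟩).app (Adeq.pt B) y = 0 := by
        rw [← hdπ, fam_comp_app_apply, hy, map_zero]
      exact sub_eq_zero.1 h0
    obtain ⟨x, hx⟩ := pushF_glue f M a A c hc hcov L A' c' hc' θ₁ θ₂ hθ₁ hθ₂ href B
      (fun k => (biproduct.π G k).app (Adeq.pt B) y) hcomp
    refine ⟨x, biproduct_app_ext G _ _ _ (fun k => ?_)⟩
    have h2 : (biproduct.π G k).app (Adeq.pt B) (i.app (Adeq.pt B) x) =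
        (chartRes f M a (A k) (c k) (hc k)).app (Adeq.pt B) x := by
      rw [← hiπ k]; rfl
    rw [h2]
    exact hx k

end
end Groth.Agent.Lib.Helper44
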