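import Mathlib.CategoryTheory.Limits.Shapes.Pullback.IsPullback.Basic
import Mathlib.CategoryTheory.Limits.Shapes.Pullback.HasPullback

set_option autoImplicit false
universe v u
open CategoryTheory CategoryTheory.Limits

namespace Groth.Agent.Lib.Helper44

section
variable {𝒞 : Type u} [Category.{v} 𝒞] [HasPullbacks 𝒞]

/-- the base change square of a pullback along a map of the first factor -/
theorem isPullback_pbq {S T P Q : 𝒞} (a : P ⟶ S) (f : T ⟶ S) (s : Q ⟶ P)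
    (q : pullback (s ≫ a) f ⟶ pullback a f)
    (hq₁ : q ≫ pullback.fst a f = pullback.fst (s ≫ a) f ≫ s)
    (hq₂ : q ≫ pullback.snd a f = pullback.snd (s ≫ a) f) :
    IsPullback q (pullback.fst (s ≫ a) f) (pullback.fst a f) s := by
  have t : IsPullback (pullback.snd a f) (pullback.fst a f) f a :=
    (IsPullback.of_hasPullback a f).flip
  have s' : IsPullback (q ≫ pullback.snd a f) (pullback.fst (s ≫ a) f) f (s ≫ a) := by
    rw [hq₂]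
    exact (IsPullback.of_hasPullback (s ≫ a) f).flip
  exact IsPullback.of_right s' hq₁ t

/-- the chart square -/
theorem isPullback_chart {S T P Q A D : 𝒞} (a : P ⟶ S) (f : T ⟶ S) (s : Q ⟶ P)
    (c : A ⟶ pullback a f) (d₁ : D ⟶ A) (d₂ : D ⟶ Q)
    (h : IsPullback d₁ d₂ (c ≫ pullback.fst a f) s)
    (u : D ⟶ pullback (s ≫ a) f) (hu₁ : u ≫ pullback.fst (s ≫ a) f = d₂)
    (hu₂ : u ≫ pullback.snd (s ≫ a) f = d₁ ≫ c ≫ pullback.snd a f)
    (q : pullback (s ≫ a) f ⟶ pullback a f)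
    (hq₁ : q ≫ pullback.fst a f = pullback.fst (s ≫ a) f ≫ s)
    (hq₂ : q ≫ pullback.snd a f = pullback.snd (s ≫ a) f) :
    IsPullback u d₁ q c := by
  have hR := (isPullback_pbq a f s q hq₁ hq₂).flip
  have s' : IsPullback (u ≫ pullback.fst (s ≫ a) f) d₁ s (c ≫ pullback.fst a f) := by
    rw [hu₁]
    exact h.flip
  refine IsPullback.of_right s' ?_ hR
  apply pullback.hom_ext
  · rw [Category.assoc, hq₁, ← Category.assoc, hu₁, Category.assoc, h.w]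
  · rw [Category.assoc, hq₂, hu₂, Category.assoc]

omit [HasPullbacks 𝒞] in
/-- lifting to a refined intersection -/
theorem exists_lift_refined {X W Ak Al E Dk Dl DE Z Z' : 𝒞} (q : W ⟶ X)
    (ck : Ak ⟶ X) (cl : Al ⟶ X) (uk : Dk ⟶ W) (dk : Dk ⟶ Ak) (ul : Dl ⟶ W) (dl : Dl ⟶ Al)
    (hk : IsPullback uk dk q ck) (hl : IsPullback ul dl q cl)
    (e₁ : E ⟶ Ak) (e₂ : E ⟶ Al) (cE : E ⟶ X) (he₁ : e₁ ≫ ck = cE)
    (uE : DE ⟶ W) (dE : DE ⟶ E) (hE : IsPullback uE dE q cE)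
    (t₁ : DE ⟶ Dk) (t₂ : DE ⟶ Dl) (ht₁u : t₁ ≫ uk = uE) (ht₁d : t₁ ≫ dk = dE ≫ e₁)
    (ht₂u : t₂ ≫ ul = uE) (ht₂d : t₂ ≫ dl = dE ≫ e₂)
    (gi : Z ⟶ Dk) (gj : Z ⟶ Dl) (hg : gi ≫ uk = gj ≫ ul)
    (z : Z' ⟶ Z) (ε : Z' ⟶ E) (hε₁ : ε ≫ e₁ = z ≫ gi ≫ dk) (hε₂ : ε ≫ e₂ = z ≫ gj ≫ dl) :
    ∃ v : Z' ⟶ DE, v ≫ t₁ = z ≫ gi ∧ v ≫ t₂ = z ≫ gj := by
  have hcomm : (z ≫ gi ≫ uk) ≫ q = ε ≫ cE := by
    rw [← he₁, ← Category.assoc ε, hε₁, Category.assoc, Category.assoc, Category.assoc,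
      Category.assoc, hk.w]
  refine ⟨hE.lift (z ≫ gi ≫ uk) ε hcomm, ?_, ?_⟩
  · apply hk.hom_ext
    · rw [Category.assoc, ht₁u, hE.lift_fst, Category.assoc]
    · rw [Category.assoc, ht₁d, ← Category.assoc, hE.lift_snd, hε₁, Category.assoc]
  · apply hl.hom_ext
    · rw [Category.assoc, ht₂u, hE.lift_fst, Category.assoc, hg]
    · rw [Category.assoc, ht₂d, ← Category.assoc, hE.lift_snd, hε₂, Category.assoc]

end
end Groth.Agent.Lib.Helper44
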