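import Groth.Agent.Lib.Helper44.BigAdeqMain
import Groth.Agent.Lib.Helper44.AdeqPush
import Mathlib

set_option autoImplicit false
universe u
open CategoryTheory CategoryTheory.Limits Opposite TensorProduct AlgebraicGeometry

namespace Groth.Agent.Lib.Helper44

section
variable {S T : Scheme.{u}} (f : T ⟶ S) (M : BigSite.Mod Scheme.fppfPrecoverage T)
variable {R : CommRingCat.{u}} (a : Spec R ⟶ S)

/-- the push-forward functor of sections -/
noncomputable abbrev pushF : Adeq.MVF R :=
  (Adeq.toMVF Scheme.fppfPrecoverage a).obj ((BigSite.pushMod Scheme.fppfPrecoverage f).obj M)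

/-- the object `Spec B ×_S T` of the big site of `T` -/
noncomputable abbrev pbOver (B : Adeq.Alg R) : Over T :=
  (Over.pullback f).obj ((Adeq.specOver a).obj (op B))

theorem pushF_smul (B : Adeq.Alg R) (r : B) (x : (pushF f M a).obj (Adeq.pt B)) :
    r • x = (show (BigSite.ORing Scheme.fppfPrecoverage T).obj.obj (op (pbOver f a B)) from
      (BigSite.ORingAbs Scheme.fppfPrecoverage).obj.map
        (pullback.fst ((Adeq.specOver a).obj (op B)).hom f).op
        (Adeq.toSect Scheme.fppfPrecoverage a B r)) •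
      (show M.val.obj (op (pbOver f a B)) from x) := rfl

/-- the structure morphism `Spec B → S` -/
noncomputable abbrev sB (B : Adeq.Alg R) : Spec (CommRingCat.of B) ⟶ S :=
  Spec.map (CommRingCat.ofHom (algebraMap R B)) ≫ a

/-- the transition maps of `Spec B ×_S T` -/
noncomputable abbrev pbMapL {B B' : Adeq.Alg R} (g : B ⟶ B') :
    pullback (sB a B') f ⟶ pullback (sB a B) f :=
  ((Over.pullback f).map ((Adeq.specOver a).map g.op)).left

theorem pbMapL_fst {B B' : Adeq.Alg R} (g : B ⟶ B') :
    pbMapL f a g ≫ pullback.fst (sB a B) f =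
      pullback.fst (sB a B') f ≫ Spec.map (CommRingCat.ofHom g.hom.toRingHom) :=
  pullback.lift_fst _ _ _

theorem pbMapL_snd {B B' : Adeq.Alg R} (g : B ⟶ B') :
    pbMapL f a g ≫ pullback.snd (sB a B) f = pullback.snd (sB a B') f :=
  pullback.lift_snd _ _ _

variable (A : CommRingCat.{u}) [Algebra R A] (c : Spec A ⟶ pullback a f)

/-- the functor of sections over a chart -/
noncomputable abbrev chartF : Adeq.MVF R :=
  (Adeq.push R A).obj ((Adeq.toMVF Scheme.fppfPrecoverage (c ≫ pullback.snd a f)).obj M)

/-- the object `Spec (A ⊗ B)` of the big site of `T` -/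
noncomputable abbrev chartOver (B : Adeq.Alg R) : Over T :=
  (Adeq.specOver (c ≫ pullback.snd a f)).obj (op ((Adeq.Alg.baseChange R A).obj B))

variable (hc : c ≫ pullback.fst a f = Spec.map (CommRingCat.ofHom (algebraMap R A)))

/-- the ring map `B → A ⊗ B` -/
noncomputable abbrev incR (B : Adeq.Alg R) : CommRingCat.of B ⟶ CommRingCat.of (A ⊗[R] (B : Type u)) :=
  CommRingCat.ofHom (Algebra.TensorProduct.includeRight (R := R) (A := A) (B := B)).toRingHom

/-- the ring map `A → A ⊗ B` -/
noncomputable abbrev incL (B : Adeq.Alg R) : A ⟶ CommRingCat.of (A ⊗[R] (B : Type u)) :=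
  CommRingCat.ofHom (algebraMap A (A ⊗[R] (B : Type u)))

/-- the structure map of the chart object -/
noncomputable abbrev chartStr (B : Adeq.Alg R) : Spec (CommRingCat.of (A ⊗[R] (B : Type u))) ⟶ T :=
  Spec.map (incL A B) ≫ c ≫ pullback.snd a f

include hc in
theorem chart_comm (B : Adeq.Alg R) :
    Spec.map (incR A B) ≫ sB a B = chartStr f a A c B ≫ f := by
  change Spec.map (incR A B) ≫ Spec.map (CommRingCat.ofHom (algebraMap R B)) ≫ a =
    (Spec.map (incL A B) ≫ c ≫ pullback.snd a f) ≫ f
  have h1 : (c ≫ pullback.snd a f) ≫ f = Spec.map (CommRingCat.ofHom (algebraMap R A)) ≫ a := by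
    rw [Category.assoc, ← pullback.condition, ← Category.assoc, hc]
  rw [Category.assoc, h1, ← Category.assoc, ← Category.assoc, ← Spec.map_comp, ← Spec.map_comp]
  congr 2
  ext r
  change (1 : A) ⊗ₜ[R] (algebraMap R B r) = (algebraMap R A r) ⊗ₜ[R] (1 : B)
  rw [Algebra.algebraMap_eq_smul_one (A := B) r, Algebra.algebraMap_eq_smul_one (A := A) r,
    TensorProduct.tmul_smul, TensorProduct.smul_tmul']

/-- the chart morphism `Spec (A ⊗ B) → Spec B ×_S T` -/
noncomputable def chartL (B : Adeq.Alg R) :
    Spec (CommRingCat.of (A ⊗[R] (B : Type u))) ⟶ pullback (sB a B) f :=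
  pullback.lift (Spec.map (incR A B)) (chartStr f a A c B) (chart_comm f a A c hc B)

theorem chartL_fst (B : Adeq.Alg R) :
    chartL f a A c hc B ≫ pullback.fst (sB a B) f = Spec.map (incR A B) := pullback.lift_fst _ _ _

theorem chartL_snd (B : Adeq.Alg R) :
    chartL f a A c hc B ≫ pullback.snd (sB a B) f = chartStr f a A c B := pullback.lift_snd _ _ _

/-- the transition maps `Spec (A ⊗ B') → Spec (A ⊗ B)` -/
noncomputable abbrev tensMap {B B' : Adeq.Alg R} (g : B ⟶ B') :
    CommRingCat.of (A ⊗[R] (B : Type u)) ⟶ CommRingCat.of (A ⊗[R] (B' : Type u)) :=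
  CommRingCat.ofHom ((Adeq.Alg.baseChange R A).map g).hom.toRingHom

theorem chartL_naturality {B B' : Adeq.Alg R} (g : B ⟶ B') :
    Spec.map (tensMap A g) ≫ chartL f a A c hc B = chartL f a A c hc B' ≫ pbMapL f a g := by
  apply pullback.hom_ext
  · rw [Category.assoc, Category.assoc, chartL_fst, pbMapL_fst, ← Category.assoc, chartL_fst,
      ← Spec.map_comp, ← Spec.map_comp]
    congr 1
  · rw [Category.assoc, Category.assoc, chartL_snd, pbMapL_snd, chartL_snd, ← Category.assoc,
      ← Spec.map_comp]
    congr 2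
    ext x
    change Algebra.TensorProduct.map (AlgHom.id A A) g.hom (x ⊗ₜ[R] (1 : B)) = x ⊗ₜ[R] (1 : B')
    rw [Algebra.TensorProduct.map_tmul, map_one]
    rfl

/-- the chart morphism `Spec (A ⊗ B) → Spec B ×_S T` over `T` -/
noncomputable def chartHom (B : Adeq.Alg R) : chartOver f a A c B ⟶ pbOver f a B :=
  Over.homMk (chartL f a A c hc B) (chartL_snd f a A c hc B)

theorem chartHom_naturality {B B' : Adeq.Alg R} (g : B ⟶ B') :
    (Adeq.specOver (c ≫ pullback.snd a f)).map ((Adeq.Alg.baseChange R A).map g).op ≫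
        chartHom f a A c hc B =
      chartHom f a A c hc B' ≫ (Over.pullback f).map ((Adeq.specOver a).map g.op) := by
  apply Over.OverMorphism.ext
  exact chartL_naturality f a A c hc g


/-- restriction of sections to a chart, on underlying presheaves -/
noncomputable def chartResNat : (pushF f M a).presheaf ⟶ (chartF f M a A c).presheaf where
  app := fun X => M.val.presheaf.map (chartHom f a A c hc X.unop.unop).op
  naturality := by
    intro X Y g
    change M.val.presheaf.map ((Over.pullback f).map ((Adeq.specOver a).map g.unop.unop.op)).op ≫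
        M.val.presheaf.map (chartHom f a A c hc Y.unop.unop).op =
      M.val.presheaf.map (chartHom f a A c hc X.unop.unop).op ≫
        M.val.presheaf.map ((Adeq.specOver (c ≫ pullback.snd a f)).map
          ((Adeq.Alg.baseChange R A).map g.unop.unop).op).op
    rw [← Functor.map_comp, ← Functor.map_comp, ← op_comp, ← op_comp, chartHom_naturality]


theorem chart_toSect (B : Adeq.Alg R) (r : B) :
    (BigSite.ORing Scheme.fppfPrecoverage T).obj.map (chartHom f a A c hc B).op
      ((BigSite.ORingAbs Scheme.fppfPrecoverage).obj.map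
        (pullback.fst ((Adeq.specOver a).obj (op B)).hom f).op
        (Adeq.toSect Scheme.fppfPrecoverage a B r)) =
    Adeq.toSect Scheme.fppfPrecoverage (c ≫ pullback.snd a f) ((Adeq.Alg.baseChange R A).obj B)
      ((Algebra.TensorProduct.includeRight (R := R) (A := A) (B := B)) r) := by
  apply ULift.ext
  change ((Scheme.ΓSpecIso (CommRingCat.of B)).inv ≫ (pullback.fst (sB a B) f).appTop ≫
      (chartL f a A c hc B).appTop) r =
    (incR A B ≫ (Scheme.ΓSpecIso (CommRingCat.of (A ⊗[R] (B : Type u)))).inv) r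
  rw [← Scheme.Hom.comp_appTop, chartL_fst, Scheme.ΓSpecIso_inv_naturality]

theorem chartResNat_smul (X : (Adeq.Alg R)ᵒᵖᵒᵖ) (r : (Adeq.ringOf R).obj X)
    (m : (pushF f M a).obj X) :
    (show (chartF f M a A c).obj X from (chartResNat f M a A c hc).app X (r • m)) =
      r • (show (chartF f M a A c).obj X from (chartResNat f M a A c hc).app X m) := by
  have h := M.val.map_smul (chartHom f a A c hc X.unop.unop).op
    ((BigSite.ORingAbs Scheme.fppfPrecoverage).obj.map
        (pullback.fst ((Adeq.specOver a).obj (op X.unop.unop)).hom f).op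
        (Adeq.toSect Scheme.fppfPrecoverage a X.unop.unop r)) m
  refine h.trans ?_
  rw [chart_toSect]
  rfl

/-- restriction of sections to a chart -/
noncomputable def chartRes : pushF f M a ⟶ chartF f M a A c :=
  PresheafOfModules.homMk (chartResNat f M a A c hc) (chartResNat_smul f M a A c hc)

theorem chartRes_app_apply (B : Adeq.Alg R) (x : (pushF f M a).obj (Adeq.pt B)) :
    (chartRes f M a A c hc).app (Adeq.pt B) x =
      M.val.presheaf.map (chartHom f a A c hc B).op x := rfl


variable (A' : CommRingCat.{u}) [Algebra R A'] (c' : Spec A' ⟶ pullback a f)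
  (hc' : c' ≫ pullback.fst a f = Spec.map (CommRingCat.ofHom (algebraMap R A')))
  (θ : A →ₐ[R] A') (hθ : Spec.map (CommRingCat.ofHom θ.toRingHom) ≫ c = c')

/-- the ring map `A ⊗ B → A' ⊗ B` -/
noncomputable abbrev tensL (B : Adeq.Alg R) :
    CommRingCat.of (A ⊗[R] (B : Type u)) ⟶ CommRingCat.of (A' ⊗[R] (B : Type u)) :=
  CommRingCat.ofHom (Algebra.TensorProduct.map θ (AlgHom.id R B)).toRingHom

omit [Algebra R A] [Algebra R A'] in
theorem tensL_incL (B : Adeq.Alg R) [Algebra R A] [Algebra R A'] (θ : A →ₐ[R] A') :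
    incL A B ≫ tensL A A' θ B = CommRingCat.ofHom θ.toRingHom ≫ incL A' B := by
  ext x
  change Algebra.TensorProduct.map θ (AlgHom.id R B) (x ⊗ₜ[R] (1 : B)) = (θ x) ⊗ₜ[R] (1 : B)
  rw [Algebra.TensorProduct.map_tmul]
  rfl

include hθ in
theorem chartStr_tensL (B : Adeq.Alg R) :
    Spec.map (tensL A A' θ B) ≫ chartStr f a A c B = chartStr f a A' c' B := by
  change Spec.map (tensL A A' θ B) ≫ Spec.map (incL A B) ≫ c ≫ pullback.snd a f =
    Spec.map (incL A' B) ≫ c' ≫ pullback.snd a f
  rw [← Category.assoc, ← Spec.map_comp, tensL_incL, Spec.map_comp, Category.assoc, ← hθ,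
    Category.assoc]

/-- the transition morphism between chart objects -/
noncomputable def chartTrans (B : Adeq.Alg R) : chartOver f a A' c' B ⟶ chartOver f a A c B :=
  Over.homMk (Spec.map (tensL A A' θ B)) (chartStr_tensL f a A c A' c' θ hθ B)

theorem chartTrans_naturality {B B' : Adeq.Alg R} (g : B ⟶ B') :
    (Adeq.specOver (c' ≫ pullback.snd a f)).map ((Adeq.Alg.baseChange R A').map g).op ≫
        chartTrans f a A c A' c' θ hθ B =
      chartTrans f a A c A' c' θ hθ B' ≫
        (Adeq.specOver (c ≫ pullback.snd a f)).map ((Adeq.Alg.baseChange R A).map g).op := by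
  apply Over.OverMorphism.ext
  change Spec.map (tensMap A' g) ≫ Spec.map (tensL A A' θ B) =
    Spec.map (tensL A A' θ B') ≫ Spec.map (tensMap A g)
  rw [← Spec.map_comp, ← Spec.map_comp]
  congr 1
  apply CommRingCat.hom_ext
  apply RingHom.ext
  intro x
  change Algebra.TensorProduct.map (AlgHom.id A' A') g.hom
      (Algebra.TensorProduct.map θ (AlgHom.id R B) x) =
    Algebra.TensorProduct.map θ (AlgHom.id R B')
      (Algebra.TensorProduct.map (AlgHom.id A A) g.hom x)
  induction x using TensorProduct.induction_on with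
  | zero => simp
  | tmul x b => simp
  | add x y hx hy => rw [map_add, map_add, map_add, map_add, hx, hy]

include hc hc' in
theorem chartHom_trans (B : Adeq.Alg R) :
    chartTrans f a A c A' c' θ hθ B ≫ chartHom f a A c hc B = chartHom f a A' c' hc' B := by
  apply Over.OverMorphism.ext
  change Spec.map (tensL A A' θ B) ≫ chartL f a A c hc B = chartL f a A' c' hc' B
  apply pullback.hom_ext
  · rw [Category.assoc, chartL_fst, chartL_fst, ← Spec.map_comp]
    congr 1
    ext r
    change Algebra.TensorProduct.map θ (AlgHom.id R B) ((1 : A) ⊗ₜ[R] r) = (1 : A') ⊗ₜ[R] r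
    rw [Algebra.TensorProduct.map_tmul, map_one]
    rfl
  · rw [Category.assoc, chartL_snd, chartL_snd]
    exact chartStr_tensL f a A c A' c' θ hθ B


/-- restriction between charts, on underlying presheaves -/
noncomputable def chartTransNat : (chartF f M a A c).presheaf ⟶ (chartF f M a A' c').presheaf where
  app := fun X => M.val.presheaf.map (chartTrans f a A c A' c' θ hθ X.unop.unop).op
  naturality := by
    intro X Y g
    change M.val.presheaf.map ((Adeq.specOver (c ≫ pullback.snd a f)).map
          ((Adeq.Alg.baseChange R A).map g.unop.unop).op).op ≫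
        M.val.presheaf.map (chartTrans f a A c A' c' θ hθ Y.unop.unop).op =
      M.val.presheaf.map (chartTrans f a A c A' c' θ hθ X.unop.unop).op ≫
        M.val.presheaf.map ((Adeq.specOver (c' ≫ pullback.snd a f)).map
          ((Adeq.Alg.baseChange R A').map g.unop.unop).op).op
    rw [← Functor.map_comp, ← Functor.map_comp, ← op_comp, ← op_comp, chartTrans_naturality]

theorem chartTrans_toSect (B : Adeq.Alg R) (r : B) :
    (BigSite.ORing Scheme.fppfPrecoverage T).obj.map (chartTrans f a A c A' c' θ hθ B).op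
      (Adeq.toSect Scheme.fppfPrecoverage (c ≫ pullback.snd a f) ((Adeq.Alg.baseChange R A).obj B)
        ((Algebra.TensorProduct.includeRight (R := R) (A := A) (B := B)) r)) =
    Adeq.toSect Scheme.fppfPrecoverage (c' ≫ pullback.snd a f) ((Adeq.Alg.baseChange R A').obj B)
      ((Algebra.TensorProduct.includeRight (R := R) (A := A') (B := B)) r) := by
  apply ULift.ext
  change ((Scheme.ΓSpecIso (CommRingCat.of (A ⊗[R] (B : Type u)))).inv ≫
      (Spec.map (tensL A A' θ B)).appTop) ((1 : A) ⊗ₜ[R] r) =
    (Scheme.ΓSpecIso (CommRingCat.of (A' ⊗[R] (B : Type u)))).inv ((1 : A') ⊗ₜ[R] r)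
  rw [← Scheme.ΓSpecIso_inv_naturality]
  change (Scheme.ΓSpecIso (CommRingCat.of (A' ⊗[R] (B : Type u)))).inv
    (Algebra.TensorProduct.map θ (AlgHom.id R B) ((1 : A) ⊗ₜ[R] r)) = _
  rw [Algebra.TensorProduct.map_tmul, map_one]
  rfl

theorem chartTransNat_smul (X : (Adeq.Alg R)ᵒᵖᵒᵖ) (r : (Adeq.ringOf R).obj X)
    (m : (chartF f M a A c).obj X) :
    (show (chartF f M a A' c').obj X from (chartTransNat f M a A c A' c' θ hθ).app X (r • m)) =
      r • (show (chartF f M a A' c').obj X from (chartTransNat f M a A c A' c' θ hθ).app X m) := by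
  have h := M.val.map_smul (chartTrans f a A c A' c' θ hθ X.unop.unop).op
    (Adeq.toSect Scheme.fppfPrecoverage (c ≫ pullback.snd a f)
      ((Adeq.Alg.baseChange R A).obj X.unop.unop)
        ((Algebra.TensorProduct.includeRight (R := R) (A := A) (B := X.unop.unop)) r)) m
  refine h.trans ?_
  rw [chartTrans_toSect]
  rfl

/-- restriction of sections between charts -/
noncomputable def chartTransRes : chartF f M a A c ⟶ chartF f M a A' c' :=
  PresheafOfModules.homMk (chartTransNat f M a A c A' c' θ hθ)
    (chartTransNat_smul f M a A c A' c' θ hθ)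

theorem chartTransRes_app_apply (B : Adeq.Alg R) (x : (chartF f M a A c).obj (Adeq.pt B)) :
    (chartTransRes f M a A c A' c' θ hθ).app (Adeq.pt B) x =
      M.val.presheaf.map (chartTrans f a A c A' c' θ hθ B).op x := rfl

end
end Groth.Agent.Lib.Helper44
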