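import Groth.Agent.Lib.Helper44.PushChart
import Groth.Agent.Lib.Helper44.PushCat
import Groth.Agent.Lib.Helper44.BigAdeqTFAE
import Mathlib

set_option autoImplicit false
universe u w
open CategoryTheory CategoryTheory.Limits Opposite TensorProduct AlgebraicGeometry

namespace Groth.Agent.Lib.Helper44

section
variable {S T : Scheme.{u}} (f : T ⟶ S) (M : BigSite.Mod Scheme.fppfPrecoverage T)
variable {R : CommRingCat.{u}} (a : Spec R ⟶ S)

/-- the projection `Spec B ×_S T → Spec R ×_S T` -/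
noncomputable def pbq (B : Adeq.Alg R) : pullback (sB a B) f ⟶ pullback a f :=
  pullback.lift (pullback.fst (sB a B) f ≫ Spec.map (CommRingCat.ofHom (algebraMap R B)))
    (pullback.snd (sB a B) f) (by
      rw [Category.assoc]
      exact pullback.condition)

theorem pbq_fst (B : Adeq.Alg R) :
    pbq f a B ≫ pullback.fst a f =
      pullback.fst (sB a B) f ≫ Spec.map (CommRingCat.ofHom (algebraMap R B)) :=
  pullback.lift_fst _ _ _

theorem pbq_snd (B : Adeq.Alg R) :
    pbq f a B ≫ pullback.snd a f = pullback.snd (sB a B) f :=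
  pullback.lift_snd _ _ _

variable (A : CommRingCat.{u}) [Algebra R A] (c : Spec A ⟶ pullback a f)
  (hc : c ≫ pullback.fst a f = Spec.map (CommRingCat.ofHom (algebraMap R A)))

theorem isPullback_chartL (B : Adeq.Alg R) :
    IsPullback (chartL f a A c hc B) (Spec.map (incL A B)) (pbq f a B) c := by
  have h : IsPullback (Spec.map (incL A B)) (Spec.map (incR A B)) (c ≫ pullback.fst a f)
      (Spec.map (CommRingCat.ofHom (algebraMap R B))) := by
    rw [hc]
    exact isPullback_SpecMap_of_isPushout _ _ _ _ (CommRingCat.isPushout_tensorProduct R A B)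
  exact isPullback_chart a f (Spec.map (CommRingCat.ofHom (algebraMap R B))) c
    (Spec.map (incL A B)) (Spec.map (incR A B)) h (chartL f a A c hc B)
    (chartL_fst f a A c hc B) (chartL_snd f a A c hc B) (pbq f a B) (pbq_fst f a B) (pbq_snd f a B)

end

section
variable (K' : Precoverage Scheme.{u}) [BigSite.OSh K'] {T : Scheme.{u}} (M : BigSite.Mod K' T)

theorem isSheafFor_over_ofArrows (W : Over T) {I : Type w} (D : I → Over T) (u : ∀ i, D i ⟶ W)
    (hcov : Presieve.ofArrows (fun i => (D i).left) (fun i => (u i).left) ∈ K'.coverings W.left) :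
    Presieve.IsSheafFor (M.val.presheaf ⋙ forget Ab) (Presieve.ofArrows D u) := by
  rw [Presieve.isSheafFor_iff_generate]
  apply mod_isSheaf_type K' M
  change Sieve.ofArrows _ _ ∈ _
  rw [GrothendieckTopology.mem_over_iff, Sieve.overEquiv_ofArrows]
  exact Precoverage.generate_mem_toGrothendieck hcov

/-- two sections agreeing on a covering are equal -/
theorem sect_ext_of_cover (V : Over T) {I : Type w} (X : I → Scheme.{u})
    (g : ∀ i, X i ⟶ V.left) (hcov : Presieve.ofArrows X g ∈ K'.coverings V.left)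
    (x y : M.val.obj (op V))
    (h : ∀ i, M.val.presheaf.map (Over.homMk (g i) : Over.mk (g i ≫ V.hom) ⟶ V).op x =
      M.val.presheaf.map (Over.homMk (g i) : Over.mk (g i ≫ V.hom) ⟶ V).op y) : x = y := by
  have hs := (isSheafFor_over_ofArrows K' M V (fun i => Over.mk (g i ≫ V.hom))
    (fun i => (Over.homMk (g i) : Over.mk (g i ≫ V.hom) ⟶ V)) hcov).isSeparatedFor
  refine hs.ext (t₁ := x) (t₂ := y) ?_
  intro Z k hk
  obtain ⟨i⟩ := hk
  exact h i

end

section
variable {S T : Scheme.{u}} (f : T ⟶ S) (M : BigSite.Mod Scheme.fppfPrecoverage T)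
variable {R : CommRingCat.{u}} (a : Spec R ⟶ S)
variable {K : Type w} (A : K → CommRingCat.{u}) [∀ k, Algebra R (A k)]
  (c : ∀ k, Spec (A k) ⟶ pullback a f)
  (hc : ∀ k, c k ≫ pullback.fst a f = Spec.map (CommRingCat.ofHom (algebraMap R (A k))))
  (hcov : Presieve.ofArrows (fun k => Spec (A k)) c ∈
    Scheme.fppfPrecoverage.coverings (pullback a f))

set_option backward.isDefEq.respectTransparency.types false in
include hcov in
theorem chartL_cover (B : Adeq.Alg R) :
    Presieve.ofArrows (fun k => Spec (CommRingCat.of (A k ⊗[R] (B : Type u))))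
      (fun k => chartL f a (A k) (c k) (hc k) B) ∈
        Scheme.fppfPrecoverage.coverings (pullback (sB a B) f) :=
  Precoverage.mem_coverings_of_isPullback c hcov (pbq f a B) _
    (fun k => Spec.map (incL (A k) B)) (fun k => isPullback_chartL f a (A k) (c k) (hc k) B)

include hcov in
/-- a section of the push-forward vanishing on all charts vanishes -/
theorem pushF_inj (B : Adeq.Alg R) (x : (pushF f M a).obj (Adeq.pt B))
    (hx : ∀ k, (chartRes f M a (A k) (c k) (hc k)).app (Adeq.pt B) x = 0) : x = 0 := by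
  have hs := (isSheafFor_over_ofArrows Scheme.fppfPrecoverage M (pbOver f a B)
    (fun k => chartOver f a (A k) (c k) B) (fun k => chartHom f a (A k) (c k) (hc k) B)
    (chartL_cover f a A c hc hcov B)).isSeparatedFor
  refine hs.ext (t₁ := x) (t₂ := (0 : M.val.obj (op (pbOver f a B)))) ?_
  intro Z g hg
  obtain ⟨k⟩ := hg
  change M.val.presheaf.map (chartHom f a (A k) (c k) (hc k) B).op x =
    M.val.presheaf.map (chartHom f a (A k) (c k) (hc k) B).op 0
  rw [map_zero]
  exact hx k


variable (L : K → K → Type w) (A' : ∀ k l, L k l → CommRingCat.{u})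
  [∀ k l m, Algebra R (A' k l m)]
  (c' : ∀ k l m, Spec (A' k l m) ⟶ pullback a f)
  (hc' : ∀ k l m, c' k l m ≫ pullback.fst a f =
    Spec.map (CommRingCat.ofHom (algebraMap R (A' k l m))))
  (θ₁ : ∀ k l m, A k →ₐ[R] A' k l m) (θ₂ : ∀ k l m, A l →ₐ[R] A' k l m)
  (hθ₁ : ∀ k l m, Spec.map (CommRingCat.ofHom (θ₁ k l m).toRingHom) ≫ c k = c' k l m)
  (hθ₂ : ∀ k l m, Spec.map (CommRingCat.ofHom (θ₂ k l m).toRingHom) ≫ c l = c' k l m)
  (href : ∀ (k l : K) (Z : Scheme.{u}) (ζk : Z ⟶ Spec (A k)) (ζl : Z ⟶ Spec (A l)),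
    ζk ≫ c k = ζl ≫ c l →
    ∃ (I : Type u) (Z' : I → Scheme.{u}) (z : ∀ i, Z' i ⟶ Z),
      Presieve.ofArrows Z' z ∈ Scheme.fppfPrecoverage.coverings Z ∧
      ∀ i, ∃ (m : L k l) (ε : Z' i ⟶ Spec (A' k l m)),
        ε ≫ Spec.map (CommRingCat.ofHom (θ₁ k l m).toRingHom) = z i ≫ ζk ∧
        ε ≫ Spec.map (CommRingCat.ofHom (θ₂ k l m).toRingHom) = z i ≫ ζl)

include hcov hc' href in
/-- gluing sections of the push-forward from compatible sections on the charts -/
theorem pushF_glue (B : Adeq.Alg R) (y : ∀ k, (chartF f M a (A k) (c k)).obj (Adeq.pt B))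
    (hy : ∀ k l m,
      (chartTransRes f M a (A k) (c k) (A' k l m) (c' k l m) (θ₁ k l m) (hθ₁ k l m)).app
        (Adeq.pt B) (y k) =
      (chartTransRes f M a (A l) (c l) (A' k l m) (c' k l m) (θ₂ k l m) (hθ₂ k l m)).app
        (Adeq.pt B) (y l)) :
    ∃ x : (pushF f M a).obj (Adeq.pt B),
      ∀ k, (chartRes f M a (A k) (c k) (hc k)).app (Adeq.pt B) x = y k := by
  have hs := (Presieve.isSheafFor_arrows_iff _ _).1
    (isSheafFor_over_ofArrows Scheme.fppfPrecoverage M (pbOver f a B)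
      (fun k => chartOver f a (A k) (c k) B) (fun k => chartHom f a (A k) (c k) (hc k) B)
      (chartL_cover f a A c hc hcov B))
  have hcompat : Presieve.Arrows.Compatible (M.val.presheaf ⋙ forget Ab)
      (fun k => chartHom f a (A k) (c k) (hc k) B)
      (fun k => (show (M.val.presheaf ⋙ forget Ab).obj (op (chartOver f a (A k) (c k) B)) from
        y k)) := by
    intro k l Z gi gj hg
    obtain ⟨gil, hgil⟩ : ∃ g' : Z.left ⟶ Spec (CommRingCat.of (A k ⊗[R] (B : Type u))),
      g' = gi.left := ⟨gi.left, rfl⟩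
    obtain ⟨gjl, hgjl⟩ : ∃ g' : Z.left ⟶ Spec (CommRingCat.of (A l ⊗[R] (B : Type u))),
      g' = gj.left := ⟨gj.left, rfl⟩
    have hgl : gil ≫ chartL f a (A k) (c k) (hc k) B =
        gjl ≫ chartL f a (A l) (c l) (hc l) B := by
      rw [hgil, hgjl]
      exact congrArg CommaMorphism.left hg
    have hζ : (gil ≫ Spec.map (incL (A k) B)) ≫ c k =
        (gjl ≫ Spec.map (incL (A l) B)) ≫ c l := by
      rw [Category.assoc, Category.assoc, ← (isPullback_chartL f a (A k) (c k) (hc k) B).w,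
        ← (isPullback_chartL f a (A l) (c l) (hc l) B).w, ← Category.assoc, ← Category.assoc, hgl]
    obtain ⟨I, Z', z, hzcov, hz⟩ := href k l Z.left _ _ hζ
    change M.val.presheaf.map gi.op (y k) = M.val.presheaf.map gj.op (y l)
    apply sect_ext_of_cover Scheme.fppfPrecoverage M Z Z' z hzcov
    intro i
    obtain ⟨m, ε, hε₁, hε₂⟩ := hz i
    have ht₁u : Spec.map (tensL (A k) (A' k l m) (θ₁ k l m) B) ≫ chartL f a (A k) (c k) (hc k) B =
        chartL f a (A' k l m) (c' k l m) (hc' k l m) B :=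
      congrArg CommaMorphism.left
        (chartHom_trans f a (A k) (c k) (hc k) (A' k l m) (c' k l m) (hc' k l m) (θ₁ k l m)
          (hθ₁ k l m) B)
    have ht₂u : Spec.map (tensL (A l) (A' k l m) (θ₂ k l m) B) ≫ chartL f a (A l) (c l) (hc l) B =
        chartL f a (A' k l m) (c' k l m) (hc' k l m) B :=
      congrArg CommaMorphism.left
        (chartHom_trans f a (A l) (c l) (hc l) (A' k l m) (c' k l m) (hc' k l m) (θ₂ k l m)
          (hθ₂ k l m) B)
    have ht₁d : Spec.map (tensL (A k) (A' k l m) (θ₁ k l m) B) ≫ Spec.map (incL (A k) B) =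
        Spec.map (incL (A' k l m) B) ≫ Spec.map (CommRingCat.ofHom (θ₁ k l m).toRingHom) := by
      rw [← Spec.map_comp, ← Spec.map_comp, tensL_incL]
    have ht₂d : Spec.map (tensL (A l) (A' k l m) (θ₂ k l m) B) ≫ Spec.map (incL (A l) B) =
        Spec.map (incL (A' k l m) B) ≫ Spec.map (CommRingCat.ofHom (θ₂ k l m).toRingHom) := by
      rw [← Spec.map_comp, ← Spec.map_comp, tensL_incL]
    obtain ⟨v, hv₁, hv₂⟩ := exists_lift_refined (pbq f a B) (c k) (c l)
      (chartL f a (A k) (c k) (hc k) B) (Spec.map (incL (A k) B))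
      (chartL f a (A l) (c l) (hc l) B) (Spec.map (incL (A l) B))
      (isPullback_chartL f a (A k) (c k) (hc k) B) (isPullback_chartL f a (A l) (c l) (hc l) B)
      (Spec.map (CommRingCat.ofHom (θ₁ k l m).toRingHom))
      (Spec.map (CommRingCat.ofHom (θ₂ k l m).toRingHom)) (c' k l m) (hθ₁ k l m)
      (chartL f a (A' k l m) (c' k l m) (hc' k l m) B) (Spec.map (incL (A' k l m) B))
      (isPullback_chartL f a (A' k l m) (c' k l m) (hc' k l m) B)
      (Spec.map (tensL (A k) (A' k l m) (θ₁ k l m) B))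
      (Spec.map (tensL (A l) (A' k l m) (θ₂ k l m) B)) ht₁u ht₁d ht₂u ht₂d
      gil gjl hgl (z i) ε hε₁ hε₂
    rw [hgil] at hv₁
    rw [hgjl] at hv₂
    let zi : Over.mk (z i ≫ Z.hom) ⟶ Z := Over.homMk (z i)
    obtain ⟨v', hv', e1⟩ := over_lift
      (chartTrans f a (A k) (c k) (A' k l m) (c' k l m) (θ₁ k l m) (hθ₁ k l m) B) (zi ≫ gi) v hv₁
    have e2 : v' ≫ chartTrans f a (A l) (c l) (A' k l m) (c' k l m) (θ₂ k l m) (hθ₂ k l m) B =
        zi ≫ gj := by
      apply Over.OverMorphism.ext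
      refine Eq.trans ?_ hv₂
      exact congrArg (fun t => t ≫ Spec.map (tensL (A l) (A' k l m) (θ₂ k l m) B)) hv'
    refine (sheaf_map_map_apply M.val.presheaf zi gi (y k)).trans
      (Eq.trans ?_ (sheaf_map_map_apply M.val.presheaf zi gj (y l)).symm)
    rw [← e1, ← e2]
    refine (sheaf_map_map_apply M.val.presheaf v'
      (chartTrans f a (A k) (c k) (A' k l m) (c' k l m) (θ₁ k l m) (hθ₁ k l m) B) (y k)).symm.trans
      (Eq.trans ?_ (sheaf_map_map_apply M.val.presheaf v'
        (chartTrans f a (A l) (c l) (A' k l m) (c' k l m) (θ₂ k l m) (hθ₂ k l m) B) (y l)))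
    exact congrArg (fun t => M.val.presheaf.map v'.op t) (hy k l m)
  obtain ⟨t, ht, -⟩ := hs _ hcompat
  exact ⟨t, ht⟩

end
end Groth.Agent.Lib.Helper44
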