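import Groth.Prelude.Def_Adeq2
import Mathlib

set_option autoImplicit false
universe u w
open CategoryTheory CategoryTheory.Limits Opposite TensorProduct AlgebraicGeometry

namespace Groth.Agent.Lib.Helper44

set_option backward.isDefEq.respectTransparency.types false in
/-- a quasi-compact quasi-separated scheme has a finite affine atlas with finite affine refinements
of the pairwise intersections -/
theorem exists_atlas (X : Scheme.{u}) [CompactSpace X] [QuasiSeparatedSpace X] :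
    ∃ (K : Type u) (_ : Finite K) (A : K → CommRingCat.{u}) (c : ∀ k, Spec (A k) ⟶ X)
      (L : K → K → Type u) (_ : ∀ k l, Finite (L k l)) (A' : ∀ k l, L k l → CommRingCat.{u})
      (c' : ∀ k l m, Spec (A' k l m) ⟶ X) (θ₁ : ∀ k l m, A k ⟶ A' k l m)
      (θ₂ : ∀ k l m, A l ⟶ A' k l m),
      Presieve.ofArrows (fun k => Spec (A k)) c ∈ Scheme.fppfPrecoverage.coverings X ∧
      (∀ k l m, Spec.map (θ₁ k l m) ≫ c k = c' k l m) ∧
      (∀ k l m, Spec.map (θ₂ k l m) ≫ c l = c' k l m) ∧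
      ∀ (k l : K) (Z : Scheme.{u}) (ζk : Z ⟶ Spec (A k)) (ζl : Z ⟶ Spec (A l)),
        ζk ≫ c k = ζl ≫ c l →
        ∃ (I : Type u) (Z' : I → Scheme.{u}) (z : ∀ i, Z' i ⟶ Z),
          Presieve.ofArrows Z' z ∈ Scheme.fppfPrecoverage.coverings Z ∧
          ∀ i, ∃ (m : L k l) (ε : Z' i ⟶ Spec (A' k l m)),
            ε ≫ Spec.map (θ₁ k l m) = z i ≫ ζk ∧ ε ≫ Spec.map (θ₂ k l m) = z i ≫ ζl := by
  obtain ⟨s₀, hs₀, hs₀'⟩ := (isCompact_iff_finite_and_eq_biUnion_affineOpens (X := X) (U := ⊤)).1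
    isCompact_univ
  have hqs := (quasiSeparatedSpace_iff_forall_affineOpens (X := X)).1 inferInstance
  have hinter : ∀ U V : X.affineOpens, ∃ s : Set X.affineOpens, s.Finite ∧
      (U.1 ⊓ V.1 : X.Opens) = ⨆ i ∈ s, (i : X.Opens) := fun U V =>
    (isCompact_iff_finite_and_eq_biUnion_affineOpens (X := X) (U := U.1 ⊓ V.1)).1 (hqs U V)
  choose s hsfin hs using hinter
  have hle₁ : ∀ (k l : s₀) (m : s k.1 l.1), (m.1 : X.Opens) ≤ k.1.1 := fun k l m =>
    le_trans (le_trans (le_iSup₂ (f := fun i (_ : i ∈ s k.1 l.1) => (i : X.Opens)) m.1 m.2)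
      (hs k.1 l.1).ge) inf_le_left
  have hle₂ : ∀ (k l : s₀) (m : s k.1 l.1), (m.1 : X.Opens) ≤ l.1.1 := fun k l m =>
    le_trans (le_trans (le_iSup₂ (f := fun i (_ : i ∈ s k.1 l.1) => (i : X.Opens)) m.1 m.2)
      (hs k.1 l.1).ge) inf_le_right
  refine ⟨s₀, hs₀.to_subtype, fun k => Γ(X, k.1.1), fun k => k.1.2.fromSpec,
    fun k l => s k.1 l.1, fun k l => (hsfin k.1 l.1).to_subtype, fun k l m => Γ(X, m.1.1),
    fun k l m => m.1.2.fromSpec, fun k l m => X.presheaf.map (homOfLE (hle₁ k l m)).op,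
    fun k l m => X.presheaf.map (homOfLE (hle₂ k l m)).op, ?_, ?_, ?_, ?_⟩
  · refine (Scheme.ofArrows_mem_precoverage_iff (@Flat ⊓ @LocallyOfFinitePresentation)).2
      ⟨fun x => ?_, fun k => ⟨inferInstance, inferInstance⟩⟩
    have hx : x ∈ (⊤ : X.Opens) := trivial
    rw [hs₀'] at hx
    simp only [TopologicalSpace.Opens.mem_iSup] at hx
    obtain ⟨i, hi, hxi⟩ := hx
    refine ⟨⟨i, hi⟩, ?_⟩
    rw [i.2.range_fromSpec]
    exact hxi
  · intro k l m
    exact k.1.2.map_fromSpec m.1.2 (homOfLE (hle₁ k l m)).op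
  · intro k l m
    exact l.1.2.map_fromSpec m.1.2 (homOfLE (hle₂ k l m)).op
  · intro k l Z ζk ζl hζ
    let ζ : Z ⟶ X := ζk ≫ k.1.2.fromSpec
    have hcov : TopologicalSpace.IsOpenCover (fun m : s k.1 l.1 => ζ ⁻¹ᵁ (m.1 : X.Opens)) := by
      change (⨆ m : s k.1 l.1, ζ ⁻¹ᵁ (m.1 : X.Opens)) = ⊤
      rw [eq_top_iff]
      intro z _
      have h1 : ζ z ∈ (k.1.1 ⊓ l.1.1 : X.Opens) := by
        constructor
        · change ζ z ∈ (k.1.1 : Set X)
          rw [← k.1.2.range_fromSpec]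
          exact ⟨ζk z, rfl⟩
        · change ζ z ∈ (l.1.1 : Set X)
          rw [← l.1.2.range_fromSpec]
          refine ⟨ζl z, ?_⟩
          change (ζl ≫ l.1.2.fromSpec) z = (ζk ≫ k.1.2.fromSpec) z
          rw [← hζ]
      rw [hs k.1 l.1] at h1
      simp only [TopologicalSpace.Opens.mem_iSup] at h1
      obtain ⟨i, hi, hzi⟩ := h1
      simp only [TopologicalSpace.Opens.mem_iSup]
      exact ⟨⟨i, hi⟩, hzi⟩
    refine ⟨s k.1 l.1, fun m => (ζ ⁻¹ᵁ (m.1 : X.Opens)).toScheme,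
      fun m => (ζ ⁻¹ᵁ (m.1 : X.Opens)).ι,
      Scheme.zariskiPrecoverage_le_fppfPrecoverage _ (Z.openCoverOfIsOpenCover _ hcov).mem₀, ?_⟩
    intro m
    have hrange : Set.range ((ζ ⁻¹ᵁ (m.1 : X.Opens)).ι ≫ ζ) ⊆ Set.range m.1.2.fromSpec := by
      rw [m.1.2.range_fromSpec]
      rintro _ ⟨w, rfl⟩
      exact w.2
    refine ⟨m, IsOpenImmersion.lift m.1.2.fromSpec ((ζ ⁻¹ᵁ (m.1 : X.Opens)).ι ≫ ζ) hrange, ?_, ?_⟩
    · rw [← cancel_mono k.1.2.fromSpec, Category.assoc, Category.assoc,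
        k.1.2.map_fromSpec m.1.2 (homOfLE (hle₁ k l m)).op, IsOpenImmersion.lift_fac]
    · rw [← cancel_mono l.1.2.fromSpec, Category.assoc, Category.assoc,
        l.1.2.map_fromSpec m.1.2 (homOfLE (hle₂ k l m)).op, IsOpenImmersion.lift_fac, ← hζ]

end Groth.Agent.Lib.Helper44
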