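import Groth.Agent.Lib.Helper44.PushAtlas
import Groth.Agent.Lib.Helper44.PushExistsAtlas
import Mathlib

set_option autoImplicit false
universe u w
open CategoryTheory CategoryTheory.Limits Opposite TensorProduct AlgebraicGeometry

namespace Groth.Agent.Lib.Helper44

section
variable {S T : Scheme.{u}} (f : T ⟶ S) (M : BigSite.Mod Scheme.fppfPrecoverage T)
variable {R : CommRingCat.{u}} (a : Spec R ⟶ S)

/-- instance-free version of `adequate_pushF_of_atlas` -/
theorem adequate_pushF_of_atlas' {K : Type w} [Finite K] (A : K → CommRingCat.{u})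
    (c : ∀ k, Spec (A k) ⟶ pullback a f)
    (hcov : Presieve.ofArrows (fun k => Spec (A k)) c ∈
      Scheme.fppfPrecoverage.coverings (pullback a f))
    (L : K → K → Type w) [∀ k l, Finite (L k l)] (A' : ∀ k l, L k l → CommRingCat.{u})
    (c' : ∀ k l m, Spec (A' k l m) ⟶ pullback a f)
    (θ₁ : ∀ k l m, A k ⟶ A' k l m) (θ₂ : ∀ k l m, A l ⟶ A' k l m)
    (hθ₁ : ∀ k l m, Spec.map (θ₁ k l m) ≫ c k = c' k l m)
    (hθ₂ : ∀ k l m, Spec.map (θ₂ k l m) ≫ c l = c' k l m)
    (href : ∀ (k l : K) (Z : Scheme.{u}) (ζk : Z ⟶ Spec (A k)) (ζl : Z ⟶ Spec (A l)),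
      ζk ≫ c k = ζl ≫ c l →
      ∃ (I : Type u) (Z' : I → Scheme.{u}) (z : ∀ i, Z' i ⟶ Z),
        Presieve.ofArrows Z' z ∈ Scheme.fppfPrecoverage.coverings Z ∧
        ∀ i, ∃ (m : L k l) (ε : Z' i ⟶ Spec (A' k l m)),
          ε ≫ Spec.map (θ₁ k l m) = z i ≫ ζk ∧ ε ≫ Spec.map (θ₂ k l m) = z i ≫ ζl)
    (hM : Adeq.adequateMod Scheme.fppfPrecoverage T M) :
    Adeq.adequate R (pushF f M a) := by
  let φ : ∀ k, R ⟶ A k := fun k => Spec.preimage (c k ≫ pullback.fst a f)
  let φ' : ∀ k l m, R ⟶ A' k l m := fun k l m => Spec.preimage (c' k l m ≫ pullback.fst a f)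
  letI : ∀ k, Algebra R (A k) := fun k => (φ k).hom.toAlgebra
  letI : ∀ k l m, Algebra R (A' k l m) := fun k l m => (φ' k l m).hom.toAlgebra
  have hc : ∀ k, c k ≫ pullback.fst a f = Spec.map (CommRingCat.ofHom (algebraMap R (A k))) :=
    fun k => (Spec.map_preimage _).symm
  have hc' : ∀ k l m, c' k l m ≫ pullback.fst a f =
      Spec.map (CommRingCat.ofHom (algebraMap R (A' k l m))) :=
    fun k l m => (Spec.map_preimage _).symm
  have hφ₁ : ∀ k l m, φ k ≫ θ₁ k l m = φ' k l m := by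
    intro k l m
    apply Spec.map_injective
    rw [Spec.map_comp, Spec.map_preimage, Spec.map_preimage, ← Category.assoc, hθ₁]
  have hφ₂ : ∀ k l m, φ l ≫ θ₂ k l m = φ' k l m := by
    intro k l m
    apply Spec.map_injective
    rw [Spec.map_comp, Spec.map_preimage, Spec.map_preimage, ← Category.assoc, hθ₂]
  let Θ₁ : ∀ k l m, A k →ₐ[R] A' k l m := fun k l m =>
    { (θ₁ k l m).hom with
      commutes' := fun r => congrArg (fun g : R ⟶ A' k l m => g.hom r) (hφ₁ k l m) }
  let Θ₂ : ∀ k l m, A l →ₐ[R] A' k l m := fun k l m =>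
    { (θ₂ k l m).hom with
      commutes' := fun r => congrArg (fun g : R ⟶ A' k l m => g.hom r) (hφ₂ k l m) }
  exact adequate_pushF_of_atlas f M a A c hc hcov L A' c' hc' Θ₁ Θ₂ hθ₁ hθ₂ href hM

variable [QuasiCompact f] [QuasiSeparated f]

/-- the push-forward functor of sections along a qcqs morphism is adequate -/
theorem adequate_pushF (hM : Adeq.adequateMod Scheme.fppfPrecoverage T M) :
    Adeq.adequate R (pushF f M a) := by
  have : QuasiSeparatedSpace ↑(pullback a f) :=
    quasiSeparatedSpace_of_quasiSeparated (pullback.fst a f)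
  obtain ⟨K, hK, A, c, L, hL, A', c', θ₁, θ₂, hcov, hθ₁, hθ₂, href⟩ := exists_atlas (pullback a f)
  exact adequate_pushF_of_atlas' f M a A c hcov L A' c' θ₁ θ₂ hθ₁ hθ₂ href hM

/-- **Push-forward**: the push-forward of an adequate module along a quasi-compact and
quasi-separated morphism is adequate. -/
theorem adequateMod_pushMod_fppf (hM : Adeq.adequateMod Scheme.fppfPrecoverage T M) :
    Adeq.adequateMod Scheme.fppfPrecoverage S
      ((BigSite.pushMod Scheme.fppfPrecoverage f).obj M) := by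
  refine ⟨S.affineOpenCover.I₀, S.affineOpenCover.X, S.affineOpenCover.f,
    Scheme.zariskiPrecoverage_le_fppfPrecoverage _ S.affineOpenCover.cover.mem₀, fun j => ?_⟩
  exact adequate_pushF f M (S.affineOpenCover.f j) hM

end
end Groth.Agent.Lib.Helper44
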