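import Groth.Agent.Lib.Helper44.GammaSeries
import Groth.Agent.Lib.Helper44.GammaFilSpan

/-!
# The γ-operations of `N - d` for an element `N` of rank `d`

If `λ^k(N) = 0` for `k > d` (and `λ_t(1) = 1 + t`), then `γ_t(N - d) = Σ_{i ≤ d} λ^i(N) t^i (1-t)^{d-i}`
is a polynomial of degree `≤ d` with top coefficient `(-1)^d λ_{-1}(N)`.
-/

set_option autoImplicit false
open Finset

namespace Groth.Agent.Lib.Helper44

open LambdaRing PowerSeries

section RankGamma

variable {A : Type*} [CommRing A]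

theorem coeff_one_sub_X_pow_of_lt {n k : ℕ} (h : n < k) :
    coeff k ((1 - X : PowerSeries A) ^ n) = 0 := by
  have e : ((1 - X : PowerSeries A) ^ n) = (((1 - Polynomial.X : Polynomial A) ^ n : Polynomial A) :
      PowerSeries A) := by
    rw [Polynomial.coe_pow, Polynomial.coe_sub, Polynomial.coe_one, Polynomial.coe_X]
  rw [e, Polynomial.coeff_coe]
  apply Polynomial.coeff_eq_zero_of_natDegree_lt
  refine lt_of_le_of_lt ?_ h
  have h1 : (1 - Polynomial.X : Polynomial A).natDegree ≤ 1 := by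
    refine le_trans (Polynomial.natDegree_sub_le _ _) ?_
    simp [Polynomial.natDegree_X_le]
  simpa using Polynomial.natDegree_pow_le_of_le n h1

theorem coeff_one_sub_X_pow_self (n : ℕ) :
    coeff n ((1 - X : PowerSeries A) ^ n) = (-1) ^ n := by
  have e : ((1 - X : PowerSeries A) ^ n) = (((1 - Polynomial.X : Polynomial A) ^ n : Polynomial A) :
      PowerSeries A) := by
    rw [Polynomial.coe_pow, Polynomial.coe_sub, Polynomial.coe_one, Polynomial.coe_X]
  rw [e, Polynomial.coeff_coe]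
  have h1 : (1 - Polynomial.X : Polynomial A).natDegree ≤ 1 := by
    refine le_trans (Polynomial.natDegree_sub_le _ _) ?_
    simp [Polynomial.natDegree_X_le]
  have := Polynomial.coeff_pow_of_natDegree_le (n := 1) (m := n) h1
  rw [Nat.mul_one] at this
  rw [this, Polynomial.coeff_sub, Polynomial.coeff_one, if_neg (by omega), Polynomial.coeff_X_one,
    zero_sub]

variable [LambdaOps A]

theorem one_sub_X_mul_gammaSeries_one (h1 : ∀ k : ℕ, 2 ≤ k → LambdaOps.lam k (1 : A) = 0) :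
    (1 - X) * gammaSeries (1 : A) = 1 := by
  rw [gammaSeries_one h1]
  have := one_sub_X_mul (K := A) 1
  simpa using this

theorem one_sub_X_pow_mul_gammaSeries_natCast
    (h1 : ∀ k : ℕ, 2 ≤ k → LambdaOps.lam k (1 : A) = 0) (d : ℕ) :
    (1 - X) ^ d * gammaSeries ((d : ℕ) : A) = 1 := by
  induction d with
  | zero => simp [gammaSeries_zero]
  | succ d ih =>
    rw [Nat.cast_succ, gammaSeries_add, pow_succ]
    calc (1 - X) ^ d * (1 - X) * (gammaSeries (d : A) * gammaSeries 1)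
        = ((1 - X) ^ d * gammaSeries (d : A)) * ((1 - X) * gammaSeries 1) := by ring
      _ = 1 := by rw [ih, one_sub_X_mul_gammaSeries_one h1, one_mul]

theorem gammaSeries_sub_natCast (h1 : ∀ k : ℕ, 2 ≤ k → LambdaOps.lam k (1 : A) = 0) (N : A) (d : ℕ) :
    gammaSeries (N - (d : A)) = gammaSeries N * (1 - X) ^ d := by
  have h : gammaSeries N = gammaSeries (N - d) * gammaSeries (d : A) := by
    rw [← gammaSeries_add, sub_add_cancel]
  rw [h, mul_assoc, mul_comm (gammaSeries (d : A)), one_sub_X_pow_mul_gammaSeries_natCast h1, mul_one]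

theorem lamSeries_eq_sum_of_rank {d : ℕ} {N : A} (hN : ∀ k : ℕ, d < k → LambdaOps.lam k N = 0) :
    lamSeries N = ∑ i ∈ range (d + 1), C (LambdaOps.lam i N) * X ^ i := by
  ext n
  rw [coeff_lamSeries, map_sum]
  simp_rw [coeff_C_mul_X_pow]
  rw [Finset.sum_ite_eq]
  split_ifs with h
  · rfl
  · rw [Finset.mem_range] at h
    exact hN n (by omega)

omit [LambdaOps A] in
theorem tOverOneSub_mul_one_sub_X : tOverOneSub A * (1 - X) = X := by
  rw [tOverOneSub, mul_assoc, mk_one_mul_one_sub_eq_one, mul_one]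

theorem gammaSeries_eq_sum_of_rank {d : ℕ} {N : A} (hN : ∀ k : ℕ, d < k → LambdaOps.lam k N = 0) :
    gammaSeries N = ∑ i ∈ range (d + 1), C (LambdaOps.lam i N) * tOverOneSub A ^ i := by
  rw [gammaSeries_eq_subst, lamSeries_eq_sum_of_rank hN, ← coe_substAlgHom hasSubst_tOverOneSub,
    map_sum]
  refine Finset.sum_congr rfl fun i _ => ?_
  rw [map_mul, map_pow, substAlgHom_X, coe_substAlgHom, subst_C]
  rfl

/-- `γ_t(N - d) = Σ_{i ≤ d} λ^i(N) t^i (1 - t)^{d - i}`. -/
theorem gammaSeries_sub_natCast_of_rank (h1 : ∀ k : ℕ, 2 ≤ k → LambdaOps.lam k (1 : A) = 0)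
    {d : ℕ} {N : A} (hN : ∀ k : ℕ, d < k → LambdaOps.lam k N = 0) :
    gammaSeries (N - (d : A)) =
      ∑ i ∈ range (d + 1), C (LambdaOps.lam i N) * (X ^ i * (1 - X) ^ (d - i)) := by
  rw [gammaSeries_sub_natCast h1, gammaSeries_eq_sum_of_rank hN, Finset.sum_mul]
  refine Finset.sum_congr rfl fun i hi => ?_
  have hi' : i ≤ d := by
    have := Finset.mem_range.mp hi
    omega
  rw [mul_assoc]
  congr 1
  calc tOverOneSub A ^ i * (1 - X) ^ d
      = tOverOneSub A ^ i * ((1 - X) ^ i * (1 - X) ^ (d - i)) := by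
        rw [← pow_add, Nat.add_sub_cancel' hi']
    _ = (tOverOneSub A * (1 - X)) ^ i * (1 - X) ^ (d - i) := by rw [mul_pow]; ring
    _ = X ^ i * (1 - X) ^ (d - i) := by rw [tOverOneSub_mul_one_sub_X]

/-- `γ^j(N - d) = 0` for `j > d` when `N` has rank `d`. -/
theorem gamma_sub_natCast_eq_zero (h1 : ∀ k : ℕ, 2 ≤ k → LambdaOps.lam k (1 : A) = 0)
    {d : ℕ} {N : A} (hN : ∀ k : ℕ, d < k → LambdaOps.lam k N = 0) {j : ℕ} (hj : d < j) :
    gamma j (N - (d : A)) = 0 := by
  rw [← coeff_gammaSeries, gammaSeries_sub_natCast_of_rank h1 hN, map_sum]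
  refine Finset.sum_eq_zero fun i hi => ?_
  have hi' : i ≤ d := by
    have := Finset.mem_range.mp hi
    omega
  rw [coeff_C_mul, coeff_X_pow_mul', if_pos (by omega), coeff_one_sub_X_pow_of_lt (by omega),
    mul_zero]

/-- `γ^d(N - d) = (-1)^d λ_{-1}(N)` when `N` has rank `d`. -/
theorem gamma_sub_natCast_self (h1 : ∀ k : ℕ, 2 ≤ k → LambdaOps.lam k (1 : A) = 0)
    {d : ℕ} {N : A} (hN : ∀ k : ℕ, d < k → LambdaOps.lam k N = 0) :
    gamma d (N - (d : A)) =
      (-1) ^ d * ∑ i ∈ range (d + 1), (-1 : A) ^ i * LambdaOps.lam i N := by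
  rw [← coeff_gammaSeries, gammaSeries_sub_natCast_of_rank h1 hN, map_sum, Finset.mul_sum]
  refine Finset.sum_congr rfl fun i hi => ?_
  have hi' : i ≤ d := by
    have := Finset.mem_range.mp hi
    omega
  rw [coeff_C_mul, coeff_X_pow_mul', if_pos hi', coeff_one_sub_X_pow_self]
  have : (-1 : A) ^ d = (-1) ^ (d - i) * (-1) ^ i := by
    rw [← pow_add, Nat.sub_add_cancel hi']
  rw [this]
  have hsq : (-1 : A) ^ i * (-1) ^ i = 1 := by
    rw [← pow_add, ← two_mul, pow_mul]; simp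
  linear_combination (-(LambdaOps.lam i N) * (-1 : A) ^ (d - i)) * hsq

end RankGamma

end Groth.Agent.Lib.Helper44
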