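import Groth.Agent.Lib.Helper44.UnivQuot
import Groth.Agent.Lib.Helper44.DivGamma
import Groth.Agent.Lib.Helper44.RankGamma
import Groth.Agent.Lib.Helper44.GammaFilStab

/-!
# The classes `γ^p(N, x)` for an element `N` of rank `d`

For `N` with `λ^k(N) = 0` (`k > d`) and `ε(N) = d`, `Λ = λ_{-1}(N)`: every `x ∈ Fil^i` satisfies
`γ^a(x Λ) = Λ q_a` with `q_a ∈ Fil^{max(a-d, i)}`, and `γ^{d+i}(x Λ) ≡ (-1)^(d+i-1) (d+i-1)! x Λ`
modulo `Λ · Fil^{i+1}`.
-/

set_option autoImplicit false
open Finset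

namespace Groth.Agent.Lib.Helper44

open LambdaRing MvPolynomial

universe u v

section PM

variable {ι : Type} [DecidableEq ι] [Fintype ι]

omit [DecidableEq ι] [Fintype ι] in
theorem gvar_mem_wfil (s : ι) (e : ℕ) :
    gvar s e ∈ wfil ℤ (fun w : ι × ℕ => w.2 + 1) e := by
  unfold gvar
  split_ifs with h
  · rw [h, wfil_zero]
    trivial
  · have := X_mem_wfil (R := ℤ) (fun w : ι × ℕ => w.2 + 1) (s, e - 1)
    simp only at this
    rwa [Nat.sub_add_cancel (by omega)] at this

omit [DecidableEq ι] in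
theorem pureMon_mem_wfil (e : ι → ℕ) :
    pureMon e ∈ wfil ℤ (fun w : ι × ℕ => w.2 + 1) (∑ s, e s) :=
  prod_mem_of_mul (fun k => wfil ℤ (fun w : ι × ℕ => w.2 + 1) k) (wfil_zero _)
    (fun _ _ _ _ hx hy => mul_mem_wfil hx hy) Finset.univ _ e (fun s _ => gvar_mem_wfil s (e s))

end PM

section ListForm

variable {K : Type u} [CommRing K] {A : Type v} [CommRing A] [LambdaOps A]

/-- The universal division lemma for products of γ-classes. -/
theorem exists_quot_listProd (hA : IsSpecial A) (ε : A →+* K) (d : ℕ) (hd : 1 ≤ d) (ν : A)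
    (hν : ε ν = 0) (hν0 : ∀ j, d < j → gamma j ν = 0) (l : List (ℕ × A))
    (hl : ∀ p ∈ l, ε p.2 = 0) (c₀ : ℤ) (a : ℕ) (ha : 1 ≤ a) :
    ∃ q : A, q ∈ gammaFil ε (max a ((l.map Prod.fst).sum + d) - d) ∧
      gamma a (gamma d ν * ((c₀ : A) * (l.map fun p => gamma p.1 p.2).prod)) = gamma d ν * q ∧
      (a = d + (l.map Prod.fst).sum →
        q - (-1 : A) ^ (a - 1) * ((a - 1).factorial : A) *
          ((c₀ : A) * (l.map fun p => gamma p.1 p.2).prod) ∈
            gammaFil ε ((l.map Prod.fst).sum + 1)) := by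
  classical
  set x : Option (Fin l.length) → A := fun o => Option.elim o ν (fun k => (l[k.1]).2) with hx
  set e : Option (Fin l.length) → ℕ := fun o => Option.elim o 0 (fun k => (l[k.1]).1) with he
  have hsum : ∑ s, e s = (l.map Prod.fst).sum := by
    rw [Fintype.sum_option]
    simp only [he, Option.elim_none, Option.elim_some, zero_add]
    exact Fin.sum_univ_fun_getElem l Prod.fst
  have hprod : ∏ s, gamma (e s) (x s) = (l.map fun p => gamma p.1 p.2).prod := by
    rw [Fintype.prod_option]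
    simp only [he, hx, Option.elim_none, Option.elim_some]
    rw [gamma_zero', one_mul]
    exact Fin.prod_univ_fun_getElem l (fun p => gamma p.1 p.2)
  have hF₀ : (C c₀ * pureMon e : MvPolynomial (Option (Fin l.length) × ℕ) ℤ) ∈
      wfil ℤ (fun w : Option (Fin l.length) × ℕ => w.2 + 1) (l.map Prod.fst).sum := by
    rw [← hsum]
    exact Ideal.mul_mem_left _ _ (pureMon_mem_wfil e)
  have hev : evGam x (C c₀ * pureMon e) = (c₀ : A) * (l.map fun p => gamma p.1 p.2).prod := by
    rw [map_mul, evGam_pureMon, hprod]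
    congr 1
    have : (C c₀ : MvPolynomial (Option (Fin l.length) × ℕ) ℤ) = algebraMap ℤ _ c₀ := rfl
    rw [this, AlgHom.commutes]
    simp
  have hxJ : ∀ s i, gamma (i + 1) (x s) ∈ gammaFil ε (i + 1) := by
    intro s i
    apply gamma_mem_gammaFil_of_aug_eq_zero
    cases s with
    | none => exact hν
    | some k => exact hl _ (List.getElem_mem k.2)
  obtain ⟨q, hq1, hq2, hq3⟩ := exists_quot_of_top_gamma d hd (C c₀ * pureMon e) _ hF₀ a ha hA
    (gammaFil ε) (gammaFil_zero ε) (fun _ _ h => gammaFil_anti ε h)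
    (fun _ _ _ _ hx hy => mul_mem_gammaFil ε hx hy) x hxJ hν0
  rw [hev] at hq2 hq3
  exact ⟨q, hq1, hq2, hq3⟩

end ListForm

section Rank

variable {K : Type u} [CommRing K] [LambdaOps K] [BinomialRing K]
  {A : Type v} [CommRing A] [LambdaOps A] [Algebra K A]

/-- Every `x ∈ Fil^i` has divided γ-classes `γ^a(N, x) ∈ Fil^{max(a-d, i)}`, and satisfies the
fundamental congruence in degree `d + i`. -/
theorem divGood_divCong_of_mem_gammaFil (hKb : IsBinomial K) (hA : IsSpecial A) (ε : A →ₐ[K] K)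
    (hε : IsAugLambdaAlg K A ε) (d : ℕ) (hd : 1 ≤ d) (N : A)
    (hN : ∀ k : ℕ, d < k → LambdaOps.lam k N = 0) (hNε : ε N = (d : K)) (i : ℕ) {x : A}
    (hx : x ∈ gammaFil (ε : A →+* K) i) :
    DivGood (∑ j ∈ range (d + 1), (-1 : A) ^ j * LambdaOps.lam j N)
        (fun a => gammaFil (ε : A →+* K) (max (a - d) i)) x ∧
      DivCong (∑ j ∈ range (d + 1), (-1 : A) ^ j * LambdaOps.lam j N) (d + i)
        ((-1 : A) ^ (d + i - 1) * ((d + i - 1).factorial : A))
        (gammaFil (ε : A →+* K) (i + 1)) x := by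
  classical
  set Λ : A := ∑ j ∈ range (d + 1), (-1 : A) ^ j * LambdaOps.lam j N with hΛ
  set ν : A := N - (d : A) with hν
  have h1 := hA.lam_one_eq_zero
  have hνε : (ε : A →+* K) ν = 0 := by
    show ε ν = 0
    rw [hν, map_sub, hNε, map_natCast, sub_self]
  have hν0 : ∀ j, d < j → gamma j ν = 0 := fun j hj => gamma_sub_natCast_eq_zero h1 hN hj
  have hνd : gamma d ν = (-1) ^ d * Λ := gamma_sub_natCast_self h1 hN
  have hsq : ((-1 : A) ^ d) * ((-1 : A) ^ d) = 1 := by
    rw [← pow_add, ← two_mul, pow_mul]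
    simp
  have hΛν : Λ = (-1) ^ d * gamma d ν := by rw [hνd, ← mul_assoc, hsq, one_mul]
  have hΛmem : Λ ∈ gammaFil (ε : A →+* K) d := by
    rw [hΛν]
    exact Ideal.mul_mem_left _ _ (gamma_mem_gammaFil_of_aug_eq_zero _ hνε d)
  set J : ℕ → Ideal A := fun a => gammaFil (ε : A →+* K) (max (a - d) i) with hJdef
  set J' : ℕ → Ideal A := fun a => gammaFil (ε : A →+* K) (max (a - d) (i + 1)) with hJ'def
  have hJ : ∀ a b u v, u ∈ J a → v ∈ J b → Λ * u * v ∈ J (a + b) := by
    intro a b u v hu hv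
    have := mul_mem_gammaFil _ (mul_mem_gammaFil _ hΛmem hu) hv
    refine gammaFil_anti _ ?_ this
    omega
  have hJJ' : ∀ a b u v, u ∈ J a → v ∈ J b → Λ * u * v ∈ J' (a + b) := by
    intro a b u v hu hv
    have := mul_mem_gammaFil _ (mul_mem_gammaFil _ hΛmem hu) hv
    refine gammaFil_anti _ ?_ this
    omega
  have hJ'm : J' (d + i) = gammaFil (ε : A →+* K) (i + 1) := by
    show gammaFil (ε : A →+* K) (max (d + i - d) (i + 1)) = _
    congr 1
    omega
  set c : A := (-1 : A) ^ (d + i - 1) * ((d + i - 1).factorial : A) with hc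
  have hx' : x ∈ genSpan ε Set.univ i := by
    rw [← gammaFil_restrictScalars_eq_genSpan ε Set.univ AddSubgroup.closure_univ i]
    exact hx
  rw [← hJ'm]
  rw [genSpan] at hx'
  clear hx
  induction hx' using Submodule.span_induction with
  | mem y hy =>
    obtain ⟨l, -, hW, rfl⟩ := hy
    set l' : List (ℕ × A) := l.map (fun p => (p.1, p.2 - algebraMap K A (ε p.2))) with hl'
    have hl'0 : ∀ p ∈ l', (ε : A →+* K) p.2 = 0 := by
      intro p hp
      obtain ⟨p0, _, rfl⟩ := List.mem_map.mp hp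
      show ε (p0.2 - algebraMap K A (ε p0.2)) = 0
      simp
    have hsum' : (l'.map Prod.fst).sum = (l.map Prod.fst).sum := by
      rw [hl', List.map_map]
      rfl
    have hprod' : (l'.map fun p => gamma p.1 p.2).prod =
        (l.map fun p => gamma p.1 (p.2 - algebraMap K A (ε p.2))).prod := by
      rw [hl', List.map_map]
      rfl
    set M : A := (l.map fun p => gamma p.1 (p.2 - algebraMap K A (ε p.2))).prod with hM
    set W : ℕ := (l.map Prod.fst).sum with hWdef
    have hMmem : M ∈ gammaFil (ε : A →+* K) W :=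
      Ideal.subset_span ⟨l', hl'0, by rw [hsum'], hprod'.symm⟩
    have hMΛ : M * Λ = gamma d ν * ((((-1 : ℤ) ^ d : ℤ) : A) * M) := by
      rw [hνd]
      push_cast
      linear_combination (-(M * Λ)) * hsq
    have hquot : ∀ a, 1 ≤ a → ∃ q, q ∈ gammaFil (ε : A →+* K) (max a (W + d) - d) ∧
        gamma a (M * Λ) = Λ * q ∧
        (a = d + W → q - (-1 : A) ^ (a - 1) * ((a - 1).factorial : A) * M ∈
          gammaFil (ε : A →+* K) (W + 1)) := by
      intro a ha
      obtain ⟨q, hq1, hq2, hq3⟩ := exists_quot_listProd hA (ε : A →+* K) d hd ν hνε hν0 l' hl'0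
        ((-1) ^ d) a ha
      rw [hsum'] at hq1 hq3
      rw [hprod'] at hq2 hq3
      refine ⟨(-1) ^ d * q, Ideal.mul_mem_left _ _ hq1, ?_, ?_⟩
      · rw [hMΛ, hq2, hνd]
        ring
      · intro hai
        have := Ideal.mul_mem_left _ ((-1 : A) ^ d) (hq3 hai)
        convert this using 1
        push_cast
        linear_combination ((-1 : A) ^ (a - 1) * ((a - 1).factorial : A) * M) * hsq
    constructor
    · intro a ha
      obtain ⟨q, hq1, hq2, -⟩ := hquot a ha
      exact ⟨q, gammaFil_anti _ (by omega) hq1, hq2⟩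
    · obtain ⟨q, hq1, hq2, hq3⟩ := hquot (d + i) (by omega)
      refine ⟨q - c * M, ?_, by rw [hq2]; ring⟩
      rw [hJ'm]
      rcases hW.eq_or_lt with hWi | hWi
      · have := hq3 (by omega)
        rw [← hWi] at this
        exact this
      · apply Ideal.sub_mem
        · exact gammaFil_anti _ (by omega) hq1
        · exact Ideal.mul_mem_left _ _ (gammaFil_anti _ (by omega) hMmem)
  | zero => exact ⟨divGood_zero Λ J, divCong_zero Λ (by omega) c _⟩
  | add y z _ _ hy hz =>
    exact ⟨hy.1.add hJ hz.1, DivCong.add hJJ' (by omega) c hy.1 hz.1 hy.2 hz.2⟩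
  | smul κ y _ hy =>
    rw [Algebra.smul_def]
    exact ⟨hy.1.algebraMap_mul hKb hA hε.isLambdaAlg hJ κ,
      DivCong.algebraMap_mul hKb hA hε.isLambdaAlg hJ hJJ' (by omega) c κ hy.1 hy.2⟩

end Rank

end Groth.Agent.Lib.Helper44
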