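import Groth.Agent.Lib.Helper44.TangentNine
import Mathlib.Algebra.Category.ModuleCat.Presheaf.EpiMono
import Mathlib.CategoryTheory.Preadditive.Injective.Basic

/-!
# The free module-valued functor on a representable functor

For an `A`-algebra `B'`, the module-valued functor `P_{B'} : C ↦ C^(Hom_A(B', C))` represents
`F ↦ F(B')`; a surjection of algebras `B' → B''` induces a monomorphism `P_{B''} → P_{B'}`.
Consequently an injective module-valued functor `I` maps surjections of algebras to surjections.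
-/

set_option autoImplicit false
universe u
open CategoryTheory Opposite

namespace Groth.Agent.Lib.Helper44

variable {A : Type u} [CommRing A]

/-- The index set `Hom_A(B', C)`, lifted to the universe of the values. -/
abbrev RepIdx (B' C : Adeq.Alg A) : Type (u + 1) := ULift.{u + 1} (B' ⟶ C)

/-- The transition maps of `C ↦ C^(Hom_A(B', C))`. -/
noncomputable def repMap (B' : Adeq.Alg A) {C C' : Adeq.Alg A} (f : C ⟶ C') :
    (RepIdx B' C →₀ C) →+ (RepIdx B' C' →₀ C') :=
  (Finsupp.mapRange.addMonoidHom f.hom.toRingHom.toAddMonoidHom).comp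
    (Finsupp.mapDomain.addMonoidHom
      (fun φ : RepIdx B' C => (ULift.up (φ.down ≫ f) : RepIdx B' C')))

theorem repMap_single (B' : Adeq.Alg A) {C C' : Adeq.Alg A} (f : C ⟶ C') (φ : RepIdx B' C)
    (c : C) :
    repMap B' f (Finsupp.single φ c) =
      Finsupp.single (ULift.up (φ.down ≫ f) : RepIdx B' C') (f.hom c) := by
  rw [repMap, AddMonoidHom.comp_apply, Finsupp.mapDomain.addMonoidHom_apply,
    Finsupp.mapDomain_single, Finsupp.mapRange.addMonoidHom_apply, Finsupp.mapRange_single]
  rfl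

theorem repMap_smul (B' : Adeq.Alg A) {C C' : Adeq.Alg A} (f : C ⟶ C') (r : C)
    (m : RepIdx B' C →₀ C) : repMap B' f (r • m) = f.hom r • repMap B' f m := by
  induction m using Finsupp.induction_linear with
  | zero => rw [smul_zero, map_zero, smul_zero]
  | add x y hx hy => rw [smul_add, map_add, map_add, smul_add, hx, hy]
  | single φ c =>
    rw [Finsupp.smul_single, smul_eq_mul, repMap_single, repMap_single, map_mul,
      Finsupp.smul_single, smul_eq_mul]

theorem repMap_id (B' : Adeq.Alg A) (C : Adeq.Alg A) (m : RepIdx B' C →₀ C) :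
    repMap B' (𝟙 C) m = m := by
  induction m using Finsupp.induction_linear with
  | zero => rw [map_zero]
  | add x y hx hy => rw [map_add, hx, hy]
  | single φ c =>
    rw [repMap_single, Category.comp_id]
    rfl

theorem repMap_comp (B' : Adeq.Alg A) {C C' C'' : Adeq.Alg A} (f : C ⟶ C') (g : C' ⟶ C'')
    (m : RepIdx B' C →₀ C) : repMap B' (f ≫ g) m = repMap B' g (repMap B' f m) := by
  induction m using Finsupp.induction_linear with
  | zero => rw [map_zero, map_zero, map_zero]
  | add x y hx hy => rw [map_add, map_add, map_add, hx, hy]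
  | single φ c =>
    rw [repMap_single, repMap_single, repMap_single, Category.assoc]
    rfl

/-- The abelian-group-valued functor `C ↦ C^(Hom_A(B', C))`. -/
noncomputable abbrev repAb (B' : Adeq.Alg A) : (Adeq.Alg A)ᵒᵖᵒᵖ ⥤ Ab.{u + 1} where
  obj X := AddCommGrpCat.of (RepIdx B' X.unop.unop →₀ X.unop.unop)
  map {X Y} f := AddCommGrpCat.ofHom (repMap B' f.unop.unop)
  map_id X :=
    AddCommGrpCat.hom_ext (AddMonoidHom.ext fun m => repMap_id B' X.unop.unop m)
  map_comp {X Y Z} f g :=
    AddCommGrpCat.hom_ext (AddMonoidHom.ext fun m => repMap_comp B' f.unop.unop g.unop.unop m)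

/-- The free module-valued functor on the functor represented by `B'`. -/
noncomputable def repObj (B' : Adeq.Alg A) : Adeq.MVF A :=
  PresheafOfModules.ofPresheaf (repAb B') (by
    intro X Y f r m
    exact repMap_smul B' f.unop.unop r m)

theorem repObj_map_apply (B' : Adeq.Alg A) {X Y : (Adeq.Alg A)ᵒᵖᵒᵖ} (f : X ⟶ Y)
    (m : (repObj B').obj X) :
    (repObj B').map f m = repMap B' f.unop.unop m := rfl

/-- The universal element of `P_{B'}(B')`. -/
noncomputable def repUniv (B' : Adeq.Alg A) : (repObj B').obj (Adeq.pt B') :=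
  (Finsupp.single (ULift.up (𝟙 B') : RepIdx B' B') (1 : B') : RepIdx B' B' →₀ B')

/-- The transition map `F(C) → F(C')` as a plain function between the values. -/
noncomputable def mvfMap (F : Adeq.MVF A) {C C' : Adeq.Alg A} (f : C ⟶ C')
    (x : F.obj (Adeq.pt C)) : F.obj (Adeq.pt C') := F.map (Adeq.ptHom f) x

theorem mvfMap_add (F : Adeq.MVF A) {C C' : Adeq.Alg A} (f : C ⟶ C')
    (x y : F.obj (Adeq.pt C)) : mvfMap F f (x + y) = mvfMap F f x + mvfMap F f y :=
  map_add (F.map (Adeq.ptHom f)).hom x y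

theorem mvfMap_zero (F : Adeq.MVF A) {C C' : Adeq.Alg A} (f : C ⟶ C') :
    mvfMap F f (0 : F.obj (Adeq.pt C)) = 0 :=
  map_zero (F.map (Adeq.ptHom f)).hom

theorem mvfMap_smul (F : Adeq.MVF A) {C C' : Adeq.Alg A} (f : C ⟶ C') (c : C)
    (x : F.obj (Adeq.pt C)) : mvfMap F f (c • x) = f.hom c • mvfMap F f x :=
  F.map_smul (Adeq.ptHom f) c x

theorem mvfMap_comp (F : Adeq.MVF A) {C C' C'' : Adeq.Alg A} (f : C ⟶ C') (g : C' ⟶ C'')
    (x : F.obj (Adeq.pt C)) : mvfMap F (f ≫ g) x = mvfMap F g (mvfMap F f x) :=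
  F.map_comp_apply (Adeq.ptHom f) (Adeq.ptHom g) x

theorem mvfMap_id (F : Adeq.MVF A) (C : Adeq.Alg A) (x : F.obj (Adeq.pt C)) :
    mvfMap F (𝟙 C) x = x := by
  have : F.map (Adeq.ptHom (𝟙 C)) = 𝟙 _ := F.map_id _
  change F.map (Adeq.ptHom (𝟙 C)) x = x
  rw [this]
  rfl

theorem mvfMap_nat {F G : Adeq.MVF A} (τ : F ⟶ G) {C C' : Adeq.Alg A} (f : C ⟶ C')
    (x : F.obj (Adeq.pt C)) :
    τ.app (Adeq.pt C') (mvfMap F f x) = mvfMap G f (τ.app (Adeq.pt C) x) :=
  PresheafOfModules.naturality_apply τ (Adeq.ptHom f) x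

/-- The value at `C` of the morphism `P_{B'} → F` classified by `s ∈ F(B')`. -/
noncomputable def repDescApp (B' : Adeq.Alg A) (F : Adeq.MVF A) (s : F.obj (Adeq.pt B'))
    (C : Adeq.Alg A) : (RepIdx B' C →₀ C) →ₗ[C] F.obj (Adeq.pt C) :=
  Finsupp.linearCombination C (fun φ : RepIdx B' C => mvfMap F φ.down s)

theorem repDescApp_single (B' : Adeq.Alg A) (F : Adeq.MVF A) (s : F.obj (Adeq.pt B'))
    (C : Adeq.Alg A) (φ : RepIdx B' C) (c : C) :
    repDescApp B' F s C (Finsupp.single φ c) = c • mvfMap F φ.down s := by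
  rw [repDescApp, Finsupp.linearCombination_single]

theorem repDescApp_repMap (B' : Adeq.Alg A) (F : Adeq.MVF A) (s : F.obj (Adeq.pt B'))
    {C C' : Adeq.Alg A} (f : C ⟶ C') (m : RepIdx B' C →₀ C) :
    repDescApp B' F s C' (repMap B' f m) = mvfMap F f (repDescApp B' F s C m) := by
  induction m using Finsupp.induction_linear with
  | zero => rw [map_zero, map_zero, map_zero, mvfMap_zero]
  | add x y hx hy => rw [map_add, map_add, map_add, mvfMap_add, hx, hy]
  | single φ c =>
    rw [repMap_single, repDescApp_single, repDescApp_single, mvfMap_smul, mvfMap_comp]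

/-- The morphism `P_{B'} → F` classified by `s ∈ F(B')`. -/
noncomputable def repDesc (B' : Adeq.Alg A) (F : Adeq.MVF A) (s : F.obj (Adeq.pt B')) :
    repObj B' ⟶ F where
  app X := ModuleCat.ofHom (repDescApp B' F s X.unop.unop)
  naturality {X Y} f := by
    ext m
    exact repDescApp_repMap B' F s f.unop.unop m

theorem repDesc_app_apply (B' : Adeq.Alg A) (F : Adeq.MVF A) (s : F.obj (Adeq.pt B'))
    (C : Adeq.Alg A) (m : RepIdx B' C →₀ C) :
    (repDesc B' F s).app (Adeq.pt C) m = repDescApp B' F s C m := rfl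

theorem repDesc_repUniv (B' : Adeq.Alg A) (F : Adeq.MVF A) (s : F.obj (Adeq.pt B')) :
    (repDesc B' F s).app (Adeq.pt B') (repUniv B') = s := by
  rw [repUniv, repDesc_app_apply, repDescApp_single, one_smul, mvfMap_id]

/-- The value at `C` of the morphism `P_{B''} → P_{B'}` induced by `π : B' → B''`. -/
noncomputable def repPreApp {B' B'' : Adeq.Alg A} (π : B' ⟶ B'') (C : Adeq.Alg A) :
    (RepIdx B'' C →₀ C) →ₗ[C] (RepIdx B' C →₀ C) :=
  Finsupp.lmapDomain C C (fun ψ : RepIdx B'' C => (ULift.up (π ≫ ψ.down) : RepIdx B' C))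

theorem repPreApp_single {B' B'' : Adeq.Alg A} (π : B' ⟶ B'') (C : Adeq.Alg A)
    (ψ : RepIdx B'' C) (c : C) :
    repPreApp π C (Finsupp.single ψ c) =
      Finsupp.single (ULift.up (π ≫ ψ.down) : RepIdx B' C) c := by
  rw [repPreApp, Finsupp.lmapDomain_apply, Finsupp.mapDomain_single]

theorem repPreApp_repMap {B' B'' : Adeq.Alg A} (π : B' ⟶ B'') {C C' : Adeq.Alg A} (f : C ⟶ C')
    (m : RepIdx B'' C →₀ C) :
    repPreApp π C' (repMap B'' f m) = repMap B' f (repPreApp π C m) := by
  induction m using Finsupp.induction_linear with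
  | zero => rw [map_zero, map_zero, map_zero, map_zero]
  | add x y hx hy => rw [map_add, map_add, map_add, map_add, hx, hy]
  | single ψ c =>
    rw [repMap_single, repPreApp_single, repPreApp_single, repMap_single, Category.assoc]

theorem repPreApp_injective {B' B'' : Adeq.Alg A} (π : B' ⟶ B'')
    (hπ : Function.Surjective π.hom) (C : Adeq.Alg A) :
    Function.Injective (repPreApp π C) := by
  refine Finsupp.mapDomain_injective ?_
  intro ψ₁ ψ₂ h
  have h1 : π ≫ ψ₁.down = π ≫ ψ₂.down := congrArg ULift.down h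
  apply ULift.ext
  apply CommAlgCat.hom_ext
  refine AlgHom.ext fun b => ?_
  obtain ⟨a, rfl⟩ := hπ b
  have h2 := congrArg (fun k : B' ⟶ C => k.hom a) h1
  exact h2

/-- The morphism `P_{B''} → P_{B'}` induced by `π : B' → B''`. -/
noncomputable def repPre {B' B'' : Adeq.Alg A} (π : B' ⟶ B'') : repObj B'' ⟶ repObj B' where
  app X := ModuleCat.ofHom (repPreApp π X.unop.unop)
  naturality {X Y} f := by
    ext m
    exact repPreApp_repMap π f.unop.unop m

theorem repPre_app_apply {B' B'' : Adeq.Alg A} (π : B' ⟶ B'') (C : Adeq.Alg A)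
    (m : RepIdx B'' C →₀ C) :
    (repPre π).app (Adeq.pt C) m = repPreApp π C m := rfl

theorem repPre_mono {B' B'' : Adeq.Alg A} (π : B' ⟶ B'') (hπ : Function.Surjective π.hom) :
    Mono (repPre π) :=
  PresheafOfModules.mono_of_injective (fun X => repPreApp_injective π hπ X.unop.unop)

theorem repPre_repUniv {B' B'' : Adeq.Alg A} (π : B' ⟶ B'') :
    (repPre π).app (Adeq.pt B'') (repUniv B'') = mvfMap (repObj B') π (repUniv B') := by
  change repPreApp π B'' (Finsupp.single (ULift.up (𝟙 B'')) 1) =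
    repMap B' π (Finsupp.single (ULift.up (𝟙 B')) 1)
  rw [repPreApp_single, repMap_single, map_one, Category.comp_id, Category.id_comp]

/-- An injective module-valued functor maps surjections of algebras to surjections. -/
theorem mvfMap_surjective_of_injective (I : Adeq.MVF A) [Injective I] {B' B'' : Adeq.Alg A}
    (π : B' ⟶ B'') (hπ : Function.Surjective π.hom) : Function.Surjective (mvfMap I π) := by
  intro s₂
  have := repPre_mono π hπ
  have hτ : repPre π ≫ Injective.factorThru (repDesc B'' I s₂) (repPre π) = repDesc B'' I s₂ :=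
    Injective.comp_factorThru _ _
  refine ⟨(Injective.factorThru (repDesc B'' I s₂) (repPre π)).app (Adeq.pt B') (repUniv B'), ?_⟩
  rw [← mvfMap_nat, ← repPre_repUniv]
  have h2 := congrArg (fun k : repObj B'' ⟶ I => k.app (Adeq.pt B'') (repUniv B'')) hτ
  exact h2.trans (repDesc_repUniv B'' I s₂)

open AdeqTF in
/-- For an injective module-valued functor `I`, a surjection of `B`-modules induces a surjection
of tangent modules. -/
theorem tangentMap_surjective_of_injective (I : Adeq.MVF A) [Injective I] (B : Adeq.Alg A)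
    {N N₂ : ModuleCat.{u} B} (g : N ⟶ N₂) (hg : Function.Surjective g.hom) :
    Function.Surjective (AdeqTF.tangentMap B I g) := by
  have hπ : Function.Surjective (AdeqTF.map B g).hom := by
    intro x
    obtain ⟨n, hn⟩ := hg x.snd
    refine ⟨TrivSqZeroExt.inl x.fst + TrivSqZeroExt.inr n, ?_⟩
    change TrivSqZeroExt.map g.hom (TrivSqZeroExt.inl x.fst + TrivSqZeroExt.inr n) = x
    rw [map_add, TrivSqZeroExt.map_inl, TrivSqZeroExt.map_inr, hn, TrivSqZeroExt.inl_fst_add_inr_snd_eq]
  intro t₂
  obtain ⟨s, hs⟩ := mvfMap_surjective_of_injective I (AdeqTF.map B g) hπ t₂.1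
  have ht₂ : mvfMap I (AdeqTF.fst B N₂) t₂.1 = 0 := t₂.2
  have hmem : s ∈ AdeqTF.tangent B N I := by
    change mvfMap I (AdeqTF.fst B N) s = 0
    rw [← AdeqTF.map_fst B g, mvfMap_comp, hs, ht₂]
  exact ⟨⟨s, hmem⟩, Subtype.ext hs⟩

end Groth.Agent.Lib.Helper44
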