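import Groth.Agent.Lib.Helper44.RigFinite
import Mathlib.RingTheory.Unramified.LocalRing
import Mathlib.RingTheory.Unramified.Finite
import Mathlib.RingTheory.Unramified.Field
import Mathlib.RingTheory.Etale.Basic
import Mathlib.RingTheory.Kaehler.Basic
import Mathlib.LinearAlgebra.TensorProduct.Quotient

/-!
# Rig-closed points and étale reductions

For `A → B` adic, topologically of finite type, with `A/I → B/IB` formally unramified (for instance
étale), `q ⊆ B` rig-closed with rig-closed inverse image `p ⊆ A`: `B/pB` is a finite `A`-module,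
formally unramified over `A`, and `p B_q = q B_q`.
-/

set_option autoImplicit false
set_option linter.unusedSectionVars false
universe u
open Function TensorProduct

namespace Groth.Agent.Lib.Helper44

section Kaehler

variable {R T : Type*} [CommRing R] [CommRing T] [Algebra R T]

/-- If `T/𝔞T` is formally unramified over `R`, then `Ω_{T/R} = 𝔞 Ω_{T/R}`. -/
theorem kaehler_top_le_smul_of_quotient (𝔞 : Ideal R)
    [Algebra.FormallyUnramified R (T ⧸ 𝔞.map (algebraMap R T))] :
    (⊤ : Submodule T Ω[T⁄R]) ≤ (𝔞.map (algebraMap R T)) • ⊤ := by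
  set K : Ideal T := 𝔞.map (algebraMap R T) with hK
  have hsub : Subsingleton ((T ⧸ K) ⊗[T] Ω[T⁄R]) := by
    refine subsingleton_of_forall_eq 0 fun x ↦ ?_
    obtain ⟨x, rfl⟩ := (KaehlerDifferential.exact_kerCotangentToTensor_mapBaseChange R T
      (T ⧸ K) Ideal.Quotient.mk_surjective x).mp (Subsingleton.elim _ _)
    obtain ⟨⟨x, hx⟩, rfl⟩ := Ideal.toCotangent_surjective _ x
    simp only [KaehlerDifferential.kerCotangentToTensor_toCotangent]
    replace hx : x ∈ K := by simpa using hx
    rw [hK] at hx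
    induction hx using Submodule.span_induction with
    | zero => simp
    | mem x h =>
      obtain ⟨a, _, rfl⟩ := h
      simp
    | add x y hx hy _ _ => simp [*, TensorProduct.tmul_add]
    | smul t x hx _ =>
      have : (Ideal.Quotient.mk K) x = 0 := Ideal.Quotient.eq_zero_iff_mem.mpr hx
      simp [*, TensorProduct.tmul_add, TensorProduct.smul_tmul', ← Algebra.algebraMap_eq_smul_one]
  have e := TensorProduct.quotTensorEquivQuotSMul Ω[T⁄R] K
  have hsub2 : Subsingleton (Ω[T⁄R] ⧸ (K • ⊤ : Submodule T Ω[T⁄R])) := e.symm.toEquiv.subsingleton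
  intro x _
  exact (Submodule.Quotient.mk_eq_zero _).mp (Subsingleton.elim _ _)

/-- Nakayama: `T/𝔞T` formally unramified over `R`, `𝔞T` in the Jacobson radical and `Ω_{T/R}`
finite imply that `T` is formally unramified over `R`. -/
theorem formallyUnramified_of_quotient (𝔞 : Ideal R) [Module.Finite T Ω[T⁄R]]
    (hjac : 𝔞.map (algebraMap R T) ≤ Ideal.jacobson ⊥)
    [Algebra.FormallyUnramified R (T ⧸ 𝔞.map (algebraMap R T))] :
    Algebra.FormallyUnramified R T := by
  constructor
  have h := Submodule.eq_bot_of_le_smul_of_le_jacobson_bot (𝔞.map (algebraMap R T))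
    (⊤ : Submodule T Ω[T⁄R]) Module.Finite.fg_top (kaehler_top_le_smul_of_quotient 𝔞) hjac
  refine subsingleton_of_forall_eq 0 fun x => ?_
  have hx : x ∈ (⊤ : Submodule T Ω[T⁄R]) := trivial
  rw [h] at hx
  exact (Submodule.mem_bot T).mp hx

end Kaehler

section Main

variable {A : Type u} [CommRing A] [IsNoetherianRing A] (I : Ideal A) [IsAdicComplete I A]
  {B : Type u} [CommRing B] [Algebra A B] [IsNoetherianRing B]
  [IsAdicComplete (I.map (algebraMap A B)) B]

omit [IsNoetherianRing A] in
/-- Completeness: if `B/(K + IB)` is a finite `A`-module then so is `B/K`. -/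
theorem finite_quotient_of_finite_quotient_sup (K : Ideal B)
    (hfinC : Module.Finite A (B ⧸ (K ⊔ I.map (algebraMap A B)))) : Module.Finite A (B ⧸ K) := by
  have hsurjQ : Surjective (Ideal.Quotient.mk K) := Ideal.Quotient.mk_surjective
  have hmapmap : (I.map (algebraMap A B)).map (algebraMap B (B ⧸ K)) =
      I.map (algebraMap A (B ⧸ K)) := by
    rw [Ideal.map_map, ← IsScalarTower.algebraMap_eq]
  have hkill : ∀ x ∈ K ⊔ I.map (algebraMap A B),
      (Ideal.Quotient.mkₐ A (I.map (algebraMap A (B ⧸ K)))).comp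
        (Ideal.Quotient.mkₐ A K) x = 0 := by
    intro x hx
    change Ideal.Quotient.mk _ (Ideal.Quotient.mk _ x) = 0
    rw [Ideal.Quotient.eq_zero_iff_mem]
    obtain ⟨y, hy, z, hz, rfl⟩ := Submodule.mem_sup.mp hx
    rw [map_add, Ideal.Quotient.eq_zero_iff_mem.mpr hy, zero_add, ← hmapmap]
    exact Ideal.mem_map_of_mem _ hz
  have hfin1 : Module.Finite A ((B ⧸ K) ⧸ I.map (algebraMap A (B ⧸ K))) := by
    refine Module.Finite.of_surjective (Ideal.Quotient.liftₐ _ _ hkill).toLinearMap ?_
    intro z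
    obtain ⟨c, rfl⟩ := Ideal.Quotient.mk_surjective z
    obtain ⟨b, rfl⟩ := hsurjQ c
    exact ⟨Ideal.Quotient.mk _ b, rfl⟩
  have hfin2 : Module.Finite A ((B ⧸ K) ⧸ (I • ⊤ : Submodule A (B ⧸ K))) := by
    rw [Ideal.smul_top_eq_map]
    exact Module.Finite.equiv
      (Submodule.Quotient.restrictScalarsEquiv A (I.map (algebraMap A (B ⧸ K)))).symm
  have hcompl := isAdicComplete_quotient_ring (I.map (algebraMap A B)) K
  rw [hmapmap] at hcompl
  have hH : IsHausdorff I (B ⧸ K) :=
    (IsHausdorff.map_algebraMap_iff (S := B ⧸ K)).mp inferInstance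
  exact Groth.Agent.S0544.result A I (B ⧸ K) hfin2

/-- The maximal ideal over a rig-closed prime is unique. -/
theorem eq_of_isPrime_of_rigClosed (p : PrimeSpectrum A) (hp : RigClosed I p) (n₁ n₂ : Ideal A)
    [n₁.IsPrime] [n₂.IsPrime] (h₁ : p.asIdeal ≤ n₁) (hI₁ : I ≤ n₁) (h₂ : p.asIdeal ≤ n₂)
    (hI₂ : I ≤ n₂) : n₁ = n₂ := by
  obtain ⟨-, hmaxeq, -⟩ := (rigClosed_iff_local I p).mp hp
  have hsurj : Surjective (Ideal.Quotient.mk p.asIdeal) := Ideal.Quotient.mk_surjective
  have key : ∀ N : Ideal A, N.IsPrime → p.asIdeal ≤ N → I ≤ N →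
      N = ((I.map (Ideal.Quotient.mk p.asIdeal)).radical).comap (Ideal.Quotient.mk p.asIdeal) := by
    intro N hNp hpN hIN
    have hN : N.IsMaximal := isMaximal_of_rigClosed_of_le I p hp N hpN hIN
    have hker : RingHom.ker (Ideal.Quotient.mk p.asIdeal) ≤ N := by rw [Ideal.mk_ker]; exact hpN
    have h1 : (N.map (Ideal.Quotient.mk p.asIdeal)).IsMaximal := by
      rcases Ideal.map_eq_top_or_isMaximal_of_surjective _ hsurj hN with h | h
      · exfalso
        have := congrArg (Ideal.comap (Ideal.Quotient.mk p.asIdeal)) h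
        rw [Ideal.comap_map_of_surjective' _ hsurj, sup_eq_left.mpr hker, Ideal.comap_top] at this
        exact hN.ne_top this
      · exact h
    rw [← hmaxeq _ h1, Ideal.comap_map_of_surjective' _ hsurj, sup_eq_left.mpr hker]
  rw [key n₁ inferInstance h₁ hI₁, ← key n₂ inferInstance h₂ hI₂]

omit [IsNoetherianRing A] [IsAdicComplete I A] [IsNoetherianRing B]
  [IsAdicComplete (I.map (algebraMap A B)) B] in
/-- The fibre of `B` over a maximal ideal `n ⊇ I` of `A` is finite. -/
theorem finite_quotient_map_of_isMaximal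
    (hft : Algebra.FiniteType A (B ⧸ I.map (algebraMap A B)))
    [Algebra.FormallyUnramified (A ⧸ I) (B ⧸ I.map (algebraMap A B))] (n : Ideal A)
    [hn : n.IsMaximal] (hIn : I ≤ n) :
    Module.Finite (A ⧸ n) (B ⧸ n.map (algebraMap A B)) := by
  have hJK : I.map (algebraMap A B) ≤ n.map (algebraMap A B) := Ideal.map_mono hIn
  have h1 : Algebra.FormallyUnramified A (B ⧸ I.map (algebraMap A B)) :=
    Algebra.FormallyUnramified.comp A (A ⧸ I) (B ⧸ I.map (algebraMap A B))
  have h2 : Algebra.FormallyUnramified A (B ⧸ n.map (algebraMap A B)) :=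
    Algebra.FormallyUnramified.of_surjective (Ideal.Quotient.factorₐ A hJK)
      (Ideal.Quotient.factor_surjective hJK)
  have h3 : Algebra.FormallyUnramified (A ⧸ n) (B ⧸ n.map (algebraMap A B)) :=
    Algebra.FormallyUnramified.of_restrictScalars A (A ⧸ n) (B ⧸ n.map (algebraMap A B))
  have hft' : Algebra.FiniteType A (B ⧸ n.map (algebraMap A B)) :=
    Algebra.FiniteType.of_surjective (Ideal.Quotient.factorₐ A hJK)
      (Ideal.Quotient.factor_surjective hJK)
  have hft'' : Algebra.FiniteType (A ⧸ n) (B ⧸ n.map (algebraMap A B)) :=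
    Algebra.FiniteType.of_restrictScalars_finiteType A (A ⧸ n) (B ⧸ n.map (algebraMap A B))
  let _ := Ideal.Quotient.field n
  exact Algebra.FormallyUnramified.finite_of_free (A ⧸ n) (B ⧸ n.map (algebraMap A B))

/-- Over a rig-closed prime `p` of `A`, the ring `B/(pB + IB)` is a finite `A`-module. -/
theorem finite_quotient_sup_of_rigClosed
    (hft : Algebra.FiniteType A (B ⧸ I.map (algebraMap A B)))
    [Algebra.FormallyUnramified (A ⧸ I) (B ⧸ I.map (algebraMap A B))]
    (p : PrimeSpectrum A) (hp : RigClosed I p) :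
    Module.Finite A (B ⧸ (p.asIdeal.map (algebraMap A B) ⊔ I.map (algebraMap A B))) := by
  have hpprime : p.asIdeal.IsPrime := p.isPrime
  obtain ⟨n, hn, hpn⟩ := Ideal.exists_le_maximal p.asIdeal hpprime.ne_top
  have hIn : I ≤ n := le_of_isMaximal_of_isAdicComplete I n hn
  set P := p.asIdeal.map (algebraMap A B) with hP
  set J := I.map (algebraMap A B) with hJ
  set N := n.map (algebraMap A B) with hN
  have hfinD' : Module.Finite (A ⧸ n) (B ⧸ N) := finite_quotient_map_of_isMaximal I hft n hIn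
  have hfinD : Module.Finite A (B ⧸ N) := Module.Finite.trans (A ⧸ n) (B ⧸ N)
  let _ := Ideal.Quotient.field n
  have hArtD : IsArtinianRing (B ⧸ N) := IsArtinianRing.of_finite (A ⧸ n) (B ⧸ N)
  have hsurjN : Surjective (Ideal.Quotient.mk N) := Ideal.Quotient.mk_surjective
  have hsurjK : Surjective (Ideal.Quotient.mk (P ⊔ J)) := Ideal.Quotient.mk_surjective
  -- primes over `pB + IB` contain `nB` and are maximal
  have hX : ∀ Q : Ideal B, Q.IsPrime → P ⊔ J ≤ Q → N ≤ Q ∧ Q.IsMaximal := by
    intro Q hQ hKQ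
    have hund : (Q.under A).IsPrime := Ideal.IsPrime.under A Q
    have h1 : p.asIdeal ≤ Q.under A := Ideal.map_le_iff_le_comap.mp (le_trans le_sup_left hKQ)
    have h2 : I ≤ Q.under A := Ideal.map_le_iff_le_comap.mp (le_trans le_sup_right hKQ)
    have h3 : Q.under A = n := eq_of_isPrime_of_rigClosed I p hp (Q.under A) n h1 h2 hpn hIn
    have hNQ : N ≤ Q := Ideal.map_le_iff_le_comap.mpr (le_of_eq h3.symm)
    refine ⟨hNQ, ?_⟩
    have hker : RingHom.ker (Ideal.Quotient.mk N) ≤ Q := by rw [Ideal.mk_ker]; exact hNQ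
    have hprime : (Q.map (Ideal.Quotient.mk N)).IsPrime :=
      Ideal.map_isPrime_of_surjective hsurjN hker
    have hmax : (Q.map (Ideal.Quotient.mk N)).IsMaximal := IsArtinianRing.isMaximal_of_isPrime _
    have := Ideal.comap_isMaximal_of_surjective (Ideal.Quotient.mk N) hsurjN
      (K := Q.map (Ideal.Quotient.mk N))
    rwa [Ideal.comap_map_of_surjective' _ hsurjN, sup_eq_left.mpr hker] at this
  have hcomap : ∀ P' : Ideal (B ⧸ (P ⊔ J)), P ⊔ J ≤ P'.comap (Ideal.Quotient.mk (P ⊔ J)) := by
    intro P' x hx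
    rw [Ideal.mem_comap, Ideal.Quotient.eq_zero_iff_mem.mpr hx]
    exact P'.zero_mem
  have hK0 : Ring.KrullDimLE 0 (B ⧸ (P ⊔ J)) := by
    apply Ring.KrullDimLE.mk₀
    intro P' hP'
    have hPprime : (P'.comap (Ideal.Quotient.mk (P ⊔ J))).IsPrime := Ideal.comap_isPrime _ _
    have hPmax := (hX _ hPprime (hcomap P')).2
    rcases Ideal.map_eq_top_or_isMaximal_of_surjective _ hsurjK hPmax with h | h
    · rw [Ideal.map_comap_of_surjective _ hsurjK] at h
      exact absurd h hP'.ne_top
    · rwa [Ideal.map_comap_of_surjective _ hsurjK] at h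
  have hArt : IsArtinianRing (B ⧸ (P ⊔ J)) :=
    isArtinianRing_iff_isNoetherianRing_krullDimLE_zero.mpr ⟨inferInstance, hK0⟩
  have hjac : ∀ x ∈ N, (Ideal.Quotient.mkₐ A (Ring.jacobson (B ⧸ (P ⊔ J)))).comp
      (Ideal.Quotient.mkₐ A (P ⊔ J)) x = 0 := by
    intro x hx
    change Ideal.Quotient.mk _ (Ideal.Quotient.mk _ x) = 0
    rw [Ideal.Quotient.eq_zero_iff_mem, Ring.jacobson_eq_sInf_isMaximal, Ideal.mem_sInf]
    intro M' hM'
    have hM'max : M'.IsMaximal := hM'
    have hMprime : (M'.comap (Ideal.Quotient.mk (P ⊔ J))).IsPrime := Ideal.comap_isPrime _ _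
    exact (hX _ hMprime (hcomap M')).1 hx
  have hfinres : Module.Finite A ((B ⧸ (P ⊔ J)) ⧸ Ring.jacobson (B ⧸ (P ⊔ J))) := by
    refine Module.Finite.of_surjective (Ideal.Quotient.liftₐ N _ hjac).toLinearMap ?_
    intro z
    obtain ⟨c, rfl⟩ := Ideal.Quotient.mk_surjective z
    obtain ⟨b, rfl⟩ := hsurjK c
    exact ⟨Ideal.Quotient.mk N b, rfl⟩
  exact IsSemiprimaryRing.finite_of_isArtinian A (B ⧸ (P ⊔ J)) (B ⧸ (P ⊔ J))

/-- Over a rig-closed prime `p` of `A`, the ring `B/pB` is a finite `A`-module. -/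
theorem finite_quotient_map_of_rigClosed
    (hft : Algebra.FiniteType A (B ⧸ I.map (algebraMap A B)))
    [Algebra.FormallyUnramified (A ⧸ I) (B ⧸ I.map (algebraMap A B))]
    (p : PrimeSpectrum A) (hp : RigClosed I p) :
    Module.Finite A (B ⧸ p.asIdeal.map (algebraMap A B)) :=
  finite_quotient_of_finite_quotient_sup I _ (finite_quotient_sup_of_rigClosed I hft p hp)

/-- Over a rig-closed prime `p` of `A`, the ring `B/pB` is formally unramified over `A`. -/
theorem formallyUnramified_quotient_map_of_rigClosed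
    (hft : Algebra.FiniteType A (B ⧸ I.map (algebraMap A B)))
    [Algebra.FormallyUnramified (A ⧸ I) (B ⧸ I.map (algebraMap A B))]
    (p : PrimeSpectrum A) (hp : RigClosed I p) :
    Algebra.FormallyUnramified A (B ⧸ p.asIdeal.map (algebraMap A B)) := by
  set P := p.asIdeal.map (algebraMap A B) with hP
  have hfin : Module.Finite A (B ⧸ P) := finite_quotient_map_of_rigClosed I hft p hp
  have hfinΩ : Module.Finite (B ⧸ P) Ω[(B ⧸ P)⁄A] := inferInstance
  have hmapmap : (I.map (algebraMap A B)).map (algebraMap B (B ⧸ P)) =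
      I.map (algebraMap A (B ⧸ P)) := by
    rw [Ideal.map_map, ← IsScalarTower.algebraMap_eq]
  have hcompl := isAdicComplete_quotient_ring (I.map (algebraMap A B)) P
  rw [hmapmap] at hcompl
  have hjac : I.map (algebraMap A (B ⧸ P)) ≤ Ideal.jacobson ⊥ := IsAdicComplete.le_jacobson_bot _
  have h1 : Algebra.FormallyUnramified A (B ⧸ I.map (algebraMap A B)) :=
    Algebra.FormallyUnramified.comp A (A ⧸ I) (B ⧸ I.map (algebraMap A B))
  have hkill : ∀ x ∈ I.map (algebraMap A B),
      ((Ideal.Quotient.mkₐ A (I.map (algebraMap A (B ⧸ P)))).comp (Ideal.Quotient.mkₐ A P)) x = 0 := by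
    intro x hx
    change Ideal.Quotient.mk _ (Ideal.Quotient.mk _ x) = 0
    rw [Ideal.Quotient.eq_zero_iff_mem, ← hmapmap]
    exact Ideal.mem_map_of_mem _ hx
  have h2 : Algebra.FormallyUnramified A ((B ⧸ P) ⧸ I.map (algebraMap A (B ⧸ P))) := by
    refine Algebra.FormallyUnramified.of_surjective
      (Ideal.Quotient.liftₐ (I.map (algebraMap A B)) _ hkill) ?_
    intro z
    obtain ⟨c, rfl⟩ := Ideal.Quotient.mk_surjective z
    obtain ⟨b, rfl⟩ := Ideal.Quotient.mk_surjective c
    exact ⟨Ideal.Quotient.mk _ b, rfl⟩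
  exact formallyUnramified_of_quotient I hjac

/-- **`p B_q = q B_q`** for a prime `q` of `B` over a rig-closed prime `p` of `A`, when `A/I → B/IB`
is formally unramified. -/
theorem map_map_eq_maximalIdeal_of_rigClosed_comap
    (hft : Algebra.FiniteType A (B ⧸ I.map (algebraMap A B)))
    [Algebra.FormallyUnramified (A ⧸ I) (B ⧸ I.map (algebraMap A B))]
    (q : PrimeSpectrum B) (hp : RigClosed I (PrimeSpectrum.comap (algebraMap A B) q)) :
    ((PrimeSpectrum.comap (algebraMap A B) q).asIdeal.map (algebraMap A B)).map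
        (algebraMap B (Localization.AtPrime q.asIdeal)) =
      IsLocalRing.maximalIdeal (Localization.AtPrime q.asIdeal) := by
  set p : PrimeSpectrum A := PrimeSpectrum.comap (algebraMap A B) q with hpdef
  have hpq : p.asIdeal = q.asIdeal.comap (algebraMap A B) := rfl
  have hqprime : q.asIdeal.IsPrime := q.isPrime
  have hpprime : p.asIdeal.IsPrime := p.isPrime
  set P := p.asIdeal.map (algebraMap A B) with hP
  have hPq : P ≤ q.asIdeal := by rw [hP, hpq]; exact Ideal.map_comap_le
  have hsurj : Surjective (Ideal.Quotient.mk P) := Ideal.Quotient.mk_surjective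
  have hker : RingHom.ker (Ideal.Quotient.mk P) ≤ q.asIdeal := by rw [Ideal.mk_ker]; exact hPq
  set q' : Ideal (B ⧸ P) := q.asIdeal.map (Ideal.Quotient.mk P) with hq'
  have hq'prime : q'.IsPrime := Ideal.map_isPrime_of_surjective hsurj hker
  have hcomap : q'.comap (Ideal.Quotient.mk P) = q.asIdeal := by
    rw [hq', Ideal.comap_map_of_surjective' _ hsurj, sup_eq_left.mpr hker]
  have hlies : q'.LiesOver p.asIdeal := by
    constructor
    rw [Ideal.under_def, hpq, ← hcomap, Ideal.comap_comap]
    rfl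
  have hunr : Algebra.FormallyUnramified A (B ⧸ P) :=
    formallyUnramified_quotient_map_of_rigClosed I hft p hp
  have hfin : Module.Finite A (B ⧸ P) := finite_quotient_map_of_rigClosed I hft p hp
  let _ := Localization.AtPrime.algebraOfLiesOver p.asIdeal q'
  have hat : Algebra.IsUnramifiedAt A q' := inferInstance
  have key := ((Algebra.isUnramifiedAt_iff_map_eq A p.asIdeal q').mp hat).2
  have hbot : p.asIdeal.map (algebraMap A (Localization.AtPrime q')) = ⊥ := by
    rw [Ideal.map_eq_bot_iff_le_ker]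
    intro a ha
    rw [RingHom.mem_ker, IsScalarTower.algebraMap_apply A (B ⧸ P) (Localization.AtPrime q'),
      IsScalarTower.algebraMap_apply A B (B ⧸ P)]
    have : algebraMap B (B ⧸ P) (algebraMap A B a) = 0 :=
      Ideal.Quotient.eq_zero_iff_mem.mpr (Ideal.mem_map_of_mem _ ha)
    rw [this, map_zero]
  have hmax0 : IsLocalRing.maximalIdeal (Localization.AtPrime q') = ⊥ := by rw [← key, hbot]
  -- transfer to `B_q`
  apply le_antisymm
  · rw [Ideal.map_le_iff_le_comap]
    intro x hx
    rw [Ideal.mem_comap, IsLocalization.AtPrime.to_map_mem_maximal_iff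
      (Localization.AtPrime q.asIdeal) q.asIdeal]
    exact hPq hx
  · intro x hx
    obtain ⟨b, s, rfl⟩ := IsLocalization.exists_mk'_eq q.asIdeal.primeCompl x
    rw [IsLocalization.AtPrime.mk'_mem_maximal_iff (Localization.AtPrime q.asIdeal) q.asIdeal] at hx
    rw [IsLocalization.mk'_mem_map_algebraMap_iff]
    have hb' : Ideal.Quotient.mk P b ∈ q' := Ideal.mem_map_of_mem _ hx
    have h0 : algebraMap (B ⧸ P) (Localization.AtPrime q') (Ideal.Quotient.mk P b) = 0 := by
      have : algebraMap (B ⧸ P) (Localization.AtPrime q') (Ideal.Quotient.mk P b) ∈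
          IsLocalRing.maximalIdeal (Localization.AtPrime q') :=
        (IsLocalization.AtPrime.to_map_mem_maximal_iff (Localization.AtPrime q') q' _).mpr hb'
      rw [hmax0] at this
      exact this
    obtain ⟨⟨t', ht'⟩, ht'0⟩ := (IsLocalization.map_eq_zero_iff q'.primeCompl
      (Localization.AtPrime q') _).mp h0
    obtain ⟨t, rfl⟩ := hsurj t'
    refine ⟨t, ?_, ?_⟩
    · intro htq
      exact ht' (Ideal.mem_map_of_mem _ htq)
    · have : Ideal.Quotient.mk P (t * b) = 0 := by rw [map_mul]; exact ht'0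
      exact Ideal.Quotient.eq_zero_iff_mem.mp this

end Main

end Groth.Agent.Lib.Helper44
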