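import Groth.Agent.Lib.Helper44.RigPoint
import Groth.Agent.Lib.Helper55.KrullDimIntegral
import Groth.Agent.S0544
import Groth.Agent.S8804

set_option autoImplicit false
universe u
open Function

namespace Groth.Agent.Lib.Helper44

/-- Rig-closed primes: `I ⊄ q` and `q` is maximal among the primes not containing `I`. -/
def RigClosed {R : Type*} [CommRing R] (I : Ideal R) (q : PrimeSpectrum R) : Prop :=
  ¬ I ≤ q.asIdeal ∧ ∀ y : PrimeSpectrum R, q ≤ y → ¬ I ≤ y.asIdeal → y = q

section

variable {A : Type u} [CommRing A] [IsNoetherianRing A] (I : Ideal A) [IsAdicComplete I A]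
  {B : Type u} [CommRing B] [Algebra A B] [IsNoetherianRing B]
  [IsAdicComplete (I.map (algebraMap A B)) B]

theorem rigClosed_iff_dim {R : Type u} [CommRing R] [IsNoetherianRing R] (I : Ideal R)
    [IsAdicComplete I R] (q : PrimeSpectrum R) :
    RigClosed I q ↔ ringKrullDim (R ⧸ q.asIdeal) = 1 ∧ ¬ I ≤ q.asIdeal :=
  (Groth.Agent.S8804.result R I q).out 0 1

/-- (c) ⇒ (b). -/
theorem rigClosed_comap_of_finite (q : PrimeSpectrum B)
    (hq : RigClosed (I.map (algebraMap A B)) q)
    (hfin : Module.Finite A (B ⧸ q.asIdeal)) :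
    RigClosed I (PrimeSpectrum.comap (algebraMap A B) q) := by
  have hdimB : ringKrullDim (B ⧸ q.asIdeal) = 1 := ((rigClosed_iff_dim _ q).mp hq).1
  rw [rigClosed_iff_dim]
  have hint : Algebra.IsIntegral A (B ⧸ q.asIdeal) := Algebra.IsIntegral.of_finite A _
  have hcomp : (Ideal.quotientMap q.asIdeal (algebraMap A B) le_rfl).comp
      (Ideal.Quotient.mk (q.asIdeal.comap (algebraMap A B))) = algebraMap A (B ⧸ q.asIdeal) := by
    ext a
    rfl
  have hI2 : (Ideal.quotientMap q.asIdeal (algebraMap A B)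
      (le_refl (q.asIdeal.comap (algebraMap A B)))).IsIntegral := by
    apply RingHom.IsIntegral.tower_top (Ideal.Quotient.mk (q.asIdeal.comap (algebraMap A B)))
    rw [hcomp]
    exact Algebra.isIntegral_def.mp hint
  have hdim := Groth.Agent.Lib.Helper55.ringKrullDim_eq_of_ringHom_isIntegral_of_injective _ hI2
    Ideal.quotientMap_injective
  refine ⟨?_, ?_⟩
  · change ringKrullDim (A ⧸ q.asIdeal.comap (algebraMap A B)) = 1
    rw [← hdim, hdimB]
  · intro hle
    apply hq.1
    rw [Ideal.map_le_iff_le_comap]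
    exact hle

end

theorem rigClosed_iff_local {R : Type u} [CommRing R] [IsNoetherianRing R] (I : Ideal R)
    [IsAdicComplete I R] (q : PrimeSpectrum R) :
    RigClosed I q ↔ ringKrullDim (R ⧸ q.asIdeal) = 1 ∧
      (∀ m : Ideal (R ⧸ q.asIdeal), m.IsMaximal →
        m = (I.map (Ideal.Quotient.mk q.asIdeal)).radical) ∧
      IsAdicComplete (I.map (Ideal.Quotient.mk q.asIdeal)).radical (R ⧸ q.asIdeal) :=
  (Groth.Agent.S8804.result R I q).out 0 2

/-- If `p` is rig-closed, every prime containing `p` and `I` is maximal. -/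
theorem isMaximal_of_rigClosed_of_le {R : Type u} [CommRing R] [IsNoetherianRing R] (I : Ideal R)
    [IsAdicComplete I R] (p : PrimeSpectrum R) (hp : RigClosed I p) (n : Ideal R) [hn : n.IsPrime]
    (hpn : p.asIdeal ≤ n) (hIn : I ≤ n) : n.IsMaximal := by
  obtain ⟨-, hmax, -⟩ := (rigClosed_iff_local I p).mp hp
  have hsurj : Surjective (Ideal.Quotient.mk p.asIdeal) := Ideal.Quotient.mk_surjective
  have hker : RingHom.ker (Ideal.Quotient.mk p.asIdeal) ≤ n := by rw [Ideal.mk_ker]; exact hpn
  have hprime : (n.map (Ideal.Quotient.mk p.asIdeal)).IsPrime :=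
    Ideal.map_isPrime_of_surjective hsurj hker
  obtain ⟨M, hM, hle⟩ := Ideal.exists_le_maximal _ hprime.ne_top
  have hMeq := hmax M hM
  have hle' : M ≤ n.map (Ideal.Quotient.mk p.asIdeal) := by
    rw [hMeq, Ideal.IsPrime.radical_le_iff hprime]
    exact Ideal.map_mono hIn
  have heq : n.map (Ideal.Quotient.mk p.asIdeal) = M := le_antisymm hle hle'
  have hcomap : n = M.comap (Ideal.Quotient.mk p.asIdeal) := by
    rw [← heq, Ideal.comap_map_of_surjective' _ hsurj, sup_eq_left.mpr hker]
  rw [hcomap]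
  exact Ideal.comap_isMaximal_of_surjective _ hsurj

section

variable {A : Type u} [CommRing A] [IsNoetherianRing A] (I : Ideal A) [IsAdicComplete I A]
  {B : Type u} [CommRing B] [Algebra A B] [IsNoetherianRing B]
  [IsAdicComplete (I.map (algebraMap A B)) B]

omit [IsNoetherianRing A] [IsAdicComplete I A] [IsNoetherianRing B] in
/-- Zariski's lemma step: a maximal ideal `m ⊇ IB` of `B` lying over a maximal ideal of `A` has
residue field finite over `A`. -/
theorem finite_quotient_of_under_isMaximal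
    (hft : Algebra.FiniteType A (B ⧸ I.map (algebraMap A B)))
    (m : Ideal B) [hm : m.IsMaximal] (hmA : (m.under A).IsMaximal) : Module.Finite A (B ⧸ m) := by
  have hJm : I.map (algebraMap A B) ≤ m := le_of_isMaximal_of_isAdicComplete _ m hm
  have hft' : Algebra.FiniteType A (B ⧸ m) :=
    Algebra.FiniteType.of_surjective (Ideal.Quotient.factorₐ A hJm)
      (Ideal.Quotient.factor_surjective hJm)
  have hft'' : Algebra.FiniteType (A ⧸ m.under A) (B ⧸ m) :=
    Algebra.FiniteType.of_restrictScalars_finiteType A (A ⧸ m.under A) (B ⧸ m)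
  let _ := Ideal.Quotient.field (m.under A)
  let _ := Ideal.Quotient.field m
  have hfin : Module.Finite (A ⧸ m.under A) (B ⧸ m) :=
    finite_of_finite_type_of_isJacobsonRing (A ⧸ m.under A) (B ⧸ m)
  exact Module.Finite.trans (A ⧸ m.under A) (B ⧸ m)

omit [IsNoetherianRing B] in
/-- (b) ⇒ (a). -/
theorem finite_quotient_maximal_of_rigClosed_comap
    (hft : Algebra.FiniteType A (B ⧸ I.map (algebraMap A B)))
    (q : PrimeSpectrum B)
    (hp : RigClosed I (PrimeSpectrum.comap (algebraMap A B) q))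
    (m : Ideal B) (hm : m.IsMaximal) (hqm : q.asIdeal ≤ m) : Module.Finite A (B ⧸ m) := by
  have hJm : I.map (algebraMap A B) ≤ m := le_of_isMaximal_of_isAdicComplete _ m hm
  have hmA : (m.under A).IsMaximal := by
    have : (m.under A).IsPrime := Ideal.IsPrime.under A m
    apply isMaximal_of_rigClosed_of_le I _ hp (m.under A)
    · exact Ideal.comap_mono hqm
    · exact Ideal.map_le_iff_le_comap.mp hJm
  exact finite_quotient_of_under_isMaximal I hft m hmA

end

section

variable {A : Type u} [CommRing A] [IsNoetherianRing A] (I : Ideal A) [IsAdicComplete I A]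
  {B : Type u} [CommRing B] [Algebra A B] [IsNoetherianRing B]
  [IsAdicComplete (I.map (algebraMap A B)) B]

omit [IsNoetherianRing A] in
/-- (a) ⇒ (c). -/
theorem finite_quotient_of_finite_residue
    (q : PrimeSpectrum B) (hq : RigClosed (I.map (algebraMap A B)) q)
    (ha : ∀ m : Ideal B, m.IsMaximal → q.asIdeal ≤ m → Module.Finite A (B ⧸ m)) :
    Module.Finite A (B ⧸ q.asIdeal) := by
  have hQprime : q.asIdeal.IsPrime := q.isPrime
  obtain ⟨-, hmaxeq, -⟩ := (rigClosed_iff_local _ q).mp hq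
  have hsurjQ : Surjective (Ideal.Quotient.mk q.asIdeal) := Ideal.Quotient.mk_surjective
  have hsurjK : Surjective (Ideal.Quotient.mk (q.asIdeal ⊔ I.map (algebraMap A B))) :=
    Ideal.Quotient.mk_surjective
  -- the maximal ideal over q
  obtain ⟨m, hm, hqm⟩ := Ideal.exists_le_maximal q.asIdeal hQprime.ne_top
  have hJm : I.map (algebraMap A B) ≤ m := le_of_isMaximal_of_isAdicComplete _ m hm
  have hKm : q.asIdeal ⊔ I.map (algebraMap A B) ≤ m := sup_le hqm hJm
  have huniq : ∀ M : Ideal B, M.IsMaximal → q.asIdeal ≤ M → M = m := by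
    intro M hM hqM
    have key : ∀ N : Ideal B, N.IsMaximal → q.asIdeal ≤ N →
        N = ((I.map (algebraMap A B)).map (Ideal.Quotient.mk q.asIdeal)).radical.comap
          (Ideal.Quotient.mk q.asIdeal) := by
      intro N hN hqN
      have hker : RingHom.ker (Ideal.Quotient.mk q.asIdeal) ≤ N := by rw [Ideal.mk_ker]; exact hqN
      have h1 : (N.map (Ideal.Quotient.mk q.asIdeal)).IsMaximal := by
        rcases Ideal.map_eq_top_or_isMaximal_of_surjective _ hsurjQ hN with h | h
        · exfalso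
          have := congrArg (Ideal.comap (Ideal.Quotient.mk q.asIdeal)) h
          rw [Ideal.comap_map_of_surjective' _ hsurjQ, sup_eq_left.mpr hker, Ideal.comap_top] at this
          exact hN.ne_top this
        · exact h
      rw [← hmaxeq _ h1, Ideal.comap_map_of_surjective' _ hsurjQ, sup_eq_left.mpr hker]
    rw [key M hM hqM, ← key m hm hqm]
  -- the Artinian quotient
  have hK0 : Ring.KrullDimLE 0 (B ⧸ (q.asIdeal ⊔ I.map (algebraMap A B))) := by
    apply Ring.KrullDimLE.mk₀
    intro P' hP'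
    have hPprime : (P'.comap (Ideal.Quotient.mk (q.asIdeal ⊔ I.map (algebraMap A B)))).IsPrime :=
      Ideal.comap_isPrime _ _
    have hKP : q.asIdeal ⊔ I.map (algebraMap A B) ≤
        P'.comap (Ideal.Quotient.mk (q.asIdeal ⊔ I.map (algebraMap A B))) := by
      intro x hx
      rw [Ideal.mem_comap, Ideal.Quotient.eq_zero_iff_mem.mpr hx]
      exact P'.zero_mem
    have hPmax := isMaximal_of_rigClosed_of_le _ q hq _ (le_trans le_sup_left hKP)
      (le_trans le_sup_right hKP)
    rcases Ideal.map_eq_top_or_isMaximal_of_surjective _ hsurjK hPmax with h | h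
    · rw [Ideal.map_comap_of_surjective _ hsurjK] at h
      exact absurd h hP'.ne_top
    · rwa [Ideal.map_comap_of_surjective _ hsurjK] at h
  have hArt : IsArtinianRing (B ⧸ (q.asIdeal ⊔ I.map (algebraMap A B))) :=
    isArtinianRing_iff_isNoetherianRing_krullDimLE_zero.mpr ⟨inferInstance, hK0⟩
  -- residue ring of the Artinian quotient
  have hjac : ∀ x ∈ m, (Ideal.Quotient.mkₐ A (Ring.jacobson (B ⧸ (q.asIdeal ⊔ I.map (algebraMap A B))))).comp
      (Ideal.Quotient.mkₐ A (q.asIdeal ⊔ I.map (algebraMap A B))) x = 0 := by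
    intro x hx
    change Ideal.Quotient.mk _ (Ideal.Quotient.mk _ x) = 0
    rw [Ideal.Quotient.eq_zero_iff_mem, Ring.jacobson_eq_sInf_isMaximal, Ideal.mem_sInf]
    intro M' hM'
    have hM'max : M'.IsMaximal := hM'
    have hMmax : (M'.comap (Ideal.Quotient.mk (q.asIdeal ⊔ I.map (algebraMap A B)))).IsMaximal :=
      Ideal.comap_isMaximal_of_surjective _ hsurjK
    have hqM : q.asIdeal ≤ M'.comap (Ideal.Quotient.mk (q.asIdeal ⊔ I.map (algebraMap A B))) := by
      intro y hy
      rw [Ideal.mem_comap, Ideal.Quotient.eq_zero_iff_mem.mpr (Ideal.mem_sup_left hy)]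
      exact M'.zero_mem
    have := huniq _ hMmax hqM
    rw [← this] at hx
    exact hx
  have hfinm : Module.Finite A (B ⧸ m) := ha m hm hqm
  have hfinres : Module.Finite A ((B ⧸ (q.asIdeal ⊔ I.map (algebraMap A B))) ⧸
      Ring.jacobson (B ⧸ (q.asIdeal ⊔ I.map (algebraMap A B)))) := by
    refine Module.Finite.of_surjective (Ideal.Quotient.liftₐ m _ hjac).toLinearMap ?_
    intro z
    obtain ⟨c, rfl⟩ := Ideal.Quotient.mk_surjective z
    obtain ⟨b, rfl⟩ := hsurjK c
    exact ⟨Ideal.Quotient.mk m b, rfl⟩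
  have hfinC : Module.Finite A (B ⧸ (q.asIdeal ⊔ I.map (algebraMap A B))) :=
    IsSemiprimaryRing.finite_of_isArtinian A (B ⧸ (q.asIdeal ⊔ I.map (algebraMap A B)))
      (B ⧸ (q.asIdeal ⊔ I.map (algebraMap A B)))
  -- the quotient of B/q by I
  have hmapmap : (I.map (algebraMap A B)).map (algebraMap B (B ⧸ q.asIdeal)) =
      I.map (algebraMap A (B ⧸ q.asIdeal)) := by
    rw [Ideal.map_map, ← IsScalarTower.algebraMap_eq]
  have hkill : ∀ x ∈ q.asIdeal ⊔ I.map (algebraMap A B),
      (Ideal.Quotient.mkₐ A (I.map (algebraMap A (B ⧸ q.asIdeal)))).comp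
        (Ideal.Quotient.mkₐ A q.asIdeal) x = 0 := by
    intro x hx
    change Ideal.Quotient.mk _ (Ideal.Quotient.mk _ x) = 0
    rw [Ideal.Quotient.eq_zero_iff_mem]
    obtain ⟨y, hy, z, hz, rfl⟩ := Submodule.mem_sup.mp hx
    rw [map_add, Ideal.Quotient.eq_zero_iff_mem.mpr hy, zero_add, ← hmapmap]
    exact Ideal.mem_map_of_mem _ hz
  have hfin1 : Module.Finite A ((B ⧸ q.asIdeal) ⧸ I.map (algebraMap A (B ⧸ q.asIdeal))) := by
    refine Module.Finite.of_surjective (Ideal.Quotient.liftₐ _ _ hkill).toLinearMap ?_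
    intro z
    obtain ⟨c, rfl⟩ := Ideal.Quotient.mk_surjective z
    obtain ⟨b, rfl⟩ := hsurjQ c
    exact ⟨Ideal.Quotient.mk _ b, rfl⟩
  have hfin2 : Module.Finite A ((B ⧸ q.asIdeal) ⧸ (I • ⊤ : Submodule A (B ⧸ q.asIdeal))) := by
    rw [Ideal.smul_top_eq_map]
    exact Module.Finite.equiv
      (Submodule.Quotient.restrictScalarsEquiv A (I.map (algebraMap A (B ⧸ q.asIdeal)))).symm
  -- Hausdorff
  have hcompl := isAdicComplete_quotient_ring (I.map (algebraMap A B)) q.asIdeal
  rw [hmapmap] at hcompl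
  have hH : IsHausdorff I (B ⧸ q.asIdeal) := (IsHausdorff.map_algebraMap_iff (S := B ⧸ q.asIdeal)).mp inferInstance
  exact Groth.Agent.S0544.result A I (B ⧸ q.asIdeal) hfin2

end

end Groth.Agent.Lib.Helper44
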