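import Mathlib
import Groth.Agent.Lib.Helper58.SchlVersal
import Groth.Agent.Lib.Helper58.PSRel
import Groth.Agent.Lib.Helper65.ArtCotangent
import Groth.Agent.Lib.Helper65.ArtTorsor
import Groth.Agent.Lib.Helper44.ArtDualSmall

/-!
# One step of Schlessinger's construction, with versality for small prolongations (helper44)

* `exists_min_presentation`: every object of `Art Λ k` is a quotient of a power series ring
  `PS Λ r` by an ideal contained in `n² + m_Λ P` (a minimal presentation);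
* `stage_step_versal`: the next stage `τ` of helper58's tower over a stage `σ`, when the element
  of `σ` is versal for the tangent space, is versal for small prolongations of `σ.x`.
-/

set_option autoImplicit false
universe u v

namespace Groth.Agent.Lib.Helper44

open MvPowerSeries IsLocalRing ArtFun ArtFun.Art CategoryTheory Groth.Agent.Lib.Helper65
  Groth.Agent.Lib.Helper58.Schl Groth.Agent.Lib.Helper58

section Presentation

variable {Λ : Type u} {k : Type u} [CommRing Λ] [Field k] [Algebra Λ k] [IsLocalRing Λ]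

/-- the structure map sends the maximal ideal of `Λ` into the maximal ideal of `A` -/
theorem algebraMap_mem_maximalIdeal (hk : Function.Surjective (algebraMap Λ k)) (A : Art Λ k)
    {l : Λ} (hl : l ∈ maximalIdeal Λ) : algebraMap Λ A l ∈ maximalIdeal A := by
  rw [Art.mem_maximalIdeal_iff, AlgHom.commutes]
  rw [← ker_algebraMap hk] at hl
  exact RingHom.mem_ker.mp hl

theorem map_algebraMap_le_maximalIdeal (hk : Function.Surjective (algebraMap Λ k)) (A : Art Λ k) :
    (maximalIdeal Λ).map (algebraMap Λ A) ≤ maximalIdeal A := by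
  rw [Ideal.map_le_iff_le_comap]
  intro l hl
  exact algebraMap_mem_maximalIdeal hk A hl

/-- if `algebraMap l` lies in the maximal ideal of `A` then `l` lies in the maximal ideal of `Λ` -/
theorem mem_maximalIdeal_of_algebraMap_mem (hk : Function.Surjective (algebraMap Λ k)) (A : Art Λ k)
    {l : Λ} (hl : algebraMap Λ A l ∈ maximalIdeal A) : l ∈ maximalIdeal Λ := by
  rw [Art.mem_maximalIdeal_iff, AlgHom.commutes] at hl
  rw [← ker_algebraMap hk]
  exact RingHom.mem_ker.mpr hl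

variable {r : ℕ}

/-- an augmented map out of the ambient ring maps its maximal ideal into the maximal ideal -/
theorem ps_map_mem_maximalIdeal (hk : Function.Surjective (algebraMap Λ k)) {A : Art Λ k}
    (w : PS Λ r →ₐ[Λ] A) (hw : A.res.comp w = resPS Λ k r) {f : PS Λ r}
    (hf : f ∈ maximalIdeal (PS Λ r)) : w f ∈ maximalIdeal A := by
  rw [Art.mem_maximalIdeal_iff]
  have : A.res (w f) = resPS Λ k r f := AlgHom.congr_fun hw f
  rw [this]
  exact (mem_maximalIdeal_iff_resPS hk f).mp hf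

theorem ps_map_sq_mem (hk : Function.Surjective (algebraMap Λ k)) {A : Art Λ k}
    (w : PS Λ r →ₐ[Λ] A) (hw : A.res.comp w = resPS Λ k r) {f : PS Λ r}
    (hf : f ∈ maximalIdeal (PS Λ r) ^ 2) : w f ∈ maximalIdeal A ^ 2 := by
  have h1 : (maximalIdeal (PS Λ r)).map (w : PS Λ r →+* A) ≤ maximalIdeal A := by
    rw [Ideal.map_le_iff_le_comap]
    intro y hy
    exact ps_map_mem_maximalIdeal hk w hw hy
  have h2 := Ideal.mem_map_of_mem (w : PS Λ r →+* A) hf
  rw [Ideal.map_pow] at h2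
  exact Ideal.pow_right_mono h1 2 h2

/-- decomposition of a power series into constant, linear and higher part -/
theorem ps_decomp (f : PS Λ r) :
    ∃ (a : Fin r → Λ) (g : PS Λ r), g ∈ maximalIdeal (PS Λ r) ^ 2 ∧
      f = C (constantCoeff f) + ∑ i, C (a i) * X i + g := by
  classical
  refine ⟨fun i => constantCoeff (Helper21.PSAdic.part i f),
    ∑ i, X i * (Helper21.PSAdic.part i f - C (constantCoeff (Helper21.PSAdic.part i f))), ?_, ?_⟩
  · refine Ideal.sum_mem _ fun i _ => ?_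
    rw [pow_two]
    refine Ideal.mul_mem_mul ?_ ?_
    · rw [MvPSComplete.mem_maximalIdeal_iff, constantCoeff_X]
      exact zero_mem _
    · apply MvPSComplete.ker_constantCoeff_le
      rw [RingHom.mem_ker, map_sub, constantCoeff_C, sub_self]
  · conv_lhs => rw [Helper21.PSAdic.eq_C_add_sum f]
    rw [add_assoc, ← Finset.sum_add_distrib]
    congr 1
    refine Finset.sum_congr rfl fun i _ => ?_
    ring

/-- surjectivity of an augmented map out of the ambient ring, from generation of the maximal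
ideal modulo its square -/
theorem ps_surjective_of_span [IsNoetherianRing Λ] (hk : Function.Surjective (algebraMap Λ k))
    {A : Art Λ k} (w : PS Λ r →ₐ[Λ] A) (hw : A.res.comp w = resPS Λ k r)
    (hspan : maximalIdeal A ≤ Ideal.span (Set.range fun i => w (X i)) ⊔
      (maximalIdeal Λ).map (algebraMap Λ A)) : Function.Surjective w := by
  obtain ⟨N, hN⟩ := exists_pow_le_ker hk w hw
  have hN1 : maximalIdeal (PS Λ r) ^ (N + 1) ≤ maximalIdeal (PS Λ r) :=
    Ideal.pow_le_self (Nat.succ_ne_zero N)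
  let C₀ : Art Λ k := artQ hk (maximalIdeal (PS Λ r) ^ (N + 1)) hN1 ⟨N + 1, le_rfl⟩
  let w₀ : PS Λ r →ₐ[Λ] C₀ := Ideal.Quotient.mkₐ Λ _
  have hw₀ : Function.Surjective w₀ := Ideal.Quotient.mk_surjective
  have hres₀ : C₀.res.comp w₀ = resPS Λ k r := AlgHom.ext fun a => rfl
  have hker₀ : RingHom.ker w₀ ≤ RingHom.ker w := by
    have : RingHom.ker w₀ = maximalIdeal (PS Λ r) ^ (N + 1) := Ideal.mk_ker
    rw [this]
    exact (Ideal.pow_le_pow_right (Nat.le_succ N)).trans hN
  let g : C₀ ⟶ A := factorHom w₀ hw₀ w hres₀ hw hker₀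
  have hg : ∀ a, g.toAlgHom (w₀ a) = w a := fun a => factorHom_apply _ _ _ _ _ _ a
  have hgs : Function.Surjective g := by
    apply art_surjective_of_cotangent g
    apply le_antisymm
    · exact sup_le (art_map_maximalIdeal_le g) (Ideal.pow_le_self two_ne_zero)
    · refine le_trans hspan (le_trans ?_ le_sup_left)
      apply sup_le
      · rw [Ideal.span_le]
        rintro _ ⟨i, rfl⟩
        change w (X i) ∈ _
        rw [← hg]
        apply Ideal.mem_map_of_mem
        apply ps_map_mem_maximalIdeal hk w₀ hres₀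
        rw [MvPSComplete.mem_maximalIdeal_iff, constantCoeff_X]
        exact zero_mem _
      · rw [Ideal.map_le_iff_le_comap]
        intro l hl
        rw [Ideal.mem_comap]
        have : algebraMap Λ A l = g.toAlgHom (algebraMap Λ C₀ l) := (AlgHom.commutes _ l).symm
        rw [this]
        exact Ideal.mem_map_of_mem _ (algebraMap_mem_maximalIdeal hk C₀ hl)
  intro b
  obtain ⟨c, rfl⟩ := hgs b
  obtain ⟨a, rfl⟩ := hw₀ c
  exact ⟨a, (hg a).symm⟩

/-- a minimal presentation of an object of `Art Λ k` -/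
theorem exists_min_presentation [IsNoetherianRing Λ] (hk : Function.Surjective (algebraMap Λ k))
    (A : Art Λ k) :
    ∃ (r : ℕ) (w : PS Λ r →ₐ[Λ] A), Function.Surjective w ∧ A.res.comp w = resPS Λ k r ∧
      ∀ f ∈ maximalIdeal (PS Λ r),
        w f ∈ maximalIdeal A ^ 2 ⊔ (maximalIdeal Λ).map (algebraMap Λ A) →
        f ∈ maximalIdeal (PS Λ r) ^ 2 ⊔ (maximalIdeal Λ).map (algebraMap Λ (PS Λ r)) := by
  classical
  set I₀ : Ideal A := (maximalIdeal Λ).map (algebraMap Λ A) with hI₀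
  have hI₀le : I₀ ≤ maximalIdeal A := map_algebraMap_le_maximalIdeal hk A
  obtain ⟨r, x, hxm, hspan, hind⟩ := PSRel.exists_gens I₀ hI₀le
  obtain ⟨w, hw, hwX⟩ := exists_algHom_X (Λ := Λ) (k := k) (r := r) x hxm
  have hwX' : (fun i => w (X i)) = x := funext hwX
  refine ⟨r, w, ?_, hw, ?_⟩
  · apply ps_surjective_of_span hk w hw
    rw [hwX', ← hspan]
  · intro f hf hwf
    obtain ⟨a, g, hg, hfg⟩ := ps_decomp f
    have hc : constantCoeff f ∈ maximalIdeal Λ := (MvPSComplete.mem_maximalIdeal_iff f).mp hf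
    have hCmem : ∀ l ∈ maximalIdeal Λ,
        (C l : PS Λ r) ∈ (maximalIdeal Λ).map (algebraMap Λ (PS Λ r)) := by
      intro l hl
      rw [C_eq_algebraMap]
      exact Ideal.mem_map_of_mem _ hl
    -- the linear part maps into `I₀ ⊔ m²`
    have hwf' : w f = algebraMap Λ A (constantCoeff f) + ∑ i, algebraMap Λ A (a i) * x i + w g := by
      conv_lhs => rw [hfg]
      rw [map_add, map_add, map_sum, C_eq_algebraMap, AlgHom.commutes]
      congr 2
      refine Finset.sum_congr rfl fun i _ => ?_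
      rw [map_mul, C_eq_algebraMap, AlgHom.commutes, hwX]
    have hlin : ∑ i, algebraMap Λ A (a i) * x i ∈ I₀ ⊔ maximalIdeal A ^ 2 := by
      have e : ∑ i, algebraMap Λ A (a i) * x i =
          w f - algebraMap Λ A (constantCoeff f) - w g := by
        rw [hwf']; ring
      rw [e]
      refine Ideal.sub_mem _ (Ideal.sub_mem _ ?_ ?_) ?_
      · rw [sup_comm]; exact hwf
      · exact Ideal.mem_sup_left (Ideal.mem_map_of_mem _ hc)
      · exact Ideal.mem_sup_right (ps_map_sq_mem hk w hw hg)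
    have ha : ∀ i, a i ∈ maximalIdeal Λ := fun i =>
      mem_maximalIdeal_of_algebraMap_mem hk A (hind (fun i => algebraMap Λ A (a i)) hlin i)
    rw [hfg]
    refine Ideal.add_mem _ (Ideal.add_mem _ ?_ ?_) ?_
    · exact Ideal.mem_sup_right (hCmem _ hc)
    · refine Ideal.sum_mem _ fun i _ => ?_
      exact Ideal.mem_sup_right (Ideal.mul_mem_right _ _ (hCmem _ (ha i)))
    · exact Ideal.mem_sup_left hg

end Presentation

section Step

variable {Λ : Type u} {k : Type u} [CommRing Λ] [Field k] [Algebra Λ k] [IsLocalRing Λ]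
  [IsNoetherianRing Λ] {r : ℕ} {F : Art Λ k ⥤ Type v}

/-- Step A: the next stage maps to every small prolongation of `σ.x` over `σ.C` (without
compatibility of the elements). -/
theorem stage_step_lift [Module.Finite Λ k] (hk : Function.Surjective (algebraMap Λ k))
    (σ τ : Stage Λ k r F) (hle : τ.K ≤ σ.K)
    (hmin : ∀ (ρ : Stage Λ k r F) (_ : maximalIdeal (PS Λ r) * σ.K ≤ ρ.K) (h₂ : ρ.K ≤ σ.K),
        F.map (ρ.factor σ h₂) ρ.x = σ.x → τ.K ≤ ρ.K)
    {R₁ : Art Λ k} (π₁ : R₁ ⟶ σ.C) (hπ₁ : IsSmallExt π₁) (a₁ : F.obj R₁)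
    (ha₁ : F.map π₁ a₁ = σ.x) :
    ∃ f₀ : τ.C ⟶ R₁, f₀ ≫ π₁ = τ.factor σ hle := by
  obtain ⟨w', hw'1, hw'2⟩ := exists_lift_PS π₁ hπ₁.1 σ.w σ.comp_res
  have hπw' : ∀ a, π₁.toAlgHom (w' a) = σ.w a := fun a => AlgHom.congr_fun hw'1 a
  by_cases hsurj : Function.Surjective w'
  · let ρ : Stage Λ k r F :=
      { C := R₁, w := w', surj := hsurj, comp_res := hw'2, x := a₁ }
    have hρσ : ρ.K ≤ σ.K := by
      intro a ha
      rw [σ.mem_K, ← hπw']
      have : w' a = 0 := (ρ.mem_K a).mp ha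
      rw [this, map_zero]
    have hnρ : maximalIdeal (PS Λ r) * σ.K ≤ ρ.K := by
      rw [Ideal.mul_le]
      intro a ha b hb
      rw [ρ.mem_K]
      change w' (a * b) = 0
      rw [map_mul]
      have h1' : w' a ∈ maximalIdeal R₁ := (ρ.w_mem_maximalIdeal hk a).mpr ha
      have h2' : w' b ∈ RingHom.ker π₁.toAlgHom := by
        rw [RingHom.mem_ker, hπw']
        exact (σ.mem_K b).mp hb
      have := Ideal.mul_mem_mul h1' h2'
      rw [hπ₁.2.2.2] at this
      exact this
    have hfac : ρ.factor σ hρσ = π₁ := by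
      apply hom_ext_of_surjective ρ.w ρ.surj
      apply AlgHom.ext
      intro a
      change (ρ.factor σ hρσ).toAlgHom (ρ.w a) = π₁.toAlgHom (w' a)
      rw [Stage.factor_apply, hπw']
    have hle' : τ.K ≤ ρ.K := hmin ρ hnρ hρσ (by rw [hfac]; exact ha₁)
    refine ⟨τ.factor ρ hle', ?_⟩
    apply hom_ext_of_surjective τ.w τ.surj
    apply AlgHom.ext
    intro a
    change π₁.toAlgHom ((τ.factor ρ hle').toAlgHom (τ.w a)) = (τ.factor σ hle).toAlgHom (τ.w a)
    rw [Stage.factor_apply, Stage.factor_apply]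
    exact hπw' a
  · obtain ⟨N, hN⟩ := exists_pow_le_ker hk w' hw'2
    have hN1 : maximalIdeal (PS Λ r) ^ (N + 1) ≤ maximalIdeal (PS Λ r) :=
      Ideal.pow_le_self (Nat.succ_ne_zero N)
    let C₀ : Art Λ k := artQ hk (maximalIdeal (PS Λ r) ^ (N + 1)) hN1 ⟨N + 1, le_rfl⟩
    let w₀ : PS Λ r →ₐ[Λ] C₀ := Ideal.Quotient.mkₐ Λ _
    have hw₀ : Function.Surjective w₀ := Ideal.Quotient.mk_surjective
    have hres₀ : C₀.res.comp w₀ = resPS Λ k r := AlgHom.ext fun a => rfl
    have hker₀ : RingHom.ker w₀ ≤ RingHom.ker w' := by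
      have : RingHom.ker w₀ = maximalIdeal (PS Λ r) ^ (N + 1) := Ideal.mk_ker
      rw [this]
      exact (Ideal.pow_le_pow_right (Nat.le_succ N)).trans hN
    let g : C₀ ⟶ R₁ := factorHom w₀ hw₀ w' hres₀ hw'2 hker₀
    have hg : ∀ a, g.toAlgHom (w₀ a) = w' a := fun a => factorHom_apply _ _ _ _ _ _ a
    have hgp : Function.Surjective (g ≫ π₁) := by
      intro c
      obtain ⟨a, rfl⟩ := σ.surj c
      refine ⟨w₀ a, ?_⟩
      change π₁.toAlgHom (g.toAlgHom (w₀ a)) = σ.w a
      rw [hg, hπw']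
    have hgns : ¬ Function.Surjective g := by
      intro hgs
      apply hsurj
      intro c
      obtain ⟨c₀, rfl⟩ := hgs c
      obtain ⟨a, rfl⟩ := hw₀ c₀
      exact ⟨a, (hg a).symm⟩
    obtain ⟨s, hs⟩ := (Groth.Agent.S12713.result π₁ hπ₁).mp ⟨C₀, g, hgp, hgns⟩
    refine ⟨τ.factor σ hle ≫ s, ?_⟩
    rw [Category.assoc, hs, Category.comp_id]

/-- The next stage of the tower over `σ` is versal for small prolongations of `σ.x`, provided
`σ.x` is versal for the tangent space. -/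
theorem stage_step_versal [Module.Finite Λ k] (hk : Function.Surjective (algebraMap Λ k))
    (h1 : S1 F) (h2 : Heps F)
    (σ τ : Stage Λ k r F) (hle : τ.K ≤ σ.K)
    (hx : F.map (τ.factor σ hle) τ.x = σ.x)
    (hmin : ∀ (ρ : Stage Λ k r F) (_ : maximalIdeal (PS Λ r) * σ.K ≤ ρ.K) (h₂ : ρ.K ≤ σ.K),
        F.map (ρ.factor σ h₂) ρ.x = σ.x → τ.K ≤ ρ.K)
    (hvers : ∀ b : F.obj (dual Λ k), ∃ φ : σ.C ⟶ dual Λ k, F.map φ σ.x = b)
    {R₁ : Art Λ k} (π₁ : R₁ ⟶ σ.C) (hπ₁ : IsSmallExt π₁) (a₁ : F.obj R₁)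
    (ha₁ : F.map π₁ a₁ = σ.x) :
    ∃ f : τ.C ⟶ R₁, f ≫ π₁ = τ.factor σ hle ∧ F.map f τ.x = a₁ := by
  obtain ⟨f₀, hf₀⟩ := stage_step_lift hk σ τ hle hmin π₁ hπ₁ a₁ ha₁
  obtain ⟨P, q₁, q₂, t, hP₁, hP₂⟩ := exists_torsor_square π₁ hπ₁
  -- the two elements over `σ.x`
  have hx₀ : F.map π₁ (F.map f₀ τ.x) = F.map π₁ a₁ := by
    rw [← Functor.map_comp_apply, hf₀, hx, ha₁]
  obtain ⟨z, hz⟩ := h1 q₁ q₂ π₁ π₁ hP₁ hπ₁.1 ⟨(F.map f₀ τ.x, a₁), hx₀⟩
  have hz1 : F.map q₁ z = F.map f₀ τ.x := congrArg (fun t => t.1.1) hz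
  have hz2 : F.map q₂ z = a₁ := congrArg (fun t => t.1.2) hz
  obtain ⟨φ, hφ⟩ := hvers (F.map t z)
  have hcompat : f₀ ≫ toBase R₁ = (τ.factor σ hle ≫ φ) ≫ toBase (dual Λ k) := by
    rw [eq_toBase (f₀ ≫ toBase R₁), eq_toBase ((τ.factor σ hle ≫ φ) ≫ toBase (dual Λ k))]
  obtain ⟨g, hg1, hg2⟩ := isFibreProd_lift_hom hP₂ f₀ (τ.factor σ hle ≫ φ) hcompat
  have hgz : F.map g τ.x = z := by
    apply (h2 q₁ t hP₂).1
    apply FibProd.ext
    · change F.map q₁ (F.map g τ.x) = F.map q₁ z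
      rw [← Functor.map_comp_apply, hg1, hz1]
    · change F.map t (F.map g τ.x) = F.map t z
      rw [← Functor.map_comp_apply, hg2, Functor.map_comp_apply, hx, hφ]
  refine ⟨g ≫ q₂, ?_, ?_⟩
  · rw [Category.assoc, ← hP₁.w, ← Category.assoc, hg1, hf₀]
  · rw [Functor.map_comp_apply, hgz, hz2]

end Step

end Groth.Agent.Lib.Helper44
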