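import Mathlib

/-!
# Seidenberg's theorem: derivations extend to the integral closure (characteristic zero) (helper44)

The key point is the ring homomorphism `exp (tD) : K → K⟦t⟧`; if `c x ^ m ∈ S` for all `m`
(`x` almost integral over a `D`-stable subalgebra `S`), then `c ^ 2 (D x) ^ m ∈ S` for all `m`.
-/

set_option autoImplicit false
universe u

namespace Groth.Agent.Lib.Helper44.Seidenberg

open PowerSeries

section exp

variable {k : Type*} [Field k] {K : Type*} [CommRing K] [Algebra k K]

/-- the general Leibniz rule for iterated derivations -/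
theorem iterate_leibniz (D : Derivation k K K) (n : ℕ) (a b : K) :
    (⇑D)^[n] (a * b) = ∑ ij ∈ Finset.HasAntidiagonal.antidiagonal n,
      n.choose ij.1 • ((⇑D)^[ij.1] a * (⇑D)^[ij.2] b) := by
  induction n with
  | zero => simp
  | succ n ih =>
    rw [Finset.sum_antidiagonal_choose_succ_nsmul (M := K)
      (fun i j => (⇑D)^[i] a * (⇑D)^[j] b) n]
    simp only [Function.iterate_succ_apply', ih, map_sum, map_nsmul, Derivation.leibniz,
      smul_eq_mul, smul_add, Finset.sum_add_distrib]
    congr 1
    refine Finset.sum_congr rfl fun ij hij => ?_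
    rw [n.choose_symm_of_eq_add (Finset.HasAntidiagonal.mem_antidiagonal.1 hij).symm, mul_comm]

/-- the exponential `exp (tD)` of a derivation, as a map into power series -/
noncomputable def expD (D : Derivation k K K) (x : K) : PowerSeries K :=
  PowerSeries.mk fun n => ((n.factorial : k)⁻¹) • ((⇑D)^[n] x)

theorem expD_mul [CharZero k] (D : Derivation k K K) (x y : K) : expD D (x * y) = expD D x * expD D y := by
  ext n
  rw [coeff_mul]
  simp only [expD, coeff_mk]
  rw [iterate_leibniz, Finset.smul_sum]
  refine Finset.sum_congr rfl fun ij hij => ?_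
  have hn : ij.1 + ij.2 = n := Finset.HasAntidiagonal.mem_antidiagonal.mp hij
  rw [smul_mul_smul_comm, ← Nat.cast_smul_eq_nsmul k, smul_smul]
  congr 1
  have h1 : ((ij.1.factorial : ℕ) : k) ≠ 0 := Nat.cast_ne_zero.mpr (Nat.factorial_ne_zero _)
  have h2 : ((ij.2.factorial : ℕ) : k) ≠ 0 := Nat.cast_ne_zero.mpr (Nat.factorial_ne_zero _)
  have h3 : ((n.factorial : ℕ) : k) ≠ 0 := Nat.cast_ne_zero.mpr (Nat.factorial_ne_zero _)
  have h4 : ((n.choose ij.1 : ℕ) : k) ≠ 0 :=
    Nat.cast_ne_zero.mpr (Nat.choose_pos (by omega)).ne'
  have hfac : ((n.choose ij.1 : ℕ) : k) * (ij.1.factorial : k) * (ij.2.factorial : k) =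
      (n.factorial : k) := by
    rw [← hn, Nat.choose_symm_add]
    exact_mod_cast Nat.add_choose_mul_factorial_mul_factorial ij.1 ij.2
  rw [← hfac]
  field_simp

/-- power series with all coefficients in a subalgebra -/
def coeffSubring (S : Subalgebra k K) : Subring (PowerSeries K) where
  carrier := {f | ∀ n, coeff n f ∈ S}
  mul_mem' := by
    intro f g hf hg n
    rw [coeff_mul]
    exact sum_mem fun p _ => mul_mem (hf _) (hg _)
  one_mem' := by
    intro n
    rw [coeff_one]
    split_ifs
    · exact one_mem _
    · exact zero_mem _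
  add_mem' := by
    intro f g hf hg n
    rw [map_add]
    exact add_mem (hf n) (hg n)
  zero_mem' := by
    intro n
    rw [map_zero]
    exact zero_mem _
  neg_mem' := by
    intro f hf n
    rw [map_neg]
    exact neg_mem (hf n)

theorem mem_coeffSubring (S : Subalgebra k K) (f : PowerSeries K) :
    f ∈ coeffSubring S ↔ ∀ n, coeff n f ∈ S := Iff.rfl

/-- **Seidenberg's trick**: if `c x ^ m ∈ S` for all `m`, then `c ^ 2 (D x) ^ m ∈ S` for all `m`. -/
theorem almost_integral_deriv [CharZero k] (D : Derivation k K K) (S : Subalgebra k K)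
    (hD : ∀ s ∈ S, D s ∈ S) (c x : K) (hx : ∀ m, c * x ^ m ∈ S) (m : ℕ) :
    c * c * (D x) ^ m ∈ S := by
  have hiter : ∀ (n : ℕ) (s : K), s ∈ S → (⇑D)^[n] s ∈ S := by
    intro n
    induction n with
    | zero => intro s hs; simpa using hs
    | succ n ih =>
      intro s hs
      rw [Function.iterate_succ_apply']
      exact hD _ (ih s hs)
  have hexp : ∀ s ∈ S, expD D s ∈ coeffSubring S := by
    intro s hs n
    simp only [expD, coeff_mk]
    exact S.smul_mem (hiter n s hs) _
  have hC : ∀ s ∈ S, C s ∈ coeffSubring S := by
    intro s hs n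
    rw [coeff_C]
    split_ifs
    · exact hs
    · exact zero_mem _
  have hpow : ∀ j : ℕ, expD D (c * x ^ j) = expD D c * (expD D x) ^ j := by
    intro j
    induction j with
    | zero => simp
    | succ j ih => rw [pow_succ, ← mul_assoc, expD_mul, ih, pow_succ, mul_assoc]
  set f := expD D x with hfdef
  set h : PowerSeries K := PowerSeries.mk fun n => coeff (n + 1) f with hhdef
  have hf : f = C x + X * h := by
    ext n
    cases n with
    | zero => simp [hfdef, expD]
    | succ n => simp [hhdef, coeff_succ_X_mul]
  have hE : C c * expD D c * (f - C x) ^ m = X ^ m * (C c * expD D c * h ^ m) := by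
    rw [hf]
    ring
  have hE2 : C c * expD D c * (f - C x) ^ m ∈ coeffSubring S := by
    have hsub : f - C x = f + C (-x) := by rw [map_neg, sub_eq_add_neg]
    rw [hsub, add_pow, Finset.mul_sum]
    refine sum_mem fun j _ => ?_
    have hterm : C c * expD D c * (f ^ j * C (-x) ^ (m - j) * (m.choose j : PowerSeries K)) =
        expD D (c * x ^ j) * C (c * (-x) ^ (m - j)) * (m.choose j : PowerSeries K) := by
      rw [hpow, map_mul, map_pow]
      ring
    rw [hterm]
    refine mul_mem (mul_mem (hexp _ (hx j)) (hC _ ?_)) (natCast_mem _ _)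
    rw [neg_pow, ← mul_assoc, mul_comm c, mul_assoc]
    exact mul_mem (pow_mem (neg_mem (one_mem _)) _) (hx _)
  have hm := hE2 m
  rw [hE, coeff_X_pow_mul', if_pos le_rfl, Nat.sub_self, coeff_zero_eq_constantCoeff_apply,
    map_mul, map_mul, map_pow, constantCoeff_C] at hm
  have h1 : constantCoeff (expD D c) = c := by
    rw [← coeff_zero_eq_constantCoeff_apply]
    simp [expD]
  have h2 : constantCoeff h = D x := by
    rw [← coeff_zero_eq_constantCoeff_apply]
    simp [hhdef, hfdef, expD]
  rw [h1, h2] at hm
  exact hm

end exp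

section integral

variable {A : Type*} [CommRing A] {K : Type*} [CommRing K] [Algebra A K]
  [IsLocalization (nonZeroDivisors A) K]

/-- integral elements of the total ring of fractions are almost integral -/
theorem exists_mul_pow_mem_of_isIntegral {x : K} (hx : IsIntegral A x) :
    ∃ c ∈ nonZeroDivisors A, ∀ m : ℕ, ∃ a : A, algebraMap A K a = algebraMap A K c * x ^ m := by
  classical
  obtain ⟨G, hG⟩ := hx.fg_adjoin_singleton
  obtain ⟨c, hc⟩ := IsLocalization.exist_integer_multiples_of_finset (nonZeroDivisors A) G
  have hall : ∀ y ∈ Submodule.span A (G : Set K), IsLocalization.IsInteger A ((c : A) • y) := by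
    intro y hy
    induction hy using Submodule.span_induction with
    | mem y hy => exact hc y hy
    | zero => rw [smul_zero]; exact IsLocalization.isInteger_zero
    | add y z _ _ hy hz => rw [smul_add]; exact IsLocalization.isInteger_add hy hz
    | smul r y _ hy => rw [smul_comm]; exact IsLocalization.isInteger_smul hy
  refine ⟨c, c.2, fun m => ?_⟩
  have hmem : x ^ m ∈ Submodule.span A (G : Set K) := by
    rw [hG]
    exact pow_mem (Algebra.subset_adjoin (Set.mem_singleton x)) m
  obtain ⟨a, ha⟩ := hall _ hmem
  exact ⟨a, by rw [ha, Algebra.smul_def]⟩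

/-- almost integral elements over a Noetherian ring are integral -/
theorem isIntegral_of_mul_pow_mem [IsNoetherianRing A] {y : K} (c : A)
    (hc : c ∈ nonZeroDivisors A)
    (hy : ∀ m : ℕ, ∃ a : A, algebraMap A K a = algebraMap A K c * y ^ m) : IsIntegral A y := by
  classical
  -- multiplication by `c` is injective on `K`
  have hcu : IsUnit (algebraMap A K c) := IsLocalization.map_units K ⟨c, hc⟩
  let μ : K →ₗ[A] K := LinearMap.lsmul A K c
  have hμ : Function.Injective μ := by
    intro z w hzw
    have : algebraMap A K c * z = algebraMap A K c * w := by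
      simpa [μ, Algebra.smul_def] using hzw
    exact hcu.mul_left_cancel this
  refine IsIntegral.of_mem_of_fg (Algebra.adjoin A {y}) ?_ y
    (Algebra.subset_adjoin (Set.mem_singleton y))
  refine Submodule.fg_of_fg_map_injective μ hμ ?_
  have hle : (Algebra.adjoin A {y}).toSubmodule.map μ ≤ LinearMap.range (Algebra.linearMap A K) := by
    rw [Algebra.adjoin_eq_span, Submodule.map_span, Submodule.span_le]
    rintro _ ⟨z, hz, rfl⟩
    obtain ⟨n, rfl⟩ := Submonoid.mem_closure_singleton.mp hz
    obtain ⟨a, ha⟩ := hy n
    exact ⟨a, by simpa [μ, Algebra.smul_def] using ha⟩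
  have hN : IsNoetherian A (LinearMap.range (Algebra.linearMap A K)) := inferInstance
  exact (isNoetherian_submodule.mp hN) _ hle

end integral

section extend

open KaehlerDifferential

/-- the extension of a derivation of `A` to the total ring of fractions -/
noncomputable def extendDer (k : Type u) [Field k] (A : Type u) [CommRing A] [Algebra k A]
    (D : Derivation k A A) : Derivation k (FractionRing A) (FractionRing A) :=
  haveI : Algebra.FormallyEtale A (FractionRing A) :=
    Algebra.FormallyEtale.of_isLocalization (nonZeroDivisors A)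
  ((KaehlerDifferential.isBaseChange_of_formallyEtale k A (FractionRing A)).lift
    (((Algebra.linearMap A (FractionRing A)).compDer D).liftKaehlerDifferential)).compDer
      (KaehlerDifferential.D k (FractionRing A))

theorem extendDer_algebraMap (k : Type u) [Field k] (A : Type u) [CommRing A] [Algebra k A]
    (D : Derivation k A A) (a : A) :
    extendDer k A D (algebraMap A (FractionRing A) a) = algebraMap A (FractionRing A) (D a) := by
  have : Algebra.FormallyEtale A (FractionRing A) :=
    Algebra.FormallyEtale.of_isLocalization (nonZeroDivisors A)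
  unfold extendDer
  rw [Derivation.coe_comp]
  simp only [LinearMap.coe_comp, Function.comp_apply, Derivation.coeFn_coe]
  rw [← KaehlerDifferential.map_D k k A (FractionRing A)]
  erw [IsBaseChange.lift_eq]
  rw [Derivation.liftKaehlerDifferential_comp_D]
  simp

/-- **Seidenberg**: the extended derivation preserves integrality over a Noetherian `ℚ`-algebra. -/
theorem isIntegral_extendDer (k : Type u) [Field k] [CharZero k] (A : Type u) [CommRing A]
    [Algebra k A] [IsNoetherianRing A] (D : Derivation k A A) (x : FractionRing A)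
    (hx : IsIntegral A x) : IsIntegral A (extendDer k A D x) := by
  obtain ⟨c, hc, hxm⟩ := exists_mul_pow_mem_of_isIntegral hx
  let S : Subalgebra k (FractionRing A) := (IsScalarTower.toAlgHom k A (FractionRing A)).range
  have hS : ∀ z : FractionRing A, z ∈ S ↔ ∃ a : A, algebraMap A (FractionRing A) a = z := by
    intro z
    exact Iff.rfl
  have hD : ∀ s ∈ S, extendDer k A D s ∈ S := by
    intro s hs
    obtain ⟨a, rfl⟩ := (hS s).mp hs
    exact (hS _).mpr ⟨D a, (extendDer_algebraMap k A D a).symm⟩
  have hkey := almost_integral_deriv (extendDer k A D) S hD (algebraMap A (FractionRing A) c) x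
    (fun m => (hS _).mpr (hxm m))
  refine isIntegral_of_mul_pow_mem (c * c) (mul_mem hc hc) fun m => ?_
  obtain ⟨a, ha⟩ := (hS _).mp (hkey m)
  exact ⟨a, by rw [map_mul]; exact ha⟩

end extend

end Groth.Agent.Lib.Helper44.Seidenberg
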