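import Mathlib
import Groth.Agent.Lib.Helper96.SigmaLinDecomp

/-!
# The `q`-power map on a separably closed field satisfies the solvability hypotheses of
helper96's `SigmaLin` library
-/

set_option autoImplicit false

namespace Groth.Agent.Lib.Helper44

open Polynomial Groth.Agent.Lib.Helper96 Groth.Agent.Lib.Helper96.SigmaLin

universe u v

section Field

variable (k : Type u) [Field k] (p : ℕ) [Fact p.Prime] [CharP k p] (r : ℕ)

theorem iterate_iterateFrobenius (m : ℕ) (x : k) :
    (⇑(iterateFrobenius k p r))^[m] x = x ^ ((p ^ r) ^ m) := by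
  induction m generalizing x with
  | zero => simp
  | succ m ih =>
    rw [Function.iterate_succ_apply, ih, iterateFrobenius_def, ← pow_mul, pow_succ']

omit [Fact p.Prime] in
theorem natCast_q_pow_eq_zero (hr : 0 < r) (m : ℕ) : (((p ^ r) ^ (m + 1) : ℕ) : k) = 0 := by
  rw [CharP.cast_eq_zero_iff k p]
  have : p ∣ p ^ r := dvd_pow_self p hr.ne'
  exact dvd_trans this (dvd_pow_self _ (Nat.succ_ne_zero m))

theorem two_le_q (hr : 0 < r) : 2 ≤ p ^ r := by
  have hp : 2 ≤ p := (Fact.out : p.Prime).two_le
  calc 2 ≤ p := hp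
    _ = p ^ 1 := (pow_one p).symm
    _ ≤ p ^ r := Nat.pow_le_pow_right (by omega) hr

theorem separable_of_derivative_eq_neg_one {P : k[X]} (h : derivative P = -1) : P.Separable := by
  rw [separable_def, h]
  exact isCoprime_one_right.neg_right

variable [IsSepClosed k]

theorem hyp3_iterateFrobenius (hr : 0 < r) : Hyp3 (iterateFrobenius k p r) := by
  intro c
  have hq := two_le_q p r hr
  set q := p ^ r with hqdef
  have hq0 : ((q : ℕ) : k) = 0 := by
    have := natCast_q_pow_eq_zero k p r hr 0
    rwa [zero_add, pow_one] at this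
  let P : k[X] := X ^ q - X + C c
  have hder : derivative P = -1 := by
    simp only [P, derivative_add, derivative_sub, derivative_X_pow, derivative_X, derivative_C]
    rw [hq0, C_0, zero_mul]
    ring
  have hsep : P.Separable := separable_of_derivative_eq_neg_one k hder
  have hdeg : P.degree ≠ 0 := by
    have h1 : P = X ^ q - (X - C c) := by simp only [P]; ring
    have h2 : (X - C c : k[X]).degree < (X ^ q : k[X]).degree := by
      rw [degree_X_sub_C, degree_X_pow]
      exact_mod_cast hq
    rw [h1, degree_sub_eq_left_of_degree_lt h2, degree_X_pow]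
    exact_mod_cast (by omega : q ≠ 0)
  obtain ⟨y, hy⟩ := IsSepClosed.exists_root P hdeg hsep
  refine ⟨y, ?_⟩
  simpa [P, iterateFrobenius_def] using hy

theorem hyp2_iterateFrobenius (hr : 0 < r) : Hyp2 (iterateFrobenius k p r) := by
  intro n b hb
  have hq := two_le_q p r hr
  set q := p ^ r with hqdef
  set σ := iterateFrobenius k p r with hσ
  -- exponents
  let e : Fin (n + 1) → ℕ := fun i => q ^ (i.val + 1) - 1
  have hqpow : ∀ m : ℕ, 2 ≤ q ^ (m + 1) := fun m =>
    le_trans hq (le_self_pow₀ (by omega) (Nat.succ_ne_zero m))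
  have he1 : ∀ i, 1 ≤ e i := fun i => by
    have := hqpow i.val
    simp only [e]; omega
  have hee : ∀ i, e i + 1 = q ^ (i.val + 1) := fun i => by
    have := hqpow i.val
    simp only [e]; omega
  have heinj : Function.Injective e := by
    intro i j hij
    have h1 : q ^ (i.val + 1) = q ^ (j.val + 1) := by rw [← hee i, ← hee j, hij]
    have := Nat.pow_right_injective hq h1
    exact Fin.ext (by omega)
  let c : Fin (n + 1) → k := fun i => (⇑σ)^[i.val] (b (Fin.rev i))
  let S : k[X] := ∑ i : Fin (n + 1), C (c i) * X ^ (e i)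
  let Q : k[X] := S - 1
  -- `X * Q` has derivative `-1`
  have hXQ : X * Q = ∑ i : Fin (n + 1), C (c i) * X ^ (q ^ (i.val + 1)) - X := by
    simp only [Q, S, mul_sub, mul_one, Finset.mul_sum]
    congr 1
    apply Finset.sum_congr rfl
    intro i _
    rw [← hee i, pow_succ]
    ring
  have hder : derivative (X * Q) = -1 := by
    rw [hXQ, derivative_sub, derivative_X, derivative_sum]
    have : ∀ i ∈ (Finset.univ : Finset (Fin (n + 1))),
        derivative (C (c i) * X ^ (q ^ (i.val + 1))) = 0 := by
      intro i _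
      rw [derivative_C_mul_X_pow, natCast_q_pow_eq_zero k p r hr i.val, mul_zero, C_0, zero_mul]
    rw [Finset.sum_eq_zero this, zero_sub]
  have hsepQ : Q.Separable :=
    (separable_of_derivative_eq_neg_one k hder).of_mul_right
  -- `Q` is not constant
  obtain ⟨i₀, hi₀⟩ : ∃ i, b i ≠ 0 := by
    by_contra h
    push Not at h
    exact hb (funext h)
  have hc : c (Fin.rev i₀) ≠ 0 := by
    simp only [c, Fin.rev_rev]
    intro h
    apply hi₀
    have hinj : Function.Injective ((⇑σ)^[(Fin.rev i₀).val]) :=
      Function.Injective.iterate σ.injective _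
    exact hinj (by rw [h, iterate_map_zero])
  have hcoeffS : S.coeff (e (Fin.rev i₀)) = c (Fin.rev i₀) := by
    simp only [S, finsetSum_coeff, coeff_C_mul, coeff_X_pow]
    rw [Finset.sum_eq_single (Fin.rev i₀)]
    · rw [if_pos rfl, mul_one]
    · intro j _ hj
      rw [if_neg, mul_zero]
      intro h
      exact hj (heinj h).symm
    · intro h; exact absurd (Finset.mem_univ _) h
  have hdeg : Q.degree ≠ 0 := by
    intro h0
    have hQC := eq_C_of_degree_eq_zero h0
    have hS : S = C (Q.coeff 0 + 1) := by
      have : S = Q + 1 := by simp only [Q]; ring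
      rw [this, hQC]
      simp
    have := hcoeffS
    rw [hS, coeff_C, if_neg (by have := he1 (Fin.rev i₀); omega)] at this
    exact hc this.symm
  obtain ⟨x, hx⟩ := IsSepClosed.exists_root Q hdeg hsepQ
  have hx0 : x ≠ 0 := by
    rintro rfl
    have h1 : Q.eval 0 = -1 := by
      simp only [Q, S, eval_sub, eval_one, eval_finsetSum, eval_mul, eval_C, eval_pow, eval_X]
      rw [Finset.sum_eq_zero, zero_sub]
      intro i _
      rw [zero_pow (by have := he1 i; omega), mul_zero]
    rw [IsRoot.def, h1] at hx
    exact absurd hx (by simp)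
  refine ⟨x, hx0, ?_⟩
  have hroot : (X * Q).eval x = 0 := by rw [eval_mul, hx, mul_zero]
  rw [hXQ] at hroot
  simp only [eval_sub, eval_finsetSum, eval_mul, eval_C, eval_pow, eval_X] at hroot
  have hx' := sub_eq_zero.mp hroot
  refine hx'.symm.trans (Finset.sum_congr rfl fun i _ => ?_)
  rw [iterate_iterateFrobenius, mul_comm]

end Field

section Semilinear

variable {k : Type u} [Field k] (p : ℕ) [Fact p.Prime] [CharP k p] (r : ℕ)
variable {V : Type v} [AddCommGroup V] [Module k V]

/-- An additive map with `φ (c • v) = c ^ q • φ v` as a semilinear map. -/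
def semilinOf (φ : V →+ V) (hφ : ∀ (c : k) (v : V), φ (c • v) = c ^ (p ^ r) • φ v) :
    V →ₛₗ[iterateFrobenius k p r] V where
  toFun := φ
  map_add' := φ.map_add
  map_smul' c v := by
    change φ (c • v) = _
    rw [hφ, iterateFrobenius_def]

@[simp] theorem semilinOf_apply (φ : V →+ V) (hφ : ∀ (c : k) (v : V), φ (c • v) = c ^ (p ^ r) • φ v)
    (v : V) : semilinOf p r φ hφ v = φ v := rfl

theorem coe_semilinOf (φ : V →+ V) (hφ : ∀ (c : k) (v : V), φ (c • v) = c ^ (p ^ r) • φ v) :
    ⇑(semilinOf p r φ hφ) = ⇑φ := rfl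

end Semilinear

end Groth.Agent.Lib.Helper44
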