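import Groth.Agent.Lib.Helper44.MultiInject

/-!
# Families of elementary symmetric functions of different sizes

The Σ-type version of `MultiInject`: the `s`-th family has `n s` variables.
-/

set_option autoImplicit false
set_option linter.unusedSectionVars false
open Finset

namespace Groth.Agent.Lib.Helper44

open LambdaRing MvPolynomial

section Multi

variable {ι : Type} [DecidableEq ι] (n : ι → ℕ)

/-- The variables: `n s` of them in the `s`-th family. -/
abbrev SVar : Type := Σ s : ι, Fin (n s)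

/-- The `i`-th elementary symmetric polynomial in the `s`-th family of variables. -/
noncomputable def famEsymmS (s : ι) (i : ℕ) : MvPolynomial (SVar n) ℤ :=
  rename (fun a : Fin (n s) => (⟨s, a⟩ : SVar n)) (esymm (Fin (n s)) ℤ i)

theorem famEsymmS_eq (s : ι) (i : ℕ) :
    famEsymmS n s i = ∑ t ∈ (Finset.univ : Finset (Fin (n s))).powersetCard i,
      ∏ a ∈ t, (X (⟨s, a⟩ : SVar n) : MvPolynomial (SVar n) ℤ) := by
  rw [famEsymmS, esymm, map_sum]
  refine Finset.sum_congr rfl fun t _ => ?_
  rw [map_prod]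
  refine Finset.prod_congr rfl fun a _ => ?_
  rw [rename_X]

theorem famEsymmS_isHomogeneous (s : ι) (i : ℕ) :
    IsWeightedHomogeneous (fun _ : SVar n => 1) (famEsymmS n s i) i :=
  (esymm_isHomogeneous' (Fin (n s)) ℤ i).rename_isHomogeneous

theorem famEsymmS_eq_zero {s : ι} {i : ℕ} (h : n s < i) : famEsymmS n s i = 0 := by
  rw [famEsymmS_eq, Finset.powersetCard_eq_empty.mpr, Finset.sum_empty]
  rw [Finset.card_univ, Fintype.card_fin]
  exact h

/-- Substitute, in place, `e_{i+1}` of the `t`-th family for the variable `(t, i)`. -/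
noncomputable def sub1S (t : ι) : MvPolynomial (SVar n) ℤ →ₐ[ℤ] MvPolynomial (SVar n) ℤ :=
  aeval fun v : SVar n => if v.1 = t then famEsymmS n v.1 ((v.2 : ℕ) + 1) else X v

/-- Separate the `t`-th family from the other variables. -/
def sepFamS (t : ι) (v : SVar n) : Fin (n t) ⊕ {v : SVar n // v.1 ≠ t} :=
  if h : v.1 = t then Sum.inl (Fin.cast (congrArg n h) v.2) else Sum.inr ⟨v, h⟩

theorem sepFamS_injective (t : ι) : Function.Injective (sepFamS n t) := by
  rintro ⟨s, a⟩ ⟨s', a'⟩ h
  unfold sepFamS at h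
  by_cases h1 : s = t <;> by_cases h2 : s' = t
  · subst h1
    subst h2
    rw [dif_pos rfl, dif_pos rfl] at h
    have := Sum.inl.inj h
    simp only [Fin.cast_eq_self] at this
    rw [this]
  · rw [dif_pos h1, dif_neg h2] at h
    exact absurd h (by simp)
  · rw [dif_neg h1, dif_pos h2] at h
    exact absurd h (by simp)
  · rw [dif_neg h1, dif_neg h2] at h
    exact congrArg Subtype.val (Sum.inr.inj h)

theorem rename_sepFamS_sub1S (t : ι) (p : MvPolynomial (SVar n) ℤ) :
    rename (sepFamS n t) (sub1S n t p) =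
      substL {v : SVar n // v.1 ≠ t} (n t) (n t) (rename (sepFamS n t) p) := by
  have : (rename (sepFamS n t)).comp (sub1S n t) =
      (substL {v : SVar n // v.1 ≠ t} (n t) (n t)).comp (rename (sepFamS n t)) := by
    apply MvPolynomial.algHom_ext
    rintro ⟨s, j⟩
    rw [AlgHom.comp_apply, AlgHom.comp_apply, sub1S, aeval_X, rename_X]
    by_cases h : s = t
    · subst h
      rw [if_pos rfl]
      have hv : sepFamS n s ⟨s, j⟩ = Sum.inl j := by
        rw [sepFamS, dif_pos rfl]
        simp
      have hfun : (sepFamS n s ∘ fun a : Fin (n s) => (⟨s, a⟩ : SVar n)) = Sum.inl := by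
        funext a
        simp [sepFamS]
      rw [hv, substL, aeval_X, Sum.elim_inl, famEsymmS, rename_rename, hfun]
    · rw [if_neg h]
      have hv : sepFamS n t ⟨s, j⟩ = Sum.inr ⟨⟨s, j⟩, h⟩ := by rw [sepFamS, dif_neg h]
      rw [rename_X, hv, substL, aeval_X, Sum.elim_inr]
  exact AlgHom.congr_fun this p

theorem sub1S_injective (t : ι) : Function.Injective (sub1S n t) := by
  intro p q hpq
  have h := congrArg (rename (sepFamS n t)) hpq
  rw [rename_sepFamS_sub1S, rename_sepFamS_sub1S] at h
  exact rename_injective _ (sepFamS_injective n t) (substL_injective _ (le_refl (n t)) h)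

theorem sub1S_famEsymmS_of_ne {s t : ι} (h : s ≠ t) (i : ℕ) :
    sub1S n t (famEsymmS n s i) = famEsymmS n s i := by
  have : (sub1S n t).comp (rename (fun a : Fin (n s) => (⟨s, a⟩ : SVar n))) =
      (rename (fun a : Fin (n s) => (⟨s, a⟩ : SVar n)) :
        MvPolynomial (Fin (n s)) ℤ →ₐ[ℤ] _) := by
    apply MvPolynomial.algHom_ext
    intro a
    rw [AlgHom.comp_apply, rename_X, sub1S, aeval_X, if_neg h]
  exact AlgHom.congr_fun this _

/-- Substitute elementary symmetric functions for the variables of the families in `S`. -/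
noncomputable def subSS (S : Finset ι) :
    MvPolynomial (SVar n) ℤ →ₐ[ℤ] MvPolynomial (SVar n) ℤ :=
  aeval fun v : SVar n => if v.1 ∈ S then famEsymmS n v.1 ((v.2 : ℕ) + 1) else X v

theorem subSS_empty : subSS n (∅ : Finset ι) = AlgHom.id ℤ _ := by
  apply MvPolynomial.algHom_ext
  intro v
  simp [subSS]

theorem subSS_insert {t : ι} {S : Finset ι} (ht : t ∉ S) :
    subSS n (insert t S) = (sub1S n t).comp (subSS n S) := by
  apply MvPolynomial.algHom_ext
  intro v
  rw [AlgHom.comp_apply, subSS, aeval_X, subSS, aeval_X]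
  by_cases hS : v.1 ∈ S
  · have hne : v.1 ≠ t := fun h => ht (h ▸ hS)
    rw [if_pos hS, if_pos (Finset.mem_insert_of_mem hS), sub1S_famEsymmS_of_ne n hne]
  · rw [if_neg hS, sub1S, aeval_X]
    by_cases hvt : v.1 = t
    · rw [if_pos hvt, if_pos (by rw [hvt]; exact Finset.mem_insert_self t S)]
    · rw [if_neg hvt, if_neg]
      intro h
      rcases Finset.mem_insert.mp h with h | h
      · exact hvt h
      · exact hS h

theorem subSS_injective (S : Finset ι) : Function.Injective (subSS n S) := by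
  induction S using Finset.induction_on with
  | empty =>
    rw [subSS_empty]
    exact fun _ _ h => h
  | insert t S ht ih =>
    rw [subSS_insert n ht, AlgHom.coe_comp]
    exact (sub1S_injective n t).comp ih

end Multi

section Transfer

variable {ι : Type} [DecidableEq ι] [Fintype ι] (n : ι → ℕ)

attribute [local instance] LineRing.lambdaOps

/-- The universal elements `y_s = Σ_{a < n s} (L_{s,a} - 1)`. -/
noncomputable def yUS (s : ι) : LineRing (SVar n) :=
  ∑ a : Fin (n s), (X (⟨s, a⟩ : SVar n) - 1 : LineRing (SVar n))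

theorem shiftA_gamma_yUS (s : ι) (i : ℕ) :
    LineRing.shiftA (gamma i (yUS n s)) = famEsymmS n s i := by
  rw [yUS, LineRing.shiftA_gamma_sum_X_sub_one, famEsymmS_eq]

theorem gamma_yUS_mem_Ik (s : ι) (i : ℕ) : gamma i (yUS n s) ∈ LineRing.Ik i := by
  rw [LineRing.mem_Ik, shiftA_gamma_yUS]
  exact mem_wfil_of_isWeightedHomogeneous (famEsymmS_isHomogeneous n s i) (le_refl i)

theorem gamma_yUS_eq_zero {s : ι} {i : ℕ} (h : n s < i) : gamma i (yUS n s) = 0 := by
  rw [yUS, LineRing.gamma_sum_X_sub_one, Finset.powersetCard_eq_empty.mpr, Finset.sum_empty]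
  rw [Finset.card_univ, Fintype.card_fin]
  exact h

/-- Evaluation of polynomials in the variables `(s, i)`, `i < n s`, at `γ^{i+1}(y_s)`. -/
noncomputable def evUS : MvPolynomial (SVar n) ℤ →ₐ[ℤ] LineRing (SVar n) :=
  aeval fun v : SVar n => gamma ((v.2 : ℕ) + 1) (yUS n v.1)

theorem shiftA_evUS (p : MvPolynomial (SVar n) ℤ) :
    LineRing.shiftA (evUS n p) = subSS n (Finset.univ : Finset ι) p := by
  have : (LineRing.shiftA (τ := SVar n)).comp (evUS n) = subSS n (Finset.univ : Finset ι) := by
    apply MvPolynomial.algHom_ext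
    intro v
    rw [AlgHom.comp_apply, evUS, aeval_X, shiftA_gamma_yUS, subSS, aeval_X,
      if_pos (Finset.mem_univ _)]
  exact AlgHom.congr_fun this p

theorem evUS_injective : Function.Injective (evUS n) := by
  intro p q hpq
  apply subSS_injective n Finset.univ
  rw [← shiftA_evUS, ← shiftA_evUS, hpq]

/-- Graded injectivity for the universal evaluation. -/
theorem mem_wfil_of_evUS_mem (k : ℕ) {p : MvPolynomial (SVar n) ℤ}
    (hp : evUS n p ∈ LineRing.Ik k) :
    p ∈ wfil ℤ (fun v : SVar n => (v.2 : ℕ) + 1) k := by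
  rw [LineRing.mem_Ik, shiftA_evUS] at hp
  refine mem_wfil_of_aeval_mem (fun v : SVar n => (v.2 : ℕ) + 1) (fun _ : SVar n => 1)
    (fun v : SVar n => if v.1 ∈ (Finset.univ : Finset ι) then famEsymmS n v.1 ((v.2 : ℕ) + 1)
      else X v) ?_ (subSS_injective n Finset.univ) hp
  intro v
  rw [if_pos (Finset.mem_univ _)]
  exact famEsymmS_isHomogeneous n v.1 _

/-- Truncation of the variables: `(s, j) ↦ (s, j)` if `j < n s`, and `0` otherwise. -/
noncomputable def truncS : MvPolynomial (ι × ℕ) ℤ →ₐ[ℤ] MvPolynomial (SVar n) ℤ :=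
  aeval fun w : ι × ℕ =>
    if h : w.2 < n w.1 then (X (⟨w.1, ⟨w.2, h⟩⟩ : SVar n) : MvPolynomial (SVar n) ℤ) else 0

/-- Evaluating after truncation agrees with evaluation as soon as the dead variables occurring in
`H` evaluate to zero. -/
theorem evGam_eq_aeval_truncS {A : Type*} [CommRing A] [LambdaOps A] (x : ι → A)
    (H : MvPolynomial (ι × ℕ) ℤ)
    (hdead : ∀ w ∈ H.vars, n w.1 ≤ w.2 → gamma (w.2 + 1) (x w.1) = 0) :
    evGam x H = aeval (fun v : SVar n => gamma ((v.2 : ℕ) + 1) (x v.1)) (truncS n H) := by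
  have h := MvPolynomial.hom_congr_vars
    (f₁ := (evGam x : MvPolynomial (ι × ℕ) ℤ →+* A))
    (f₂ := ((aeval (fun v : SVar n => gamma ((v.2 : ℕ) + 1) (x v.1)) :
      MvPolynomial (SVar n) ℤ →ₐ[ℤ] A).comp (truncS n) : MvPolynomial (ι × ℕ) ℤ →+* A))
    (p₁ := H) (p₂ := H) ?_ ?_ rfl
  · exact h
  · ext a
    simp
  · intro w hw _
    change evGam x (X w) = aeval _ (truncS n (X w))
    rw [evGam_X, truncS, aeval_X]
    by_cases hlt : w.2 < n w.1
    · rw [dif_pos hlt, aeval_X]
    · rw [dif_neg hlt, map_zero]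
      exact hdead w hw (not_lt.mp hlt)

theorem evGam_yUS_eq_evUS (H : MvPolynomial (ι × ℕ) ℤ) :
    evGam (yUS n) H = evUS n (truncS n H) := by
  rw [evGam_eq_aeval_truncS n (yUS n) H]
  · rfl
  · intro w _ hle
    exact gamma_yUS_eq_zero n (by omega)

end Transfer

end Groth.Agent.Lib.Helper44
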