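import Mathlib.CategoryTheory.Sites.Over
import Mathlib.CategoryTheory.Sites.Canonical

set_option autoImplicit false
universe w v₁ u₁
open CategoryTheory Opposite

namespace Groth.Agent.Lib.Helper44

variable {C : Type u₁} [Category.{v₁} C] {S : C} (G : (Over S)ᵒᵖ ⥤ Type w)



/-- restriction along a morphism over `S`, with explicit structure maps -/
def sres {T T' : C} (h : T' ⟶ T) {g : T ⟶ S} {g' : T' ⟶ S} (e : h ≫ g = g')
    (y : G.obj (op (Over.mk g))) : G.obj (op (Over.mk g')) :=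
  G.map (Over.homMk h e : Over.mk g' ⟶ Over.mk g).op y

theorem sres_id {T : C} {g : T ⟶ S} (e : 𝟙 T ≫ g = g) (y : G.obj (op (Over.mk g))) :
    sres G (𝟙 T) e y = y := by
  have h1 : (Over.homMk (𝟙 T) e : Over.mk g ⟶ Over.mk g) = 𝟙 _ := by
    apply Over.OverMorphism.ext
    rfl
  unfold sres
  rw [h1, op_id, G.map_id]
  rfl

theorem sres_sres {T T' T'' : C} (h : T' ⟶ T) (h' : T'' ⟶ T') {g : T ⟶ S} {g' : T' ⟶ S}
    {g'' : T'' ⟶ S} (e : h ≫ g = g') (e' : h' ≫ g' = g'') (e'' : (h' ≫ h) ≫ g = g'')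
    (y : G.obj (op (Over.mk g))) :
    sres G h' e' (sres G h e y) = sres G (h' ≫ h) e'' y := by
  have h1 : (Over.homMk (h' ≫ h) e'' : Over.mk g'' ⟶ Over.mk g) =
      (Over.homMk h' e' : Over.mk g'' ⟶ Over.mk g') ≫ (Over.homMk h e : Over.mk g' ⟶ Over.mk g) := by
    apply Over.OverMorphism.ext
    rfl
  unfold sres
  rw [h1, op_comp, G.map_comp]
  rfl

theorem sres_sres' {T T' T'' : C} (h : T' ⟶ T) (h' : T'' ⟶ T') {g : T ⟶ S} {g' : T' ⟶ S}
    {g'' : T'' ⟶ S} (e : h ≫ g = g') (e' : h' ≫ g' = g'') (y : G.obj (op (Over.mk g))) :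
    sres G h' e' (sres G h e y) =
      sres G (h' ≫ h) ((Category.assoc _ _ _).trans ((congrArg (h' ≫ ·) e).trans e')) y :=
  sres_sres G h h' e e' _ y

theorem sres_congr {T T' : C} {h h' : T' ⟶ T} (hh : h = h') {g : T ⟶ S} {g' : T' ⟶ S}
    (e : h ≫ g = g') (e' : h' ≫ g = g') (y : G.obj (op (Over.mk g))) :
    sres G h e y = sres G h' e' y := by
  subst hh
  rfl

/-- equality in the sigma type -/
theorem sig_ext {T : C} {g g' : T ⟶ S} (y : G.obj (op (Over.mk g))) (y' : G.obj (op (Over.mk g')))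
    (e : g = g') (h : sres G (𝟙 T) ((Category.id_comp g).trans e) y = y') :
    (⟨g, y⟩ : Σ g : T ⟶ S, G.obj (op (Over.mk g))) = ⟨g', y'⟩ := by
  subst e
  rw [← h, sres_id]

theorem sig_inj {T : C} {g g' : T ⟶ S} {y : G.obj (op (Over.mk g))} {y' : G.obj (op (Over.mk g'))}
    (h : (⟨g, y⟩ : Σ g : T ⟶ S, G.obj (op (Over.mk g))) = ⟨g', y'⟩) :
    ∃ e : g = g', sres G (𝟙 T) ((Category.id_comp g).trans e) y = y' := by
  cases h
  exact ⟨rfl, sres_id G _ _⟩

/-- the presheaf `T ↦ Σ (g : T ⟶ S), G (T, g)` on `C` attached to a presheaf on `Over S` -/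
def sigmaPsh : Cᵒᵖ ⥤ Type (max v₁ w) where
  obj T := Σ g : T.unop ⟶ S, G.obj (op (Over.mk g))
  map {T T'} h := TypeCat.ofHom (fun x => ⟨h.unop ≫ x.1, sres G h.unop rfl x.2⟩)
  map_id T := by
    refine ConcreteCategory.hom_ext _ _ (fun x => ?_)
    obtain ⟨g, y⟩ := x
    change (⟨𝟙 _ ≫ g, sres G (𝟙 _) rfl y⟩ : Σ g : T.unop ⟶ S, G.obj (op (Over.mk g))) = ⟨g, y⟩
    refine sig_ext G _ _ (Category.id_comp g) ?_
    refine (sres_sres G _ _ _ _ (by simp) _).trans ?_
    exact (sres_congr G (Category.id_comp _) _ (Category.id_comp g) _).trans (sres_id G _ _)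
  map_comp {T T' T''} h h' := by
    refine ConcreteCategory.hom_ext _ _ (fun x => ?_)
    obtain ⟨g, y⟩ := x
    change (⟨(h'.unop ≫ h.unop) ≫ g, sres G (h'.unop ≫ h.unop) rfl y⟩ :
      Σ g : T''.unop ⟶ S, G.obj (op (Over.mk g))) =
      ⟨h'.unop ≫ h.unop ≫ g, sres G h'.unop rfl (sres G h.unop rfl y)⟩
    refine sig_ext G _ _ (Category.assoc _ _ _) ?_
    refine (sres_sres G _ _ _ _ (by simp) _).trans ?_
    refine Eq.trans ?_ (sres_sres G _ _ _ _ (Category.assoc _ _ _) _).symm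
    exact sres_congr G (Category.id_comp _) _ _ _

theorem sigmaPsh_map_mk {T T' : C} (h : T' ⟶ T) (g : T ⟶ S) (y : G.obj (op (Over.mk g))) :
    (sigmaPsh G).map h.op ⟨g, y⟩ = ⟨h ≫ g, sres G h rfl y⟩ := rfl

theorem sig_snd_eq {T : C} {p q : Σ g : T ⟶ S, G.obj (op (Over.mk g))} (h : p = q) {g' : T ⟶ S}
    (e₁ : 𝟙 T ≫ p.1 = g') (e₂ : 𝟙 T ≫ q.1 = g') :
    sres G (𝟙 T) e₁ p.2 = sres G (𝟙 T) e₂ q.2 := by
  subst h
  rfl

theorem fam_congr {D : Type*} [Category D] {P : Dᵒᵖ ⥤ Type w} {X : D} {R : Presieve X}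
    (x : Presieve.FamilyOfElements P R) {Y : D} {f f' : Y ⟶ X} (e : f = f') (hf : R f)
    (hf' : R f') : x f hf = x f' hf' := by
  subst e
  rfl

theorem map_eq_sres {W W' : Over S} (a : W' ⟶ W) (y : G.obj (op W)) :
    G.map a.op y = sres G a.left (Over.w a) (show G.obj (op (Over.mk W.hom)) from y) := by
  have h1 : a = (Over.homMk a.left (Over.w a) : Over.mk W'.hom ⟶ Over.mk W.hom) := by
    apply Over.OverMorphism.ext
    rfl
  unfold sres
  rw [← h1]

/-- Direction B: sheaf condition for `G` from that of `sigmaPsh G`. -/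
theorem isSheafFor_of_sigmaPsh (V : Over S) (R₀ : Sieve V.left)
    (hsep : Presieve.IsSeparatedFor (yoneda.obj S) R₀.arrows)
    (h : Presieve.IsSheafFor (sigmaPsh G) R₀.arrows) :
    Presieve.IsSheafFor G ((Sieve.overEquiv V).symm R₀).arrows := by
  intro x hx
  have hxs := (Presieve.compatible_iff_sieveCompatible x).1 hx
  let x' : Presieve.FamilyOfElements (sigmaPsh G) R₀.arrows := fun T h hh =>
    ⟨h ≫ V.hom, x (Over.homMk h rfl : Over.mk (h ≫ V.hom) ⟶ V) hh⟩
  have hx' : x'.Compatible := by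
    rw [Presieve.compatible_iff_sieveCompatible]
    intro T T' h k hh
    change (⟨(k ≫ h) ≫ V.hom, x (Over.homMk (k ≫ h) rfl : Over.mk ((k ≫ h) ≫ V.hom) ⟶ V) _⟩ :
      Σ g : T' ⟶ S, G.obj (op (Over.mk g))) =
      ⟨k ≫ h ≫ V.hom, sres G k rfl (x (Over.homMk h rfl : Over.mk (h ≫ V.hom) ⟶ V) hh)⟩
    refine sig_ext G _ _ (Category.assoc _ _ _) ?_
    have h1 := hxs (Over.homMk h rfl : Over.mk (h ≫ V.hom) ⟶ V)
      (Over.homMk k rfl : Over.mk (k ≫ h ≫ V.hom) ⟶ Over.mk (h ≫ V.hom)) hh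
    have h2 := hxs (Over.homMk (k ≫ h) rfl : Over.mk ((k ≫ h) ≫ V.hom) ⟶ V)
      (Over.homMk (𝟙 _) ((Category.id_comp _).trans (Category.assoc _ _ _)) :
        Over.mk (k ≫ h ≫ V.hom) ⟶ Over.mk ((k ≫ h) ≫ V.hom)) (R₀.downward_closed hh k)
    refine h2.symm.trans (Eq.trans ?_ h1)
    exact fam_congr x (by apply Over.OverMorphism.ext; exact Category.id_comp _) _ _
  obtain ⟨⟨g, t⟩, ht, huniq⟩ := h x' hx'
  have hg : g = V.hom := by
    refine hsep.ext (t₁ := g) (t₂ := V.hom) ?_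
    intro T h hh
    obtain ⟨e, -⟩ := sig_inj G (ht h hh)
    exact e
  subst hg
  refine ⟨t, ?_, ?_⟩
  · intro W f hf
    obtain ⟨e, he⟩ := sig_inj G (ht f.left hf)
    -- he : sres 𝟙 _ (sres G f.left rfl t) = x (homMk f.left) hf
    have h3 := hxs (Over.homMk f.left rfl : Over.mk (f.left ≫ V.hom) ⟶ V)
      (Over.homMk (𝟙 W.left) ((Category.id_comp _).trans (Over.w f)) :
        W ⟶ Over.mk (f.left ≫ V.hom)) hf
    have h4 : x f hf = x ((Over.homMk (𝟙 W.left) ((Category.id_comp _).trans (Over.w f)) :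
        W ⟶ Over.mk (f.left ≫ V.hom)) ≫ (Over.homMk f.left rfl : Over.mk (f.left ≫ V.hom) ⟶ V))
        (((Sieve.overEquiv V).symm R₀).downward_closed
          (show ((Sieve.overEquiv V).symm R₀).arrows
            (Over.homMk f.left rfl : Over.mk (f.left ≫ V.hom) ⟶ V) from hf) _) :=
      fam_congr x (by apply Over.OverMorphism.ext; exact (Category.id_comp _).symm) _ _
    rw [h4, h3, ← he]
    refine (map_eq_sres G f t).trans ?_
    change _ = sres G (𝟙 W.left) ((Category.id_comp _).trans (Over.w f))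
      (sres G (𝟙 W.left) ((Category.id_comp _).trans e) (sres G f.left rfl t))
    rw [sres_sres G _ _ _ _ (by simp), sres_sres G _ _ _ _ (by simp [Over.w f])]
    exact sres_congr G (by simp) _ _ _
  · intro t' ht'
    have h5 : x'.IsAmalgamation ⟨V.hom, t'⟩ := by
      intro T h hh
      change (⟨h ≫ V.hom, sres G h rfl t'⟩ : Σ g : T ⟶ S, G.obj (op (Over.mk g))) =
        ⟨h ≫ V.hom, x (Over.homMk h rfl : Over.mk (h ≫ V.hom) ⟶ V) hh⟩
      have h6 := ht' (Over.homMk h rfl : Over.mk (h ≫ V.hom) ⟶ V) hh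
      rw [← h6]
      rfl
    obtain ⟨e, he⟩ := sig_inj G (huniq _ h5)
    rw [← he, sres_id]

/-- Direction A: sheaf condition for `sigmaPsh G` from that of `G`. -/
theorem isSheafFor_sigmaPsh {T : C} (R₀ : Sieve T)
    (hS : Presieve.IsSheafFor (yoneda.obj S) R₀.arrows)
    (h : ∀ g : T ⟶ S, Presieve.IsSheafFor G ((Sieve.overEquiv (Over.mk g)).symm R₀).arrows) :
    Presieve.IsSheafFor (sigmaPsh G) R₀.arrows := by
  intro x' hx'
  have hxs' := (Presieve.compatible_iff_sieveCompatible x').1 hx'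
  let z : Presieve.FamilyOfElements (yoneda.obj S) R₀.arrows := fun T' h hh => (x' h hh).1
  have hz : z.Compatible := by
    rw [Presieve.compatible_iff_sieveCompatible]
    intro T' T'' h k hh
    exact congrArg Sigma.fst (hxs' h k hh)
  obtain ⟨g, hg, hguniq⟩ := hS z hz
  have hg' : ∀ {T' : C} (h : T' ⟶ T) (hh : R₀ h), h ≫ g = (x' h hh).1 := fun h hh => hg h hh
  let V : Over S := Over.mk g
  let x : Presieve.FamilyOfElements G ((Sieve.overEquiv V).symm R₀).arrows := fun W f hf =>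
    sres G (𝟙 W.left) ((Category.id_comp _).trans ((hg' f.left hf).symm.trans (Over.w f)))
      (x' f.left hf).2
  have hx : x.Compatible := by
    rw [Presieve.compatible_iff_sieveCompatible]
    intro W W' f a hf
    have e1 : a.left ≫ (x' f.left hf).1 = W'.hom := by
      rw [← hg' f.left hf, ← Over.w a, ← Over.w f]
      rfl
    have h1 := sig_snd_eq G (hxs' f.left a.left hf) (g' := W'.hom)
      ((Category.id_comp _).trans ((hg' (a.left ≫ f.left) (R₀.downward_closed hf a.left)).symm.trans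
        (Over.w (a ≫ f))))
      ((Category.id_comp _).trans e1)
    refine h1.trans ?_
    refine Eq.trans ?_ (map_eq_sres G a _).symm
    change sres G (𝟙 W'.left) _ (sres G a.left rfl (x' f.left hf).2) =
      sres G a.left (Over.w a) (sres G (𝟙 W.left) _ (x' f.left hf).2)
    refine (sres_sres' G _ _ _ _ _).trans (Eq.trans ?_ (sres_sres' G _ _ _ _ _).symm)
    exact sres_congr G (by simp) _ _ _
  obtain ⟨t, ht, htuniq⟩ := h g x hx
  refine ⟨⟨g, t⟩, ?_, ?_⟩
  · intro T' k hk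
    have h2 := ht (Over.homMk k rfl : Over.mk (k ≫ g) ⟶ V) hk
    change (⟨k ≫ g, sres G k rfl t⟩ : Σ g : T' ⟶ S, G.obj (op (Over.mk g))) = x' k hk
    refine (sig_ext G _ _ (hg' k hk) ?_).trans (Sigma.eta (x' k hk))
    have h3 : sres G k rfl t = sres G (𝟙 T') ((Category.id_comp _).trans (hg' k hk).symm)
        (x' k hk).2 := h2
    rw [h3, sres_sres']
    exact (sres_congr G (Category.id_comp _) _ (Category.id_comp _) _).trans (sres_id G _ _)
  · rintro ⟨g', t'⟩ ht'
    have hgg : g' = g := by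
      refine hguniq g' ?_
      intro T' k hk
      exact congrArg Sigma.fst (ht' k hk)
    subst hgg
    have h4 : x.IsAmalgamation t' := by
      intro W f hf
      have h5 := sig_snd_eq G (ht' f.left hf) (g' := W.hom)
        ((Category.id_comp _).trans (Over.w f))
        ((Category.id_comp _).trans ((hg' f.left hf).symm.trans (Over.w f)))
      refine Eq.trans ?_ h5
      refine (map_eq_sres G f t').trans ?_
      change sres G f.left (Over.w f) t' = sres G (𝟙 W.left) _ (sres G f.left rfl t')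
      refine Eq.trans ?_ (sres_sres' G _ _ _ _ _).symm
      exact sres_congr G (by simp) _ _ _
    rw [htuniq t' h4]

variable (J : GrothendieckTopology C)

theorem isSheaf_sigmaPsh (hS : Presieve.IsSheaf J (yoneda.obj S))
    (hG : Presieve.IsSheaf (J.over S) G) : Presieve.IsSheaf J (sigmaPsh G) :=
  fun _ R₀ hR₀ => isSheafFor_sigmaPsh G R₀ (hS _ hR₀)
    (fun g => hG _ (GrothendieckTopology.overEquiv_symm_mem_over J (Over.mk g) R₀ hR₀))

theorem isSheaf_of_sigmaPsh (hS : Presieve.IsSeparated J (yoneda.obj S))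
    (h : Presieve.IsSheaf J (sigmaPsh G)) : Presieve.IsSheaf (J.over S) G := by
  intro V R hR
  obtain ⟨R₀, rfl⟩ := (Sieve.overEquiv V).symm.surjective R
  have hR₀ : R₀ ∈ J V.left := by
    have := (GrothendieckTopology.mem_over_iff J _).1 hR
    simpa using this
  exact isSheafFor_of_sigmaPsh G V R₀ (hS _ hR₀) (h _ hR₀)

end Groth.Agent.Lib.Helper44
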