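import Groth.Agent.Lib.Helper44.AdamsComp
import Groth.Agent.Lib.Helper44.MulGen
import Groth.Agent.Lib.Helper44.UnivPoly

set_option autoImplicit false
open Finset

namespace Groth.Agent.Lib.Helper44

open LambdaRing MvPolynomial

section SpecialOfAdams

variable {K : Type*} [CommRing K] [LambdaOps K] [IsAddTorsionFree K]

/-- `ψ^k(1) = 1` for all `k ≥ 1` forces `λ_t(1) = 1 + t` over a torsion-free ring. -/
theorem lam_one_eq_zero_of_adamsOp_one (h1 : ∀ k : ℕ, 1 ≤ k → adamsOp k (1 : K) = 1)
    (n : ℕ) (hn : 2 ≤ n) : LambdaOps.lam n (1 : K) = 0 := by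
  have h := coeff_eq_of_newton_eq (constantCoeff_lamSeries (1 : K))
    (show PowerSeries.constantCoeff (1 + PowerSeries.C (1 : K) * PowerSeries.X) = 1 by simp) n
    (fun j hj _ => by
      rw [← adamsOp_eq_newton, h1 j hj, newton_one_add_C_mul_X j hj, one_pow]) n (le_refl n)
  rw [coeff_lamSeries] at h
  rw [h]
  obtain ⟨m, rfl⟩ : ∃ m, n = m + 2 := ⟨n - 2, by omega⟩
  simp [PowerSeries.coeff_X, PowerSeries.coeff_one]

/-- Multiplicativity of the Adams operations forces the identity for `λ^n(xy)` over a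
torsion-free ring. -/
theorem lam_mul_of_adamsOp_mul
    (hmul : ∀ k : ℕ, 1 ≤ k → ∀ x y : K, adamsOp k (x * y) = adamsOp k x * adamsOp k y)
    (n : ℕ) (P₀ : MvPolynomial (Fin n ⊕ Fin n) ℤ) (hP₀ : IsMulPoly n P₀) (x y : K) :
    LambdaOps.lam n (x * y) =
      aeval (Sum.elim (fun k : Fin n => LambdaOps.lam ((k : ℕ) + 1) x)
        (fun k : Fin n => LambdaOps.lam ((k : ℕ) + 1) y)) P₀ := by
  have hex : ∀ m : ℕ, ∃ P : MvPolynomial (Fin m ⊕ Fin m) ℤ, IsMulPoly m P := fun m =>
    exists_isMulPoly m
  choose P hP using hex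
  have hPn : P n = P₀ := phiP_injective (le_refl n) (by
    rw [phiP_eq_mulGen (hP n), phiP_eq_mulGen hP₀])
  change _ = thetaXY n x y P₀
  rcases Nat.eq_zero_or_pos n with rfl | hn
  · have : P₀ = 1 := phiP_injective (le_refl 0) (by
      rw [phiP_eq_mulGen hP₀, map_one, mulGen]
      simp [Multiset.esymm, Multiset.powersetCard_zero_left])
    rw [this, map_one, LambdaOps.lam_zero]
  · have hA : PowerSeries.constantCoeff
        (PowerSeries.map (thetaXY n x y : MvPolynomial (Fin n ⊕ Fin n) ℤ →+* K) (univB n P)) = 1 :=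
      constantCoeff_map_eq_one _ (constantCoeff_univB n P)
    have h := coeff_eq_of_newton_eq hA (constantCoeff_lamSeries (x * y)) n
      (fun j hj hjn => by
        rw [← map_newton _ _ (constantCoeff_univB n P), newton_univB n P hP j hj hjn, map_mul,
          ← adamsOp_eq_newton, hmul j hj]
        congr 1
        · exact newton_map_thetaXY_univAX n x y j hjn
        · exact newton_map_thetaXY_univAY n x y j hjn) n (le_refl n)
    rw [coeff_lamSeries] at h
    rw [← h, PowerSeries.coeff_map, univB, PowerSeries.coeff_mk, if_neg (by omega),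
      dif_pos (le_refl n)]
    change thetaXY n x y _ = _
    rw [thetaXY_rename_sumCastLE, hPn]

end SpecialOfAdams

end Groth.Agent.Lib.Helper44

namespace Groth.Agent.Lib.Helper44

open LambdaRing MvPolynomial

section SpecialOfAdamsComp

variable {K : Type*} [CommRing K] [LambdaOps K] [IsAddTorsionFree K]

theorem compGen_zero_right (N i : ℕ) : compGen N i 0 = 1 := by
  rw [compGen_eq, Finset.powersetCard_zero, Finset.sum_singleton, Finset.prod_empty]

theorem compGen_zero_left_one (N : ℕ) : compGen N 0 1 = 1 := by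
  rw [compGen_eq, Finset.powersetCard_zero, Finset.powersetCard_one]
  simp

theorem compGen_zero_left_of_two_le (N j : ℕ) (hj : 2 ≤ j) : compGen N 0 j = 0 := by
  rw [compGen_eq, Finset.powersetCard_zero, Finset.powersetCard_eq_empty.mpr, Finset.sum_empty]
  rw [Finset.card_singleton]
  omega

/-- `ψ^k(1) = 1`, multiplicativity and `ψ^k ∘ ψ^{k'} = ψ^{kk'}` force the identity for
`λ^j(λ^i x)` over a torsion-free ring. -/
theorem lam_lam_of_adamsOp
    (h1 : ∀ k : ℕ, 1 ≤ k → adamsOp k (1 : K) = 1)
    (hmul : ∀ k : ℕ, 1 ≤ k → ∀ x y : K, adamsOp k (x * y) = adamsOp k x * adamsOp k y)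
    (hcomp : ∀ k k' : ℕ, 1 ≤ k → 1 ≤ k' → ∀ x : K,
      adamsOp k (adamsOp k' x) = adamsOp (k * k') x)
    (i j : ℕ) (Q₀ : MvPolynomial (Fin (i * j)) ℤ) (hQ₀ : IsCompPoly i j Q₀) (x : K) :
    LambdaOps.lam j (LambdaOps.lam i x) =
      aeval (fun k : Fin (i * j) => LambdaOps.lam ((k : ℕ) + 1) x) Q₀ := by
  have hex : ∀ a b : ℕ, ∃ Q : MvPolynomial (Fin (a * b)) ℤ, IsCompPoly a b Q := fun a b =>
    exists_isCompPoly a b
  choose Q hQ using hex
  have hQij : Q i j = Q₀ := phiQ_injective (le_refl (i * j)) (by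
    rw [phiQ_eq_compGen (hQ i j), phiQ_eq_compGen hQ₀])
  change _ = thetaA (i * j) x Q₀
  rcases Nat.eq_zero_or_pos j with rfl | hj
  · have : Q₀ = 1 := phiQ_injective (le_refl (i * 0)) (by
      rw [phiQ_eq_compGen hQ₀, map_one, compGen_zero_right])
    rw [this, map_one, LambdaOps.lam_zero]
  rcases Nat.eq_zero_or_pos i with rfl | hi
  · rw [LambdaOps.lam_zero]
    rcases Nat.lt_or_ge j 2 with hj2 | hj2
    · obtain rfl : j = 1 := by omega
      have : Q₀ = 1 := phiQ_injective (le_refl (0 * 1)) (by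
        rw [phiQ_eq_compGen hQ₀, map_one, compGen_zero_left_one])
      rw [this, map_one, LambdaOps.lam_one]
    · have : Q₀ = 0 := phiQ_injective (le_refl (0 * j)) (by
        rw [phiQ_eq_compGen hQ₀, map_zero, compGen_zero_left_of_two_le _ _ hj2])
      rw [this, map_zero, lam_one_eq_zero_of_adamsOp_one h1 j hj2]
  -- main case
  have hb : ∀ r : ℕ, 1 ≤ r → r ≤ j →
      thetaA (i * j) x (newton r (univC (i * j) Q i)) = adamsOp r (LambdaOps.lam i x) := by
    intro r hr hrj
    have hA : PowerSeries.constantCoeff (PowerSeries.map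
        (thetaA (i * j) x : MvPolynomial (Fin (i * j)) ℤ →+* K) (univG (i * j) Q r)) = 1 :=
      constantCoeff_map_eq_one _ (constantCoeff_univG (i * j) Q r)
    have hB : PowerSeries.constantCoeff (PowerSeries.map
        (adamsHomOf r (h1 r hr) (hmul r hr)) (lamSeries x)) = 1 :=
      constantCoeff_map_eq_one _ (constantCoeff_lamSeries x)
    have h := coeff_eq_of_newton_eq hA hB i
      (fun m hm hmi => by
        have hrm : r * m ≤ i * j := by
          rw [mul_comm i j]; exact Nat.mul_le_mul hrj hmi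
        rw [← map_newton _ _ (constantCoeff_univG (i * j) Q r),
          ← map_newton _ _ (constantCoeff_lamSeries x), adamsHomOf_apply,
          newton_univG (i * j) Q hQ r m hr hm hrm, ← adamsOp_eq_newton, hcomp r m hr hm x]
        exact newton_map_thetaA_univA (i * j) x (r * m) hrm) i (le_refl i)
    rw [PowerSeries.coeff_map, PowerSeries.coeff_map, coeff_lamSeries, adamsHomOf_apply, univG,
      PowerSeries.coeff_mk, if_neg (by omega)] at h
    exact h
  have hA : PowerSeries.constantCoeff (PowerSeries.map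
      (thetaA (i * j) x : MvPolynomial (Fin (i * j)) ℤ →+* K) (univC (i * j) Q i)) = 1 :=
    constantCoeff_map_eq_one _ (constantCoeff_univC (i * j) Q i)
  have h := coeff_eq_of_newton_eq hA (constantCoeff_lamSeries (LambdaOps.lam i x)) j
    (fun r hr hrj => by
      rw [← map_newton _ _ (constantCoeff_univC (i * j) Q i), ← adamsOp_eq_newton]
      exact hb r hr hrj) j (le_refl j)
  rw [coeff_lamSeries] at h
  rw [← h, PowerSeries.coeff_map, univC, PowerSeries.coeff_mk, if_neg (by omega),
    dif_pos (le_refl (i * j))]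
  change thetaA (i * j) x _ = _
  rw [thetaA_rename_castLE, hQij]

end SpecialOfAdamsComp

end Groth.Agent.Lib.Helper44
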