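import Groth.Agent.Lib.Helper44.SqZeroPic

/-!
# `ker(Pic X' → Pic X) ≃ H¹(X', J)` when global functions lift
-/

set_option autoImplicit false
open CategoryTheory CategoryTheory.Limits AlgebraicGeometry Opposite Abelian
universe u

namespace Groth.Agent.Lib.Helper44.SqZeroPic

variable {X' : Scheme.{u}} (I : X'.IdealSheafData) (hI : I * I = ⊥)

include hI in
/-- units lift along a square-zero thickening when functions do -/
theorem resU_surjective (hsurj : Function.Surjective I.subschemeι.appTop.hom) :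
    Function.Surjective (resU I) := by
  intro v
  obtain ⟨r, hr1⟩ := hsurj (v : Γ(I.subscheme, ⊤))
  obtain ⟨r', hr2⟩ := hsurj ((v⁻¹ : (Γ(I.subscheme, ⊤))ˣ) : Γ(I.subscheme, ⊤))
  have ha : I.subschemeι.app ⊤ (r * r' - 1) = 0 := by
    change I.subschemeι.appTop.hom (r * r' - 1) = 0
    rw [map_sub, map_mul, map_one, hr1, hr2, Units.mul_inv, sub_self]
  have ha2 : (r * r' - 1) * (r * r' - 1) = 0 :=
    SqZeroUnits.mul_eq_zero_of_app_eq_zero I hI ⊤ _ _ ha ha
  have hu : r * (r' * (1 - (r * r' - 1))) = 1 := by linear_combination -ha2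
  refine ⟨Units.mkOfMulEqOne r (r' * (1 - (r * r' - 1))) hu, ?_⟩
  apply Units.ext
  exact hr1

variable [PicGrp.Law X'] [PicGrp.Law I.subscheme] (hi : PicGrp.PullMul I.subschemeι)

include hI in
theorem nonempty_ker_pullHom_mulEquiv (hsurj : Function.Surjective I.subschemeι.appTop.hom) :
    Nonempty ((PicGrp.pullHom I.subschemeι hi).ker ≃*
      Multiplicative (Coh.HH X' (ClSub.idealMod I) 1)) := by
  have h1 : (del0 I hI).ker = ⊤ := by
    rw [ker_del0, MonoidHom.range_eq_top]
    exact resU_surjective I hI hsurj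
  have h2 : (alpha I hI).ker = ⊥ := by
    rw [ker_alpha, eq_bot_iff]
    rintro x ⟨v, rfl⟩
    have : v ∈ (del0 I hI).ker := by rw [h1]; trivial
    exact this
  have hinj : Function.Injective (alpha I hI) := (MonoidHom.ker_eq_bot_iff _).1 h2
  have e1 : Multiplicative (Coh.HH X' (ClSub.idealMod I) 1) ≃* (alpha I hI).range :=
    MonoidHom.ofInjective hinj
  have e2 : (alpha I hI).range ≃* (PicGrp.pullHom I.subschemeι hi).ker :=
    MulEquiv.subgroupCongr (ker_pullHom I hI hi).symm
  exact ⟨(e1.trans e2).symm⟩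

end Groth.Agent.Lib.Helper44.SqZeroPic
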