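import Groth.Agent.Lib.Helper44.MulGen
import Mathlib.Logic.Equiv.Fintype

set_option autoImplicit false
open Finset MvPolynomial

namespace Groth.Agent.Lib.Helper44

open LambdaRing

section Vanish

/-- General vanishing principle: a polynomial invariant under enough permutations of the variables,
all of whose monomials can be moved into the range of `f`, and which restricts to zero, is zero. -/
theorem eq_zero_of_killCompl_eq_zero {σ τ : Type*} {f : σ → τ} (hf : Function.Injective f)
    (E : MvPolynomial τ ℤ) (hE : killCompl hf E = 0)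
    (h : ∀ d ∈ E.support, ∃ g : Equiv.Perm τ, rename g E = E ∧
      ((d.mapDomain g).support : Set τ) ⊆ Set.range f) :
    E = 0 := by
  by_contra hne
  obtain ⟨d, hd⟩ := support_nonempty.mpr hne
  obtain ⟨g, hg, hsub⟩ := h d hd
  have h1 : coeff (d.mapDomain g) E = coeff d E := by
    conv_lhs => rw [← hg]
    exact coeff_rename_mapDomain g g.injective E d
  have h2 : coeff (d.mapDomain g) E = 0 := by
    have := coeff_killCompl hf (p := E) (s := (d.mapDomain g).comapDomain f hf.injOn)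
    rw [Finsupp.mapDomain_comapDomain f hf _ hsub, hE, coeff_zero] at this
    exact this.symm
  exact (mem_support_iff.mp hd) (h1 ▸ h2)

/-- A small subset of `Fin N` can be moved below `n` by a permutation. -/
theorem exists_perm_map_lt {N n : ℕ} (hn : n ≤ N) (S : Finset (Fin N)) (hS : S.card ≤ n) :
    ∃ σ : Equiv.Perm (Fin N), ∀ a ∈ S, (σ a : ℕ) < n := by
  classical
  let B : Finset (Fin N) := (univ : Finset (Fin n)).map (Fin.castLEEmb hn)
  have hB : B.card = n := by simp [B]
  obtain ⟨T, hTB, hT⟩ := Finset.exists_subset_card_eq (s := B) (n := S.card) (by rw [hB]; exact hS)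
  let e : {x // x ∈ S} ≃ {x // x ∈ T} := Finset.equivOfCardEq hT.symm
  refine ⟨Equiv.extendSubtype e, fun a ha => ?_⟩
  rw [Equiv.extendSubtype_apply_of_mem e a ha]
  have : (e ⟨a, ha⟩ : Fin N) ∈ B := hTB (e ⟨a, ha⟩).2
  simp only [B, Finset.mem_map, Finset.mem_univ, true_and] at this
  obtain ⟨b, hb⟩ := this
  rw [← hb]
  exact b.2

end Vanish

section Restrict

/-- Restriction of "elementary symmetric" sums along an embedding of index types. -/
theorem sum_powersetCard_prod_eq {ι ι' A : Type*} [CommSemiring A] [DecidableEq ι']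
    (φ : ι ↪ ι') (s : Finset ι) (s' : Finset ι') (hss : s.map φ ⊆ s') (c' : ι' → A)
    (hc : ∀ i ∈ s', i ∉ s.map φ → c' i = 0) (k : ℕ) :
    ∑ t ∈ s'.powersetCard k, ∏ i ∈ t, c' i = ∑ t ∈ s.powersetCard k, ∏ j ∈ t, c' (φ j) := by
  have h1 : ∑ t ∈ s.powersetCard k, ∏ j ∈ t, c' (φ j) =
      ∑ t ∈ (s.map φ).powersetCard k, ∏ i ∈ t, c' i := by
    rw [Finset.powersetCard_map, Finset.sum_map]
    refine Finset.sum_congr rfl fun t _ => ?_
    change _ = ∏ i ∈ t.map φ, c' i
    rw [Finset.prod_map]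
  rw [h1]
  symm
  apply Finset.sum_subset (Finset.powersetCard_mono hss)
  intro t ht hnt
  rw [Finset.mem_powersetCard] at ht hnt
  have : ¬ t ⊆ s.map φ := fun h => hnt ⟨h, ht.2⟩
  obtain ⟨i, hit, hi⟩ := Finset.not_subset.mp this
  exact Finset.prod_eq_zero hit (hc i (ht.1 hit) hi)

theorem killCompl_X_of_notMem {σ τ R : Type*} [CommSemiring R] {f : σ → τ} (hf : Function.Injective f)
    (i : τ) (hi : i ∉ Set.range f) : killCompl hf (X i : MvPolynomial τ R) = 0 := by
  classical
  rw [killCompl, aeval_X, dif_neg hi]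

theorem killCompl_X_apply {σ τ R : Type*} [CommSemiring R] {f : σ → τ} (hf : Function.Injective f)
    (j : σ) : killCompl hf (X (f j) : MvPolynomial τ R) = X j := by
  rw [← rename_X, killCompl_rename_app]

/-- The inclusion of variables `Fin n ⊕ Fin n → Fin N ⊕ Fin N`. -/
def sumCastLE {n N : ℕ} (h : n ≤ N) : Fin n ⊕ Fin n → Fin N ⊕ Fin N :=
  Sum.map (Fin.castLE h) (Fin.castLE h)

theorem sumCastLE_injective {n N : ℕ} (h : n ≤ N) : Function.Injective (sumCastLE h) :=
  (Fin.castLE_injective h).sumMap (Fin.castLE_injective h)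

theorem inl_notMem_range_sumCastLE {n N : ℕ} (h : n ≤ N) (b : Fin N)
    (hb : b ∉ (univ : Finset (Fin n)).map (Fin.castLEEmb h)) :
    (Sum.inl b : Fin N ⊕ Fin N) ∉ Set.range (sumCastLE h) := by
  rintro ⟨(j | j), hj⟩
  · simp only [sumCastLE, Sum.map_inl, Sum.inl.injEq] at hj
    exact hb (Finset.mem_map.mpr ⟨j, Finset.mem_univ _, hj⟩)
  · simp [sumCastLE] at hj

theorem inr_notMem_range_sumCastLE {n N : ℕ} (h : n ≤ N) (b : Fin N)
    (hb : b ∉ (univ : Finset (Fin n)).map (Fin.castLEEmb h)) :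
    (Sum.inr b : Fin N ⊕ Fin N) ∉ Set.range (sumCastLE h) := by
  rintro ⟨(j | j), hj⟩
  · simp [sumCastLE] at hj
  · simp only [sumCastLE, Sum.map_inr, Sum.inr.injEq] at hj
    exact hb (Finset.mem_map.mpr ⟨j, Finset.mem_univ _, hj⟩)

theorem killCompl_esymm {n N : ℕ} (h : n ≤ N) (k : ℕ) :
    killCompl (Fin.castLE_injective h) (esymm (Fin N) ℤ k) = esymm (Fin n) ℤ k := by
  rw [esymm, esymm, map_sum]
  simp only [map_prod]
  rw [sum_powersetCard_prod_eq (Fin.castLEEmb h) univ univ (Finset.subset_univ _)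
    (fun b => killCompl (Fin.castLE_injective h) (X b : MvPolynomial (Fin N) ℤ))]
  · refine Finset.sum_congr rfl fun t _ => Finset.prod_congr rfl fun j _ => ?_
    exact killCompl_X_apply (Fin.castLE_injective h) j
  · intro b _ hb
    apply killCompl_X_of_notMem
    rintro ⟨j, hj⟩
    exact hb (Finset.mem_map.mpr ⟨j, Finset.mem_univ _, hj⟩)

theorem killCompl_rename_inl_esymm {n N : ℕ} (h : n ≤ N) (k : ℕ) :
    killCompl (sumCastLE_injective h) (rename Sum.inl (esymm (Fin N) ℤ k)) =
      rename Sum.inl (esymm (Fin n) ℤ k) := by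
  rw [rename_inl_esymm, rename_inl_esymm, map_sum]
  simp only [map_prod]
  rw [sum_powersetCard_prod_eq (Fin.castLEEmb h) univ univ (Finset.subset_univ _)
    (fun b => killCompl (sumCastLE_injective h) (X (Sum.inl b) : MvPolynomial (Fin N ⊕ Fin N) ℤ))]
  · refine Finset.sum_congr rfl fun t _ => Finset.prod_congr rfl fun j _ => ?_
    exact killCompl_X_apply (sumCastLE_injective h) (Sum.inl j)
  · intro b _ hb
    exact killCompl_X_of_notMem _ _ (inl_notMem_range_sumCastLE h b hb)

theorem killCompl_rename_inr_esymm {n N : ℕ} (h : n ≤ N) (k : ℕ) :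
    killCompl (sumCastLE_injective h) (rename Sum.inr (esymm (Fin N) ℤ k)) =
      rename Sum.inr (esymm (Fin n) ℤ k) := by
  rw [rename_inr_esymm, rename_inr_esymm, map_sum]
  simp only [map_prod]
  rw [sum_powersetCard_prod_eq (Fin.castLEEmb h) univ univ (Finset.subset_univ _)
    (fun b => killCompl (sumCastLE_injective h) (X (Sum.inr b) : MvPolynomial (Fin N ⊕ Fin N) ℤ))]
  · refine Finset.sum_congr rfl fun t _ => Finset.prod_congr rfl fun j _ => ?_
    exact killCompl_X_apply (sumCastLE_injective h) (Sum.inr j)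
  · intro b _ hb
    exact killCompl_X_of_notMem _ _ (inr_notMem_range_sumCastLE h b hb)

theorem killCompl_mulGen {n N : ℕ} (h : n ≤ N) (k : ℕ) :
    killCompl (sumCastLE_injective h) (mulGen N k) = mulGen n k := by
  rw [mulGen_eq, mulGen_eq, map_sum]
  simp only [map_prod]
  rw [sum_powersetCard_prod_eq ((Fin.castLEEmb h).prodMap (Fin.castLEEmb h)) univ univ
    (Finset.subset_univ _)
    (fun ab => killCompl (sumCastLE_injective h)
      (X (Sum.inl ab.1) * X (Sum.inr ab.2) : MvPolynomial (Fin N ⊕ Fin N) ℤ))]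
  · refine Finset.sum_congr rfl fun t _ => Finset.prod_congr rfl fun ab _ => ?_
    rw [map_mul]
    congr 1
    · exact killCompl_X_apply (sumCastLE_injective h) (Sum.inl ab.1)
    · exact killCompl_X_apply (sumCastLE_injective h) (Sum.inr ab.2)
  · intro ab _ hab
    rw [map_mul]
    by_cases h1 : ab.1 ∈ (univ : Finset (Fin n)).map (Fin.castLEEmb h)
    · by_cases h2 : ab.2 ∈ (univ : Finset (Fin n)).map (Fin.castLEEmb h)
      · exfalso
        apply hab
        obtain ⟨a, -, ha⟩ := Finset.mem_map.mp h1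
        obtain ⟨b, -, hb⟩ := Finset.mem_map.mp h2
        exact Finset.mem_map.mpr ⟨(a, b), Finset.mem_univ _, Prod.ext ha hb⟩
      · rw [killCompl_X_of_notMem _ _ (inr_notMem_range_sumCastLE h ab.2 h2), mul_zero]
    · rw [killCompl_X_of_notMem _ _ (inl_notMem_range_sumCastLE h ab.1 h1), zero_mul]

theorem compGen_eq (N i j : ℕ) :
    compGen N i j = ∑ t ∈ ((univ : Finset (Fin N)).powersetCard i).powersetCard j,
      ∏ S ∈ t, ∏ a ∈ S, (X a : MvPolynomial (Fin N) ℤ) := by
  rw [compGen, Finset.esymm_map_val]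

theorem killCompl_compGen {n N : ℕ} (h : n ≤ N) (i j : ℕ) :
    killCompl (Fin.castLE_injective h) (compGen N i j) = compGen n i j := by
  rw [compGen_eq, compGen_eq, map_sum]
  simp only [map_prod]
  rw [sum_powersetCard_prod_eq (Finset.mapEmbedding (Fin.castLEEmb h)).toEmbedding
    ((univ : Finset (Fin n)).powersetCard i) ((univ : Finset (Fin N)).powersetCard i) ?_
    (fun S => ∏ a ∈ S, killCompl (Fin.castLE_injective h) (X a : MvPolynomial (Fin N) ℤ))]
  · refine Finset.sum_congr rfl fun t _ => Finset.prod_congr rfl fun S _ => ?_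
    change ∏ a ∈ S.map (Fin.castLEEmb h), _ = _
    rw [Finset.prod_map]
    refine Finset.prod_congr rfl fun j _ => ?_
    exact killCompl_X_apply (Fin.castLE_injective h) j
  · intro S hS hS'
    rw [← Finset.powersetCard_map] at hS'
    have : ¬ S ⊆ (univ : Finset (Fin n)).map (Fin.castLEEmb h) := fun hsub =>
      hS' (Finset.mem_powersetCard.mpr ⟨hsub, (Finset.mem_powersetCard.mp hS).2⟩)
    obtain ⟨a, haS, ha⟩ := Finset.not_subset.mp this
    apply Finset.prod_eq_zero haS
    apply killCompl_X_of_notMem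
    rintro ⟨j, hj⟩
    exact ha (Finset.mem_map.mpr ⟨j, Finset.mem_univ _, hj⟩)
  · rw [← Finset.powersetCard_map]
    exact Finset.powersetCard_mono (Finset.subset_univ _)

end Restrict

section StabQ

/-- `X_k ↦ e_{k+1}(T_1..T_N)`. -/
noncomputable def phiQ (M N : ℕ) : MvPolynomial (Fin M) ℤ →ₐ[ℤ] MvPolynomial (Fin N) ℤ :=
  aeval (fun k : Fin M => esymm (Fin N) ℤ ((k : ℕ) + 1))

theorem killCompl_phiQ {n N : ℕ} (h : n ≤ N) (M : ℕ) (Q : MvPolynomial (Fin M) ℤ) :
    killCompl (Fin.castLE_injective h) (phiQ M N Q) = phiQ M n Q := by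
  have : (killCompl (Fin.castLE_injective h)).comp (phiQ M N) = phiQ M n := by
    apply MvPolynomial.algHom_ext
    intro k
    simp only [AlgHom.comp_apply, phiQ, aeval_X]
    exact killCompl_esymm h _
  exact AlgHom.congr_fun this Q

theorem phiQ_isSymmetric (M N : ℕ) (Q : MvPolynomial (Fin M) ℤ) : (phiQ M N Q).IsSymmetric := by
  intro e
  have : (rename e : MvPolynomial (Fin N) ℤ →ₐ[ℤ] _).comp (phiQ M N) = phiQ M N := by
    apply MvPolynomial.algHom_ext
    intro k
    simp only [AlgHom.comp_apply, phiQ, aeval_X]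
    exact esymm_isSymmetric (Fin N) ℤ _ e
  exact AlgHom.congr_fun this Q

theorem phiQ_isHomogeneous (M N : ℕ) {Q : MvPolynomial (Fin M) ℤ} {m : ℕ}
    (hQ : IsWeightedHomogeneous (fun k : Fin M => (k : ℕ) + 1) Q m) :
    (phiQ M N Q).IsHomogeneous m :=
  isWeightedHomogeneous_aeval (w := fun k : Fin M => (k : ℕ) + 1) (w' := (1 : Fin N → ℕ))
    (fun k : Fin M => esymm (Fin N) ℤ ((k : ℕ) + 1))
    (fun k => esymm_isHomogeneous' (Fin N) ℤ ((k : ℕ) + 1)) hQ

/-- One-family vanishing lemma. -/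
theorem eq_zero_of_isSymmetric_of_isHomogeneous {N n m : ℕ} (hn : n ≤ N) (hm : m ≤ n)
    (E : MvPolynomial (Fin N) ℤ) (hsymm : E.IsSymmetric) (hhom : E.IsHomogeneous m)
    (hres : killCompl (Fin.castLE_injective hn) E = 0) : E = 0 := by
  apply eq_zero_of_killCompl_eq_zero (Fin.castLE_injective hn) E hres
  intro d hd
  have hdeg : d.degree = m := by
    by_contra hne
    exact (mem_support_iff.mp hd) (hhom.coeff_eq_zero hne)
  have hcard : d.support.card ≤ n := by
    refine le_trans ?_ hm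
    rw [← hdeg, Finsupp.degree_apply]
    calc d.support.card = ∑ _i ∈ d.support, 1 := by simp
      _ ≤ ∑ i ∈ d.support, d i := Finset.sum_le_sum fun i hi =>
          Nat.one_le_iff_ne_zero.mpr (Finsupp.mem_support_iff.mp hi)
  obtain ⟨σ, hσ⟩ := exists_perm_map_lt hn d.support hcard
  refine ⟨σ, hsymm σ, ?_⟩
  intro a ha
  rw [Finsupp.mapDomain_support_of_injective σ.injective] at ha
  simp only [Finset.coe_image, Set.mem_image, Finset.mem_coe] at ha
  obtain ⟨b, hb, rfl⟩ := ha
  exact ⟨⟨σ b, hσ b hb⟩, Fin.ext rfl⟩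

/-- Stability of the universal polynomials `Q_{i,j}`: the defining identity holds in any number of
variables. -/
theorem phiQ_eq_compGen {i j : ℕ} {Q : MvPolynomial (Fin (i * j)) ℤ} (hQ : IsCompPoly i j Q) (N : ℕ) :
    phiQ (i * j) N Q = compGen N i j := by
  have h0 : phiQ (i * j) (i * j) Q = compGen (i * j) i j := hQ.1
  rcases le_total N (i * j) with h | h
  · rw [← killCompl_phiQ h, h0, killCompl_compGen]
  · rw [← sub_eq_zero]
    apply eq_zero_of_isSymmetric_of_isHomogeneous h (le_refl _)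
    · intro e
      rw [map_sub, phiQ_isSymmetric _ _ _ e, compGen_isSymmetric _ _ _ e]
    · exact (phiQ_isHomogeneous _ _ hQ.2).sub (compGen_isHomogeneous N i j)
    · rw [map_sub, killCompl_phiQ, killCompl_compGen, h0, sub_self]

end StabQ

section StabP

/-- `X_k ↦ e_{k+1}(T_1..T_N)`, `Y_k ↦ e_{k+1}(U_1..U_N)`. -/
noncomputable def phiP (n N : ℕ) : MvPolynomial (Fin n ⊕ Fin n) ℤ →ₐ[ℤ] MvPolynomial (Fin N ⊕ Fin N) ℤ :=
  aeval (Sum.elim (fun k : Fin n => rename Sum.inl (esymm (Fin N) ℤ ((k : ℕ) + 1)))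
      (fun k : Fin n => rename Sum.inr (esymm (Fin N) ℤ ((k : ℕ) + 1))))

theorem killCompl_phiP {m N : ℕ} (h : m ≤ N) (n : ℕ) (P : MvPolynomial (Fin n ⊕ Fin n) ℤ) :
    killCompl (sumCastLE_injective h) (phiP n N P) = phiP n m P := by
  have : (killCompl (sumCastLE_injective h)).comp (phiP n N) = phiP n m := by
    apply MvPolynomial.algHom_ext
    rintro (k | k)
    · simp only [AlgHom.comp_apply, phiP, aeval_X, Sum.elim_inl]
      exact killCompl_rename_inl_esymm h _
    · simp only [AlgHom.comp_apply, phiP, aeval_X, Sum.elim_inr]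
      exact killCompl_rename_inr_esymm h _
  exact AlgHom.congr_fun this P

theorem rename_sumMap_phiP (n N : ℕ) (P : MvPolynomial (Fin n ⊕ Fin n) ℤ) (σ τ : Equiv.Perm (Fin N)) :
    rename (Sum.map σ τ) (phiP n N P) = phiP n N P := by
  have : (rename (Sum.map σ τ) : MvPolynomial (Fin N ⊕ Fin N) ℤ →ₐ[ℤ] _).comp (phiP n N) = phiP n N := by
    apply MvPolynomial.algHom_ext
    rintro (k | k)
    · simp only [AlgHom.comp_apply, phiP, aeval_X, Sum.elim_inl, rename_rename]
      have : (Sum.map σ τ ∘ Sum.inl : Fin N → Fin N ⊕ Fin N) = Sum.inl ∘ σ := by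
        funext a; rfl
      rw [this, ← rename_rename, esymm_isSymmetric (Fin N) ℤ _ σ]
    · simp only [AlgHom.comp_apply, phiP, aeval_X, Sum.elim_inr, rename_rename]
      have : (Sum.map σ τ ∘ Sum.inr : Fin N → Fin N ⊕ Fin N) = Sum.inr ∘ τ := by
        funext a; rfl
      rw [this, ← rename_rename, esymm_isSymmetric (Fin N) ℤ _ τ]
  exact AlgHom.congr_fun this P

theorem rename_sumMap_mulGen (N k : ℕ) (σ τ : Equiv.Perm (Fin N)) :
    rename (Sum.map σ τ) (mulGen N k) = mulGen N k := by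
  rw [mulGen_eq, map_sum]
  simp only [map_prod, map_mul, rename_X, Sum.map_inl, Sum.map_inr]
  have hS : ((univ : Finset (Fin N × Fin N)).powersetCard k).map
      (Finset.mapEmbedding (σ.toEmbedding.prodMap τ.toEmbedding)).toEmbedding
        = (univ : Finset (Fin N × Fin N)).powersetCard k := by
    rw [← Finset.powersetCard_map]
    congr 1
    ext ab
    simp only [Finset.mem_map, Finset.mem_univ, true_and, iff_true]
    exact ⟨(σ.symm ab.1, τ.symm ab.2), by simp [Function.Embedding.prodMap]⟩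
  conv_rhs => rw [← hS, Finset.sum_map]
  refine Finset.sum_congr rfl fun t _ => ?_
  change _ = ∏ ab ∈ t.map (σ.toEmbedding.prodMap τ.toEmbedding), _
  rw [Finset.prod_map]
  rfl

theorem phiP_isWH (n N : ℕ) {P : MvPolynomial (Fin n ⊕ Fin n) ℤ} {m : ℕ × ℕ}
    (hP : IsWeightedHomogeneous (mulWeight n) P m) :
    IsWeightedHomogeneous (bideg N) (phiP n N P) m := by
  apply isWeightedHomogeneous_aeval (w := mulWeight n) (w' := bideg N) _ _ hP
  rintro (k | k)
  · exact isWH_rename_inl_esymm N _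
  · exact isWH_rename_inr_esymm N _

theorem weight_bideg (N : ℕ) (d : Fin N ⊕ Fin N →₀ ℕ) :
    Finsupp.weight (bideg N) d = (∑ a, d (Sum.inl a), ∑ b, d (Sum.inr b)) := by
  rw [Finsupp.weight_eq_sum, Fintype.sum_sum_type]
  simp only [bideg, Sum.elim_inl, Sum.elim_inr]
  ext <;> simp [Prod.fst_sum, Prod.snd_sum]

/-- Two-family vanishing lemma. -/
theorem eq_zero_of_bisymm_of_bihomog {N n p q : ℕ} (hn : n ≤ N) (hp : p ≤ n) (hq : q ≤ n)
    (E : MvPolynomial (Fin N ⊕ Fin N) ℤ)
    (hsymm : ∀ σ τ : Equiv.Perm (Fin N), rename (Sum.map σ τ) E = E)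
    (hhom : IsWeightedHomogeneous (bideg N) E (p, q))
    (hres : killCompl (sumCastLE_injective hn) E = 0) : E = 0 := by
  classical
  apply eq_zero_of_killCompl_eq_zero (sumCastLE_injective hn) E hres
  intro d hd
  have hw := hhom (mem_support_iff.mp hd)
  rw [weight_bideg] at hw
  have h1 : ∑ a, d (Sum.inl a) = p := congrArg Prod.fst hw
  have h2 : ∑ b, d (Sum.inr b) = q := congrArg Prod.snd hw
  let S₁ : Finset (Fin N) := univ.filter fun a => d (Sum.inl a) ≠ 0
  let S₂ : Finset (Fin N) := univ.filter fun b => d (Sum.inr b) ≠ 0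
  have hc1 : S₁.card ≤ n := by
    refine le_trans ?_ hp
    rw [← h1, Finset.card_filter]
    apply Finset.sum_le_sum
    intro a _
    split_ifs with h
    · exact Nat.one_le_iff_ne_zero.mpr h
    · exact Nat.zero_le _
  have hc2 : S₂.card ≤ n := by
    refine le_trans ?_ hq
    rw [← h2, Finset.card_filter]
    apply Finset.sum_le_sum
    intro a _
    split_ifs with h
    · exact Nat.one_le_iff_ne_zero.mpr h
    · exact Nat.zero_le _
  obtain ⟨σ, hσ⟩ := exists_perm_map_lt hn S₁ hc1
  obtain ⟨τ, hτ⟩ := exists_perm_map_lt hn S₂ hc2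
  refine ⟨Equiv.sumCongr σ τ, hsymm σ τ, ?_⟩
  intro x hx
  rw [Finsupp.mapDomain_support_of_injective (Equiv.sumCongr σ τ).injective] at hx
  simp only [Finset.coe_image, Set.mem_image, Finset.mem_coe, Finsupp.mem_support_iff] at hx
  obtain ⟨y, hy, rfl⟩ := hx
  rcases y with a | b
  · have ha : a ∈ S₁ := Finset.mem_filter.mpr ⟨Finset.mem_univ _, hy⟩
    exact ⟨Sum.inl ⟨σ a, hσ a ha⟩, by simp [sumCastLE]⟩
  · have hb : b ∈ S₂ := Finset.mem_filter.mpr ⟨Finset.mem_univ _, hy⟩
    exact ⟨Sum.inr ⟨τ b, hτ b hb⟩, by simp [sumCastLE]⟩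

/-- Stability of the universal polynomials `P_n`: the defining identity holds in any number of
variables. -/
theorem phiP_eq_mulGen {n : ℕ} {P : MvPolynomial (Fin n ⊕ Fin n) ℤ} (hP : IsMulPoly n P) (N : ℕ) :
    phiP n N P = mulGen N n := by
  have h0 : phiP n n P = mulGen n n := hP.1
  rcases le_total N n with h | h
  · rw [← killCompl_phiP h, h0, killCompl_mulGen]
  · rw [← sub_eq_zero]
    apply eq_zero_of_bisymm_of_bihomog h (le_refl _) (le_refl _)
    · intro σ τ
      rw [map_sub, rename_sumMap_phiP, rename_sumMap_mulGen]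
    · exact (phiP_isWH n N hP.2).sub (isWH_mulGen N n)
    · rw [map_sub, killCompl_phiP, killCompl_mulGen, h0, sub_self]

end StabP

end Groth.Agent.Lib.Helper44
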