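import Groth.Prelude.Def_W4stkadequateTF
import Mathlib.Algebra.Category.ModuleCat.Abelian
import Mathlib.Algebra.Category.ModuleCat.Biproducts
import Mathlib.Algebra.Homology.ShortComplex.ShortExact

set_option autoImplicit false
universe u
open CategoryTheory

namespace Groth.Agent.Lib.Helper44

open AdeqTF

variable {A : Type u} [CommRing A] (B : Adeq.Alg A)

theorem tfMap_id (N : ModuleCat.{u} B) : AdeqTF.map B (𝟙 N) = 𝟙 (AdeqTF.ext B N) := by
  apply CommAlgCat.hom_ext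
  refine AlgHom.ext fun x => ?_
  change TrivSqZeroExt.map (LinearMap.id) x = x
  rw [TrivSqZeroExt.map_id]
  rfl

theorem tfMap_comp {N N' N'' : ModuleCat.{u} B} (g : N ⟶ N') (h : N' ⟶ N'') :
    AdeqTF.map B (g ≫ h) = AdeqTF.map B g ≫ AdeqTF.map B h := by
  apply CommAlgCat.hom_ext
  refine AlgHom.ext fun x => ?_
  change TrivSqZeroExt.map (h.hom ∘ₗ g.hom) x = TrivSqZeroExt.map h.hom (TrivSqZeroExt.map g.hom x)
  rw [TrivSqZeroExt.map_comp_map]
  rfl

theorem tfMap_zero (N N' : ModuleCat.{u} B) :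
    AdeqTF.map B (0 : N ⟶ N') = AdeqTF.fst B N ≫ AdeqTF.inl B N' := by
  apply CommAlgCat.hom_ext
  refine AlgHom.ext fun x => ?_
  change TrivSqZeroExt.map (0 : N →ₗ[B] N') x = TrivSqZeroExt.inl (TrivSqZeroExt.fst x)
  ext <;> simp

variable (F : Adeq.MVF A)

theorem tangentMap_val {N N' : ModuleCat.{u} B} (g : N ⟶ N') (x : AdeqTF.tangent B N F) :
    (AdeqTF.tangentMap B F g x : F.obj (Adeq.pt (AdeqTF.ext B N'))) =
      F.map (Adeq.ptHom (AdeqTF.map B g)) x.1 := rfl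

theorem tangentMap_id (N : ModuleCat.{u} B) (x : AdeqTF.tangent B N F) :
    AdeqTF.tangentMap B F (𝟙 N) x = x := by
  apply Subtype.ext
  rw [tangentMap_val, F.congr_map_apply (congrArg Adeq.ptHom (tfMap_id B N))]
  change F.map (𝟙 _) x.1 = x.1
  rw [F.map_id]
  rfl

theorem tangentMap_comp {N N' N'' : ModuleCat.{u} B} (g : N ⟶ N') (h : N' ⟶ N'')
    (x : AdeqTF.tangent B N F) :
    AdeqTF.tangentMap B F (g ≫ h) x = AdeqTF.tangentMap B F h (AdeqTF.tangentMap B F g x) := by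
  apply Subtype.ext
  rw [tangentMap_val, tangentMap_val, tangentMap_val,
    F.congr_map_apply (congrArg Adeq.ptHom (tfMap_comp B g h))]
  change F.map (Adeq.ptHom (AdeqTF.map B g) ≫ Adeq.ptHom (AdeqTF.map B h)) x.1 = _
  exact F.map_comp_apply _ _ _

theorem tangentMap_zero (N N' : ModuleCat.{u} B) (x : AdeqTF.tangent B N F) :
    AdeqTF.tangentMap B F (0 : N ⟶ N') x = 0 := by
  apply Subtype.ext
  rw [tangentMap_val, F.congr_map_apply (congrArg Adeq.ptHom (tfMap_zero B N N'))]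
  have hx : F.map (Adeq.ptHom (AdeqTF.fst B N)) x.1 = 0 := x.2
  change F.map (Adeq.ptHom (AdeqTF.fst B N) ≫ Adeq.ptHom (AdeqTF.inl B N')) x.1 = 0
  rw [F.map_comp_apply, hx]
  exact map_zero (F.map (Adeq.ptHom (AdeqTF.inl B N'))).hom

end Groth.Agent.Lib.Helper44
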