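import Groth.Agent.Lib.Helper44.TangentFunctor
import Mathlib.Algebra.Category.ModuleCat.Presheaf.Limits
import Mathlib.Algebra.Category.ModuleCat.Presheaf.Colimits
import Mathlib.Algebra.Homology.ShortComplex.ModuleCat
import Mathlib.Algebra.Homology.ShortComplex.ExactFunctor

/-!
# Tangent functors and short exact sequences of module-valued functors

For a short exact sequence `0 → F → G → H → 0` of module-valued functors, the sequences of tangent
modules `0 → TF(B, N) → TG(B, N) → TH(B, N) → 0` are exact, and a nine-lemma argument transfers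
right exactness of the tangent functors.
-/

set_option autoImplicit false
universe u
open CategoryTheory

namespace Groth.Agent.Lib.Helper44

section Nine

variable {F₁ F₂ F₃ G₁ G₂ G₃ H₁ H₂ H₃ : Type*}
  [AddCommGroup F₁] [AddCommGroup F₂] [AddCommGroup F₃]
  [AddCommGroup G₁] [AddCommGroup G₂] [AddCommGroup G₃]
  [AddCommGroup H₁] [AddCommGroup H₂] [AddCommGroup H₃]
  (aF : F₁ →+ F₂) (bF : F₂ →+ F₃) (aG : G₁ →+ G₂) (bG : G₂ →+ G₃) (aH : H₁ →+ H₂) (bH : H₂ →+ H₃)
  (f₁ : F₁ →+ G₁) (f₂ : F₂ →+ G₂) (f₃ : F₃ →+ G₃) (g₁ : G₁ →+ H₁) (g₂ : G₂ →+ H₂) (g₃ : G₃ →+ H₃)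

omit [AddCommGroup F₁] in
/-- Right exactness of the bottom row from that of the two upper rows. -/
theorem nine_bot (c2 : ∀ x, f₃ (bF x) = bG (f₂ x))
    (c3 : ∀ x, g₂ (aG x) = aH (g₁ x)) (c4 : ∀ x, g₃ (bG x) = bH (g₂ x))
    (hg₂ : Function.Surjective g₂) (hg₃ : Function.Surjective g₃)
    (e₃ : ∀ x, g₃ x = 0 → ∃ y, f₃ y = x) (z₂ : ∀ y, g₂ (f₂ y) = 0)
    (hbF : Function.Surjective bF) (hbG : Function.Surjective bG)
    (hG : ∀ x, bG x = 0 → ∃ y, aG y = x) (zH : ∀ x, bH (aH x) = 0) :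
    Function.Surjective bH ∧ bH.ker = aH.range := by
  constructor
  · intro z
    obtain ⟨x₃, rfl⟩ := hg₃ z
    obtain ⟨x₂, rfl⟩ := hbG x₃
    exact ⟨g₂ x₂, (c4 x₂).symm⟩
  · ext z
    rw [AddMonoidHom.mem_ker, AddMonoidHom.mem_range]
    constructor
    · intro hz
      obtain ⟨x, rfl⟩ := hg₂ z
      have h1 : g₃ (bG x) = 0 := by rw [c4, hz]
      obtain ⟨y₃, hy₃⟩ := e₃ _ h1
      obtain ⟨y, rfl⟩ := hbF y₃
      have h2 : bG (x - f₂ y) = 0 := by rw [map_sub, ← c2, hy₃, sub_self]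
      obtain ⟨x₁, hx₁⟩ := hG _ h2
      refine ⟨g₁ x₁, ?_⟩
      rw [← c3, hx₁, map_sub, z₂, sub_zero]
    · rintro ⟨w, rfl⟩
      exact zH w

/-- Right exactness of the middle row from that of the two outer rows. -/
theorem nine_mid (c1 : ∀ x, f₂ (aF x) = aG (f₁ x)) (c2 : ∀ x, f₃ (bF x) = bG (f₂ x))
    (c3 : ∀ x, g₂ (aG x) = aH (g₁ x)) (c4 : ∀ x, g₃ (bG x) = bH (g₂ x))
    (hf₃ : Function.Injective f₃) (hg₁ : Function.Surjective g₁) (hg₂ : Function.Surjective g₂)
    (e₂ : ∀ x, g₂ x = 0 → ∃ y, f₂ y = x) (e₃ : ∀ x, g₃ x = 0 → ∃ y, f₃ y = x)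
    (hbF : Function.Surjective bF) (hF : ∀ x, bF x = 0 → ∃ y, aF y = x)
    (hbH : Function.Surjective bH) (hH : ∀ x, bH x = 0 → ∃ y, aH y = x)
    (zG : ∀ x, bG (aG x) = 0) :
    Function.Surjective bG ∧ bG.ker = aG.range := by
  constructor
  · intro x₃
    obtain ⟨z, hz⟩ := hbH (g₃ x₃)
    obtain ⟨x, rfl⟩ := hg₂ z
    have h1 : g₃ (x₃ - bG x) = 0 := by rw [map_sub, c4, hz, sub_self]
    obtain ⟨y₃, hy₃⟩ := e₃ _ h1
    obtain ⟨y, rfl⟩ := hbF y₃
    refine ⟨x + f₂ y, ?_⟩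
    rw [map_add, ← c2, hy₃]
    abel
  · ext x
    rw [AddMonoidHom.mem_ker, AddMonoidHom.mem_range]
    constructor
    · intro hx
      have h1 : bH (g₂ x) = 0 := by rw [← c4, hx, map_zero]
      obtain ⟨z₁, hz₁⟩ := hH _ h1
      obtain ⟨x₁, rfl⟩ := hg₁ z₁
      have h2 : g₂ (x - aG x₁) = 0 := by rw [map_sub, c3, hz₁, sub_self]
      obtain ⟨y, hy⟩ := e₂ _ h2
      have h3 : f₃ (bF y) = 0 := by rw [c2, hy, map_sub, hx, zG, sub_zero]
      have h4 : bF y = 0 := hf₃ (by rw [h3, map_zero])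
      obtain ⟨y₁, rfl⟩ := hF _ h4
      refine ⟨x₁ + f₁ y₁, ?_⟩
      rw [map_add, ← c1, hy]
      abel
    · rintro ⟨w, rfl⟩
      exact zG w

end Nine

section Tangent

open AdeqTF

variable {A : Type u} [CommRing A] (B : Adeq.Alg A)

/-- The map of tangent modules induced by a morphism of module-valued functors. -/
noncomputable def tangentNat {F G : Adeq.MVF A} (φ : F ⟶ G) (N : ModuleCat.{u} B) :
    AdeqTF.tangent B N F →+ AdeqTF.tangent B N G :=
  ((φ.app (Adeq.pt (AdeqTF.ext B N))).hom.toAddMonoidHom.comp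
    (AdeqTF.tangent B N F).subtype).codRestrict (AdeqTF.tangent B N G)
    (fun x => by
      obtain ⟨x, hx⟩ := x
      have hx0 : F.map (Adeq.ptHom (AdeqTF.fst B N)) x = 0 := hx
      change G.map (Adeq.ptHom (AdeqTF.fst B N)) (φ.app (Adeq.pt (AdeqTF.ext B N)) x) = 0
      rw [← PresheafOfModules.naturality_apply, hx0]
      exact map_zero (φ.app _).hom)

theorem tangentNat_val {F G : Adeq.MVF A} (φ : F ⟶ G) (N : ModuleCat.{u} B)
    (x : AdeqTF.tangent B N F) :
    (tangentNat B φ N x : G.obj (Adeq.pt (AdeqTF.ext B N))) =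
      φ.app (Adeq.pt (AdeqTF.ext B N)) x.1 := rfl

theorem tangentNat_tangentMap {F G : Adeq.MVF A} (φ : F ⟶ G) {N N' : ModuleCat.{u} B}
    (g : N ⟶ N') (x : AdeqTF.tangent B N F) :
    tangentNat B φ N' (AdeqTF.tangentMap B F g x) =
      AdeqTF.tangentMap B G g (tangentNat B φ N x) := by
  apply Subtype.ext
  rw [tangentNat_val, tangentMap_val, tangentMap_val, tangentNat_val]
  exact PresheafOfModules.naturality_apply φ _ _

variable (C : ShortComplex (Adeq.MVF A)) (hC : C.ShortExact)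

include hC

theorem app_props_of_shortExact (X : (Adeq.Alg A)ᵒᵖᵒᵖ) :
    Function.Injective (C.f.app X) ∧ Function.Surjective (C.g.app X) ∧
      ∀ x : C.X₂.obj X, C.g.app X x = 0 → ∃ y, C.f.app X y = x := by
  have : (PresheafOfModules.evaluation.{u + 1} (Adeq.ringOf A) X).Additive :=
    PresheafOfModules.instAdditiveModuleCatCarrierObjOppositeRingCatEvaluation _ _
  have : Limits.PreservesFiniteLimits (PresheafOfModules.evaluation.{u + 1} (Adeq.ringOf A) X) :=
    PresheafOfModules.evaluation_preservesFiniteLimits _ _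
  have : Limits.PreservesFiniteColimits (PresheafOfModules.evaluation.{u + 1} (Adeq.ringOf A) X) :=
    PresheafOfModules.Finite.evaluation_preservesFiniteColimits _ _
  have h := hC.map_of_exact (PresheafOfModules.evaluation.{u + 1} (Adeq.ringOf A) X)
  refine ⟨h.moduleCat_injective_f, h.moduleCat_surjective_g, ?_⟩
  intro x hx
  have h2 := h.exact.moduleCat_range_eq_ker
  have hx' : x ∈ LinearMap.ker
      ((C.map (PresheafOfModules.evaluation.{u + 1} (Adeq.ringOf A) X)).g).hom := hx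
  rw [← h2] at hx'
  exact hx'

theorem app_injective_of_shortExact (X : (Adeq.Alg A)ᵒᵖᵒᵖ) :
    Function.Injective (C.f.app X) := (app_props_of_shortExact C hC X).1

theorem app_surjective_of_shortExact (X : (Adeq.Alg A)ᵒᵖᵒᵖ) :
    Function.Surjective (C.g.app X) := (app_props_of_shortExact C hC X).2.1

theorem app_exact_of_shortExact (X : (Adeq.Alg A)ᵒᵖᵒᵖ) (x : C.X₂.obj X)
    (hx : C.g.app X x = 0) : ∃ y, C.f.app X y = x := (app_props_of_shortExact C hC X).2.2 x hx

omit hC in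
theorem app_zero_of_shortExact (X : (Adeq.Alg A)ᵒᵖᵒᵖ) (y : C.X₁.obj X) :
    C.g.app X (C.f.app X y) = 0 := by
  have h := C.zero
  have h2 : (C.f ≫ C.g).app X y = 0 := by
    rw [h]
    rfl
  exact h2

theorem tangentNat_injective (N : ModuleCat.{u} B) :
    Function.Injective (tangentNat B C.f N) := by
  intro x y hxy
  apply Subtype.ext
  apply app_injective_of_shortExact C hC
  have := congrArg Subtype.val hxy
  rwa [tangentNat_val, tangentNat_val] at this

theorem tangentNat_surjective (N : ModuleCat.{u} B) :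
    Function.Surjective (tangentNat B C.g N) := by
  intro z
  obtain ⟨x, hx⟩ := app_surjective_of_shortExact C hC (Adeq.pt (AdeqTF.ext B N)) z.1
  have hz0 : C.X₃.map (Adeq.ptHom (AdeqTF.fst B N)) z.1 = 0 := z.2
  have hinlfst : AdeqTF.inl B N ≫ AdeqTF.fst B N = 𝟙 B := by
    apply CommAlgCat.hom_ext
    refine AlgHom.ext fun b => ?_
    rfl
  let w : C.X₂.obj (Adeq.pt (AdeqTF.ext B N)) :=
    C.X₂.map (Adeq.ptHom (AdeqTF.inl B N)) (C.X₂.map (Adeq.ptHom (AdeqTF.fst B N)) x)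
  have hw1 : C.X₂.map (Adeq.ptHom (AdeqTF.fst B N)) w =
      C.X₂.map (Adeq.ptHom (AdeqTF.fst B N)) x := by
    have e0 := C.X₂.map_comp_apply (Adeq.ptHom (AdeqTF.inl B N)) (Adeq.ptHom (AdeqTF.fst B N))
      (C.X₂.map (Adeq.ptHom (AdeqTF.fst B N)) x)
    refine e0.symm.trans ?_
    have e1 := C.X₂.congr_map_apply
      (show Adeq.ptHom (AdeqTF.inl B N) ≫ Adeq.ptHom (AdeqTF.fst B N) = 𝟙 _ from
        congrArg Adeq.ptHom hinlfst) (C.X₂.map (Adeq.ptHom (AdeqTF.fst B N)) x)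
    refine e1.trans ?_
    rw [C.X₂.map_id]
    rfl
  have hw2 : C.g.app (Adeq.pt (AdeqTF.ext B N)) w = 0 := by
    have e1 := PresheafOfModules.naturality_apply C.g (Adeq.ptHom (AdeqTF.inl B N))
      (C.X₂.map (Adeq.ptHom (AdeqTF.fst B N)) x)
    refine e1.trans ?_
    rw [PresheafOfModules.naturality_apply, hx, hz0]
    exact map_zero (C.X₃.map (Adeq.ptHom (AdeqTF.inl B N))).hom
  have hmem : x - w ∈ AdeqTF.tangent B N C.X₂ := by
    change C.X₂.map (Adeq.ptHom (AdeqTF.fst B N)) (x - w) = 0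
    have := map_sub (C.X₂.map (Adeq.ptHom (AdeqTF.fst B N))).hom x w
    refine this.trans ?_
    change C.X₂.map (Adeq.ptHom (AdeqTF.fst B N)) x - C.X₂.map (Adeq.ptHom (AdeqTF.fst B N)) w = 0
    rw [hw1, sub_self]
  refine ⟨⟨x - w, hmem⟩, ?_⟩
  apply Subtype.ext
  rw [tangentNat_val]
  change C.g.app _ (x - w) = z.1
  rw [map_sub, hx, hw2, sub_zero]

theorem tangentNat_exact (N : ModuleCat.{u} B) (x : AdeqTF.tangent B N C.X₂)
    (hx : tangentNat B C.g N x = 0) : ∃ y, tangentNat B C.f N y = x := by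
  have hx' : C.g.app _ x.1 = 0 := by
    have := congrArg Subtype.val hx
    rwa [tangentNat_val] at this
  obtain ⟨y, hy⟩ := app_exact_of_shortExact C hC _ x.1 hx'
  have hmem : y ∈ AdeqTF.tangent B N C.X₁ := by
    change C.X₁.map (Adeq.ptHom (AdeqTF.fst B N)) y = 0
    have h0 : C.f.app (Adeq.pt B) (C.X₁.map (Adeq.ptHom (AdeqTF.fst B N)) y) =
        C.f.app (Adeq.pt B) 0 := by
      rw [PresheafOfModules.naturality_apply, hy, map_zero]
      exact x.2
    exact app_injective_of_shortExact C hC _ h0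
  exact ⟨⟨y, hmem⟩, Subtype.ext hy⟩

omit hC in
theorem tangentNat_zero (N : ModuleCat.{u} B) (y : AdeqTF.tangent B N C.X₁) :
    tangentNat B C.g N (tangentNat B C.f N y) = 0 := by
  apply Subtype.ext
  rw [tangentNat_val, tangentNat_val]
  exact app_zero_of_shortExact C _ y.1

end Tangent

end Groth.Agent.Lib.Helper44
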