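import Groth.Agent.Lib.Helper44.AugExact
import Mathlib.Algebra.Category.ModuleCat.Monoidal.Basic
import Mathlib.Algebra.Homology.ShortComplex.ModuleCat
import Mathlib.Algebra.Homology.Additive
import Mathlib.CategoryTheory.Monoidal.Preadditive

/-!
# Universally exact augmented complexes of modules

From the hypothesis that an augmentation stays a quasi-isomorphism after tensoring with any module,
the exactness of the tensored augmented complex at the level of linear maps.
-/

set_option autoImplicit false
universe u

open CategoryTheory MonoidalCategory HomologicalComplex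

namespace Groth.Agent.Lib.Helper44

variable {R : Type u} [CommRing R]

section Rid

variable {M₁ M₂ M₃ : Type u} [AddCommGroup M₁] [Module R M₁] [AddCommGroup M₂] [Module R M₂]
  [AddCommGroup M₃] [Module R M₃]

theorem rid_rTensor (f : M₁ →ₗ[R] M₂) (z : TensorProduct R M₁ R) :
    TensorProduct.rid R M₂ (f.rTensor R z) = f (TensorProduct.rid R M₁ z) := by
  induction z using TensorProduct.induction_on with
  | zero => simp
  | tmul x r => simp
  | add x y hx hy => simp only [map_add, hx, hy]

theorem surjective_of_rTensor_surjective (f : M₁ →ₗ[R] M₂)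
    (h : Function.Surjective (f.rTensor R)) : Function.Surjective f := by
  intro y
  obtain ⟨z, hz⟩ := h ((TensorProduct.rid R M₂).symm y)
  refine ⟨TensorProduct.rid R M₁ z, ?_⟩
  rw [← rid_rTensor, hz, LinearEquiv.apply_symm_apply]

theorem injective_of_rTensor_injective (f : M₁ →ₗ[R] M₂)
    (h : Function.Injective (f.rTensor R)) : Function.Injective f := by
  intro x y hxy
  have h1 : f.rTensor R ((TensorProduct.rid R M₁).symm x) =
      f.rTensor R ((TensorProduct.rid R M₁).symm y) := by
    apply (TensorProduct.rid R M₂).injective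
    rw [rid_rTensor, rid_rTensor, LinearEquiv.apply_symm_apply, LinearEquiv.apply_symm_apply, hxy]
  exact (TensorProduct.rid R M₁).symm.injective (h h1)

theorem exact_of_rTensor_exact (f : M₁ →ₗ[R] M₂) (g : M₂ →ₗ[R] M₃)
    (h : Function.Exact (f.rTensor R) (g.rTensor R)) : Function.Exact f g := by
  intro y
  constructor
  · intro hy
    have h1 : g.rTensor R ((TensorProduct.rid R M₂).symm y) = 0 := by
      apply (TensorProduct.rid R M₃).injective
      rw [rid_rTensor, LinearEquiv.apply_symm_apply, hy, map_zero]
    obtain ⟨z, hz⟩ := (h _).mp h1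
    refine ⟨TensorProduct.rid R M₁ z, ?_⟩
    rw [← rid_rTensor, hz, LinearEquiv.apply_symm_apply]
  · rintro ⟨x, rfl⟩
    have h1 := (h (f.rTensor R ((TensorProduct.rid R M₁).symm x))).mpr ⟨_, rfl⟩
    have h2 := congrArg (TensorProduct.rid R M₃) h1
    rw [rid_rTensor, rid_rTensor, LinearEquiv.apply_symm_apply, map_zero] at h2
    exact h2

end Rid

section Chain

variable {N : ModuleCat.{u} R} (Q : ChainComplex (ModuleCat.{u} R) ℕ)
  (ε : Q ⟶ (ChainComplex.single₀ (ModuleCat.{u} R)).obj N)

/-- The tensored augmentation, with target a single complex. -/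
noncomputable def tensorAug (T : ModuleCat.{u} R) :
    ((tensorRight T).mapHomologicalComplex (ComplexShape.down ℕ)).obj Q ⟶
      (ChainComplex.single₀ (ModuleCat.{u} R)).obj ((tensorRight T).obj N) :=
  ((tensorRight T).mapHomologicalComplex (ComplexShape.down ℕ)).map ε ≫
    (HomologicalComplex.singleMapHomologicalComplex (tensorRight T) (ComplexShape.down ℕ) 0).hom.app N

theorem tensorAug_quasiIso (T : ModuleCat.{u} R)
    (hε : QuasiIso (((tensorRight T).mapHomologicalComplex (ComplexShape.down ℕ)).map ε)) :
    QuasiIso (tensorAug Q ε T) := by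
  unfold tensorAug
  infer_instance

variable (hε : ∀ T : ModuleCat.{u} R,
  QuasiIso (((tensorRight T).mapHomologicalComplex (ComplexShape.down ℕ)).map ε))

include hε

theorem chain_rTensor_exact_succ (n : ℕ) (T : Type u) [AddCommGroup T] [Module R T] :
    Function.Exact ((Q.d (n + 2) (n + 1)).hom.rTensor T) ((Q.d (n + 1) n).hom.rTensor T) := by
  have := tensorAug_quasiIso Q ε (ModuleCat.of R T) (hε _)
  have h := aug_exact_succ _ (tensorAug Q ε (ModuleCat.of R T)) n
  rw [ShortComplex.ShortExact.moduleCat_exact_iff_function_exact] at h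
  exact h

theorem chain_rTensor_exact_zero (T : Type u) [AddCommGroup T] [Module R T] :
    Function.Exact ((Q.d 1 0).hom.rTensor T) ((ε.f 0).hom.rTensor T) := by
  have := tensorAug_quasiIso Q ε (ModuleCat.of R T) (hε _)
  have h := aug_exact₀ _ (tensorAug Q ε (ModuleCat.of R T))
  rw [ShortComplex.ShortExact.moduleCat_exact_iff_function_exact] at h
  have hiso : IsIso (((HomologicalComplex.singleMapHomologicalComplex
      (tensorRight (ModuleCat.of R T)) (ComplexShape.down ℕ) 0).hom.app N).f 0) := inferInstance
  have hinj : Function.Injective (((HomologicalComplex.singleMapHomologicalComplex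
      (tensorRight (ModuleCat.of R T)) (ComplexShape.down ℕ) 0).hom.app N).f 0) :=
    (ConcreteCategory.bijective_of_isIso _).1
  intro y
  have h1 := h y
  constructor
  · intro hy
    apply h1.mp
    change ((HomologicalComplex.singleMapHomologicalComplex
      (tensorRight (ModuleCat.of R T)) (ComplexShape.down ℕ) 0).hom.app N).f 0
        (((ε.f 0).hom.rTensor T) y) = 0
    rw [hy]
    exact map_zero _
  · intro hy
    have h2 := h1.mpr hy
    have h3 : ((HomologicalComplex.singleMapHomologicalComplex
      (tensorRight (ModuleCat.of R T)) (ComplexShape.down ℕ) 0).hom.app N).f 0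
        (((ε.f 0).hom.rTensor T) y) = 0 := h2
    apply hinj
    exact h3.trans (map_zero _).symm

theorem chain_rTensor_surjective_zero (T : Type u) [AddCommGroup T] [Module R T] :
    Function.Surjective ((ε.f 0).hom.rTensor T) := by
  have := tensorAug_quasiIso Q ε (ModuleCat.of R T) (hε _)
  have h := aug_epi _ (tensorAug Q ε (ModuleCat.of R T))
  have hs : Function.Surjective ((tensorAug Q ε (ModuleCat.of R T)).f 0) :=
    (ModuleCat.epi_iff_surjective _).mp h
  have hiso : IsIso (((HomologicalComplex.singleMapHomologicalComplex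
      (tensorRight (ModuleCat.of R T)) (ComplexShape.down ℕ) 0).hom.app N).f 0) := inferInstance
  have hinj : Function.Injective (((HomologicalComplex.singleMapHomologicalComplex
      (tensorRight (ModuleCat.of R T)) (ComplexShape.down ℕ) 0).hom.app N).f 0) :=
    (ConcreteCategory.bijective_of_isIso _).1
  intro y
  obtain ⟨x, hx⟩ := hs (((HomologicalComplex.singleMapHomologicalComplex
      (tensorRight (ModuleCat.of R T)) (ComplexShape.down ℕ) 0).hom.app N).f 0 y)
  refine ⟨x, ?_⟩
  apply hinj
  exact hx

theorem chain_exact_succ (n : ℕ) :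
    Function.Exact (Q.d (n + 2) (n + 1)).hom (Q.d (n + 1) n).hom :=
  exact_of_rTensor_exact _ _ (chain_rTensor_exact_succ Q ε hε n R)

theorem chain_exact_zero : Function.Exact (Q.d 1 0).hom (ε.f 0).hom :=
  exact_of_rTensor_exact _ _ (chain_rTensor_exact_zero Q ε hε R)

theorem chain_aug_surjective : Function.Surjective (ε.f 0).hom :=
  surjective_of_rTensor_surjective _ (chain_rTensor_surjective_zero Q ε hε R)

end Chain

section Cochain

variable {M : ModuleCat.{u} R} (M' : CochainComplex (ModuleCat.{u} R) ℕ)
  (η : (CochainComplex.single₀ (ModuleCat.{u} R)).obj M ⟶ M')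

/-- The tensored coaugmentation, with source a single complex. -/
noncomputable def tensorCoaug (T : ModuleCat.{u} R) :
    (CochainComplex.single₀ (ModuleCat.{u} R)).obj ((tensorRight T).obj M) ⟶
      ((tensorRight T).mapHomologicalComplex (ComplexShape.up ℕ)).obj M' :=
  (HomologicalComplex.singleMapHomologicalComplex (tensorRight T) (ComplexShape.up ℕ) 0).inv.app M ≫
    ((tensorRight T).mapHomologicalComplex (ComplexShape.up ℕ)).map η

theorem tensorCoaug_quasiIso (T : ModuleCat.{u} R)
    (hη : QuasiIso (((tensorRight T).mapHomologicalComplex (ComplexShape.up ℕ)).map η)) :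
    QuasiIso (tensorCoaug M' η T) := by
  unfold tensorCoaug
  infer_instance

variable (hη : ∀ T : ModuleCat.{u} R,
  QuasiIso (((tensorRight T).mapHomologicalComplex (ComplexShape.up ℕ)).map η))

include hη

theorem cochain_rTensor_exact_succ (n : ℕ) (T : Type u) [AddCommGroup T] [Module R T] :
    Function.Exact ((M'.d n (n + 1)).hom.rTensor T) ((M'.d (n + 1) (n + 2)).hom.rTensor T) := by
  have := tensorCoaug_quasiIso M' η (ModuleCat.of R T) (hη _)
  have h := coaug_exact_succ _ (tensorCoaug M' η (ModuleCat.of R T)) n
  rw [ShortComplex.ShortExact.moduleCat_exact_iff_function_exact] at h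
  exact h

theorem cochain_rTensor_exact_zero (T : Type u) [AddCommGroup T] [Module R T] :
    Function.Exact ((η.f 0).hom.rTensor T) ((M'.d 0 1).hom.rTensor T) := by
  have := tensorCoaug_quasiIso M' η (ModuleCat.of R T) (hη _)
  have h := coaug_exact₀ _ (tensorCoaug M' η (ModuleCat.of R T))
  rw [ShortComplex.ShortExact.moduleCat_exact_iff_function_exact] at h
  have hiso : IsIso (((HomologicalComplex.singleMapHomologicalComplex
      (tensorRight (ModuleCat.of R T)) (ComplexShape.up ℕ) 0).inv.app M).f 0) := inferInstance
  have hsurj : Function.Surjective (((HomologicalComplex.singleMapHomologicalComplex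
      (tensorRight (ModuleCat.of R T)) (ComplexShape.up ℕ) 0).inv.app M).f 0) :=
    (ConcreteCategory.bijective_of_isIso _).2
  intro y
  have h1 := h y
  constructor
  · intro hy
    obtain ⟨x, hx⟩ := h1.mp hy
    exact ⟨((HomologicalComplex.singleMapHomologicalComplex
      (tensorRight (ModuleCat.of R T)) (ComplexShape.up ℕ) 0).inv.app M).f 0 x, hx⟩
  · rintro ⟨x, rfl⟩
    obtain ⟨x', rfl⟩ := hsurj x
    exact h1.mpr ⟨x', rfl⟩

theorem cochain_rTensor_injective_zero (T : Type u) [AddCommGroup T] [Module R T] :
    Function.Injective ((η.f 0).hom.rTensor T) := by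
  have := tensorCoaug_quasiIso M' η (ModuleCat.of R T) (hη _)
  have h := coaug_mono _ (tensorCoaug M' η (ModuleCat.of R T))
  have hs : Function.Injective ((tensorCoaug M' η (ModuleCat.of R T)).f 0) :=
    (ModuleCat.mono_iff_injective _).mp h
  have hiso : IsIso (((HomologicalComplex.singleMapHomologicalComplex
      (tensorRight (ModuleCat.of R T)) (ComplexShape.up ℕ) 0).inv.app M).f 0) := inferInstance
  have hbij : Function.Bijective (((HomologicalComplex.singleMapHomologicalComplex
      (tensorRight (ModuleCat.of R T)) (ComplexShape.up ℕ) 0).inv.app M).f 0) :=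
    ConcreteCategory.bijective_of_isIso _
  intro x y hxy
  obtain ⟨x', rfl⟩ := hbij.2 x
  obtain ⟨y', rfl⟩ := hbij.2 y
  have : x' = y' := hs hxy
  rw [this]

theorem cochain_exact_succ (n : ℕ) :
    Function.Exact (M'.d n (n + 1)).hom (M'.d (n + 1) (n + 2)).hom :=
  exact_of_rTensor_exact _ _ (cochain_rTensor_exact_succ M' η hη n R)

theorem cochain_exact_zero : Function.Exact (η.f 0).hom (M'.d 0 1).hom :=
  exact_of_rTensor_exact _ _ (cochain_rTensor_exact_zero M' η hη R)

theorem cochain_coaug_injective : Function.Injective (η.f 0).hom :=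
  injective_of_rTensor_injective _ (cochain_rTensor_injective_zero M' η hη R)

end Cochain

end Groth.Agent.Lib.Helper44
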