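import Groth.Agent.Lib.Helper44.ArtinSurj
import Groth.Agent.Lib.Helper44.NthRoot
import Groth.Agent.Lib.Helper44.ExtDiv

set_option autoImplicit false
set_option linter.unusedSectionVars false
universe u
open CategoryTheory CategoryTheory.Limits AlgebraicGeometry Opposite TopologicalSpace

namespace Groth.Agent.Lib.Helper44.ArtinUnits

open Groth.Agent.Lib.Lead Groth.Agent.Lib.Helper44.ZarSheafBasics Groth.Agent.Lib.Helper45
  Groth.Agent.Lib.Helper49 Groth.Agent.Lib.Helper44.SqZeroUnits Groth.Agent.Lib.Helper44.FlatFibre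
  Groth.Agent.Lib.Helper44.ZarPicGrp

section General
variable {T : TopCat.{u}}

lemma nsmul_hom_app {F G : CohTop.Ab T} (n : ℕ) (f : F ⟶ G) (V : Opens T) (x : F.obj.obj (op V)) :
    (n • f).hom.app (op V) x = n • f.hom.app (op V) x := by
  induction n with
  | zero => rw [zero_smul, zero_smul]; rfl
  | succ k ih =>
    rw [succ_nsmul, succ_nsmul, ← ih]
    rfl

end General

section Div

variable {X' Z : Scheme.{u}} (i : Z ⟶ X')

lemma unitP_nsmul (U : X'.Opens) (n : ℕ) (p : (P i).obj.obj (op U)) :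
    unitP i U (n • p) = unitP i U p ^ n := by
  induction n with
  | zero => rw [zero_smul, pow_zero, unitP_zero]
  | succ k ih => rw [succ_nsmul, pow_succ, unitP_add, ih]

variable (hnil : ∀ (W : X'.Opens), IsAffineOpen W → ∀ a : Γ(X', W), (i.app W).hom a = 0 → IsNilpotent a)
  (n : ℕ) (hn : IsUnit (n : Γ(X', ⊤)))

include hn in
lemma isUnit_natCast (W : X'.Opens) : IsUnit (n : Γ(X', W)) := by
  have h := hn.map (fres (le_top : W ≤ ⊤))
  rwa [map_natCast] at h

include hn in
lemma isUnit_natCast' (W : X'.Opens) : IsUnit (n : Γ(Z, i ⁻¹ᵁ W)) := by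
  have h := (isUnit_natCast n hn W).map (i.app W).hom
  rwa [map_natCast] at h

include hnil hn in
lemma nsmul_injective (V : X'.Opens) (p : (P i).obj.obj (op V)) (h : n • p = 0) : p = 0 := by
  apply unitP_injective i V
  rw [unitP_zero]
  have h1 : unitP i V p ^ n = 1 := by rw [← unitP_nsmul, h, unitP_zero]
  apply Units.ext
  rw [Units.val_one, ← sub_eq_zero]
  apply eq_zero_of_affine' V
  intro W hW hWV
  rw [map_sub, map_one, sub_eq_zero]
  apply NthRoot.eq_one_of_pow_eq_one n (isUnit_natCast n hn W)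
  · apply hnil W hW
    rw [← map_one (fres hWV), ← map_sub]
    have := app_fres i hWV ((unitP i V p : Γ(X', V)) - 1)
    rw [this]
    erw [app_unitP i V p]
    rw [map_zero]
  · rw [← map_pow, ← Units.val_pow_eq_pow_val, h1, Units.val_one, map_one]

include hnil hn in
lemma exists_local_root (V : X'.Opens) (q : (P i).obj.obj (op V)) (x : X') (hx : x ∈ V) :
    ∃ (W : X'.Opens) (hW : W ≤ V), x ∈ W ∧ ∃ t : (P i).obj.obj (op W),
      (n • 𝟙 (P i)).hom.app (op W) t = res (P i).obj hW q := by
  obtain ⟨W, hWaff, hxW, hWV⟩ := exists_affine hx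
  refine ⟨W, hWV, hxW, ?_⟩
  set r := unitP i W (res (P i).obj hWV q) with hr
  have hr0 : (i.app W).hom ((r : Γ(X', W)) - 1) = 0 := app_unitP i W _
  have hrn : IsNilpotent ((r : Γ(X', W)) - 1) := hnil W hWaff _ hr0
  obtain ⟨r', ⟨hr'1, hr'2⟩, -⟩ := NthRoot.existsUnique_pow_eq n (isUnit_natCast n hn W) _ hrn
  have hu : IsUnit r' := by
    have := IsNilpotent.isUnit_one_add hr'1
    rwa [add_sub_cancel] at this
  have h0 : (i.app W).hom ((hu.unit : Γ(X', W)) - 1) = 0 := by
    rw [map_sub, map_one, sub_eq_zero]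
    apply NthRoot.eq_one_of_pow_eq_one n (isUnit_natCast' i n hn W)
    · rw [← map_one (i.app W).hom, ← map_sub]
      exact hr'1.map (i.app W).hom
    · rw [← map_pow]
      change (i.app W).hom (r' ^ n) = 1
      rw [hr'2]
      rw [map_sub, map_one, sub_eq_zero] at hr0
      exact hr0
  obtain ⟨p', hp'⟩ := exists_unitP_eq i W hu.unit h0
  refine ⟨p', ?_⟩
  rw [nsmul_hom_app]
  change n • p' = _
  apply unitP_injective i W
  rw [unitP_nsmul, hp', ← hr]
  apply Units.ext
  rw [Units.val_pow_eq_pow_val]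
  exact hr'2

include hnil hn in
theorem isIso_nsmul_id : IsIso (n • 𝟙 (P i)) := by
  haveI : Mono (n • 𝟙 (P i)) := by
    apply ZarSheafExact.mono_of_sections_injective
    intro V
    rw [injective_iff_map_eq_zero]
    intro p hp
    rw [nsmul_hom_app] at hp
    exact nsmul_injective i hnil n hn V p hp
  haveI : Epi (n • 𝟙 (P i)) :=
    ZarSheafExact.epi_of_locally_surjective _ (exists_local_root i hnil n hn)
  exact isIso_of_mono_of_epi _

end Div

end Groth.Agent.Lib.Helper44.ArtinUnits
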