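import Groth.Agent.Lib.Helper44.ThickDiv
import Groth.Agent.Lib.Helper44.PicClass

/-!
# Roots of invertible modules lift along thickenings (when the exponent is invertible)
-/

set_option autoImplicit false
set_option linter.unusedSectionVars false
universe u
open CategoryTheory CategoryTheory.Limits AlgebraicGeometry Opposite TopologicalSpace

namespace Groth.Agent.Lib.Helper44.ThickRoot

open Groth.Agent.Lib.Lead Groth.Agent.Lib.Helper44.ZarSheafBasics Groth.Agent.Lib.Helper45
  Groth.Agent.Lib.Helper49 Groth.Agent.Lib.Helper44.ArtinUnits Groth.Agent.Lib.Helper44.PicClass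

variable {X X' : Scheme.{u}} (i : X ⟶ X')

/-- functions vanishing on a surjective subscheme are nilpotent on affine opens -/
lemma isNilpotent_of_app_eq_zero (hs : Function.Surjective i.base) (W : X'.Opens)
    (hW : IsAffineOpen W) (a : Γ(X', W)) (ha : (i.app W).hom a = 0) : IsNilpotent a := by
  rw [Scheme.isNilpotent_iff_basicOpen_eq_bot_of_isCompact hW.isCompact]
  have h1 : i ⁻¹ᵁ X'.basicOpen a = ⊥ := by
    rw [Scheme.preimage_basicOpen]
    have : i.app W a = 0 := ha
    rw [this, Scheme.basicOpen_zero]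
  rw [eq_bot_iff]
  intro x hx
  obtain ⟨z, rfl⟩ := hs x
  have : z ∈ i ⁻¹ᵁ X'.basicOpen a := hx
  rw [h1] at this
  exact this

/-- invertibility of an integer descends along a surjective morphism -/
lemma isUnit_natCast_of_surjective (hs : Function.Surjective i.base) (n : ℕ)
    (hn : IsUnit (n : Γ(X, ⊤))) : IsUnit (n : Γ(X', ⊤)) := by
  have h1 : i ⁻¹ᵁ X'.basicOpen (n : Γ(X', ⊤)) = ⊤ := by
    rw [Scheme.preimage_basicOpen]
    have : i.app ⊤ (n : Γ(X', ⊤)) = (n : Γ(X, i ⁻¹ᵁ ⊤)) := map_natCast (i.app ⊤).hom n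
    rw [this]
    exact Scheme.basicOpen_of_isUnit _ hn
  apply X'.toRingedSpace.isUnit_of_isUnit_germ
  intro x hx
  obtain ⟨z, rfl⟩ := hs x
  have h2 : z ∈ i ⁻¹ᵁ X'.basicOpen (n : Γ(X', ⊤)) := by rw [h1]; trivial
  exact (Scheme.mem_basicOpen _ _ _ hx).1 h2

variable [IsClosedImmersion i]

theorem exists_root (hs : Function.Surjective i.base) (n : ℕ) (hn : IsUnit (n : Γ(X', ⊤)))
    (L : X'.Modules) (hL : PicF.IsInvertible L) (L' : X.Modules) (hL' : PicF.IsInvertible L')
    (e : Nonempty (CohB1.tensorPow L' n ≅ (Scheme.Modules.pullback i).obj L)) :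
    ∃ M : X'.Modules, PicF.IsInvertible M ∧ Nonempty (CohB1.tensorPow M n ≅ L) ∧
      Nonempty ((Scheme.Modules.pullback i).obj M ≅ L') := by
  obtain ⟨e⟩ := e
  have hind : Topology.IsInducing i.base := i.isClosedEmbedding.isInducing
  have hnil := isNilpotent_of_app_eq_zero i hs
  have hSES := shortExact_κ i hnil
  haveI := isIso_nsmul_id i hnil n hn
  obtain ⟨l, hl⟩ := exists_hasClass hL
  obtain ⟨c', hc'⟩ := exists_hasClassP hs hind hL'
  have h1 : n • c' = Sheaf.H.map (UnitsSh.comap i) 1 l :=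
    HasClassP.eq_of_iso e (hc'.tensorPow hs hind hL' n) hl.pullback
  obtain ⟨m, hm1, hm2⟩ := ExtDiv.exists_root_lift hSES _ n
    (fun p => (ExtDiv.nsmul_bijective_of_isIso 1 n).2 p)
    (fun z hz => (ExtDiv.nsmul_bijective_of_isIso 2 n).1 (by
      change n • z = n • 0
      rw [hz, smul_zero])) l c' h1
  obtain ⟨M, hM, hMc⟩ := exists_of_class m
  refine ⟨M, hM, ?_, ?_⟩
  · have h2 := hMc.tensorPow hM n
    rw [hm1] at h2
    exact h2.iso hl
  · have h3 : HasClassP i ((Scheme.Modules.pullback i).obj M)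
        (Sheaf.H.map (UnitsSh.comap i) 1 m) := hMc.pullback
    have h4 : Sheaf.H.map (UnitsSh.comap i) 1 m = c' := hm2
    rw [h4] at h3
    exact h3.iso hc'

end Groth.Agent.Lib.Helper44.ThickRoot
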