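import Groth.Agent.Lib.Helper44.VerifPrinciple
import Groth.Agent.Lib.Helper44.Inject
import Groth.Agent.Lib.Helper44.AdamsMul

/-!
# Two families of different sizes; λ-operations of sums of line elements; a kernel lemma
-/

set_option autoImplicit false
open Finset

namespace Groth.Agent.Lib.Helper44

open LambdaRing MvPolynomial

section Phi2

/-- `X (inl i) ↦ e_{i+1}(T_1..T_a)`, `X (inr j) ↦ e_{j+1}(U_1..U_b)`. -/
noncomputable def phi2 (a b : ℕ) :
    MvPolynomial (Fin a ⊕ Fin b) ℤ →ₐ[ℤ] MvPolynomial (Fin a ⊕ Fin b) ℤ :=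
  (substR (Fin a) b b).comp (substL (Fin b) a a)

theorem phi2_injective (a b : ℕ) : Function.Injective (phi2 a b) := by
  rw [phi2, AlgHom.coe_comp]
  exact (substR_injective (Fin a) (le_refl b)).comp (substL_injective (Fin b) (le_refl a))

theorem substR_rename_inl (ρ : Type*) (n N : ℕ) (q : MvPolynomial ρ ℤ) :
    substR ρ n N (rename Sum.inl q) = rename Sum.inl q := by
  rw [substR, AlgHom.comp_apply, AlgHom.comp_apply, rename_rename]
  have h1 : (Sum.swap ∘ Sum.inl : ρ → Fin n ⊕ ρ) = Sum.inr := rfl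
  rw [h1, substL_rename_inr, rename_rename]
  rfl

theorem phi2_X_inl (a b : ℕ) (i : Fin a) :
    phi2 a b (X (Sum.inl i)) = rename Sum.inl (esymm (Fin a) ℤ ((i : ℕ) + 1)) := by
  rw [phi2, AlgHom.comp_apply, substL, aeval_X, Sum.elim_inl, substR_rename_inl]

theorem phi2_X_inr (a b : ℕ) (j : Fin b) :
    phi2 a b (X (Sum.inr j)) = rename Sum.inr (esymm (Fin b) ℤ ((j : ℕ) + 1)) := by
  rw [phi2, AlgHom.comp_apply, substL, aeval_X, Sum.elim_inr, substR, AlgHom.comp_apply,
    AlgHom.comp_apply, rename_X, Sum.swap_inr, substL, aeval_X, Sum.elim_inl, rename_rename]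
  rfl

end Phi2

section LineLam

universe u

variable {τ : Type u}

attribute [local instance] LineRing.lambdaOps

theorem lamSeries_sum' {K : Type*} [CommRing K] [LambdaOps K] {α : Type*} (s : Finset α)
    (f : α → K) : lamSeries (∑ a ∈ s, f a) = ∏ a ∈ s, lamSeries (f a) := by
  classical
  induction s using Finset.induction_on with
  | empty => simp [lamSeries_zero]
  | insert a s ha ih => rw [Finset.sum_insert ha, Finset.prod_insert ha, lamSeries_add, ih]

theorem LineRing.lam_sum_X {α : Type*} (s : Finset α) (f : α → τ) (i : ℕ) :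
    LambdaOps.lam i (∑ a ∈ s, (X (f a) : LineRing τ)) =
      ∑ t ∈ s.powersetCard i, ∏ a ∈ t, (X (f a) : LineRing τ) := by
  rw [← coeff_lamSeries, lamSeries_sum']
  have h : ∀ a ∈ s, lamSeries (X (f a) : LineRing τ) =
      1 + PowerSeries.C (X (f a) : LineRing τ) * PowerSeries.X := by
    intro a _
    have hX : (X (f a) : LineRing τ) = LineRing.mono (Finsupp.single (f a) 1) := rfl
    rw [hX]
    exact LineRing.lamSeries_mono _
  rw [Finset.prod_congr rfl h, coeff_ps_prod_one_add_C_mul_X]

end LineLam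

section Ker

variable {σ : Type*} {T : Type*} [CommRing T] [Algebra ℤ T]

/-- `p - s (π p)` lies in the ideal generated by the `X v - s (π (X v))`. -/
theorem sub_section_mem_span (π : MvPolynomial σ ℤ →ₐ[ℤ] T) (s : T →ₐ[ℤ] MvPolynomial σ ℤ)
    (p : MvPolynomial σ ℤ) :
    p - s (π p) ∈ Ideal.span (Set.range fun v : σ => (X v : MvPolynomial σ ℤ) - s (π (X v))) := by
  induction p using MvPolynomial.induction_on with
  | C a =>
    have : (C a : MvPolynomial σ ℤ) = algebraMap ℤ _ a := rfl
    rw [this, AlgHom.commutes, AlgHom.commutes, sub_self]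
    exact Ideal.zero_mem _
  | add p q hp hq =>
    have : p + q - s (π (p + q)) = (p - s (π p)) + (q - s (π q)) := by
      rw [map_add, map_add]; ring
    rw [this]
    exact Ideal.add_mem _ hp hq
  | mul_X p v hp =>
    have : p * X v - s (π (p * X v)) = (p - s (π p)) * X v + s (π p) * (X v - s (π (X v))) := by
      rw [map_mul, map_mul]; ring
    rw [this]
    exact Ideal.add_mem _ (Ideal.mul_mem_right _ _ hp)
      (Ideal.mul_mem_left _ _ (Ideal.subset_span ⟨v, rfl⟩))

end Ker

end Groth.Agent.Lib.Helper44
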