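import Groth.Agent.Lib.Helper44.SigmaInject
import Groth.Agent.Lib.Helper44.GamGood
import Groth.Agent.Lib.Helper44.TwoFamily
import Groth.Agent.Lib.Helper44.GammaPure

/-!
# Division of `γ^a(γ^d(ν) · F)` by `γ^d(ν)` when `γ^j(ν) = 0` for `j > d`

The universal computation behind the classes `γ^p(N, x)`: if `γ^j(ν) = 0` for `j > d`, then for
every polynomial `F₀` of weight `≥ i₀` in the `γ^j(x_s)`, `γ^a(γ^d(ν) · F₀) = γ^d(ν) · q` with `q`
of weight `≥ max(a, i₀ + d) - d`, and `q ≡ (-1)^(a-1) (a-1)! F₀` modulo weight `i₀ + 1` when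
`a = d + i₀`.
-/

set_option autoImplicit false
set_option linter.unusedSectionVars false
open Finset

namespace Groth.Agent.Lib.Helper44

open LambdaRing MvPolynomial

universe v

attribute [local instance] LineRing.lambdaOps

section WDiv

variable {σ : Type*} {R : Type*} [CommRing R]

theorem of_X_mul_mem_wfil {w : σ → ℕ} {k : ℕ} (v : σ) {q : MvPolynomial σ R}
    (h : X v * q ∈ wfil R w k) : q ∈ wfil R w (k - w v) := by
  intro m hm
  rw [mem_support_iff] at hm
  have h2 : coeff (m + Finsupp.single v 1) (X v * q) = coeff m q := by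
    rw [mul_comm, coeff_mul_X]
  have h3 := h (m + Finsupp.single v 1) (by rw [mem_support_iff, h2]; exact hm)
  rw [map_add, Finsupp.weight_single, one_smul] at h3
  omega

end WDiv

section Restr

variable {ι : Type} [DecidableEq ι] (n n' : ι → ℕ)

theorem truncS_X_of_lt {s : ι} {j : ℕ} (h : j < n s) :
    truncS n (X (s, j)) = (X (⟨s, ⟨j, h⟩⟩ : SVar n) : MvPolynomial (SVar n) ℤ) := by
  rw [truncS, aeval_X, dif_pos h]

theorem truncS_X_of_le {s : ι} {j : ℕ} (h : n s ≤ j) :
    truncS n (X (s, j)) = 0 := by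
  rw [truncS, aeval_X, dif_neg (not_lt.mpr h)]

/-- Restriction to fewer variables, killing the others. -/
noncomputable def restrS : MvPolynomial (SVar n) ℤ →ₐ[ℤ] MvPolynomial (SVar n') ℤ :=
  aeval fun v : SVar n =>
    if h : (v.2 : ℕ) < n' v.1 then (X (⟨v.1, ⟨v.2, h⟩⟩ : SVar n') : MvPolynomial (SVar n') ℤ) else 0

/-- The inclusion of fewer variables. -/
noncomputable def inclS (hle : ∀ s, n' s ≤ n s) :
    MvPolynomial (SVar n') ℤ →ₐ[ℤ] MvPolynomial (SVar n) ℤ :=
  rename fun v : SVar n' => (⟨v.1, Fin.castLE (hle v.1) v.2⟩ : SVar n)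

theorem restrS_truncS (hle : ∀ s, n' s ≤ n s) (H : MvPolynomial (ι × ℕ) ℤ) :
    restrS n n' (truncS n H) = truncS n' H := by
  have : (restrS n n').comp (truncS n) = truncS n' := by
    apply MvPolynomial.algHom_ext
    rintro ⟨s, j⟩
    rw [AlgHom.comp_apply]
    by_cases h : j < n s
    · rw [truncS_X_of_lt n h, restrS, aeval_X]
      by_cases h' : j < n' s
      · rw [dif_pos h', truncS_X_of_lt n' h']
      · rw [dif_neg h', truncS_X_of_le n' (not_lt.mp h')]
    · rw [truncS_X_of_le n (not_lt.mp h), map_zero,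
        truncS_X_of_le n' (le_trans (hle s) (not_lt.mp h))]
  exact AlgHom.congr_fun this H

theorem dvd_of_restrS_eq_zero (hle : ∀ s, n' s ≤ n s) (v₀ : SVar n)
    (hv₀ : ∀ v : SVar n, n' v.1 ≤ (v.2 : ℕ) → v = v₀) {p : MvPolynomial (SVar n) ℤ}
    (hp : restrS n n' p = 0) : X v₀ ∣ p := by
  have h := sub_section_mem_span (restrS n n') (inclS n n' hle) p
  rw [hp, map_zero, sub_zero] at h
  rw [← Ideal.mem_span_singleton]
  refine (Ideal.span_le.mpr ?_) h
  rintro _ ⟨v, rfl⟩
  show (X v : MvPolynomial (SVar n) ℤ) - inclS n n' hle (restrS n n' (X v)) ∈ Ideal.span {X v₀}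
  rw [restrS, aeval_X]
  by_cases hlt : (v.2 : ℕ) < n' v.1
  · rw [dif_pos hlt, inclS, rename_X]
    have : (⟨v.1, Fin.castLE (hle v.1) ⟨v.2, hlt⟩⟩ : SVar n) = v := by
      rcases v with ⟨s, j⟩
      rfl
    rw [this, sub_self]
    exact Ideal.zero_mem _
  · rw [dif_neg hlt, map_zero, sub_zero, hv₀ v (not_lt.mp hlt)]
    exact Ideal.subset_span rfl

end Restr

/-- The sizes: `d` for the distinguished family `none`, `m` for the others. -/
def sz {κ : Type} (d m : ℕ) : Option κ → ℕ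
  | none => d
  | some _ => m

section UL

variable {κ : Type} [DecidableEq κ] [Fintype κ]

/-- **Universal division**: if `γ^j(x_none) = 0` for `j > d`, then `γ^a(γ^d(x_none) · F₀)` is
`γ^d(x_none)` times an element of controlled weight. -/
theorem exists_quot_of_top_gamma
    (d : ℕ) (hd : 1 ≤ d) (F₀ : MvPolynomial (Option κ × ℕ) ℤ) (i₀ : ℕ)
    (hF₀ : F₀ ∈ wfil ℤ (fun w : Option κ × ℕ => w.2 + 1) i₀) (a : ℕ) (ha : 1 ≤ a)
    {A : Type v} [CommRing A] [LambdaOps A] (hA : IsSpecial A)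
    (J : ℕ → Ideal A) (hJ0 : J 0 = ⊤) (hJanti : ∀ a b, a ≤ b → J b ≤ J a)
    (hJmul : ∀ a b x y, x ∈ J a → y ∈ J b → x * y ∈ J (a + b))
    (x : Option κ → A) (hx : ∀ s i, gamma (i + 1) (x s) ∈ J (i + 1))
    (hx0 : ∀ j, d < j → gamma j (x none) = 0) :
    ∃ q : A, q ∈ J (max a (i₀ + d) - d) ∧
      gamma a (gamma d (x none) * evGam x F₀) = gamma d (x none) * q ∧
      (a = d + i₀ →
        q - (-1 : A) ^ (a - 1) * ((a - 1).factorial : A) * evGam x F₀ ∈ J (i₀ + 1)) := by
  classical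
  set F : MvPolynomial (Option κ × ℕ) ℤ := X (none, d - 1) * F₀ with hF
  obtain ⟨G, hG0, hGv⟩ := exists_gamma_rep.{0, v} F a
  set m : ℕ := G.vars.sup (fun w => w.2) + F₀.vars.sup (fun w => w.2) + 1 with hm
  set n : Option κ → ℕ := sz d m with hn
  set n' : Option κ → ℕ := sz (d - 1) m with hn'
  have hle : ∀ s, n' s ≤ n s := by
    intro s
    cases s
    · exact Nat.sub_le d 1
    · exact le_refl m
  -- the universal evaluations of `F`
  have hz : ∀ nn : Option κ → ℕ, evGam (yUS nn) F ∈ LineRing.Ik (i₀ + d) := by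
    intro nn
    rw [hF, map_mul, evGam_X, Nat.sub_add_cancel hd, add_comm]
    refine LineRing.mul_mem_Ik (gamma_yUS_mem_Ik nn none d) ?_
    rw [evGam_eq_aeval]
    exact aeval_mem_of_mem_wfil (fun w : Option κ × ℕ => w.2 + 1) _ (fun k => LineRing.Ik k)
      LineRing.Ik_zero (fun _ _ h => LineRing.Ik_anti h)
      (fun _ _ _ _ hx hy => LineRing.mul_mem_Ik hx hy)
      (fun w => gamma_yUS_mem_Ik nn w.1 (w.2 + 1)) hF₀
  -- Step 1: the weight of the truncation
  have h1 : truncS n G ∈ wfil ℤ (fun v : SVar n => (v.2 : ℕ) + 1) (max a (i₀ + d)) := by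
    apply mem_wfil_of_evUS_mem
    rw [← evGam_yUS_eq_evUS, hG0 (LineRing (SVar n)) LineRing.isSpecial (yUS n)]
    rcases le_total a (i₀ + d) with h | h
    · rw [max_eq_right h]
      exact LineRing.gamma_mem_Ik ha (hz n)
    · rw [max_eq_left h]
      exact LineRing.gamma_mem_Ik_self (LineRing.Ik_anti (by omega) (hz n)) a
  -- Step 2: the smaller truncation vanishes
  have h2 : truncS n' G = 0 := by
    apply evUS_injective n'
    rw [← evGam_yUS_eq_evUS, hG0 (LineRing (SVar n')) LineRing.isSpecial (yUS n'), map_zero]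
    have hF0 : evGam (yUS n') F = 0 := by
      rw [hF, map_mul, evGam_X, Nat.sub_add_cancel hd,
        gamma_yUS_eq_zero n' (s := none) (i := d) (by show d - 1 < d; omega), zero_mul]
    rw [hF0]
    obtain ⟨a', rfl⟩ : ∃ a', a = a' + 1 := ⟨a - 1, by omega⟩
    exact gamma_succ_zero a'
  -- Step 3: divisibility
  have hv₀lt : d - 1 < n none := by show d - 1 < d; omega
  set v₀ : SVar n := ⟨none, ⟨d - 1, hv₀lt⟩⟩ with hv₀
  have hdvd : X v₀ ∣ truncS n G := by
    apply dvd_of_restrS_eq_zero n n' hle v₀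
    · rintro ⟨s, j⟩ hj
      cases s with
      | none =>
        have h3 : (j : ℕ) < d := j.2
        have h4 : d - 1 ≤ (j : ℕ) := hj
        have : j = ⟨d - 1, hv₀lt⟩ := Fin.ext (by show (j : ℕ) = d - 1; omega)
        rw [this]
      | some k => exact absurd j.2 (not_lt.mpr hj)
    · rw [restrS_truncS n n' hle, h2]
  obtain ⟨Q, hQ⟩ := hdvd
  -- Step 4: the weight of the quotient
  have hwv₀ : ((v₀.2 : ℕ) + 1) = d := by show d - 1 + 1 = d; omega
  have hQw : Q ∈ wfil ℤ (fun v : SVar n => (v.2 : ℕ) + 1) (max a (i₀ + d) - d) := by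
    have := of_X_mul_mem_wfil v₀ (hQ ▸ h1)
    rwa [hwv₀] at this
  have htF : truncS n F = X v₀ * truncS n F₀ := by
    rw [hF, map_mul, truncS_X_of_lt n hv₀lt]
  have hQ' : a = d + i₀ → Q - (-1 : MvPolynomial (SVar n) ℤ) ^ (a - 1) *
      ((a - 1).factorial : MvPolynomial (SVar n) ℤ) * truncS n F₀ ∈
        wfil ℤ (fun v : SVar n => (v.2 : ℕ) + 1) (i₀ + 1) := by
    intro hai
    have h1' : truncS n G - (-1 : MvPolynomial (SVar n) ℤ) ^ (a - 1) *
        ((a - 1).factorial : MvPolynomial (SVar n) ℤ) * truncS n F ∈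
          wfil ℤ (fun v : SVar n => (v.2 : ℕ) + 1) (a + 1) := by
      apply mem_wfil_of_evUS_mem
      rw [map_sub, map_mul, map_mul, map_pow, map_neg, map_one, map_natCast, ← evGam_yUS_eq_evUS,
        ← evGam_yUS_eq_evUS, hG0 (LineRing (SVar n)) LineRing.isSpecial (yUS n)]
      exact LineRing.gamma_sub_mem_Ik ha (by rw [hai, add_comm]; exact hz n)
    rw [hQ, htF] at h1'
    have e : X v₀ * Q - (-1 : MvPolynomial (SVar n) ℤ) ^ (a - 1) *
        ((a - 1).factorial : MvPolynomial (SVar n) ℤ) * (X v₀ * truncS n F₀) =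
        X v₀ * (Q - (-1 : MvPolynomial (SVar n) ℤ) ^ (a - 1) *
          ((a - 1).factorial : MvPolynomial (SVar n) ℤ) * truncS n F₀) := by ring
    rw [e] at h1'
    have := of_X_mul_mem_wfil v₀ h1'
    rw [hwv₀] at this
    have e2 : a + 1 - d = i₀ + 1 := by omega
    rwa [e2] at this
  -- Step 5: evaluation in `A`
  set g : SVar n → A := fun v => gamma ((v.2 : ℕ) + 1) (x v.1) with hg
  have hdead : ∀ H : MvPolynomial (Option κ × ℕ) ℤ, H.vars.sup (fun w => w.2) < m →
      ∀ w ∈ H.vars, n w.1 ≤ w.2 → gamma (w.2 + 1) (x w.1) = 0 := by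
    rintro H hH ⟨s, j⟩ hw hle'
    cases s with
    | none =>
      have : d ≤ j := hle'
      exact hx0 (j + 1) (by omega)
    | some k =>
      exfalso
      have h5 := Finset.le_sup (f := fun w : Option κ × ℕ => w.2) hw
      have h6 : m ≤ j := hle'
      simp only at h5
      omega
  have hGA : evGam x G = aeval g (truncS n G) :=
    evGam_eq_aeval_truncS n x G (hdead G (by omega))
  have hFA : evGam x F₀ = aeval g (truncS n F₀) :=
    evGam_eq_aeval_truncS n x F₀ (hdead F₀ (by omega))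
  have hgv₀ : g v₀ = gamma d (x none) := by
    show gamma (d - 1 + 1) (x none) = _
    rw [Nat.sub_add_cancel hd]
  have hgJ : ∀ v : SVar n, g v ∈ J ((v.2 : ℕ) + 1) := fun v => hx v.1 v.2
  refine ⟨aeval g Q, ?_, ?_, ?_⟩
  · exact aeval_mem_of_mem_wfil (fun v : SVar n => (v.2 : ℕ) + 1) g J hJ0 hJanti hJmul hgJ hQw
  · have : gamma d (x none) * evGam x F₀ = evGam x F := by
      rw [hF, map_mul, evGam_X, Nat.sub_add_cancel hd]
    rw [this, ← hGv A hA x, hGA, hQ, map_mul, aeval_X, hgv₀]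
  · intro hai
    have := aeval_mem_of_mem_wfil (fun v : SVar n => (v.2 : ℕ) + 1) g J hJ0 hJanti hJmul hgJ
      (hQ' hai)
    rwa [map_sub, map_mul, map_mul, map_pow, map_neg, map_one, map_natCast, ← hFA] at this

end UL

end Groth.Agent.Lib.Helper44
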