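import Groth.Agent.Lib.Lead.CechH1
import Mathlib.CategoryTheory.Sites.EpiMono
import Mathlib.Topology.Sheaves.SheafCondition.UniqueGluing

/-!
# Section-level tools for abelian sheaves on a topological space

`glue_top`, `sep_top` (gluing/separatedness along a cover of the whole space), `cech1_of_injective`
(Čech 1-cocycles of an injective sheaf are coboundaries, in `U i ⊓ U j` form), `γ` (morphisms out of
the constant sheaf `ℤ` are global sections), `exists_open_lift_of_epi`, and exactness of sections.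
-/

set_option autoImplicit false
open CategoryTheory CategoryTheory.Limits Opposite TopologicalSpace Abelian
universe u

namespace Groth.Agent.Lib.Helper44.ZarSheafBasics

open Groth.Agent.Lib.Lead

variable {X : TopCat.{u}}

section glue

variable (F : CohTop.Ab X) {ι : Type*} (U : ι → Opens X) (hU : iSup U = ⊤)

include hU in
theorem glue_top (s : ∀ i, F.obj.obj (op (U i)))
    (hs : ∀ i j, res F.obj (inf_le_left : U i ⊓ U j ≤ U i) (s i) =
      res F.obj (inf_le_right : U i ⊓ U j ≤ U j) (s j)) :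
    ∃ t : F.obj.obj (op ⊤), ∀ i, res F.obj (le_top : U i ≤ ⊤) t = s i := by
  obtain ⟨t, ht, -⟩ := TopCat.Sheaf.existsUnique_gluing' (C := AddCommGrpCat.{u}) F U ⊤
    (fun i => homOfLE le_top) (by rw [hU]) s (fun i j => hs i j)
  exact ⟨t, ht⟩

include hU in
theorem sep_top (t t' : F.obj.obj (op ⊤))
    (h : ∀ i, res F.obj (le_top : U i ≤ ⊤) t = res F.obj (le_top : U i ≤ ⊤) t') : t = t' :=
  TopCat.Sheaf.eq_of_locally_eq' (C := AddCommGrpCat.{u}) F U ⊤
    (fun i => homOfLE le_top) (by rw [hU]) t t' h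

end glue

section cech

variable {ι : Type u} (U : ι → Opens X)

lemma cech2_le (x : Fin 2 → ι) : cechOpen U x ≤ U (x 0) ⊓ U (x 1) :=
  le_inf (cechOpen_le U x 0) (cechOpen_le U x 1)

lemma le_cech2 (i j : ι) : U i ⊓ U j ≤ cechOpen U ![i, j] := by
  rw [cechOpen_eq]
  refine le_iInf fun a => ?_
  fin_cases a
  · exact inf_le_left
  · exact inf_le_right

lemma le_cech1 (i : ι) : U i ≤ cechOpen U (fun _ : Fin 1 => i) := by
  rw [cechOpen_eq]
  exact le_iInf fun _ => le_rfl

/-- **Čech 1-cocycles of an injective sheaf on a space are coboundaries.** -/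
theorem cech1_of_injective (I : CohTop.Ab X) [Injective I]
    (g : ∀ i j, I.obj.obj (op (U i ⊓ U j)))
    (hg : ∀ (i j k : ι) (a : U i ⊓ U j ⊓ U k ≤ U i ⊓ U k)
      (b : U i ⊓ U j ⊓ U k ≤ U i ⊓ U j) (c : U i ⊓ U j ⊓ U k ≤ U j ⊓ U k),
      res I.obj a (g i k) = res I.obj b (g i j) + res I.obj c (g j k)) :
    ∃ τ : ∀ i, I.obj.obj (op (U i)), ∀ i j,
      g i j = res I.obj (inf_le_left : U i ⊓ U j ≤ U i) (τ i) -
        res I.obj (inf_le_right : U i ⊓ U j ≤ U j) (τ j) := by
  haveI := injective_presheaf_of_injective_sheaf I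
  let c : CechCochain U I.obj 1 := fun x => res I.obj (cech2_le U x) (g (x 0) (x 1))
  have c_restrict : ∀ (x : Fin 2 → ι) (i j : ι) (h0 : x 0 = i) (h1 : x 1 = j) (V : Opens X)
      (m : V ≤ cechOpen U x) (k : V ≤ U i ⊓ U j),
      res I.obj m (c x) = res I.obj k (g i j) := by
    intro x i j h0 h1 V m k
    subst h0 h1
    exact res_res _ _ _ _
  have hc : cechCoboundary U I.obj 1 c = 0 := by
    funext y
    change ∑ i : Fin 3, (-1 : ℤ) ^ (i : ℕ) •
      res I.obj (cechOpen_face_le U y i) (c (y ∘ Fin.succAbove i)) = 0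
    have m : cechOpen U y ≤ U (y 0) ⊓ U (y 1) ⊓ U (y 2) :=
      le_inf (le_inf (cechOpen_le U y 0) (cechOpen_le U y 1)) (cechOpen_le U y 2)
    have a0 : U (y 0) ⊓ U (y 1) ⊓ U (y 2) ≤ U (y 1) ⊓ U (y 2) :=
      le_inf (inf_le_left.trans inf_le_right) inf_le_right
    have a1 : U (y 0) ⊓ U (y 1) ⊓ U (y 2) ≤ U (y 0) ⊓ U (y 2) :=
      le_inf (inf_le_left.trans inf_le_left) inf_le_right
    have a2 : U (y 0) ⊓ U (y 1) ⊓ U (y 2) ≤ U (y 0) ⊓ U (y 1) := inf_le_left
    have e0 : res I.obj (cechOpen_face_le U y 0) (c (y ∘ Fin.succAbove 0)) =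
        res I.obj m (res I.obj a0 (g (y 1) (y 2))) :=
      (c_restrict (y ∘ Fin.succAbove 0) (y 1) (y 2) rfl rfl _ (cechOpen_face_le U y 0)
        (m.trans a0)).trans (res_res I.obj m a0 _).symm
    have e1 : res I.obj (cechOpen_face_le U y 1) (c (y ∘ Fin.succAbove 1)) =
        res I.obj m (res I.obj a1 (g (y 0) (y 2))) :=
      (c_restrict (y ∘ Fin.succAbove 1) (y 0) (y 2) rfl rfl _ (cechOpen_face_le U y 1)
        (m.trans a1)).trans (res_res I.obj m a1 _).symm
    have e2 : res I.obj (cechOpen_face_le U y 2) (c (y ∘ Fin.succAbove 2)) =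
        res I.obj m (res I.obj a2 (g (y 0) (y 1))) :=
      (c_restrict (y ∘ Fin.succAbove 2) (y 0) (y 1) rfl rfl _ (cechOpen_face_le U y 2)
        (m.trans a2)).trans (res_res I.obj m a2 _).symm
    rw [Fin.sum_univ_three, e0, e1, e2, hg (y 0) (y 1) (y 2) a1 a2 a0, map_add]
    simp
  obtain ⟨b, hb⟩ := cech_exact_of_injective_presheaf U I.obj 0 c hc
  have b_restrict : ∀ (z : Fin 1 → ι) (i : ι) (h0 : z 0 = i) (V : Opens X)
      (m : V ≤ cechOpen U z) (m' : V ≤ cechOpen U (fun _ : Fin 1 => i)),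
      res I.obj m (b z) = res I.obj m' (b (fun _ => i)) := by
    intro z i h0 V m m'
    obtain rfl : z = fun _ => i := by
      funext a
      obtain rfl : a = 0 := Subsingleton.elim _ _
      exact h0
    rfl
  refine ⟨fun i => - res I.obj (le_cech1 U i) (b (fun _ => i)), ?_⟩
  intro i j
  let x : Fin 2 → ι := ![i, j]
  have l : U i ⊓ U j ≤ cechOpen U x := le_cech2 U i j
  have h1 := congrArg (fun s => res I.obj l s) (congrFun hb x)
  change res I.obj l (∑ a : Fin 2, (-1 : ℤ) ^ (a : ℕ) •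
      res I.obj (cechOpen_face_le U x a) (b (x ∘ Fin.succAbove a))) = res I.obj l (c x) at h1
  have t0 : res I.obj l (res I.obj (cechOpen_face_le U x 0) (b (x ∘ Fin.succAbove 0))) =
      res I.obj (inf_le_right : U i ⊓ U j ≤ U j) (res I.obj (le_cech1 U j) (b (fun _ => j))) := by
    rw [res_res, res_res]
    exact b_restrict (x ∘ Fin.succAbove 0) j rfl _ _ _
  have t1 : res I.obj l (res I.obj (cechOpen_face_le U x 1) (b (x ∘ Fin.succAbove 1))) =
      res I.obj (inf_le_left : U i ⊓ U j ≤ U i) (res I.obj (le_cech1 U i) (b (fun _ => i))) := by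
    rw [res_res, res_res]
    exact b_restrict (x ∘ Fin.succAbove 1) i rfl _ _ _
  rw [c_restrict x i j rfl rfl _ l le_rfl, Fin.sum_univ_two, map_add, map_zsmul, map_zsmul, t0, t1,
    res_self] at h1
  simp only [Fin.val_zero, pow_zero, one_smul, Fin.val_one, pow_one, neg_smul] at h1
  rw [← h1, map_neg, map_neg]
  abel

end cech

section gamma

variable (X) in
/-- the constant sheaf `ℤ` (the source of the `Ext` groups computing cohomology) -/
noncomputable abbrev Zc : CohTop.Ab X :=
  (constantSheaf (Opens.grothendieckTopology X) AddCommGrpCat.{u}).obj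
    (AddCommGrpCat.of (ULift.{u} ℤ))

/-- morphisms `ℤ ⟶ F` are the global sections of `F` -/
noncomputable def γ (F : CohTop.Ab X) : (Zc X ⟶ F) ≃+ F.obj.obj (op (⊤ : Opens X)) :=
  Ext.addEquiv₀.symm.trans (Sheaf.H.equiv₀ F (CategoryTheory.Limits.isTerminalTop))

lemma γ_naturality {F G : CohTop.Ab X} (a : Zc X ⟶ F) (φ : F ⟶ G) :
    γ G (a ≫ φ) = φ.hom.app (op ⊤) (γ F a) := by
  have h := Sheaf.H.equiv₀_naturality (T := (⊤ : Opens X))
    (hT := CategoryTheory.Limits.isTerminalTop) φ (Ext.mk₀ a)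
  rw [Sheaf.H.map_apply, Ext.mk₀_comp_mk₀] at h
  exact h.symm

end gamma

section sections

variable {S : ShortComplex (CohTop.Ab X)} (hS : S.ShortExact)

include hS in
lemma sections_injective (V : Opens X) : Function.Injective (S.f.hom.app (op V)) := by
  haveI := hS.mono_f
  exact sheaf_sections_injective_of_mono S.f V

lemma sections_gf (S : ShortComplex (CohTop.Ab X)) (V : Opens X) (z : S.X₁.obj.obj (op V)) :
    S.g.hom.app (op V) (S.f.hom.app (op V) z) = 0 := by
  have h := S.zero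
  have h' : S.f.hom ≫ S.g.hom = 0 := by
    rw [← ObjectProperty.FullSubcategory.comp_hom, h]; rfl
  have h'' := congrArg (fun φ => φ.app (op V)) h'
  exact ConcreteCategory.congr_hom h'' z

include hS in
lemma sections_exact (V : Opens X) (z : S.X₂.obj.obj (op V)) (hz : S.g.hom.app (op V) z = 0) :
    ∃ c : S.X₁.obj.obj (op V), S.f.hom.app (op V) c = z :=
  TopCat.Sheaf.sections_exact_of_left_exact hS.exact hS.mono_f z hz

/-- a section of the target of an epimorphism lifts locally -/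
theorem exists_open_lift_of_epi {I Q : CohTop.Ab X} (π : I ⟶ Q) [Epi π]
    (q : Q.obj.obj (op (⊤ : Opens X))) (x : X) :
    ∃ (V : Opens X), x ∈ V ∧ ∃ t : I.obj.obj (op V),
      π.hom.app (op V) t = res Q.obj (le_top : V ≤ ⊤) q := by
  have : Sheaf.IsLocallySurjective π := (Sheaf.isLocallySurjective_iff_epi' (φ := π)).2 inferInstance
  have hs := Presheaf.imageSieve_mem (Opens.grothendieckTopology X) π.hom q
  obtain ⟨V, f, ⟨t, ht⟩, hxV⟩ := hs x trivial
  exact ⟨V, hxV, t, ht⟩

end sections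

end Groth.Agent.Lib.Helper44.ZarSheafBasics
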