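import Groth.Agent.Lib.Helper44.GmPicGrp
import Groth.Agent.Lib.Helper44.ZarSheafBasics
import Groth.Prelude.Def_UnitsSh

/-!
# `Pic X ≃+ H¹(X, O_X^×)` on the Zariski site

Zariski analogue of `GmPicGrp`: fixed injective embedding of `O_X^×`, boundary map `δ0`,
Čech-type data `IsPicData`, additivity `delta_add`, and the final `nonempty_addEquiv`.
-/

set_option autoImplicit false
open CategoryTheory CategoryTheory.Limits AlgebraicGeometry Opposite Abelian
universe u

namespace Groth.Agent.Lib.Helper44.ZarPicGrp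

open Groth.Agent.Lib.Helper45 Groth.Agent.Lib.Helper49 Groth.Agent.Lib.Lead
  Groth.Agent.Lib.Helper44.ZarSheafBasics Groth.Agent.Lib.Helper11.GenLocus

section units

variable {X : Scheme.{u}}

/-- units on an open as sections of `O_X^×` -/
def zgmOf (V : X.Opens) (r : (Γ(X, V))ˣ) : (UnitsSh.unitsAb X).obj.obj (op V) :=
  UnitsSh.sectOfUnit (O := X.sheaf.obj) (U := op V) r

/-- sections of `O_X^×` over an open as units -/
def zunitOf (V : X.Opens) (s : (UnitsSh.unitsAb X).obj.obj (op V)) : (Γ(X, V))ˣ :=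
  UnitsSh.unitOfSect (O := X.sheaf.obj) (U := op V) s

lemma zgmOf_zunitOf (V : X.Opens) (s : (UnitsSh.unitsAb X).obj.obj (op V)) :
    zgmOf V (zunitOf V s) = s := rfl

lemma zunitOf_zgmOf (V : X.Opens) (r : (Γ(X, V))ˣ) : zunitOf V (zgmOf V r) = r := rfl

lemma zgmOf_mul (V : X.Opens) (r r' : (Γ(X, V))ˣ) : zgmOf V (r * r') = zgmOf V r + zgmOf V r' := rfl

lemma zgmOf_one (V : X.Opens) : zgmOf V (1 : (Γ(X, V))ˣ) = 0 := rfl

lemma zunitOf_add (V : X.Opens) (s s' : (UnitsSh.unitsAb X).obj.obj (op V)) :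
    zunitOf V (s + s') = zunitOf V s * zunitOf V s' := rfl

lemma res_zgmOf {V V' : X.Opens} (h : V ≤ V') (r : (Γ(X, V'))ˣ) :
    res (UnitsSh.unitsAb X).obj h (zgmOf V' r) = zgmOf V (Units.map (fres h).toMonoidHom r) := rfl

lemma zunitOf_res {V V' : X.Opens} (h : V ≤ V') (s : (UnitsSh.unitsAb X).obj.obj (op V')) :
    zunitOf V (res (UnitsSh.unitsAb X).obj h s) = Units.map (fres h).toMonoidHom (zunitOf V' s) := rfl

end units

section embedding

variable (X : Scheme.{u})

/-- the chosen injective sheaf containing `O_X^×` -/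
noncomputable def I0 : CohTop.Ab X.toTopCat := Injective.under (UnitsSh.unitsAb X)

noncomputable instance : Injective (I0 X) :=
  inferInstanceAs (Injective (Injective.under (UnitsSh.unitsAb X)))

/-- the embedding of `O_X^×` -/
noncomputable def ι0 : UnitsSh.unitsAb X ⟶ I0 X := Injective.ι (UnitsSh.unitsAb X)

/-- the quotient -/
noncomputable def Q0 : CohTop.Ab X.toTopCat := cokernel (ι0 X)

/-- the projection -/
noncomputable def π0 : I0 X ⟶ Q0 X := cokernel.π (ι0 X)

lemma w0 : ι0 X ≫ π0 X = 0 := cokernel.condition (ι0 X)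

lemma hS0 : (ShortComplex.mk (ι0 X) (π0 X) (w0 X)).ShortExact :=
  { exact := ShortComplex.exact_cokernel (ι0 X)
    mono_f := inferInstanceAs (Mono (Injective.ι (UnitsSh.unitsAb X)))
    epi_g := inferInstanceAs (Epi (cokernel.π (ι0 X))) }

lemma ι0_inj (V : X.Opens) : Function.Injective ((ι0 X).hom.app (op V)) :=
  sections_injective (hS0 X) V

lemma π0_ι0 (V : X.Opens) (g : (UnitsSh.unitsAb X).obj.obj (op V)) :
    (π0 X).hom.app (op V) ((ι0 X).hom.app (op V) g) = 0 :=
  sections_gf (ShortComplex.mk (ι0 X) (π0 X) (w0 X)) V g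

lemma exact0 (V : X.Opens) (s : (I0 X).obj.obj (op V)) (hs : (π0 X).hom.app (op V) s = 0) :
    ∃ g, (ι0 X).hom.app (op V) g = s :=
  sections_exact (hS0 X) V s hs

/-- the boundary map `Q(X) → H¹(X, O_X^×)` -/
noncomputable def δ0 : (Q0 X).obj.obj (op (⊤ : X.Opens)) →+ CohTop.H (UnitsSh.unitsAb X) 1 :=
  (AddMonoidHom.mk' (fun f : Zc X.toTopCat ⟶ Q0 X =>
      (Ext.mk₀ f).comp (hS0 X).extClass (zero_add 1))
    (fun f g => by rw [Ext.mk₀_add, Ext.add_comp])).comp (γ (Q0 X)).symm.toAddMonoidHom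

lemma δ0_apply (q₀ : (Q0 X).obj.obj (op (⊤ : X.Opens))) :
    δ0 X q₀ = (Ext.mk₀ ((γ (Q0 X)).symm q₀)).comp (hS0 X).extClass (zero_add 1) := rfl

lemma δ0_eq_zero_iff (q₀ : (Q0 X).obj.obj (op (⊤ : X.Opens))) :
    δ0 X q₀ = 0 ↔ ∃ T : (I0 X).obj.obj (op (⊤ : X.Opens)), (π0 X).hom.app _ T = q₀ := by
  rw [δ0_apply]
  constructor
  · intro hδ
    obtain ⟨x₂, hx₂⟩ := Ext.covariant_sequence_exact₃ _ (hS0 X) _ (zero_add 1) hδ
    obtain ⟨a, rfl⟩ := (Ext.mk₀_bijective _ _).2 x₂
    have ha : a ≫ π0 X = (γ (Q0 X)).symm q₀ := by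
      apply (Ext.mk₀_bijective _ _).1
      rw [← hx₂, Ext.mk₀_comp_mk₀]
    refine ⟨γ (I0 X) a, ?_⟩
    rw [← γ_naturality, ha, AddEquiv.apply_symm_apply]
  · rintro ⟨T, rfl⟩
    have hq : (γ (Q0 X)).symm ((π0 X).hom.app _ T) = (γ (I0 X)).symm T ≫ π0 X := by
      apply (γ (Q0 X)).injective
      rw [γ_naturality, AddEquiv.apply_symm_apply, AddEquiv.apply_symm_apply]
    rw [hq, ← Ext.mk₀_comp_mk₀_assoc]
    have h0 : (Ext.mk₀ (π0 X)).comp (hS0 X).extClass (zero_add 1) = 0 := (hS0 X).comp_extClass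
    rw [h0, Ext.comp_zero]

lemma δ0_surjective : Function.Surjective (δ0 X) := by
  intro c
  have h0 : c.comp (Ext.mk₀ (ι0 X)) (add_zero 1) = 0 := Ext.eq_zero_of_injective _
  obtain ⟨x₃, hx₃⟩ := Ext.covariant_sequence_exact₁ _ (hS0 X) c h0 (zero_add 1)
  obtain ⟨q, rfl⟩ := (Ext.mk₀_bijective _ _).2 x₃
  refine ⟨γ (Q0 X) q, ?_⟩
  rw [δ0_apply, AddEquiv.symm_apply_apply]
  exact hx₃

end embedding

section data

variable {X : Scheme.{u}}

/-- Čech-type data computing the class of an invertible module `L` as `δ0 q₀`. -/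
structure IsPicData (L : X.Modules) (q₀ : (Q0 X).obj.obj (op (⊤ : X.Opens))) (U : X → X.Opens)
    (t : ∀ x, Γ(L, U x)) (τ : ∀ x, (I0 X).obj.obj (op (U x))) : Prop where
  mem : ∀ x, x ∈ U x
  basis : ∀ x, IsBasisOn L (U x) (t x)
  lift : ∀ x, (π0 X).hom.app _ (τ x) = res (Q0 X).obj (le_top : U x ≤ ⊤) q₀
  trans : ∀ (i j : X) (r : (Γ(X, U i ⊓ U j))ˣ),
    mres L (inf_le_left : U i ⊓ U j ≤ U i) (t i) =
      (r : Γ(X, U i ⊓ U j)) • mres L (inf_le_right : U i ⊓ U j ≤ U j) (t j) →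
    (ι0 X).hom.app _ (zgmOf _ r) = res (I0 X).obj (inf_le_left : U i ⊓ U j ≤ U i) (τ i) -
      res (I0 X).obj (inf_le_right : U i ⊓ U j ≤ U j) (τ j)

lemma iSup_eq_top_of_mem {U : X → X.Opens} (h : ∀ x, x ∈ U x) : iSup U = ⊤ := by
  rw [eq_top_iff]
  intro x _
  exact TopologicalSpace.Opens.mem_iSup.2 ⟨x, h x⟩

theorem IsPicData.restrict {L : X.Modules} {q₀ : (Q0 X).obj.obj (op (⊤ : X.Opens))}
    {U : X → X.Opens} {t : ∀ x, Γ(L, U x)} {τ : ∀ x, (I0 X).obj.obj (op (U x))}
    (h : IsPicData L q₀ U t τ)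
    (W : X → X.Opens) (hW : ∀ x, x ∈ W x) (hle : ∀ x, W x ≤ U x) :
    IsPicData L q₀ W (fun x => mres L (hle x) (t x))
      (fun x => res (I0 X).obj (hle x) (τ x)) where
  mem := hW
  basis x := (h.basis x).mono (hle x)
  lift x := by
    rw [res_naturality, h.lift x, res_res]
  trans i j r hr := by
    obtain ⟨r₀, hr₀⟩ := GmPicGrp.exists_unit_smul
      ((h.basis i).mono (inf_le_left : U i ⊓ U j ≤ U i))
      ((h.basis j).mono (inf_le_right : U i ⊓ U j ≤ U j))
    have hle' : W i ⊓ W j ≤ U i ⊓ U j := inf_le_inf (hle i) (hle j)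
    have hrr : (r : Γ(X, W i ⊓ W j)) = fres hle' (r₀ : Γ(X, U i ⊓ U j)) := by
      apply ((h.basis j).mono ((inf_le_right : W i ⊓ W j ≤ W j).trans (hle j))).eq_of_smul_eq
      have e1 := congrArg (mres L hle') hr₀
      simp only [mres_smul, mres_mres] at e1 hr
      rw [← hr, ← e1]
    have hr' : r = Units.map (fres hle').toMonoidHom r₀ := Units.ext hrr
    rw [hr', ← res_zgmOf, res_naturality, h.trans i j r₀ hr₀, map_sub, res_res, res_res,
      res_res, res_res]

/-- the structure sheaf has class zero -/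
theorem isPicData_unit : IsPicData (Coh.structureModule X) 0 (fun _ => ⊤) (fun _ => GmPic.oneSec ⊤)
    (fun _ => 0) where
  mem _ := trivial
  basis _ := GmPic.isBasisOn_oneSec ⊤
  lift _ := by rw [map_zero, map_zero]
  trans i j r hr := by
    have h1 : (r : Γ(X, (⊤ : X.Opens) ⊓ ⊤)) = 1 := by
      rw [GmPic.mres_oneSec, GmPic.smul_oneSec] at hr
      exact hr.symm
    have h2 : r = 1 := Units.ext h1
    rw [h2, zgmOf_one, map_zero, map_zero, sub_zero]

end data

section main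

variable {X : Scheme.{u}}

/-- every invertible module has data -/
theorem exists_isPicData (L : X.Modules) (hL : PicF.IsInvertible L) :
    ∃ q₀ U t τ, IsPicData L q₀ U t τ := by
  choose U hxU t ht using fun x : X => exists_isBasisOn_of_isInvertible hL x
  have hU : iSup U = ⊤ := iSup_eq_top_of_mem hxU
  choose r hr using fun i j : X => GmPicGrp.exists_unit_smul
    ((ht i).mono (inf_le_left : U i ⊓ U j ≤ U i)) ((ht j).mono (inf_le_right : U i ⊓ U j ≤ U j))
  have hcoc : ∀ (i j k : X) (a : U i ⊓ U j ⊓ U k ≤ U i ⊓ U k) (b : U i ⊓ U j ⊓ U k ≤ U i ⊓ U j)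
      (c : U i ⊓ U j ⊓ U k ≤ U j ⊓ U k),
      fres a (r i k : Γ(X, U i ⊓ U k)) = fres b (r i j : Γ(X, U i ⊓ U j)) *
        fres c (r j k : Γ(X, U j ⊓ U k)) := by
    intro i j k a b c
    have hk := (ht k).mono ((inf_le_right : U i ⊓ U j ⊓ U k ≤ U k))
    apply hk.eq_of_smul_eq
    have e1 := congrArg (mres L a) (hr i k)
    have e2 := congrArg (mres L b) (hr i j)
    have e3 := congrArg (mres L c) (hr j k)
    simp only [mres_smul, mres_mres] at e1 e2 e3
    rw [mul_smul, ← e3, ← e2, ← e1]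
  obtain ⟨τ, hτ⟩ := cech1_of_injective (X := X.toTopCat) U (I0 X)
    (fun i j => (ι0 X).hom.app _ (zgmOf (U i ⊓ U j) (r i j))) (by
    intro i j k a b c
    rw [← res_naturality, ← res_naturality, ← res_naturality, ← map_add, res_zgmOf, res_zgmOf,
      res_zgmOf, ← zgmOf_mul]
    congr 2
    apply Units.ext
    exact hcoc i j k _ _ _)
  obtain ⟨q₀, hq₀⟩ := glue_top (Q0 X) U hU (fun i => (π0 X).hom.app _ (τ i)) (by
    intro i j
    rw [← res_naturality, ← res_naturality, ← sub_eq_zero, ← map_sub, ← hτ i j, π0_ι0])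
  refine ⟨q₀, U, t, τ, hxU, ht, fun x => (hq₀ x).symm, ?_⟩
  intro i j r' hr'
  have : r' = r i j := by
    apply Units.ext
    apply ((ht j).mono (inf_le_right : U i ⊓ U j ≤ U j)).eq_of_smul_eq
    rw [← hr', ← hr i j]
  rw [this]
  exact hτ i j

/-- additivity of the class with respect to the tensor product -/
theorem delta_add {L L' L'' : X.Modules} (e : CohB1.tensorMod L L' ≅ L'')
    {q q' q'' : (Q0 X).obj.obj (op (⊤ : X.Opens))} {W : X → X.Opens}
    {t : ∀ x, Γ(L, W x)} {t' : ∀ x, Γ(L', W x)} {t'' : ∀ x, Γ(L'', W x)}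
    {τ τ' τ'' : ∀ x, (I0 X).obj.obj (op (W x))}
    (h : IsPicData L q W t τ) (h' : IsPicData L' q' W t' τ') (h'' : IsPicData L'' q'' W t'' τ'') :
    δ0 X q'' = δ0 X q + δ0 X q' := by
  have hW : iSup W = ⊤ := iSup_eq_top_of_mem h.mem
  -- the tensor basis transported to `L''`
  let s : ∀ x, Γ(L'', W x) := fun x => e.hom.app (W x) (tm L L' (W x) (t x) (t' x))
  have hs : ∀ x, IsBasisOn L'' (W x) (s x) := fun x =>
    GmPicGrp.IsBasisOn.map_iso e (isBasisOn_tm (h.basis x) (h'.basis x))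
  choose w hw using fun x => GmPicGrp.exists_unit_smul (hs x) (h''.basis x)
  let σ : ∀ x, (I0 X).obj.obj (op (W x)) := fun x =>
    τ'' x - τ x - τ' x + (ι0 X).hom.app _ (zgmOf (W x) (w x))
  have hglue : ∀ i j : X, res (I0 X).obj (inf_le_left : W i ⊓ W j ≤ W i) (σ i) =
      res (I0 X).obj (inf_le_right : W i ⊓ W j ≤ W j) (σ j) := by
    intro i j
    obtain ⟨r, hr⟩ := GmPicGrp.exists_unit_smul
      ((h.basis i).mono (inf_le_left : W i ⊓ W j ≤ W i))
      ((h.basis j).mono (inf_le_right : W i ⊓ W j ≤ W j))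
    obtain ⟨r', hr'⟩ := GmPicGrp.exists_unit_smul
      ((h'.basis i).mono (inf_le_left : W i ⊓ W j ≤ W i))
      ((h'.basis j).mono (inf_le_right : W i ⊓ W j ≤ W j))
    obtain ⟨r'', hr''⟩ := GmPicGrp.exists_unit_smul
      ((h''.basis i).mono (inf_le_left : W i ⊓ W j ≤ W i))
      ((h''.basis j).mono (inf_le_right : W i ⊓ W j ≤ W j))
    have e1 := h.trans i j r hr
    have e2 := h'.trans i j r' hr'
    have e3 := h''.trans i j r'' hr''
    -- the unit identity
    have hunit : Units.map (fres (inf_le_left : W i ⊓ W j ≤ W i)).toMonoidHom (w i) * r'' =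
        r * r' * Units.map (fres (inf_le_right : W i ⊓ W j ≤ W j)).toMonoidHom (w j) := by
      apply Units.ext
      apply ((h''.basis j).mono (inf_le_right : W i ⊓ W j ≤ W j)).eq_of_smul_eq
      have a1 : mres L'' (inf_le_left : W i ⊓ W j ≤ W i) (s i) =
          (fres (inf_le_left : W i ⊓ W j ≤ W i) (w i) * (r'' : Γ(X, W i ⊓ W j))) •
            mres L'' (inf_le_right : W i ⊓ W j ≤ W j) (t'' j) := by
        rw [hw i, mres_smul, hr'', mul_smul]
      have a2 : mres L'' (inf_le_left : W i ⊓ W j ≤ W i) (s i) =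
          ((r : Γ(X, W i ⊓ W j)) * (r' : Γ(X, W i ⊓ W j)) *
            fres (inf_le_right : W i ⊓ W j ≤ W j) (w j)) •
            mres L'' (inf_le_right : W i ⊓ W j ≤ W j) (t'' j) := by
        have b1 : mres L'' (inf_le_left : W i ⊓ W j ≤ W i) (s i) =
            e.hom.app _ (tm L L' _ (mres L inf_le_left (t i)) (mres L' inf_le_left (t' i))) := by
          change mres L'' _ (e.hom.app (W i) _) = _
          rw [← GmPicGrp.app_mres, tm_res]
        have b2 : mres L'' (inf_le_right : W i ⊓ W j ≤ W j) (s j) =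
            e.hom.app _ (tm L L' _ (mres L inf_le_right (t j)) (mres L' inf_le_right (t' j))) := by
          change mres L'' _ (e.hom.app (W j) _) = _
          rw [← GmPicGrp.app_mres, tm_res]
        rw [b1, hr, hr', tm_smul_left, tm_smul_right, Scheme.Modules.Hom.app_smul,
          Scheme.Modules.Hom.app_smul, ← b2, hw j, mres_smul, ← mul_smul, ← mul_smul]
      exact a1.symm.trans a2
    have hgm := congrArg (fun v => (ι0 X).hom.app _ (zgmOf (W i ⊓ W j) v)) hunit
    simp only [zgmOf_mul, map_add, ← res_zgmOf, res_naturality] at hgm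
    rw [e1, e2, e3] at hgm
    change res (I0 X).obj _ (τ'' i - τ i - τ' i + (ι0 X).hom.app _ (zgmOf (W i) (w i))) =
      res (I0 X).obj _ (τ'' j - τ j - τ' j + (ι0 X).hom.app _ (zgmOf (W j) (w j)))
    simp only [map_add, map_sub]
    have := hgm
    rw [← sub_eq_zero] at this ⊢
    rw [← this]
    abel
  obtain ⟨T, hT⟩ := glue_top (I0 X) W hW σ hglue
  have hπ : (π0 X).hom.app _ T = q'' - q - q' := by
    apply sep_top (Q0 X) W hW
    intro i
    rw [← res_naturality, hT i]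
    change (π0 X).hom.app _ (τ'' i - τ i - τ' i + (ι0 X).hom.app _ (zgmOf (W i) (w i))) = _
    rw [map_add, map_sub, map_sub, π0_ι0, add_zero, h.lift, h'.lift, h''.lift, map_sub, map_sub]
  have h0 : δ0 X (q'' - q - q') = 0 := (δ0_eq_zero_iff X _).2 ⟨T, hπ⟩
  rw [map_sub, map_sub, sub_sub, sub_eq_zero] at h0
  exact h0

end main

section bij

variable {X : Scheme.{u}}

/-- a module of class zero is trivial -/
theorem nonempty_iso_of_delta_eq_zero {L : X.Modules} {q₀ : (Q0 X).obj.obj (op (⊤ : X.Opens))}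
    {U : X → X.Opens} {t : ∀ x, Γ(L, U x)} {τ : ∀ x, (I0 X).obj.obj (op (U x))}
    (h : IsPicData L q₀ U t τ) (h0 : δ0 X q₀ = 0) : Nonempty (L ≅ Coh.structureModule X) := by
  have hU : iSup U = ⊤ := iSup_eq_top_of_mem h.mem
  obtain ⟨T, hT⟩ := (δ0_eq_zero_iff X q₀).1 h0
  choose r hr using fun i j : X => GmPicGrp.exists_unit_smul
    ((h.basis i).mono (inf_le_left : U i ⊓ U j ≤ U i))
    ((h.basis j).mono (inf_le_right : U i ⊓ U j ≤ U j))
  have hv : ∀ i : X, ∃ v : (UnitsSh.unitsAb X).obj.obj (op (U i)),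
      (ι0 X).hom.app _ v = τ i - res (I0 X).obj (le_top : U i ≤ ⊤) T := by
    intro i
    apply exact0
    rw [map_sub, res_naturality, hT, h.lift i, sub_self]
  choose v hv using hv
  have hvv : ∀ i j : X, res (UnitsSh.unitsAb X).obj (inf_le_left : U i ⊓ U j ≤ U i) (v i) =
      res (UnitsSh.unitsAb X).obj (inf_le_right : U i ⊓ U j ≤ U j) (v j) +
        zgmOf (U i ⊓ U j) (r i j) := by
    intro i j
    apply ι0_inj
    rw [map_add, res_naturality, res_naturality, hv, hv, h.trans i j (r i j) (hr i j), map_sub,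
      map_sub, res_res, res_res]
    abel
  refine (Groth.Agent.S10964.result X U hU L (Coh.structureModule X) t
    (fun i => GmPic.oneSec (U i)) (fun i V hV => h.basis i V hV)
    (fun i V hV => GmPic.isBasisOn_oneSec (U i) V hV)
    (fun i j => (r i j : Γ(X, U i ⊓ U j))) (fun _ _ => 1) hr (by
      intro i j
      rw [one_smul]
      exact (GmPic.mres_oneSec _).trans (GmPic.mres_oneSec _).symm)).2
        ⟨fun i => zunitOf (U i) (v i), ?_⟩
  intro i j
  rw [one_mul]
  have := congrArg (fun s => (zunitOf _ s : Γ(X, U i ⊓ U j))) (hvv i j)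
  simp only [zunitOf_add, zunitOf_res, zunitOf_zgmOf] at this
  exact this

/-- every class comes from an invertible module -/
theorem exists_isPicData_of_section (q₀ : (Q0 X).obj.obj (op (⊤ : X.Opens))) :
    ∃ (L : X.Modules) (_ : PicF.IsInvertible L) (U : X → X.Opens) (t : ∀ x, Γ(L, U x))
      (τ : ∀ x, (I0 X).obj.obj (op (U x))), IsPicData L q₀ U t τ := by
  haveI : Epi (π0 X) := (hS0 X).epi_g
  have key : ∀ x : X, ∃ (V : X.Opens), x ∈ V ∧ ∃ t : (I0 X).obj.obj (op V),
      (π0 X).hom.app (op V) t = res (Q0 X).obj (le_top : V ≤ ⊤) q₀ :=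
    fun x => exists_open_lift_of_epi (X := X.toTopCat) (π0 X) q₀ x
  choose U hxU τ hτ using key
  have hU : iSup U = ⊤ := iSup_eq_top_of_mem hxU
  have hd : ∀ i j : X, ∃ h : (UnitsSh.unitsAb X).obj.obj (op (U i ⊓ U j)),
      (ι0 X).hom.app _ h = res (I0 X).obj (inf_le_left : U i ⊓ U j ≤ U i) (τ i) -
        res (I0 X).obj (inf_le_right : U i ⊓ U j ≤ U j) (τ j) := by
    intro i j
    apply exact0
    rw [map_sub, res_naturality, res_naturality, hτ i, hτ j, res_res, res_res, sub_self]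
  choose h hh using hd
  let η : ∀ i j : X, (Γ(X, U i ⊓ U j))ˣ := fun i j => zunitOf _ (h i j)
  have hcoc : ∀ (i j k : X) (a : U i ⊓ U j ⊓ U k ≤ U i ⊓ U k) (b : U i ⊓ U j ⊓ U k ≤ U i ⊓ U j)
      (c : U i ⊓ U j ⊓ U k ≤ U j ⊓ U k),
      res (UnitsSh.unitsAb X).obj a (h i k) =
        res (UnitsSh.unitsAb X).obj b (h i j) + res (UnitsSh.unitsAb X).obj c (h j k) := by
    intro i j k a b c
    apply ι0_inj
    rw [map_add, res_naturality, res_naturality, res_naturality, hh, hh, hh, map_sub, map_sub,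
      map_sub, res_res, res_res, res_res, res_res, res_res, res_res]
    abel
  obtain ⟨L, s, hL, hs, hsη⟩ := Groth.Agent.S10963.result X U hU η (by
    intro i j k
    have := congrArg (fun t => (zunitOf _ t : Γ(X, U i ⊓ U j ⊓ U k))) (hcoc i j k
      (inf_le_inf_right (U k) inf_le_left) inf_le_left (inf_le_inf_right (U k) inf_le_right))
    simp only [zunitOf_add, zunitOf_res] at this
    exact this)
  refine ⟨L, hL, U, s, τ, hxU, fun x V hV => hs x V hV, hτ, ?_⟩
  intro i j r hr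
  have hbj : IsBasisOn L (U j) (s j) := fun V hV => hs j V hV
  have : r = η i j := by
    apply Units.ext
    apply (hbj.mono (inf_le_right : U i ⊓ U j ≤ U j)).eq_of_smul_eq
    rw [← hr]
    exact hsη i j
  rw [this]
  exact hh i j

end bij

section assemble

variable (X : Scheme.{u})

/-- the class relation between invertible classes and cohomology classes -/
def Rel (a : PicLoc.PicSet X) (c : CohTop.H (UnitsSh.unitsAb X) 1) : Prop :=
  ∃ (L : X.Modules) (hL : PicF.IsInvertible L) (q₀ : (Q0 X).obj.obj (op (⊤ : X.Opens)))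
    (U : X → X.Opens) (t : ∀ x, Γ(L, U x)) (τ : ∀ x, (I0 X).obj.obj (op (U x))),
    a = PicGrp.cls L hL ∧ IsPicData L q₀ U t τ ∧ δ0 X q₀ = c

lemma rel_exists (a : PicLoc.PicSet X) : ∃ c, Rel X a c := by
  obtain ⟨L, hL, rfl⟩ := PicGrp.exists_eq_cls a
  obtain ⟨q₀, U, t, τ, h⟩ := exists_isPicData L hL
  exact ⟨_, L, hL, q₀, U, t, τ, rfl, h, rfl⟩

variable [PicGrp.Law X]

lemma rel_mul {a b : PicLoc.PicSet X} {c c' c'' : CohTop.H (UnitsSh.unitsAb X) 1}
    (h : Rel X a c) (h' : Rel X b c') (h'' : Rel X (a * b) c'') : c'' = c + c' := by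
  obtain ⟨L, hL, q, U, t, τ, rfl, hd, rfl⟩ := h
  obtain ⟨L', hL', q', U', t', τ', rfl, hd', rfl⟩ := h'
  obtain ⟨L'', hL'', q'', U'', t'', τ'', hab, hd'', rfl⟩ := h''
  have h1 : PicF.cl (CohB1.tensorMod L L') = PicF.cl L'' := by
    rw [← PicGrp.cls_mul_cls_val hL hL', hab]
    rfl
  obtain ⟨e⟩ := (PicGrp.cl_eq_cl_iff _ _).1 h1
  let W : X → X.Opens := fun x => U x ⊓ U' x ⊓ U'' x
  have hW : ∀ x, x ∈ W x := fun x => ⟨⟨hd.mem x, hd'.mem x⟩, hd''.mem x⟩
  exact delta_add e (hd.restrict W hW (fun x => inf_le_left.trans inf_le_left))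
    (hd'.restrict W hW (fun x => inf_le_left.trans inf_le_right))
    (hd''.restrict W hW (fun x => inf_le_right))

lemma rel_one : Rel X 1 0 :=
  ⟨Coh.structureModule X, PicLoc.isInvertible_structureModule X, 0, fun _ => ⊤,
    fun _ => GmPic.oneSec ⊤,
    fun _ => 0, PicGrp.cls_structureModule_eq_one.symm, isPicData_unit, map_zero _⟩

lemma rel_unique {a : PicLoc.PicSet X} {c c' : CohTop.H (UnitsSh.unitsAb X) 1}
    (h : Rel X a c) (h' : Rel X a c') : c' = c := by
  have := rel_mul X h (rel_one X) (by rwa [mul_one])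
  rwa [add_zero] at this

/-- the class map -/
noncomputable def Φ (a : PicLoc.PicSet X) : CohTop.H (UnitsSh.unitsAb X) 1 :=
  (rel_exists X a).choose

lemma rel_Φ (a : PicLoc.PicSet X) : Rel X a (Φ X a) := (rel_exists X a).choose_spec

/-- `Pic X ≃+ H¹(X, O_X^×)` -/
theorem nonempty_addEquiv :
    Nonempty (Additive (PicLoc.PicSet X) ≃+ CohTop.H (UnitsSh.unitsAb X) 1) := by
  let f : Additive (PicLoc.PicSet X) →+ CohTop.H (UnitsSh.unitsAb X) 1 :=
    AddMonoidHom.mk' (fun a => Φ X a.toMul) (fun a b => by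
      change Φ X (a.toMul * b.toMul) = _
      exact rel_mul X (rel_Φ X _) (rel_Φ X _) (rel_Φ X _))
  have hinj : Function.Injective f := by
    rw [injective_iff_map_eq_zero]
    intro a ha
    have hr : Rel X a.toMul 0 := by
      have := rel_Φ X a.toMul
      have ha' : Φ X a.toMul = 0 := ha
      rwa [ha'] at this
    obtain ⟨L, hL, q₀, U, t, τ, hcl, hd, hδ⟩ := hr
    have h1 : PicGrp.cls L hL = 1 := (PicGrp.cls_eq_one_iff hL).2
      (nonempty_iso_of_delta_eq_zero hd hδ)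
    have h2 : a.toMul = 1 := hcl.trans h1
    exact h2
  have hsurj : Function.Surjective f := by
    intro c
    obtain ⟨q₀, rfl⟩ := δ0_surjective X c
    obtain ⟨L, hL, U, t, τ, hd⟩ := exists_isPicData_of_section q₀
    refine ⟨Additive.ofMul (PicGrp.cls L hL), ?_⟩
    have hr : Rel X (PicGrp.cls L hL) (δ0 X q₀) := ⟨L, hL, q₀, U, t, τ, rfl, hd, rfl⟩
    exact rel_unique X hr (rel_Φ X _)
  exact ⟨AddEquiv.ofBijective f ⟨hinj, hsurj⟩⟩

end assemble

end Groth.Agent.Lib.Helper44.ZarPicGrp
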