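import Groth.Agent.Lib.Helper44.ZarPicGrp

/-!
# The class map `Pic X →+ H¹(X, O_X^×)` as a bijective homomorphism (complement to `ZarPicGrp`)
-/

set_option autoImplicit false
open CategoryTheory CategoryTheory.Limits AlgebraicGeometry Opposite Abelian
universe u

namespace Groth.Agent.Lib.Helper44.ZarPicGrp

variable (X : Scheme.{u}) [PicGrp.Law X]

/-- the class map as a homomorphism -/
noncomputable def Φhom : Additive (PicLoc.PicSet X) →+ CohTop.H (UnitsSh.unitsAb X) 1 :=
  AddMonoidHom.mk' (fun a => Φ X a.toMul) (fun a b => by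
    change Φ X (a.toMul * b.toMul) = _
    exact rel_mul X (rel_Φ X _) (rel_Φ X _) (rel_Φ X _))

lemma Φhom_apply (a : Additive (PicLoc.PicSet X)) : Φhom X a = Φ X a.toMul := rfl

lemma Φ_eq_of_rel {a : PicLoc.PicSet X} {c : CohTop.H (UnitsSh.unitsAb X) 1} (h : Rel X a c) :
    Φ X a = c := rel_unique X h (rel_Φ X a)

lemma Φhom_injective : Function.Injective (Φhom X) := by
  rw [injective_iff_map_eq_zero]
  intro a ha
  have hr : Rel X a.toMul 0 := by
    have := rel_Φ X a.toMul
    have ha' : Φ X a.toMul = 0 := ha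
    rwa [ha'] at this
  obtain ⟨L, hL, q₀, U, t, τ, hcl, hd, hδ⟩ := hr
  have h1 : PicGrp.cls L hL = 1 := (PicGrp.cls_eq_one_iff hL).2
    (nonempty_iso_of_delta_eq_zero hd hδ)
  have h2 : a.toMul = 1 := hcl.trans h1
  exact h2

lemma Φhom_surjective : Function.Surjective (Φhom X) := by
  intro c
  obtain ⟨q₀, rfl⟩ := δ0_surjective X c
  obtain ⟨L, hL, U, t, τ, hd⟩ := exists_isPicData_of_section q₀
  refine ⟨Additive.ofMul (PicGrp.cls L hL), ?_⟩
  have hr : Rel X (PicGrp.cls L hL) (δ0 X q₀) := ⟨L, hL, q₀, U, t, τ, rfl, hd, rfl⟩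
  exact rel_unique X hr (rel_Φ X _)

/-- the class map as an additive equivalence -/
noncomputable def Φequiv : Additive (PicLoc.PicSet X) ≃+ CohTop.H (UnitsSh.unitsAb X) 1 :=
  AddEquiv.ofBijective (Φhom X) ⟨Φhom_injective X, Φhom_surjective X⟩

lemma Φequiv_apply (a : Additive (PicLoc.PicSet X)) : Φequiv X a = Φ X a.toMul := rfl

end Groth.Agent.Lib.Helper44.ZarPicGrp
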